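import Groth.Agent.Lib.Helper78.OpenAt
import Mathlib.AlgebraicGeometry.PullbackCarrier

/-!
# Basic API for `EGA43.IsUnivOpenAt` (helper78)
-/

set_option autoImplicit false
universe u

namespace Groth.Agent.Lib.Helper78.UnivOpenAt

open EGA43 CategoryTheory CategoryTheory.Limits AlgebraicGeometry
open Groth.Agent.Lib.Helper78.OpenAt

/-- an isomorphism of schemes is open at every point -/
theorem isOpenAt_of_isIso {X Y : Scheme.{u}} (e : X ⟶ Y) [IsIso e] (x : X) :
    IsOpenAt e.base x := by
  have h : IsOpenMap e.base := (Scheme.homeoOfIso (asIso e)).isOpenMap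
  exact isOpenAt_of_isOpenMap h x

/-- universal openness at a point can be tested on an arbitrary pullback square -/
theorem isOpenAt_snd_of_isPullback {X Y Y' P : Scheme.{u}} {f : X ⟶ Y} {g : Y' ⟶ Y}
    {fst' : P ⟶ X} {snd' : P ⟶ Y'} (sq : IsPullback fst' snd' f g) {x : X}
    (hf : IsUnivOpenAt f x) (p : P) (hp : fst'.base p = x) : IsOpenAt snd'.base p := by
  have h1 : IsOpenAt sq.isoPullback.hom.base p := isOpenAt_of_isIso _ p
  have hx : (pullback.fst f g).base (sq.isoPullback.hom.base p) = x := by
    have h : (sq.isoPullback.hom ≫ pullback.fst f g).base p = fst'.base p := by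
      rw [sq.isoPullback_hom_fst]
    rw [← hp, ← h]
    rfl
  have h2 : IsOpenAt (pullback.snd f g).base (sq.isoPullback.hom.base p) := hf Y' g _ hx
  have h3 := IsOpenAt.comp h2 h1
  have e : (pullback.snd f g).base ∘ sq.isoPullback.hom.base = snd'.base := by
    have h : (sq.isoPullback.hom ≫ pullback.snd f g).base = snd'.base := by
      rw [sq.isoPullback_hom_snd]
    funext q
    have h' := congrArg (fun φ => φ q) h
    exact h'
  exact IsOpenAt.congr e h3

/-- the points of a pullback square of schemes surject onto the fibre product of points -/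
theorem exists_preimage_of_isPullback {X Y Y' P : Scheme.{u}} {f : X ⟶ Y} {g : Y' ⟶ Y}
    {fst' : P ⟶ X} {snd' : P ⟶ Y'} (sq : IsPullback fst' snd' f g) (x : X) (y : Y')
    (h : f.base x = g.base y) : ∃ p : P, fst'.base p = x ∧ snd'.base p = y := by
  obtain ⟨z, hz1, hz2⟩ := Scheme.Pullback.exists_preimage_pullback (f := f) (g := g) x y h
  refine ⟨sq.isoPullback.inv.base z, ?_, ?_⟩
  · have h : (sq.isoPullback.inv ≫ fst').base z = (pullback.fst f g).base z := by
      rw [sq.isoPullback_inv_fst]
    rw [← hz1]
    exact h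
  · have h : (sq.isoPullback.inv ≫ snd').base z = (pullback.snd f g).base z := by
      rw [sq.isoPullback_inv_snd]
    rw [← hz2]
    exact h

/-- universal openness at a point is stable under base change -/
theorem isUnivOpenAt_of_isPullback {X Y Y' P : Scheme.{u}} {f : X ⟶ Y} {g : Y' ⟶ Y}
    {fst' : P ⟶ X} {snd' : P ⟶ Y'} (sq : IsPullback fst' snd' f g) {x : X}
    (hf : IsUnivOpenAt f x) (p : P) (hp : fst'.base p = x) : IsUnivOpenAt snd' p := by
  intro Y₂ b z hz
  have s : IsPullback (pullback.fst snd' b) (pullback.snd snd' b) snd' b :=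
    IsPullback.of_hasPullback snd' b
  have outer : IsPullback (pullback.fst snd' b ≫ fst') (pullback.snd snd' b) f (b ≫ g) :=
    s.paste_horiz sq
  refine isOpenAt_snd_of_isPullback outer hf z ?_
  rw [← hp, ← hz]
  rfl

end Groth.Agent.Lib.Helper78.UnivOpenAt
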