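import Groth.Prelude.Def_AlgSpInf
import Mathlib.AlgebraicGeometry.Morphisms.ClosedImmersion
import Mathlib.AlgebraicGeometry.IdealSheaf.Basic

/-!
# Infinitesimal lifting squares from affine square-zero closed immersions (helper78)

`AlgSp.InfSq f` is literally about `Spec (A ⧸ I) ⟶ Spec A`.  Here we transport an arbitrary closed
immersion `k : W₀ ⟶ W` of schemes over `S` with `W` affine and square-zero kernel to that form.
-/

set_option autoImplicit false
universe u
open CategoryTheory CategoryTheory.Limits AlgebraicGeometry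
open AlgSp

namespace Groth.Agent.Lib.Helper78.AlgSpInfSq

variable {S : Scheme.{u}}

/-- The data of an affine square-zero closed immersion in standard form. -/
theorem exists_standard_form {W₀ W : Over S} (k : W₀ ⟶ W) [IsAffine W.left]
    [IsClosedImmersion k.left] (hsq : k.left.ker * k.left.ker = ⊥) :
    ∃ (A : Type u) (_ : CommRing A) (I : Ideal A) (_ : I ^ 2 = ⊥) (str : Spec (.of A) ⟶ S)
      (ΨW : W ≅ Over.mk str)
      (ΨW₀ : W₀ ≅ Over.mk (Spec.map (CommRingCat.ofHom (Ideal.Quotient.mk I)) ≫ str)),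
      ΨW₀.hom ≫ (Over.homMk (Spec.map (CommRingCat.ofHom (Ideal.Quotient.mk I))) rfl :
        Over.mk (Spec.map (CommRingCat.ofHom (Ideal.Quotient.mk I)) ≫ str) ⟶ Over.mk str) =
        k ≫ ΨW.hom := by
  obtain ⟨hW₀, hsurj⟩ := IsClosedImmersion.isAffine_surjective_of_isAffine k.left
  let A : Type u := Γ(W.left, ⊤)
  let I : Ideal A := RingHom.ker k.left.appTop.hom
  have hI : I ^ 2 = ⊥ := by
    have h1 : (k.left.ker * k.left.ker).ideal ⟨⊤, isAffineOpen_top W.left⟩ =
        k.left.ker.ideal ⟨⊤, isAffineOpen_top W.left⟩ *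
          k.left.ker.ideal ⟨⊤, isAffineOpen_top W.left⟩ := rfl
    rw [hsq, Scheme.Hom.ker_apply] at h1
    rw [pow_two]
    exact h1.symm
  let e : (A ⧸ I) ≃+* Γ(W₀.left, ⊤) := RingHom.quotientKerEquivOfSurjective hsurj
  let φ : W.left ≅ Spec (.of A) := W.left.isoSpec
  let ψ₀ : W₀.left ≅ Spec (.of (A ⧸ I)) :=
    W₀.left.isoSpec ≪≫ Scheme.Spec.mapIso e.toCommRingCatIso.op
  have hcomp : ψ₀.hom ≫ Spec.map (CommRingCat.ofHom (Ideal.Quotient.mk I)) = k.left ≫ φ.hom := by
    have h2 : CommRingCat.ofHom (Ideal.Quotient.mk I) ≫ e.toCommRingCatIso.hom =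
        k.left.appTop := by
      ext x
      rfl
    simp only [ψ₀, φ, Iso.trans_hom, Functor.mapIso_hom, Iso.op_hom, Scheme.Spec_map,
      Quiver.Hom.unop_op, Category.assoc, ← Spec.map_comp, h2]
    exact Scheme.isoSpec_hom_naturality k.left
  refine ⟨A, inferInstance, I, hI, φ.inv ≫ W.hom, Over.isoMk φ (by simp), Over.isoMk ψ₀ ?_, ?_⟩
  · change ψ₀.hom ≫ Spec.map (CommRingCat.ofHom (Ideal.Quotient.mk I)) ≫ φ.inv ≫ W.hom = W₀.hom
    rw [← Category.assoc, hcomp, Category.assoc, Iso.hom_inv_id_assoc]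
    exact Over.w k
  · apply Over.OverMorphism.ext
    exact hcomp

/-- The infinitesimal lifting square attached to an affine square-zero closed immersion. -/
theorem exists_infSq {F G : Sp S} (f : F ⟶ G) {W₀ W : Over S} (k : W₀ ⟶ W) [IsAffine W.left]
    [IsClosedImmersion k.left] (hsq : k.left.ker * k.left.ker = ⊥)
    (top₀ : (yon S).obj W₀ ⟶ F) (bot₀ : (yon S).obj W ⟶ G)
    (comm : top₀ ≫ f = (yon S).map k ≫ bot₀) :
    ∃ (sq : InfSq f) (ΨW : W ≅ sq.ptT') (ΨW₀ : W₀ ≅ sq.ptT),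
      ΨW₀.hom ≫ sq.j = k ≫ ΨW.hom ∧ sq.top = (yon S).map ΨW₀.inv ≫ top₀ ∧
        sq.bot = (yon S).map ΨW.inv ≫ bot₀ := by
  obtain ⟨A, _, I, hI, str, ΨW, ΨW₀, h⟩ := exists_standard_form k hsq
  have h' : ΨW₀.inv ≫ k = (Over.homMk (Spec.map (CommRingCat.ofHom (Ideal.Quotient.mk I))) rfl :
      Over.mk (Spec.map (CommRingCat.ofHom (Ideal.Quotient.mk I)) ≫ str) ⟶ Over.mk str) ≫
        ΨW.inv := by
    rw [Iso.inv_comp_eq, ← Category.assoc, h, Category.assoc, Iso.hom_inv_id, Category.comp_id]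
  refine ⟨{ A := A, I := I, sq_zero := hI, str := str,
            top := (yon S).map ΨW₀.inv ≫ top₀, bot := (yon S).map ΨW.inv ≫ bot₀,
            comm := ?_ }, ΨW, ΨW₀, h, rfl, rfl⟩
  rw [Category.assoc, comm, ← Category.assoc, ← Functor.map_comp, h', Functor.map_comp,
    Category.assoc]

/-- **Uniqueness of lifts** along an affine square-zero closed immersion, for a formally unramified
morphism of sheaves. -/
theorem lift_unique_of_affine {F G : Sp S} {f : F ⟶ G} (hf : IsFormallyUnramifiedMor f)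
    {W₀ W : Over S} (k : W₀ ⟶ W) [IsAffine W.left]
    [IsClosedImmersion k.left] (hsq : k.left.ker * k.left.ker = ⊥)
    (top₀ : (yon S).obj W₀ ⟶ F) (bot₀ : (yon S).obj W ⟶ G)
    (l l' : (yon S).obj W ⟶ F) (h1 : (yon S).map k ≫ l = top₀) (h2 : l ≫ f = bot₀)
    (h1' : (yon S).map k ≫ l' = top₀) (h2' : l' ≫ f = bot₀) : l = l' := by
  have comm : top₀ ≫ f = (yon S).map k ≫ bot₀ := by rw [← h1, Category.assoc, h2]
  obtain ⟨sq, ΨW, ΨW₀, h, htop, hbot⟩ := exists_infSq f k hsq top₀ bot₀ comm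
  have h' : sq.j ≫ ΨW.inv = ΨW₀.inv ≫ k := by
    rw [Iso.eq_inv_comp, ← Category.assoc, h, Category.assoc, Iso.hom_inv_id, Category.comp_id]
  have key := hf sq ((yon S).map ΨW.inv ≫ l) ((yon S).map ΨW.inv ≫ l')
    (by rw [← Category.assoc, ← Functor.map_comp, h', Functor.map_comp, Category.assoc, h1, htop])
    (by rw [Category.assoc, h2, hbot])
    (by rw [← Category.assoc, ← Functor.map_comp, h', Functor.map_comp, Category.assoc, h1', htop])
    (by rw [Category.assoc, h2', hbot])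
  have := congrArg (fun m => (yon S).map ΨW.hom ≫ m) key
  simpa [← Category.assoc, ← Functor.map_comp] using this

/-- **Existence of lifts** along an affine square-zero closed immersion, for a formally smooth
morphism of sheaves. -/
theorem lift_exists_of_affine {F G : Sp S} {f : F ⟶ G} (hf : IsFormallySmoothMor f)
    {W₀ W : Over S} (k : W₀ ⟶ W) [IsAffine W.left]
    [IsClosedImmersion k.left] (hsq : k.left.ker * k.left.ker = ⊥)
    (top₀ : (yon S).obj W₀ ⟶ F) (bot₀ : (yon S).obj W ⟶ G)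
    (comm : top₀ ≫ f = (yon S).map k ≫ bot₀) :
    ∃ l : (yon S).obj W ⟶ F, (yon S).map k ≫ l = top₀ ∧ l ≫ f = bot₀ := by
  obtain ⟨sq, ΨW, ΨW₀, h, htop, hbot⟩ := exists_infSq f k hsq top₀ bot₀ comm
  obtain ⟨l₁, hl1, hl2⟩ := hf sq
  refine ⟨(yon S).map ΨW.hom ≫ l₁, ?_, ?_⟩
  · rw [← Category.assoc, ← Functor.map_comp, ← h, Functor.map_comp, Category.assoc, hl1, htop,
      ← Category.assoc, ← Functor.map_comp, Iso.hom_inv_id, CategoryTheory.Functor.map_id, Category.id_comp]
  · rw [Category.assoc, hl2, hbot, ← Category.assoc, ← Functor.map_comp, Iso.hom_inv_id,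
      CategoryTheory.Functor.map_id, Category.id_comp]

theorem isFormallySmoothMor_of_isFormallyEtaleMor {F G : Sp S} {f : F ⟶ G}
    (hf : IsFormallyEtaleMor f) : IsFormallySmoothMor f := fun sq => (hf sq).exists

theorem isFormallyUnramifiedMor_of_isFormallyEtaleMor {F G : Sp S} {f : F ⟶ G}
    (hf : IsFormallyEtaleMor f) : IsFormallyUnramifiedMor f := fun sq _ _ h1 h2 h1' h2' =>
  (hf sq).unique ⟨h1, h2⟩ ⟨h1', h2'⟩

end Groth.Agent.Lib.Helper78.AlgSpInfSq
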