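import Groth.Prelude.Def_ProCons
import Groth.Agent.Lib.Helper38.Spectral
import Mathlib.AlgebraicGeometry.Properties
import Mathlib.AlgebraicGeometry.AffineScheme
import Mathlib.Topology.Constructible

/-!
Points in the closure of a pro-constructible subset of a scheme are specializations (helper78).
-/

set_option autoImplicit false
open CategoryTheory AlgebraicGeometry Topology TopologicalSpace
universe u

namespace Groth.Agent.Lib.Helper78.ProConsClosure

/-- Constructible sets of a compact space are closed for the constructible topology. -/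
theorem isClosed_isOpen_ct_of_isConstructible {X : Type*} [TopologicalSpace X] [CompactSpace X]
    {s : Set X} (hs : IsConstructible s) :
    IsClosed[constructibleTopology X] s ∧ IsOpen[constructibleTopology X] s := by
  induction hs using IsConstructible.empty_union_induction with
  | open_retrocompact U hUo hUr =>
    exact ⟨Groth.Agent.Lib.Helper38.Spec.isClosed_ct_of_isCompact_isOpen hUr.isCompact hUo,
      hUr.isCompact.isOpen_constructibleTopology_of_isOpen hUo⟩
  | union s hs t ht hs' ht' =>
    exact ⟨@IsClosed.union _ _ _ (constructibleTopology X) hs'.1 ht'.1,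
      @IsOpen.union _ _ _ (constructibleTopology X) hs'.2 ht'.2⟩
  | compl s hs hs' =>
    exact ⟨(@isClosed_compl_iff _ (constructibleTopology X) _).mpr hs'.2,
      (@isOpen_compl_iff _ _ (constructibleTopology X)).mpr hs'.1⟩

/-- An affine open subset of a scheme is a spectral space. -/
theorem spectralSpace_of_isAffineOpen {X : Scheme.{u}} {V : X.Opens} (hV : IsAffineOpen V) :
    SpectralSpace ↥(V : Set X) := by
  have hc : CompactSpace ↥(V : Set X) := isCompact_iff_compactSpace.mp hV.isCompact
  have hc' : CompactSpace ↥(V.toScheme) := hc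
  have : SpectralSpace ↥(Spec Γ(X, V)) := inferInstanceAs (SpectralSpace (PrimeSpectrum Γ(X, V)))
  have h : SpectralSpace ↥(V.toScheme) := (hV.isoSpec.hom.homeomorph).isOpenEmbedding.spectralSpace
  exact h

/-- A point in the closure of a pro-constructible subset of a scheme is a specialization of a point
of that subset. -/
theorem exists_specializes_of_mem_closure {X : Scheme.{u}} {Z : Set X}
    (hZ : ProCons.IsProConstructible Z) {x : X} (hx : x ∈ closure Z) : ∃ z ∈ Z, z ⤳ x := by
  obtain ⟨U, hUo, hxU, S, hS, hEq⟩ := hZ x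
  obtain ⟨V, hV, hxV, hVU⟩ :=
    (Opens.isBasis_iff_nbhd.mp X.isBasis_affineOpens)
      (show x ∈ (⟨U, hUo⟩ : X.Opens) from hxU)
  have hVU' : (V : Set X) ⊆ U := hVU
  have hsp : SpectralSpace ↥(V : Set X) := spectralSpace_of_isAffineOpen hV
  let incl : ↥(V : Set X) → ↥U := Set.inclusion hVU'
  have hincl : IsOpenEmbedding incl :=
    IsOpenEmbedding.inclusion hVU' (V.isOpen.preimage continuous_subtype_val)
  let E : Set ↥(V : Set X) := Subtype.val ⁻¹' Z
  have hE : E = ⋂₀ ((fun T => incl ⁻¹' T) '' S) := by
    ext v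
    have h1 : v ∈ E ↔ incl v ∈ (Subtype.val ⁻¹' Z : Set ↥U) := Iff.rfl
    rw [h1, hEq]
    simp only [Set.mem_sInter, Set.mem_image, forall_exists_index, and_imp, forall_apply_eq_imp_iff₂,
      Set.mem_preimage]
  have hEcl : IsClosed[constructibleTopology ↥(V : Set X)] E := by
    rw [hE]
    apply @isClosed_sInter _ (constructibleTopology ↥(V : Set X))
    rintro _ ⟨T, hT, rfl⟩
    have h2 : IsLocallyConstructible (incl ⁻¹' T) := (hS T hT).preimage_of_isOpenEmbedding hincl
    exact (isClosed_isOpen_ct_of_isConstructible h2.isConstructible).1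
  have hxcl : (⟨x, hxV⟩ : ↥(V : Set X)) ∈ closure E := by
    rw [closure_subtype]
    have himg : (Subtype.val '' E : Set X) = Z ∩ V := by
      ext y
      constructor
      · rintro ⟨v, hv, rfl⟩
        exact ⟨hv, v.2⟩
      · rintro ⟨hyZ, hyV⟩
        exact ⟨⟨y, hyV⟩, hyZ, rfl⟩
    rw [himg, mem_closure_iff]
    intro o ho hxo
    obtain ⟨y, hy1, hy2⟩ := mem_closure_iff.mp hx (o ∩ V) (ho.inter V.isOpen) ⟨hxo, hxV⟩
    exact ⟨y, hy1.1, hy2, hy1.2⟩
  obtain ⟨e, heE, hes⟩ := Groth.Agent.Lib.Helper38.Spec.exists_specializes_of_mem_closure hEcl hxcl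
  exact ⟨e.1, heE, hes.map continuous_subtype_val⟩

end Groth.Agent.Lib.Helper78.ProConsClosure
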