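import Groth.Prelude.Def_AlgSp4

/-!
# Basic API for `AlgSp.RepWith` (helper78)
-/

set_option autoImplicit false
universe u

namespace Groth.Agent.Lib.Helper78.AlgSpBasic

open CategoryTheory CategoryTheory.Limits AlgebraicGeometry AlgSp

variable {S : Scheme.{u}}

/-- two maps of sheaves agree when they agree on all `h_U`-points -/
theorem hom_ext_yon {P Q : Sp S} {f g : P ⟶ Q}
    (h : ∀ (X : Over S) (p : (yon S).obj X ⟶ P), p ≫ f = p ≫ g) : f = g :=
  (AlgSp.J S).hom_ext_uliftYoneda h

/-- a morphism of sheaves that is representable by monomorphisms of schemes is a monomorphism -/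
theorem mono_of_repWith {P : MorphismProperty Scheme.{u}}
    (hP : P ≤ MorphismProperty.monomorphisms Scheme.{u}) {F G : Sp S} {f : F ⟶ G}
    (hf : RepWith P f) : Mono f := by
  suffices key : ∀ {X : Over S} {a b : (yon S).obj X ⟶ F}, a ≫ f = b ≫ f → a = b from
    ⟨fun _ _ h ↦ hom_ext_yon (fun _ _ ↦ key (by simp only [Category.assoc, h]))⟩
  intro X a b h
  have hmono : Mono (hf.rep.snd (a ≫ f)) := by
    have h1 : P (hf.rep.snd (a ≫ f)).left := hf.property_snd (a ≫ f)
    have h2 : Mono (hf.rep.snd (a ≫ f)).left := hP _ h1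
    exact (Over.forget S).mono_of_mono_map h2
  have hl : hf.rep.lift (g := a ≫ f) a (𝟙 X) (by simp) =
      hf.rep.lift b (𝟙 X) (by simp [← h]) := by
    simp only [← cancel_mono (hf.rep.snd (a ≫ f)), Functor.relativelyRepresentable.lift_snd]
  simpa using (yon S).congr_map hl =≫ (hf.rep.fst (a ≫ f))

/-- isomorphisms are representable with any property containing identities and stable under base
change -/
theorem repWith_of_isIso (P : MorphismProperty Scheme.{u}) [P.IsStableUnderBaseChange]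
    [P.ContainsIdentities] {F G : Sp S} (f : F ⟶ G) [IsIso f] : RepWith P f := by
  have : P.RespectsIso := MorphismProperty.IsStableUnderBaseChange.respectsIso
  have hle : MorphismProperty.isomorphisms (Sp S) ≤ RepWith P := by
    intro X Y e he
    have : IsIso e := he
    refine ⟨Functor.relativelyRepresentable.of_isIso _ e, ?_⟩
    intro a b g fst snd sq
    have : IsIso ((yon S).map snd) := sq.isIso_snd_of_isIso
    have h1 : IsIso snd := isIso_of_fully_faithful (yon S) snd
    have h2 : IsIso snd.left := inferInstanceAs (IsIso ((Over.forget S).map snd))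
    exact MorphismProperty.of_isIso P snd.left
  exact hle f (inferInstanceAs (IsIso f))

/-- base change of a chart: given a representable `f`, a pullback square of `f` along `g : Z ⟶ G`
with corner `Z'`, and a map `p : h_U ⟶ Z`, there is a represented pullback `h_V` of `f` along
`p ≫ g` together with `q : h_V ⟶ Z'` exhibiting `q` as the base change of `p` along `Z' ⟶ Z`. -/
theorem exists_chart_of_isPullback {F G Z Z' : Sp S} {f : F ⟶ G} (hf : Representable f)
    {g : Z ⟶ G} {fst : Z' ⟶ F} {snd : Z' ⟶ Z} (sq : IsPullback fst snd f g)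
    {U : Over S} (p : (yon S).obj U ⟶ Z) :
    ∃ (V : Over S) (i : V ⟶ U) (q : (yon S).obj V ⟶ Z'),
      IsPullback q ((yon S).map i) snd p ∧ IsPullback (q ≫ fst) ((yon S).map i) f (p ≫ g) := by
  have w : hf.fst (p ≫ g) ≫ f = ((yon S).map (hf.snd (p ≫ g)) ≫ p) ≫ g := by
    rw [hf.w, Category.assoc]
  refine ⟨hf.pullback (p ≫ g), hf.snd (p ≫ g),
    sq.lift (hf.fst (p ≫ g)) ((yon S).map (hf.snd (p ≫ g)) ≫ p) w, ?_, ?_⟩
  · have outer : IsPullback
        (sq.lift (hf.fst (p ≫ g)) ((yon S).map (hf.snd (p ≫ g)) ≫ p) w ≫ fst)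
        ((yon S).map (hf.snd (p ≫ g))) f (p ≫ g) := by
      rw [sq.lift_fst]
      exact hf.isPullback (p ≫ g)
    exact IsPullback.of_right outer (sq.lift_snd _ _ _) sq
  · rw [sq.lift_fst]
    exact hf.isPullback (p ≫ g)

/-- the base change of a chart along a pullback of a `RepWith P` morphism: the map of schemes
`V ⟶ U` has `P` -/
theorem exists_chart_of_isPullback_of_repWith {P : MorphismProperty Scheme.{u}}
    {F G Z Z' : Sp S} {f : F ⟶ G} (hf : RepWith P f)
    {g : Z ⟶ G} {fst : Z' ⟶ F} {snd : Z' ⟶ Z} (sq : IsPullback fst snd f g)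
    {U : Over S} (p : (yon S).obj U ⟶ Z) :
    ∃ (V : Over S) (i : V ⟶ U) (q : (yon S).obj V ⟶ Z'),
      IsPullback q ((yon S).map i) snd p ∧ P i.left := by
  obtain ⟨V, i, q, h1, h2⟩ := exists_chart_of_isPullback hf.rep sq p
  exact ⟨V, i, q, h1, hf.property _ _ _ h2⟩

/-- `EtaleLocally` transfers along the base change of a `RepWith P` morphism, when `P` maps
preserve the scheme property backwards -/
theorem etaleLocally_of_isPullback {P : MorphismProperty Scheme.{u}} {Q : Scheme.{u} → Prop}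
    (hPQ : ∀ {A B : Scheme.{u}} (i : A ⟶ B), P i → Q B → Q A)
    {F G Z Z' : Sp S} {f : F ⟶ G} (hf : RepWith P f)
    {g : Z ⟶ G} {fst : Z' ⟶ F} {snd : Z' ⟶ Z} (sq : IsPullback fst snd f g)
    (hZ : EtaleLocally Q Z) : EtaleLocally Q Z' := by
  obtain ⟨U, p, hp1, hp2, hU⟩ := hZ
  obtain ⟨V, i, q, h1, h2⟩ := exists_chart_of_isPullback_of_repWith hf sq p
  refine ⟨V, q, ?_, ?_, hPQ i.left h2 hU⟩
  · exact MorphismProperty.of_isPullback h1.flip hp1
  · exact MorphismProperty.of_isPullback h1.flip hp2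

/-- Given an etale surjective chart `a₀ : h_{U₀} ⟶ X` of the source and an etale chart
`b : h_V ⟶ Y` of the target of `f : X ⟶ Y`, the fibre product `U = U₀ ×_Y V` gives a chart
diagram: an etale chart `a : h_U ⟶ X` (surjective if `b` is) and `h : U ⟶ V` with
`a ≫ f = h_h ≫ b`. -/
theorem exists_chart_diagram {X Y : Sp S} (f : X ⟶ Y) {U₀ V : Over S}
    (a₀ : (yon S).obj U₀ ⟶ X) (ha₀ : RepWith @Etale a₀)
    (b : (yon S).obj V ⟶ Y) (hb : RepWith @Etale b) :
    ∃ (U : Over S) (j : U ⟶ U₀) (h : U ⟶ V),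
      IsPullback ((yon S).map h) ((yon S).map j) b (a₀ ≫ f) ∧
      RepWith @Etale ((yon S).map j ≫ a₀) ∧
      (RepWith @Surjective a₀ → RepWith @Surjective b →
        RepWith @Surjective ((yon S).map j ≫ a₀)) := by
  have sq := hb.rep.isPullback' (a₀ ≫ f)
  refine ⟨hb.rep.pullback (a₀ ≫ f), hb.rep.snd (a₀ ≫ f), hb.rep.fst' (a₀ ≫ f), sq, ?_, ?_⟩
  · have h1 : Etale (hb.rep.snd (a₀ ≫ f)).left := hb.property _ _ _ sq
    have h2 : RepWith @Etale ((yon S).map (hb.rep.snd (a₀ ≫ f))) :=
      (repWith_yon_map_iff _ _).2 h1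
    exact (RepWith (S := S) @Etale).comp_mem _ _ h2 ha₀
  · intro ha₀s hbs
    have h1 : Surjective (hb.rep.snd (a₀ ≫ f)).left := hbs.property _ _ _ sq
    have h2 : RepWith @Surjective ((yon S).map (hb.rep.snd (a₀ ≫ f))) :=
      (repWith_yon_map_iff _ _).2 h1
    exact (RepWith (S := S) @Surjective).comp_mem _ _ h2 ha₀s

end Groth.Agent.Lib.Helper78.AlgSpBasic
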