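import Mathlib.RingTheory.Etale.StandardEtale
import Mathlib.Algebra.Polynomial.Lifts

/-!
# Lifting standard etale algebras along surjections (helper78)
-/

set_option autoImplicit false
universe u

open TensorProduct Polynomial

namespace Groth.Agent.Lib.Helper78.EtaleLift

/-- two standard etale pairs with the same `f` and with `g' = g * f'` give isomorphic algebras. -/
noncomputable def equivOfEq {A : Type u} [CommRing A] (S S' : StandardEtalePair A)
    (hf : S'.f = S.f) (hg : S'.g = S.g * derivative S.f) : S'.Ring ≃ₐ[A] S.Ring := by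
  have h1 : S'.HasMap S.X := by
    refine ⟨by rw [hf]; exact S.hasMap_X.1, ?_⟩
    rw [hg, map_mul]
    exact S.hasMap_X.2.mul S.hasMap_X.isUnit_derivative_f
  have h2 : S.HasMap S'.X := by
    refine ⟨by rw [← hf]; exact S'.hasMap_X.1, ?_⟩
    have := S'.hasMap_X.2
    rw [hg, map_mul] at this
    exact isUnit_of_mul_isUnit_left this
  exact AlgEquiv.ofAlgHom (S'.lift S.X h1) (S.lift S'.X h2)
    (S.hom_ext (by simp)) (S'.hom_ext (by simp))

/-- **Lifting standard etale algebras along surjections.** -/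
theorem exists_lift_standardEtalePair {P A : Type u} [CommRing P] [CommRing A] [Algebra P A]
    (hπ : Function.Surjective (algebraMap P A)) (S : StandardEtalePair A) :
    ∃ S' : StandardEtalePair P, Nonempty (A ⊗[P] S'.Ring ≃ₐ[A] S.Ring) := by
  obtain ⟨f', hf', -, hmonic⟩ := Polynomial.lifts_and_natDegree_eq_and_monic
    (f := algebraMap P A) (p := S.f)
    ((Polynomial.mem_lifts _).2 (Polynomial.map_surjective _ hπ S.f)) S.monic_f
  obtain ⟨g₀, hg₀⟩ := Polynomial.map_surjective _ hπ S.g
  let S' : StandardEtalePair P := ⟨f', hmonic, g₀ * derivative f', ⟨g₀, 0, 1, by ring⟩⟩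
  let 𝓟 : StandardEtalePresentation P S'.Ring :=
    ⟨S', S'.X, S'.hasMap_X, by
      simpa [StandardEtalePair.lift_X_left] using Function.bijective_id⟩
  let 𝓟' : StandardEtalePresentation A (A ⊗[P] S'.Ring) := 𝓟.baseChange
  have e₁ : A ⊗[P] S'.Ring ≃ₐ[A] (S'.map (algebraMap P A)).Ring := 𝓟'.equivRing
  have e₂ : (S'.map (algebraMap P A)).Ring ≃ₐ[A] S.Ring :=
    equivOfEq S (S'.map (algebraMap P A)) hf' (by
      simp only [StandardEtalePair.map_g, S', Polynomial.map_mul, hg₀]
      rw [← Polynomial.derivative_map, hf'])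
  exact ⟨S', ⟨e₁.trans e₂⟩⟩

end Groth.Agent.Lib.Helper78.EtaleLift
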