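import Groth.Agent.Lib.Helper78.AlgSpLocPLoft
import Groth.Agent.Lib.Helper78.EtaleLift
import Mathlib.RingTheory.Unramified.LocalStructure
import Mathlib.AlgebraicGeometry.Morphisms.FinitePresentation

/-!
# `LocallyOfFinitePresentation` is etale local on the source-and-target (helper78)

Uses local lifting of etale algebras along surjections (`exists_etale_lift`).
-/

set_option autoImplicit false
universe u

open TensorProduct CategoryTheory CategoryTheory.Limits AlgebraicGeometry MorphismProperty

namespace Groth.Agent.Lib.Helper78.AlgSpLocPLofp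

open Groth.Agent.Lib.Helper78.AlgSpLocP Groth.Agent.Lib.Helper78.AlgSpLocPGen
  Groth.Agent.Lib.Helper78.AlgSpLocPLoft Groth.Agent.Lib.Helper78.EtaleLift

/-- **Local lifting of etale algebras along surjections.**  `P₀ → A` surjective, `B` etale over `A`,
`q` a prime of `B`.  There are an etale `P₀`-algebra `Q`, `g ∉ q` and an isomorphism of `A`-algebras
`A ⊗[P₀] Q ≃ B[1/g]`. -/
theorem exists_etale_lift {P₀ A B : Type u} [CommRing P₀] [CommRing A] [CommRing B] [Algebra P₀ A]
    [Algebra A B] [Algebra.Etale A B] (hπ : Function.Surjective (algebraMap P₀ A))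
    (q : Ideal B) [q.IsPrime] :
    ∃ (Q : Type u) (_ : CommRing Q) (_ : Algebra P₀ Q) (_ : Algebra.Etale P₀ Q) (g : B),
      g ∉ q ∧ Nonempty (A ⊗[P₀] Q ≃ₐ[A] Localization.Away g) := by
  have : Algebra.IsEtaleAt A q := by
    have : Algebra.FormallyEtale B (Localization.AtPrime q) :=
      Algebra.FormallyEtale.of_isLocalization q.primeCompl
    exact Algebra.FormallyEtale.comp A B (Localization.AtPrime q)
  obtain ⟨g, hgq, hstd⟩ := Algebra.IsEtaleAt.exists_isStandardEtale (R := A) q
  let 𝓟 := hstd.nonempty_standardEtalePresentation.some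
  obtain ⟨S', ⟨e⟩⟩ := exists_lift_standardEtalePair hπ 𝓟.P
  exact ⟨S'.Ring, inferInstance, inferInstance, inferInstance, g, hgq,
    ⟨e.trans 𝓟.equivRing.symm⟩⟩

set_option backward.isDefEq.respectTransparency false in
theorem lofp_src : IsZariskiLocalAtSource (@LocallyOfFinitePresentation.{u}) := inferInstance

set_option backward.isDefEq.respectTransparency false in
theorem lofp_tgt : IsZariskiLocalAtTarget (@LocallyOfFinitePresentation.{u}) := inferInstance

theorem lofp_respectsRight :
    MorphismProperty.RespectsRight (@LocallyOfFinitePresentation.{u}) @IsOpenImmersion where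
  postcomp i hi f hf := by
    have : IsOpenImmersion i := hi
    have : LocallyOfFinitePresentation i := inferInstance
    exact MorphismProperty.comp_mem (@LocallyOfFinitePresentation) f i hf this

attribute [local instance] lofp_src lofp_tgt lofp_respectsRight

set_option maxHeartbeats 1000000 in
/-- the ring-level core for `LocallyOfFinitePresentation` (finite type version). -/
theorem ringCoreFT_lofp :
    RingCoreFT (@LocallyOfFinitePresentation : MorphismProperty Scheme.{u}) := by
  intro R A B _ _ _ _ _ _ hFT H q
  have hfp : ((algebraMap A B).comp (algebraMap R A)).FinitePresentation := by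
    rw [← Spec.map_comp, ← CommRingCat.ofHom_comp,
      HasRingHomProperty.Spec_iff (P := @LocallyOfFinitePresentation)] at H
    exact H
  obtain ⟨n, φ, hφ⟩ := Algebra.FiniteType.iff_quotient_mvPolynomial''.1 hFT
  let _ : Algebra (MvPolynomial (Fin n) R) A := φ.toRingHom.toAlgebra
  have hsc : IsScalarTower R (MvPolynomial (Fin n) R) A :=
    IsScalarTower.of_algebraMap_eq fun r => (φ.commutes r).symm
  have hπ : Function.Surjective (algebraMap (MvPolynomial (Fin n) R) A) := hφ
  have : q.asIdeal.IsPrime := q.isPrime
  obtain ⟨Q, _, _, _, g, hgq, ⟨e'⟩⟩ := exists_etale_lift (P₀ := MvPolynomial (Fin n) R) hπ q.asIdeal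
  -- the ring maps
  let inl : A →+* A ⊗[MvPolynomial (Fin n) R] Q := Algebra.TensorProduct.includeLeftRingHom
  let inr : Q →+* A ⊗[MvPolynomial (Fin n) R] Q := Algebra.TensorProduct.includeRight.toRingHom
  let iQ : MvPolynomial (Fin n) R →+* Q := algebraMap _ _
  let iP : R →+* MvPolynomial (Fin n) R := algebraMap _ _
  -- `R → T` is finitely presented
  have h1 : (inl.comp (algebraMap R A)).FinitePresentation := by
    have : inl.comp (algebraMap R A) = (e'.symm : Localization.Away g →+* _).comp
        ((algebraMap B (Localization.Away g)).comp ((algebraMap A B).comp (algebraMap R A))) := by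
      ext r
      simp only [RingHom.comp_apply, inl]
      have : algebraMap B (Localization.Away g) (algebraMap A B (algebraMap R A r)) =
          algebraMap A (Localization.Away g) (algebraMap R A r) :=
        (IsScalarTower.algebraMap_apply A B (Localization.Away g) _).symm
      rw [this]
      change _ = e'.symm (algebraMap A _ _)
      rw [e'.symm.commutes]
      rfl
    rw [this]
    refine RingHom.FinitePresentation.comp
      (RingHom.FinitePresentation.of_bijective e'.symm.bijective)
      (RingHom.FinitePresentation.comp ?_ hfp)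
    exact RingHom.finitePresentation_algebraMap.2
      (IsLocalization.Away.finitePresentation g)
  have h2 : inl.comp (algebraMap R A) = inr.comp (iQ.comp iP) := by
    ext r
    simp only [RingHom.comp_apply, inl, inr, iQ, iP]
    rw [IsScalarTower.algebraMap_apply R (MvPolynomial (Fin n) R) A]
    change algebraMap _ A _ ⊗ₜ[MvPolynomial (Fin n) R] (1 : Q) = (1 : A) ⊗ₜ[_] algebraMap _ Q _
    rw [← Algebra.TensorProduct.tmul_one_eq_one_tmul]
  have hft : (iQ.comp iP).FiniteType := by
    refine RingHom.FiniteType.comp ?_ ?_
    · exact RingHom.finiteType_algebraMap.2 inferInstance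
    · exact RingHom.finiteType_algebraMap.2 inferInstance
  have hinr : inr.FinitePresentation :=
    RingHom.FinitePresentation.of_comp_finiteType _ (h2 ▸ h1) hft
  have hpY : LocallyOfFinitePresentation (Spec.map (CommRingCat.ofHom inr)) := by
    rw [HasRingHomProperty.Spec_iff (P := @LocallyOfFinitePresentation)]
    exact hinr
  have hA₀ : LocallyOfFinitePresentation
      (Spec.map (CommRingCat.ofHom (algebraMap R (MvPolynomial (Fin n) R)))) := by
    rw [HasRingHomProperty.Spec_iff (P := @LocallyOfFinitePresentation)]
    exact RingHom.finitePresentation_algebraMap.2 inferInstance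
  obtain ⟨V', hV'1, hV'2⟩ := core_pattern (@LocallyOfFinitePresentation) (R := R)
    (A₀ := MvPolynomial (Fin n) R) (A := A) (B₀ := Q) hA₀ hpY
  refine ⟨V', ?_, hV'2⟩
  -- the point
  have hq : q ∈ Set.range (PrimeSpectrum.comap (algebraMap B (Localization.Away g))) := by
    rw [PrimeSpectrum.localization_away_comap_range (Localization.Away g) g]
    exact hgq
  obtain ⟨qg₀, hqg⟩ := hq
  let qg : ↥(Spec (CommRingCat.of (Localization.Away g))) := qg₀
  let t : ↥(Spec (.of (A ⊗[MvPolynomial (Fin n) R] Q))) :=
    (Spec.map (CommRingCat.ofHom (e' : _ →+* Localization.Away g))) qg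
  have hm : Spec.map (CommRingCat.ofHom (e' : _ →+* Localization.Away g)) ≫
      Spec.map (CommRingCat.ofHom inl) =
      Spec.map (CommRingCat.ofHom (algebraMap B (Localization.Away g))) ≫
        Spec.map (CommRingCat.ofHom (algebraMap A B)) := by
    rw [← Spec.map_comp, ← Spec.map_comp]
    congr 1
    ext a
    change e' (a ⊗ₜ[_] (1 : Q)) = algebraMap B (Localization.Away g) (algebraMap A B a)
    have : a ⊗ₜ[MvPolynomial (Fin n) R] (1 : Q) = algebraMap A (A ⊗[_] Q) a := rfl
    rw [this, e'.commutes, IsScalarTower.algebraMap_apply A B (Localization.Away g)]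
  have h3 : (Spec.map (CommRingCat.ofHom inl)) t =
      (Spec.map (CommRingCat.ofHom (algebraMap A B))) q := by
    change (Spec.map (CommRingCat.ofHom inl))
      ((Spec.map (CommRingCat.ofHom (e' : _ →+* Localization.Away g))) qg) = _
    rw [← Scheme.Hom.comp_apply, hm, Scheme.Hom.comp_apply]
    congr 1
  rw [← h3]
  exact hV'1 t

/-- `LocallyOfFinitePresentation` descends along etale surjections on the source. -/
theorem lofp_descend {A B C : Scheme.{u}} (e : A ⟶ B) (h : B ⟶ C) (he : Etale e)
    (hs : Surjective e) (H : LocallyOfFinitePresentation (e ≫ h)) :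
    LocallyOfFinitePresentation h := by
  have h1 : LocallyOfFiniteType (e ≫ h) := inferInstance
  have hft : LocallyOfFiniteType h := loft_descend e h he hs h1
  exact descend_of_ringCoreFT ringCoreFT_lofp e h hft H

instance lofp_isMultiplicative :
    MorphismProperty.IsMultiplicative (@LocallyOfFinitePresentation.{u}) where
  id_mem _ := inferInstance

/-- `LocallyOfFinitePresentation` is etale local on the source-and-target. -/
theorem etLocalST_lofp :
    EtLocalST (@LocallyOfFinitePresentation : MorphismProperty Scheme.{u}) :=
  EtLocalST.mk' _ (fun e he => by have : Etale e := he; infer_instance)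
    (fun e he => by have : IsOpenImmersion e := he; infer_instance)
    (fun e h he hs H => lofp_descend e h he hs H)

end Groth.Agent.Lib.Helper78.AlgSpLocPLofp
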