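import Groth.Agent.Lib.Helper78.AlgSpFpqcSingle
import Groth.Agent.Lib.Helper78.AlgSpLocPLofp
import Mathlib.AlgebraicGeometry.Morphisms.UniversallyOpen

/-!
# An fppf covering of an algebraic space is an fpqc covering (helper78)
-/

set_option autoImplicit false
universe u

open CategoryTheory CategoryTheory.Limits AlgebraicGeometry MorphismProperty

namespace Groth.Agent.Lib.Helper78.AlgSpFppfFpqc

open AlgSp Groth.Agent.Lib.Helper78.AlgSpLocP Groth.Agent.Lib.Helper78.AlgSpFibre
  Groth.Agent.Lib.Helper78.AlgSpLocPFlat Groth.Agent.Lib.Helper78.AlgSpLocPLofp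

variable {S : Scheme.{u}}

/-- an fppf covering of an algebraic space by algebraic spaces is an fpqc covering. -/
theorem isFpqcCover_of_isFppfCover {ι : Type u} {X : Sp S} (Xi : ι → Sp S) (g : ∀ i, Xi i ⟶ X)
    (hX : IsAlgSpace X) (hXi : ∀ i, IsAlgSpace (Xi i)) (hcov : IsFppfCover Xi g) :
    IsFpqcCover Xi g := by
  refine ⟨fun i => (hcov.1 i).1, fun Z hZ h => ?_⟩
  have : IsAffine Z.left := hZ
  -- the base changes and their atlases
  have sq : ∀ i, IsPullback (pullback.fst (g i) h) (pullback.snd (g i) h) (g i) h :=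
    fun i => IsPullback.of_hasPullback (g i) h
  have hZi : ∀ i, IsAlgSpace (pullback (g i) h) := fun i =>
    isAlgSpace_of_isPullback (sq i) hX.diag (hXi i) (IsAlgSpace.yon_obj Z)
  choose U p hp hps using fun i => (hZi i).atlas
  have hflat : ∀ i, LocP @Flat (pullback.snd (g i) h) := fun i =>
    locP_of_isPullback etLocalST_flat (sq i) (repAll_of_isAlgSpace hX) (hXi i).atlas hX.atlas
      (hcov.1 i).1
  have hlofp : ∀ i, LocP @LocallyOfFinitePresentation (pullback.snd (g i) h) := fun i =>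
    locP_of_isPullback etLocalST_lofp (sq i) (repAll_of_isAlgSpace hX) (hXi i).atlas hX.atlas
      (hcov.1 i).2
  -- the morphisms of schemes `d i : U i ⟶ Z`
  let d : ∀ i, U i ⟶ Z := fun i => (yon S).preimage (p i ≫ pullback.snd (g i) h)
  have hd : ∀ i, (yon S).map (d i) = p i ≫ pullback.snd (g i) h :=
    fun i => (yon S).map_preimage _
  have hdflat : ∀ i, Flat (d i).left := fun i =>
    hflat i (p i) (𝟙 _) (d i) (hp i) (repWith_id _ _) (by rw [Category.comp_id, hd])
  have hdlofp : ∀ i, LocallyOfFinitePresentation (d i).left := fun i =>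
    hlofp i (p i) (𝟙 _) (d i) (hp i) (repWith_id _ _) (by rw [Category.comp_id, hd])
  -- every point of `Z` is hit
  have hsurj : ∀ z : Z.left, ∃ (i : ι) (u : (U i).left), (d i).left u = z := by
    intro z
    obtain ⟨i, ξ, hξ⟩ := hcov.2 (Points.map h (Points.ofScheme Z z))
    obtain ⟨ζ, -, hζ⟩ :=
      Groth.Agent.Lib.Helper52.exists_point_of_isPullback (sq i) ξ (Points.ofScheme Z z) hξ
    obtain ⟨u, hu⟩ := Groth.Agent.Lib.Helper51.surjective_ofPt_of_repWith_surjective (p i) (hps i) ζ
    refine ⟨i, u, ?_⟩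
    apply Groth.Agent.Lib.Helper51.ofScheme_injective Z
    have h1 := Points.map_yon_map_apply (d i) u
    change Points.map ((yon S).map (d i)) (Points.ofScheme _ u) =
      Points.ofScheme Z ((d i).left u) at h1
    rw [← h1, hd, ← Points.ofPt_eq_map_ofScheme, ← Points.map_ofPt, hu, hζ]
  choose iz uz huz using hsurj
  -- affine open neighbourhoods
  have hnb : ∀ z : Z.left, ∃ A : (U (iz z)).left.Opens, IsAffineOpen A ∧ uz z ∈ A := fun z => by
    obtain ⟨A, hA, hzA, -⟩ := exists_isAffineOpen_mem_and_subset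
      (TopologicalSpace.Opens.mem_top (uz z))
    exact ⟨A, hA, hzA⟩
  choose A hA hzA using hnb
  have hopen : ∀ z : Z.left, IsOpen ((d (iz z)).left '' (A z : Set (U (iz z)).left)) := fun z => by
    have := hdflat (iz z)
    have := hdlofp (iz z)
    exact (d (iz z)).left.isOpenMap _ (A z).2
  obtain ⟨t, ht⟩ := CompactSpace.elim_nhds_subcover
    (fun z : Z.left => (d (iz z)).left '' (A z : Set (U (iz z)).left))
    (fun z => (hopen z).mem_nhds ⟨uz z, hzA z, huz z⟩)
  let e := t.equivFin
  let zz : Fin t.card → Z.left := fun j => (e.symm j).1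
  let W : Fin t.card → Over S := fun j =>
    Over.mk ((A (zz j)).ι ≫ (U (iz (zz j))).hom)
  let w : ∀ j, W j ⟶ U (iz (zz j)) := fun j => Over.homMk (A (zz j)).ι rfl
  refine ⟨t.card, W, fun j => w j ≫ d (iz (zz j)), fun j => ?_, fun j => ?_, fun z => ?_,
    fun j => ?_⟩
  · exact hA (zz j)
  · have := hdflat (iz (zz j))
    exact inferInstanceAs (Flat ((A (zz j)).ι ≫ (d (iz (zz j))).left))
  · have hz : z ∈ ⋃ x ∈ t, (d (iz x)).left '' (A x : Set (U (iz x)).left) := by
      rw [ht]; trivial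
    simp only [Set.mem_iUnion] at hz
    obtain ⟨x, hx, a, ha, rfl⟩ := hz
    refine ⟨e ⟨x, hx⟩, ?_⟩
    have hzz : zz (e ⟨x, hx⟩) = x := by simp [zz]
    have key : ∀ (j : Fin t.card) (y : Z.left), zz j = y → ∀ b ∈ A y,
        ∃ a' : (W j).left, (w j ≫ d (iz (zz j))).left a' = (d (iz y)).left b := by
      intro j y hy
      subst hy
      intro b hb
      exact ⟨⟨b, hb⟩, rfl⟩
    exact key _ x hzz a ha
  · refine ⟨iz (zz j), (yon S).map (w j) ≫ p (iz (zz j)) ≫ pullback.fst (g (iz (zz j))) h, ?_⟩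
    rw [Functor.map_comp, hd, Category.assoc, Category.assoc, Category.assoc, Category.assoc,
      (sq (iz (zz j))).w]

end Groth.Agent.Lib.Helper78.AlgSpFppfFpqc
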