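import Groth.Agent.Lib.Helper78.AlgSpLocP
import Groth.Agent.Lib.Helper51.AlgSpPoints

/-!
# `AlgSp.LocP`: chart transfer with weak surjectivity, composition, covers (helper78)
-/

set_option autoImplicit false
universe u

namespace Groth.Agent.Lib.Helper78.AlgSpLocP

open CategoryTheory CategoryTheory.Limits AlgebraicGeometry AlgSp
open Groth.Agent.Lib.Helper52 Groth.Agent.Lib.Helper51

variable {S : Scheme.{u}}

/-- **Chart transfer, weak form.**  As `transfer`, but the chart `a` is only required to hit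
every point of `X` coming from `U'`. -/
theorem transfer' {P : MorphismProperty Scheme.{u}} (hP : EtLocalST P) {X Y : Sp S} (f : X ⟶ Y)
    {U V U' V' : Over S} (a : (yon S).obj U ⟶ X) (b : (yon S).obj V ⟶ Y) (h : U ⟶ V)
    (ha : RepWith @Etale a) (hb : RepWith @Etale b)
    (comm : a ≫ f = (yon S).map h ≫ b) (hh : P h.left)
    (a' : (yon S).obj U' ⟶ X) (b' : (yon S).obj V' ⟶ Y) (h' : U' ⟶ V')
    (ha' : RepWith @Etale a') (hb' : RepWith @Etale b')
    (comm' : a' ≫ f = (yon S).map h' ≫ b')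
    (hs : ∀ t : ↥U'.left, Points.ofPt a' t ∈ Set.range (Points.map a)) : P h'.left := by
  have sqU := ha.rep.isPullback' a'
  set p₁ : ha.rep.pullback a' ⟶ U := ha.rep.fst' a' with hp₁
  set p₂ : ha.rep.pullback a' ⟶ U' := ha.rep.snd a' with hp₂
  have hp₂e : Etale p₂.left := ha.property _ _ _ sqU
  have hp₂s : Surjective p₂.left := ⟨fun t => (ofPt_mem_range_map_iff sqU t).1 (hs t)⟩
  have hp₁e : Etale p₁.left := ha'.property _ _ _ sqU.flip
  have sqV := hb.rep.isPullback' b'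
  set q₁ : hb.rep.pullback b' ⟶ V := hb.rep.fst' b' with hq₁
  set q₂ : hb.rep.pullback b' ⟶ V' := hb.rep.snd b' with hq₂
  have hq₂e : Etale q₂.left := hb.property _ _ _ sqV
  have hq₁e : Etale q₁.left := hb'.property _ _ _ sqV.flip
  have w : (yon S).map (p₁ ≫ h) ≫ b = (yon S).map (p₂ ≫ h') ≫ b' := by
    rw [Functor.map_comp, Functor.map_comp, Category.assoc, Category.assoc, ← comm, ← comm',
      ← Category.assoc, ← Category.assoc, sqU.w]
  obtain ⟨h'', hh''⟩ := (yon S).map_surjective (sqV.lift _ _ w)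
  have e₁ : h'' ≫ q₁ = p₁ ≫ h := (yon S).map_injective (by
    rw [Functor.map_comp, hh'']; exact sqV.lift_fst _ _ _)
  have e₂ : h'' ≫ q₂ = p₂ ≫ h' := (yon S).map_injective (by
    rw [Functor.map_comp, hh'']; exact sqV.lift_snd _ _ _)
  have e₁' : h''.left ≫ q₁.left = p₁.left ≫ h.left := congrArg CommaMorphism.left e₁
  have e₂' : h''.left ≫ q₂.left = p₂.left ≫ h'.left := congrArg CommaMorphism.left e₂
  have s1 : P (p₁.left ≫ h.left) := hP.precomp _ _ hp₁e hh
  have s2 : P h''.left := hP.cancel _ _ hq₁e (e₁' ▸ s1)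
  have s3 : P (h''.left ≫ q₂.left) := hP.postcomp _ _ s2 hq₂e
  exact hP.descend _ _ hp₂e hp₂s (e₂' ▸ s3)

/-- for morphisms of schemes `LocP P` is `P`. -/
theorem locP_yon_map_iff {P : MorphismProperty Scheme.{u}} (hP : EtLocalST P) {U V : Over S}
    (g : U ⟶ V) : LocP P ((yon S).map g) ↔ P g.left := by
  refine ⟨locP_yon_map, fun hg => ?_⟩
  refine locP_of_chart hP _ (𝟙 _) (𝟙 _) g (repWith_id _ U) (repWith_id _ U) (repWith_id _ V)
    (by simp) hg

/-- precomposition with an etale chart -/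
theorem locP_precomp_chart {P : MorphismProperty Scheme.{u}} {X Y : Sp S} (f : X ⟶ Y)
    {U : Over S} (φ : (yon S).obj U ⟶ X) (hφ : RepWith @Etale φ) (hf : LocP P f) :
    LocP P (φ ≫ f) := by
  intro W V a b h ha hb comm
  refine hf (a ≫ φ) b h ((RepWith (S := S) @Etale).comp_mem _ _ ha hφ) hb ?_
  rw [Category.assoc, comm]

/-- **Source covers**: if `φ : h_U ⟶ X` is etale surjective and `φ ≫ f` has `LocP P`, so does `f`. -/
theorem locP_of_precomp_chart {P : MorphismProperty Scheme.{u}} (hP : EtLocalST P) {X Y : Sp S}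
    (f : X ⟶ Y) {U : Over S} (φ : (yon S).obj U ⟶ X) (hφ : RepWith @Etale φ)
    (hφs : RepWith @Surjective φ) (hf : LocP P (φ ≫ f)) : LocP P f := by
  intro U' V' a' b' h' ha' hb' comm'
  have sqU := hφ.rep.isPullback' a'
  set p₁ : hφ.rep.pullback a' ⟶ U := hφ.rep.fst' a' with hp₁
  set p₂ : hφ.rep.pullback a' ⟶ U' := hφ.rep.snd a' with hp₂
  have hp₂e : Etale p₂.left := hφ.property _ _ _ sqU
  have hp₂s : Surjective p₂.left := hφs.property _ _ _ sqU
  have hp₁e : Etale p₁.left := ha'.property _ _ _ sqU.flip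
  have h1 : P (p₂ ≫ h').left := by
    refine hf ((yon S).map p₁) b' (p₂ ≫ h') ((repWith_yon_map_iff _ _).2 hp₁e) hb' ?_
    rw [← Category.assoc, sqU.w, Category.assoc, comm', Functor.map_comp, Category.assoc]
  exact hP.descend _ _ hp₂e hp₂s h1

/-- **Composition.** -/
theorem locP_comp {P : MorphismProperty Scheme.{u}} (hP : EtLocalST P)
    [P.IsStableUnderComposition] {X Y Z : Sp S} (f : X ⟶ Y) (g : Y ⟶ Z)
    (hY : ∃ (V : Over S) (b : (yon S).obj V ⟶ Y), RepWith @Etale b ∧ RepWith @Surjective b)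
    (hf : LocP P f) (hg : LocP P g) : LocP P (f ≫ g) := by
  obtain ⟨V, b, hb, hbs⟩ := hY
  intro U W a c h ha hc comm
  -- `U' = U ×_Y V`
  have sqU := hb.rep.isPullback' (a ≫ f)
  set p₂ : hb.rep.pullback (a ≫ f) ⟶ V := hb.rep.fst' (a ≫ f) with hp₂
  set p₁ : hb.rep.pullback (a ≫ f) ⟶ U := hb.rep.snd (a ≫ f) with hp₁
  have hp₁e : Etale p₁.left := hb.property _ _ _ sqU
  have hp₁s : Surjective p₁.left := hbs.property _ _ _ sqU
  -- `V' = W ×_Z V`
  have sqV := hc.rep.isPullback' (b ≫ g)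
  set q₂ : hc.rep.pullback (b ≫ g) ⟶ W := hc.rep.fst' (b ≫ g) with hq₂
  set q₁ : hc.rep.pullback (b ≫ g) ⟶ V := hc.rep.snd (b ≫ g) with hq₁
  have hq₁e : Etale q₁.left := hc.property _ _ _ sqV
  -- `P q₂`
  have hPq₂ : P q₂.left := by
    refine hg ((yon S).map q₁ ≫ b) c q₂
      ((RepWith (S := S) @Etale).comp_mem _ _ ((repWith_yon_map_iff _ _).2 hq₁e) hb) hc ?_
    rw [Category.assoc, ← sqV.w]
  -- `P p₂`
  have hPp₂ : P p₂.left := by
    refine hf ((yon S).map p₁ ≫ a) b p₂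
      ((RepWith (S := S) @Etale).comp_mem _ _ ((repWith_yon_map_iff _ _).2 hp₁e) ha) hb ?_
    rw [Category.assoc, ← sqU.w]
  -- `k : U' ⟶ V'`
  have w : (yon S).map (p₁ ≫ h) ≫ c = (yon S).map p₂ ≫ b ≫ g := by
    calc (yon S).map (p₁ ≫ h) ≫ c = (yon S).map p₁ ≫ (yon S).map h ≫ c := by
          rw [Functor.map_comp, Category.assoc]
      _ = (yon S).map p₁ ≫ a ≫ f ≫ g := by rw [comm]
      _ = ((yon S).map p₁ ≫ a ≫ f) ≫ g := by simp only [Category.assoc]
      _ = ((yon S).map p₂ ≫ b) ≫ g := by rw [sqU.w]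
      _ = (yon S).map p₂ ≫ b ≫ g := by rw [Category.assoc]
  obtain ⟨k, hk⟩ := (yon S).map_surjective (sqV.lift _ _ w)
  have e₁ : k ≫ q₂ = p₁ ≫ h := (yon S).map_injective (by
    rw [Functor.map_comp, hk]; exact sqV.lift_fst _ _ _)
  have e₂ : k ≫ q₁ = p₂ := (yon S).map_injective (by
    rw [Functor.map_comp, hk]; exact sqV.lift_snd _ _ _)
  have e₁' : k.left ≫ q₂.left = p₁.left ≫ h.left := congrArg CommaMorphism.left e₁
  have e₂' : k.left ≫ q₁.left = p₂.left := congrArg CommaMorphism.left e₂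
  have s1 : P k.left := hP.cancel _ _ hq₁e (e₂'.symm ▸ hPp₂)
  have s2 : P (k.left ≫ q₂.left) := P.comp_mem _ _ s1 hPq₂
  exact hP.descend _ _ hp₁e hp₁s (e₁' ▸ s2)

end Groth.Agent.Lib.Helper78.AlgSpLocP
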