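import Groth.Agent.Lib.Helper78.AlgSpLocPGen
import Mathlib.AlgebraicGeometry.Morphisms.LocalFlatDescent
import Mathlib.RingTheory.Smooth.NoetherianDescent

/-!
# `LocallyOfFiniteType` is etale local on the source-and-target (helper78)

`core_pattern` is the general descent pattern (also used for finite presentation);
`etLocalST_loft : EtLocalST @LocallyOfFiniteType`.
-/

set_option autoImplicit false
universe u

open TensorProduct CategoryTheory CategoryTheory.Limits AlgebraicGeometry MorphismProperty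

namespace Groth.Agent.Lib.Helper78.AlgSpLocPLoft

open Groth.Agent.Lib.Helper78.AlgSpLocP Groth.Agent.Lib.Helper78.AlgSpLocPGen

set_option maxHeartbeats 400000 in
/-- **The descent pattern.**  `R → A₀ → A`, `B₀` etale over `A₀`.  If `R → A₀` has `P` and
`B₀ → A ⊗[A₀] B₀` has `P`, then `R → A` has `P` on an open of `Spec A` containing the image of
`Spec (A ⊗[A₀] B₀)`. -/
theorem core_pattern (P : MorphismProperty Scheme.{u}) [P.IsStableUnderComposition]
    [IsZariskiLocalAtSource P]
    [DescendsAlong P (@Surjective ⊓ @Flat ⊓ @QuasiCompact : MorphismProperty Scheme.{u})]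
    {R A₀ A B₀ : Type u} [CommRing R] [CommRing A₀] [CommRing A] [CommRing B₀] [Algebra R A₀]
    [Algebra R A] [Algebra A₀ A] [IsScalarTower R A₀ A] [Algebra A₀ B₀] [Algebra.Etale A₀ B₀]
    (hA₀ : P (Spec.map (CommRingCat.ofHom (algebraMap R A₀))))
    (hpY : P (Spec.map (CommRingCat.ofHom
      (Algebra.TensorProduct.includeRight.toRingHom : B₀ →+* A ⊗[A₀] B₀)))) :
    ∃ V' : (Spec (CommRingCat.of A)).Opens,
      (∀ t : ↥(Spec (CommRingCat.of (A ⊗[A₀] B₀))),
        (Spec.map (CommRingCat.ofHom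
          (Algebra.TensorProduct.includeLeftRingHom : A →+* A ⊗[A₀] B₀))) t ∈ V') ∧
      P (V'.ι ≫ Spec.map (CommRingCat.ofHom (algebraMap R A))) := by
  -- the ring maps
  let iA : A₀ →+* A := algebraMap A₀ A
  let iB₀ : A₀ →+* B₀ := algebraMap A₀ B₀
  let inl : A →+* A ⊗[A₀] B₀ := Algebra.TensorProduct.includeLeftRingHom
  let inr : B₀ →+* A ⊗[A₀] B₀ := Algebra.TensorProduct.includeRight.toRingHom
  -- schemes
  let g : Spec (.of A) ⟶ Spec (.of A₀) := Spec.map (CommRingCat.ofHom iA)
  let π : Spec (.of B₀) ⟶ Spec (.of A₀) := Spec.map (CommRingCat.ofHom iB₀)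
  let pX : Spec (.of (A ⊗[A₀] B₀)) ⟶ Spec (.of A) := Spec.map (CommRingCat.ofHom inl)
  let pY : Spec (.of (A ⊗[A₀] B₀)) ⟶ Spec (.of B₀) := Spec.map (CommRingCat.ofHom inr)
  have sq : IsPullback pX pY g π :=
    isPullback_SpecMap_of_isPushout _ _ _ _ (CommRingCat.isPushout_tensorProduct A₀ A B₀)
  have hπ : Etale π := by
    rw [HasRingHomProperty.Spec_iff (P := @Etale)]
    exact RingHom.etale_algebraMap.2 inferInstance
  -- the open image of `π`
  let U₀ : (Spec (.of A₀)).Opens := ⟨Set.range π.base, π.isOpenMap.isOpen_range⟩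
  have hπU : Set.range π.base ⊆ (U₀.ι).opensRange := by
    intro x hx
    rw [Scheme.Opens.opensRange_ι]
    exact hx
  let π' : Spec (.of B₀) ⟶ U₀.toScheme := IsOpenImmersion.lift U₀.ι π hπU
  have hπ' : π' ≫ U₀.ι = π := IsOpenImmersion.lift_fac _ _ _
  have hπ's : Surjective π' := ⟨fun ⟨x, y, hy⟩ ↦
    ⟨y, by apply U₀.ι.injective; rw [← Scheme.Hom.comp_apply, hπ']; exact hy⟩⟩
  have hπ'f : Flat π' := by
    have : Flat (π' ≫ U₀.ι) := by rw [hπ']; infer_instance
    exact (instHasOfPostcompPropertySchemeIsOpenImmersionOfIsStableUnderBaseChange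
      @Flat).of_postcomp π' U₀.ι inferInstance this
  have hπ'qc : QuasiCompact π' := by
    have : QuasiCompact (π' ≫ U₀.ι) := by rw [hπ']; infer_instance
    exact MorphismProperty.of_postcomp (W := @QuasiCompact) (W' := @QuasiSeparated) π' U₀.ι
      inferInstance this
  -- the preimage of `U₀` in `Spec A`
  let V' : (Spec (.of A)).Opens := g ⁻¹ᵁ U₀
  have hpXV : Set.range pX.base ⊆ (V'.ι).opensRange := by
    rintro _ ⟨y, rfl⟩
    rw [Scheme.Opens.opensRange_ι]
    change g (pX y) ∈ Set.range π.base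
    rw [← Scheme.Hom.comp_apply, sq.w, Scheme.Hom.comp_apply]
    exact ⟨_, rfl⟩
  let pX' : Spec (.of (A ⊗[A₀] B₀)) ⟶ V'.toScheme := IsOpenImmersion.lift V'.ι pX hpXV
  have hpX' : pX' ≫ V'.ι = pX := IsOpenImmersion.lift_fac _ _ _
  have sq' : IsPullback pX' pY (g ∣_ U₀) π' := by
    refine IsPullback.of_right (h₁₂ := V'.ι) (h₂₂ := U₀.ι) (v₁₃ := g) ?_ ?_
      (isPullback_morphismRestrict g U₀).flip
    · rw [hpX', hπ']; exact sq
    · rw [← cancel_mono U₀.ι, Category.assoc, Category.assoc, hπ', morphismRestrict_ι,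
        ← Category.assoc, hpX']
      exact sq.w
  have hgU : P (g ∣_ U₀) :=
    MorphismProperty.of_isPullback_of_descendsAlong (P := P)
      (Q := @Surjective ⊓ @Flat ⊓ @QuasiCompact) sq'.flip ⟨⟨hπ's, hπ'f⟩, hπ'qc⟩ hpY
  refine ⟨V', ?_, ?_⟩
  · intro t
    have := hpXV ⟨t, rfl⟩
    rwa [Scheme.Opens.opensRange_ι] at this
  · have h2 : Spec.map (CommRingCat.ofHom (algebraMap R A)) =
        g ≫ Spec.map (CommRingCat.ofHom (algebraMap R A₀)) := by
      rw [← Spec.map_comp, ← CommRingCat.ofHom_comp, ← IsScalarTower.algebraMap_eq]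
    have h3 : V'.ι ≫ g = (g ∣_ U₀) ≫ U₀.ι := (morphismRestrict_ι g U₀).symm
    rw [h2, ← Category.assoc, h3, Category.assoc]
    exact P.comp_mem _ _ hgU (IsZariskiLocalAtSource.comp hA₀ _)

set_option backward.isDefEq.respectTransparency false in
theorem loft_src : IsZariskiLocalAtSource (@LocallyOfFiniteType.{u}) := inferInstance

set_option backward.isDefEq.respectTransparency false in
theorem loft_tgt : IsZariskiLocalAtTarget (@LocallyOfFiniteType.{u}) := inferInstance

theorem loft_respectsRight :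
    MorphismProperty.RespectsRight (@LocallyOfFiniteType.{u}) @IsOpenImmersion where
  postcomp i hi f hf := by
    have : IsOpenImmersion i := hi
    have : LocallyOfFiniteType f := hf
    infer_instance

attribute [local instance] loft_src loft_tgt loft_respectsRight

set_option maxHeartbeats 400000 in
/-- the ring-level core for `LocallyOfFiniteType`. -/
theorem ringCore_loft : RingCore (@LocallyOfFiniteType : MorphismProperty Scheme.{u}) := by
  intro R A B _ _ _ _ _ _ H q
  have hft : ((algebraMap A B).comp (algebraMap R A)).FiniteType := by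
    rw [← Spec.map_comp, ← CommRingCat.ofHom_comp,
      HasRingHomProperty.Spec_iff (P := @LocallyOfFiniteType)] at H
    exact H
  obtain ⟨A₀, B₀, _, _, hfg, hEt, ⟨e₀⟩⟩ := Algebra.Etale.exists_subalgebra_fg R A B
  let inl : A →+* A ⊗[A₀] B₀ := Algebra.TensorProduct.includeLeftRingHom
  let inr : B₀ →+* A ⊗[A₀] B₀ := Algebra.TensorProduct.includeRight.toRingHom
  -- finite type of `inr`
  have hinr : inr.FiniteType := by
    have h1 : (inl.comp (algebraMap R A)).FiniteType := by
      have : inl.comp (algebraMap R A) = (e₀ : B →+* A ⊗[A₀] B₀).comp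
          ((algebraMap A B).comp (algebraMap R A)) := by
        ext r
        simp [inl]
      rw [this]
      exact RingHom.FiniteType.comp (RingHom.FiniteType.of_surjective _ e₀.surjective) hft
    have h2 : inl.comp (algebraMap R A) = inr.comp ((algebraMap A₀ B₀).comp (algebraMap R A₀)) := by
      ext r
      simp only [RingHom.comp_apply, inl, inr]
      change algebraMap R A r ⊗ₜ[A₀] (1 : B₀) = (1 : A) ⊗ₜ[A₀] algebraMap A₀ B₀ (algebraMap R A₀ r)
      rw [← Algebra.TensorProduct.tmul_one_eq_one_tmul]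
      rfl
    rw [h2] at h1
    exact RingHom.FiniteType.of_comp_finiteType h1
  have hpY : LocallyOfFiniteType (Spec.map (CommRingCat.ofHom inr)) := by
    rw [HasRingHomProperty.Spec_iff (P := @LocallyOfFiniteType)]
    exact hinr
  have hA₀ : LocallyOfFiniteType (Spec.map (CommRingCat.ofHom (algebraMap R A₀))) := by
    rw [HasRingHomProperty.Spec_iff (P := @LocallyOfFiniteType)]
    have : Algebra.FiniteType R A₀ := (Subalgebra.fg_iff_finiteType A₀).1 hfg
    exact RingHom.finiteType_algebraMap.2 this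
  obtain ⟨V', hV'1, hV'2⟩ := core_pattern (@LocallyOfFiniteType) (R := R) (A₀ := A₀) (A := A)
    (B₀ := B₀) hA₀ hpY
  refine ⟨V', ?_, hV'2⟩
  let qT : ↥(Spec (.of (A ⊗[A₀] B₀))) :=
    (Spec.map (CommRingCat.ofHom (e₀.symm : A ⊗[A₀] B₀ →+* B))) q
  have hm : Spec.map (CommRingCat.ofHom (e₀.symm : A ⊗[A₀] B₀ →+* B)) ≫
      Spec.map (CommRingCat.ofHom inl) = Spec.map (CommRingCat.ofHom (algebraMap A B)) := by
    rw [← Spec.map_comp]
    congr 1
    ext a
    change e₀.symm (a ⊗ₜ[A₀] (1 : B₀)) = algebraMap A B a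
    have : a ⊗ₜ[A₀] (1 : B₀) = algebraMap A (A ⊗[A₀] B₀) a := rfl
    rw [this, e₀.symm.commutes]
  have h1 : (Spec.map (CommRingCat.ofHom inl)) qT =
      (Spec.map (CommRingCat.ofHom (algebraMap A B))) q := by
    rw [← hm, Scheme.Hom.comp_apply]
  rw [← h1]
  exact hV'1 qT

/-- `LocallyOfFiniteType` descends along etale surjections on the source. -/
theorem loft_descend {A B C : Scheme.{u}} (e : A ⟶ B) (h : B ⟶ C) (he : Etale e)
    (hs : Surjective e) (H : LocallyOfFiniteType (e ≫ h)) : LocallyOfFiniteType h :=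
  descend_of_ringCore ringCore_loft e h H

/-- `LocallyOfFiniteType` is etale local on the source-and-target. -/
theorem etLocalST_loft : EtLocalST (@LocallyOfFiniteType : MorphismProperty Scheme.{u}) :=
  EtLocalST.mk' _ (fun e he => by have : Etale e := he; infer_instance)
    (fun e he => by have : IsOpenImmersion e := he; infer_instance)
    (fun e h he hs H => loft_descend e h he hs H)

end Groth.Agent.Lib.Helper78.AlgSpLocPLoft
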