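import Groth.Agent.Lib.Helper78.AlgSpBasic
import Groth.Prelude.Def_AlgSp3
import Mathlib.AlgebraicGeometry.Morphisms.FormallyUnramified
import Mathlib.AlgebraicGeometry.Morphisms.Flat

/-!
# Properties of morphisms of sheaves checked on etale charts (`AlgSp.LocP`): one chart suffices (helper78)

`EtLocalST P` packages what is needed of a property `P` of morphisms of schemes for `AlgSp.LocP P` to be
testable on one chart diagram with surjective etale source chart (`locP_of_chart`).
-/

set_option autoImplicit false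
universe u

namespace Groth.Agent.Lib.Helper78.AlgSpLocP

open CategoryTheory CategoryTheory.Limits AlgebraicGeometry AlgSp

variable {S : Scheme.{u}}

/-- `P` is etale local on the source-and-target (in the form used for chart transfer). -/
structure EtLocalST (P : MorphismProperty Scheme.{u}) : Prop where
  precomp : ∀ {A B C : Scheme.{u}} (e : A ⟶ B) (h : B ⟶ C), Etale e → P h → P (e ≫ h)
  postcomp : ∀ {A B C : Scheme.{u}} (h : A ⟶ B) (e : B ⟶ C), P h → Etale e → P (h ≫ e)
  cancel : ∀ {A B C : Scheme.{u}} (g : A ⟶ B) (e : B ⟶ C), Etale e → P (g ≫ e) → P g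
  descend : ∀ {A B C : Scheme.{u}} (e : A ⟶ B) (h : B ⟶ C), Etale e → Surjective e → P (e ≫ h) → P h

/-- a convenient constructor: `P` multiplicative, stable under base change, containing etale
morphisms, and descending along etale surjections on the source. -/
theorem EtLocalST.mk' (P : MorphismProperty Scheme.{u}) [P.IsMultiplicative]
    [P.IsStableUnderBaseChange] (hEt : ∀ {A B : Scheme.{u}} (e : A ⟶ B), Etale e → P e)
    (hOI : ∀ {A B : Scheme.{u}} (e : A ⟶ B), IsOpenImmersion e → P e)
    (hdesc : ∀ {A B C : Scheme.{u}} (e : A ⟶ B) (h : B ⟶ C), Etale e → Surjective e →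
      P (e ≫ h) → P h) : EtLocalST P where
  precomp e h he hh := P.comp_mem _ _ (hEt e he) hh
  postcomp h e hh he := P.comp_mem _ _ hh (hEt e he)
  cancel g e he hge := by
    have : P.HasOfPostcompProperty @Etale := by
      rw [MorphismProperty.hasOfPostcompProperty_iff_le_diagonal]
      intro A B e he
      have : Etale e := he
      exact hOI _ inferInstance
    exact MorphismProperty.of_postcomp (W := P) (W' := @Etale) g e he hge
  descend := hdesc

/-- **Chart transfer.**  Let `(a, b, h)` and `(a', b', h')` be two chart diagrams of `f : X ⟶ Y`, with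
`a` surjective.  If `P` is etale local on the source-and-target and `P h`, then `P h'`. -/
theorem transfer {P : MorphismProperty Scheme.{u}} (hP : EtLocalST P) {X Y : Sp S} (f : X ⟶ Y)
    {U V U' V' : Over S} (a : (yon S).obj U ⟶ X) (b : (yon S).obj V ⟶ Y) (h : U ⟶ V)
    (ha : RepWith @Etale a) (has : RepWith @Surjective a) (hb : RepWith @Etale b)
    (comm : a ≫ f = (yon S).map h ≫ b) (hh : P h.left)
    (a' : (yon S).obj U' ⟶ X) (b' : (yon S).obj V' ⟶ Y) (h' : U' ⟶ V')
    (ha' : RepWith @Etale a') (hb' : RepWith @Etale b')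
    (comm' : a' ≫ f = (yon S).map h' ≫ b') : P h'.left := by
  -- `U'' = U ×_X U'`
  have sqU := ha.rep.isPullback' a'
  set p₁ : ha.rep.pullback a' ⟶ U := ha.rep.fst' a' with hp₁
  set p₂ : ha.rep.pullback a' ⟶ U' := ha.rep.snd a' with hp₂
  have hp₂e : Etale p₂.left := ha.property _ _ _ sqU
  have hp₂s : Surjective p₂.left := has.property _ _ _ sqU
  have hp₁e : Etale p₁.left := ha'.property _ _ _ sqU.flip
  -- `V'' = V ×_Y V'`
  have sqV := hb.rep.isPullback' b'
  set q₁ : hb.rep.pullback b' ⟶ V := hb.rep.fst' b' with hq₁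
  set q₂ : hb.rep.pullback b' ⟶ V' := hb.rep.snd b' with hq₂
  have hq₂e : Etale q₂.left := hb.property _ _ _ sqV
  have hq₁e : Etale q₁.left := hb'.property _ _ _ sqV.flip
  -- the induced map `h'' : U'' ⟶ V''`
  have w : (yon S).map (p₁ ≫ h) ≫ b = (yon S).map (p₂ ≫ h') ≫ b' := by
    rw [Functor.map_comp, Functor.map_comp, Category.assoc, Category.assoc, ← comm, ← comm',
      ← Category.assoc, ← Category.assoc, sqU.w]
  obtain ⟨h'', hh''⟩ := (yon S).map_surjective (sqV.lift _ _ w)
  have e₁ : h'' ≫ q₁ = p₁ ≫ h := (yon S).map_injective (by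
    rw [Functor.map_comp, hh'']; exact sqV.lift_fst _ _ _)
  have e₂ : h'' ≫ q₂ = p₂ ≫ h' := (yon S).map_injective (by
    rw [Functor.map_comp, hh'']; exact sqV.lift_snd _ _ _)
  have e₁' : h''.left ≫ q₁.left = p₁.left ≫ h.left := congrArg CommaMorphism.left e₁
  have e₂' : h''.left ≫ q₂.left = p₂.left ≫ h'.left := congrArg CommaMorphism.left e₂
  -- the chase
  have s1 : P (p₁.left ≫ h.left) := hP.precomp _ _ hp₁e hh
  have s2 : P h''.left := hP.cancel _ _ hq₁e (e₁' ▸ s1)
  have s3 : P (h''.left ≫ q₂.left) := hP.postcomp _ _ s2 hq₂e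
  exact hP.descend _ _ hp₂e hp₂s (e₂' ▸ s3)

/-- **One chart suffices.** -/
theorem locP_of_chart {P : MorphismProperty Scheme.{u}} (hP : EtLocalST P) {X Y : Sp S} (f : X ⟶ Y)
    {U V : Over S} (a : (yon S).obj U ⟶ X) (b : (yon S).obj V ⟶ Y) (h : U ⟶ V)
    (ha : RepWith @Etale a) (has : RepWith @Surjective a) (hb : RepWith @Etale b)
    (comm : a ≫ f = (yon S).map h ≫ b) (hh : P h.left) : LocP P f :=
  fun _ _ a' b' h' ha' hb' comm' =>
    transfer hP f a b h ha has hb comm hh a' b' h' ha' hb' comm'

end Groth.Agent.Lib.Helper78.AlgSpLocP
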