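import Groth.Agent.Lib.Helper78.AlgSpLocP
import Mathlib.RingTheory.Flat.FaithfullyFlat.Algebra
import Mathlib.AlgebraicGeometry.Morphisms.Flat
import Mathlib.AlgebraicGeometry.Morphisms.Etale

/-!
# Flatness is etale local on the source-and-target (helper78)
-/

set_option autoImplicit false
universe u

namespace Groth.Agent.Lib.Helper78.AlgSpLocPFlat

open TensorProduct CategoryTheory AlgebraicGeometry AlgSp
open Groth.Agent.Lib.Helper78.AlgSpLocP

/-- if `A → B → C` with `C` faithfully flat over `B` and flat over `A`, then `B` is flat over `A`. -/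
theorem flat_of_faithfullyFlat_of_flat (A B C : Type u) [CommRing A] [CommRing B] [CommRing C]
    [Algebra A B] [Algebra B C] [Algebra A C] [IsScalarTower A B C]
    [Module.FaithfullyFlat B C] [Module.Flat A C] : Module.Flat A B := by
  rw [Module.Flat.iff_lTensor_preserves_injective_linearMap]
  intro N P _ _ _ _ f hf
  have h1 : Function.Injective (LinearMap.lTensor C f) :=
    Module.Flat.lTensor_preserves_injective_linearMap f hf
  have h2 : Function.Injective (LinearMap.lTensor C (f.baseChange B)) := by
    let e₁ := TensorProduct.AlgebraTensorModule.cancelBaseChange A B B C N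
    let e₂ := TensorProduct.AlgebraTensorModule.cancelBaseChange A B B C P
    have hcomm : ∀ x, e₂ (LinearMap.lTensor C (f.baseChange B) x) = LinearMap.lTensor C f (e₁ x) := by
      intro x
      induction x using TensorProduct.induction_on with
      | zero => simp
      | add x y hx hy => simp only [map_add, hx, hy]
      | tmul c y =>
        induction y using TensorProduct.induction_on with
        | zero => simp
        | add x y hx hy => simp only [map_add, tmul_add, hx, hy]
        | tmul b n => simp [e₁, e₂]
    intro x y hxy
    apply e₁.injective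
    apply h1
    rw [← hcomm, ← hcomm, hxy]
  have h3 := (Module.FaithfullyFlat.lTensor_injective_iff_injective B C (f.baseChange B)).1 h2
  intro x y hxy
  exact h3 hxy

theorem ringHom_flat_of_comp {A B C : Type u} [CommRing A] [CommRing B] [CommRing C]
    [IsLocalRing B] [IsLocalRing C] (f : A →+* B) (g : B →+* C) [IsLocalHom g] (hg : g.Flat)
    (hgf : (g.comp f).Flat) : f.Flat := by
  let _ := f.toAlgebra
  let _ := g.toAlgebra
  let _ := (g.comp f).toAlgebra
  have : IsScalarTower A B C := IsScalarTower.of_algebraMap_eq' rfl
  have : Module.Flat B C := hg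
  have : Module.Flat A C := hgf
  have : IsLocalHom (algebraMap B C) := ‹IsLocalHom g›
  have : Module.FaithfullyFlat B C := Module.FaithfullyFlat.of_flat_of_isLocalHom
  exact flat_of_faithfullyFlat_of_flat A B C

/-- pointwise descent of flatness along a flat morphism on the source -/
theorem flat_stalkMap_of_comp {A B C : Scheme.{u}} (e : A ⟶ B) (h : B ⟶ C) [Flat e] (x' : A)
    (H : ((e ≫ h).stalkMap x').hom.Flat) : (h.stalkMap (e x')).hom.Flat := by
  have h2 : (e.stalkMap x').hom.Flat := Flat.stalkMap e x'
  rw [Scheme.Hom.stalkMap_comp] at H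
  exact ringHom_flat_of_comp _ _ h2 H

/-- descent of flatness along a flat surjective morphism on the source -/
theorem flat_of_flat_comp_of_surjective {A B C : Scheme.{u}} (e : A ⟶ B) (h : B ⟶ C) [Flat e]
    [Surjective e] (H : Flat (e ≫ h)) : Flat h := by
  rw [Flat.iff_flat_stalkMap]
  intro x
  obtain ⟨x', rfl⟩ := e.surjective x
  exact flat_stalkMap_of_comp e h x' (Flat.stalkMap _ x')

/-- descent of flatness along a jointly surjective family of flat morphisms on the source -/
theorem flat_of_flat_comp_of_jointly_surjective {ι : Type*} {B C : Scheme.{u}} (A : ι → Scheme.{u})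
    (e : ∀ i, A i ⟶ B) (h : B ⟶ C) (he : ∀ i, Flat (e i))
    (hs : ∀ x : B, ∃ i, x ∈ Set.range (e i)) (H : ∀ i, Flat (e i ≫ h)) : Flat h := by
  rw [Flat.iff_flat_stalkMap]
  intro x
  obtain ⟨i, x', rfl⟩ := hs x
  have := he i
  have := H i
  exact flat_stalkMap_of_comp (e i) h x' (Flat.stalkMap (e i ≫ h) x')

/-- flatness is etale local on the source-and-target -/
theorem etLocalST_flat : EtLocalST (@Flat : MorphismProperty Scheme.{u}) :=
  EtLocalST.mk' _ (fun e he => by have : Etale e := he; exact inferInstanceAs (Flat e))
    (fun e he => by have : IsOpenImmersion e := he; exact inferInstanceAs (Flat e))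
    (fun e h he hs H => by
      have : Etale e := he
      have : Surjective e := hs
      exact flat_of_flat_comp_of_surjective e h H)

end Groth.Agent.Lib.Helper78.AlgSpLocPFlat
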