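import Groth.Agent.Lib.Helper78.AlgSpReduced
import Groth.Agent.Lib.Helper78.AlgSpLocPFlat
import Groth.Agent.Lib.Helper30.AlgSpMor
import Groth.Prelude.Def_AlgSpCov

/-!
# A quasi-compact flat surjective morphism of algebraic spaces is an fpqc covering (helper78)
-/

set_option autoImplicit false
universe u

open CategoryTheory CategoryTheory.Limits AlgebraicGeometry MorphismProperty

namespace Groth.Agent.Lib.Helper78.AlgSpFpqcSingle

open AlgSp Groth.Agent.Lib.Helper78.AlgSpLocP Groth.Agent.Lib.Helper78.AlgSpFibre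
  Groth.Agent.Lib.Helper78.AlgSpLocPFlat

variable {S : Scheme.{u}}

/-- surjectivity on points is stable under base change. -/
theorem isSurjectiveMor_of_isPullback {X Y X' Y' : Sp S} {f : X ⟶ Y} {g : Y' ⟶ Y}
    {fst : X' ⟶ X} {f' : X' ⟶ Y'} (sq : IsPullback fst f' f g) (hs : IsSurjectiveMor f) :
    IsSurjectiveMor f' := by
  intro y'
  obtain ⟨x, hx⟩ := hs (Points.map g y')
  obtain ⟨w, -, hw⟩ := Groth.Agent.Lib.Helper52.exists_point_of_isPullback sq x y' hx
  exact ⟨w, hw⟩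

/-- a quasi-compact flat surjective morphism of algebraic spaces is an fpqc covering. -/
theorem isFpqcCover_single {X Y : Sp S} (hX : IsAlgSpace X) (hY : IsAlgSpace Y) (f : X ⟶ Y)
    (hqc : IsQuasiCompactMor f) (hflat : LocP @Flat f) (hsurj : IsSurjectiveMor f) :
    IsFpqcCover (fun _ : PUnit.{u + 1} => X) (fun _ => f) := by
  refine ⟨fun _ => hflat, fun Z hZ h => ?_⟩
  have : IsAffine Z.left := hZ
  have hZq := Groth.Agent.Lib.Helper30.isQuasiCompactSp_yon_obj Z
  have sq := IsPullback.of_hasPullback f h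
  obtain ⟨U, p, hp, hps, hUc⟩ := hqc (IsAlgSpace.yon_obj Z) hZq h _ _ sq
  have : CompactSpace U.left := hUc
  have hsndflat : LocP @Flat (pullback.snd f h) :=
    locP_of_isPullback etLocalST_flat sq (repAll_of_isAlgSpace hY) hX.atlas hY.atlas hflat
  have hsndsurj : IsSurjectiveMor (pullback.snd f h) := isSurjectiveMor_of_isPullback sq hsurj
  let 𝒰 := U.left.affineCover.finiteSubcover
  obtain ⟨m, ⟨e⟩⟩ := Finite.exists_equiv_fin 𝒰.I₀
  let W : Fin m → Over S := fun j => Over.mk (𝒰.f (e.symm j) ≫ U.hom)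
  let w : ∀ j, W j ⟶ U := fun j => Over.homMk (𝒰.f (e.symm j)) rfl
  let c : ∀ j, W j ⟶ Z := fun j => (yon S).preimage ((yon S).map (w j) ≫ p ≫ pullback.snd f h)
  have hc : ∀ j, (yon S).map (c j) = (yon S).map (w j) ≫ p ≫ pullback.snd f h :=
    fun j => (yon S).map_preimage _
  have hwe : ∀ j, RepWith @Etale ((yon S).map (w j) ≫ p) := fun j => by
    refine (RepWith (S := S) @Etale).comp_mem _ _ ?_ hp
    exact (repWith_yon_map_iff _ _).2 (inferInstanceAs (Etale (𝒰.f (e.symm j))))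
  refine ⟨m, W, c, fun j => ?_, fun j => ?_, fun z => ?_, fun j => ?_⟩
  · exact inferInstanceAs (IsAffine (𝒰.X (e.symm j)))
  · refine hsndflat ((yon S).map (w j) ≫ p) (𝟙 _) (c j) (hwe j) (repWith_id _ _) ?_
    rw [Category.comp_id, hc, Category.assoc]
  · obtain ⟨ζ, hζ⟩ := hsndsurj (Points.ofScheme Z z)
    obtain ⟨u, hu⟩ := Groth.Agent.Lib.Helper51.surjective_ofPt_of_repWith_surjective p hps ζ
    obtain ⟨u', hu'⟩ := 𝒰.covers u
    refine ⟨e (𝒰.idx u), ?_⟩
    have hidx : e.symm (e (𝒰.idx u)) = 𝒰.idx u := e.symm_apply_apply _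
    obtain ⟨u'', hu''⟩ : ∃ u'' : (W (e (𝒰.idx u))).left, (w (e (𝒰.idx u))).left u'' = u := by
      change ∃ u'' : 𝒰.X (e.symm (e (𝒰.idx u))), 𝒰.f (e.symm (e (𝒰.idx u))) u'' = u
      rw [hidx]
      exact ⟨u', hu'⟩
    refine ⟨u'', ?_⟩
    apply Groth.Agent.Lib.Helper51.ofScheme_injective Z
    have h1 := Points.map_yon_map_apply (c (e (𝒰.idx u))) u''
    change Points.map ((yon S).map (c (e (𝒰.idx u)))) (Points.ofScheme _ u'') =
      Points.ofScheme Z ((c (e (𝒰.idx u))).left u'') at h1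
    rw [← h1, hc, ← Points.ofPt_eq_map_ofScheme, ← Category.assoc,
      ← Points.map_ofPt, Groth.Agent.Lib.Helper52.ofPt_yon_map_comp, hu'', hu, hζ]
  · refine ⟨PUnit.unit, (yon S).map (w j) ≫ p ≫ pullback.fst f h, ?_⟩
    rw [hc, Category.assoc, Category.assoc, Category.assoc, Category.assoc, sq.w]

end Groth.Agent.Lib.Helper78.AlgSpFpqcSingle
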