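import Mathlib.AlgebraicGeometry.Morphisms.LocalFlatDescent

/-!
# fpqc descent along a finite jointly surjective flat family of affines (helper78)
-/

set_option autoImplicit false
universe u

open CategoryTheory CategoryTheory.Limits AlgebraicGeometry MorphismProperty

namespace Groth.Agent.Lib.Helper78.FpqcFamily

set_option backward.isDefEq.respectTransparency false in
/-- fpqc descent along a finite jointly surjective family of flat morphisms from affine schemes
to an affine scheme. -/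
theorem descent_finite_family (P : MorphismProperty Scheme.{u}) [IsZariskiLocalAtTarget P]
    [P.DescendsAlong (@Surjective ⊓ @Flat ⊓ @QuasiCompact : MorphismProperty Scheme.{u})]
    {U V : Scheme.{u}} (h : U ⟶ V) [IsAffine V] {m : ℕ} (W : Fin m → Scheme.{u})
    (hW : ∀ j, IsAffine (W j)) (c : ∀ j, W j ⟶ V) (hc : ∀ j, Flat (c j))
    (hsurj : ∀ v : V, ∃ j, v ∈ Set.range (c j))
    (Uj : Fin m → Scheme.{u}) (e : ∀ j, Uj j ⟶ U) (r : ∀ j, Uj j ⟶ W j)
    (sq : ∀ j, IsPullback (e j) (r j) h (c j)) (H : ∀ j, P (r j)) : P h := by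
  let c' : ∐ W ⟶ V := Sigma.desc c
  have hc'f : Flat c' := IsZariskiLocalAtSource.sigmaDesc (P := @Flat) hc
  have hc's : Surjective c' := ⟨fun v => by
    obtain ⟨j, w, hw⟩ := hsurj v
    refine ⟨Sigma.ι W j w, ?_⟩
    rw [← Scheme.Hom.comp_apply, Sigma.ι_desc]
    exact hw⟩
  have hc'q : QuasiCompact c' := inferInstance
  have hP : P (pullback.snd h c') := by
    refine IsZariskiLocalAtTarget.of_openCover (P := P) (sigmaOpenCover W) fun j => ?_
    have s1 : IsPullback (pullback.fst (pullback.snd h c') (Sigma.ι W j) ≫ pullback.fst h c')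
        (pullback.snd (pullback.snd h c') (Sigma.ι W j)) h (c j) := by
      have := (IsPullback.of_hasPullback (pullback.snd h c') (Sigma.ι W j)).paste_horiz
        (IsPullback.of_hasPullback h c')
      have hcj : Sigma.ι W j ≫ c' = c j := Sigma.ι_desc _ _
      rw [hcj] at this
      exact this
    have : r j = ((sq j).isoIsPullback _ _ s1).hom ≫
        pullback.snd (pullback.snd h c') (Sigma.ι W j) := by
      rw [IsPullback.isoIsPullback_hom_snd]
    change P (pullback.snd (pullback.snd h c') (Sigma.ι W j))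
    rw [← P.cancel_left_of_respectsIso ((sq j).isoIsPullback _ _ s1).hom, ← this]
    exact H j
  exact MorphismProperty.of_isPullback_of_descendsAlong (P := P)
    (Q := @Surjective ⊓ @Flat ⊓ @QuasiCompact) (IsPullback.of_hasPullback h c').flip
    ⟨⟨hc's, hc'f⟩, hc'q⟩ hP

/-- the version over an affine open `V₀` of the target. -/
theorem descent_finite_family_restrict (P : MorphismProperty Scheme.{u}) [IsZariskiLocalAtTarget P]
    [P.DescendsAlong (@Surjective ⊓ @Flat ⊓ @QuasiCompact : MorphismProperty Scheme.{u})]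
    {U V : Scheme.{u}} (h : U ⟶ V) (V₀ : V.Opens) (hV₀ : IsAffineOpen V₀) {m : ℕ}
    (W : Fin m → Scheme.{u})
    (hW : ∀ j, IsAffine (W j)) (c : ∀ j, W j ⟶ V₀.toScheme) (hc : ∀ j, Flat (c j))
    (hsurj : ∀ v : V₀.toScheme, ∃ j, v ∈ Set.range (c j))
    (Uj : Fin m → Scheme.{u}) (e : ∀ j, Uj j ⟶ U) (r : ∀ j, Uj j ⟶ W j)
    (sq : ∀ j, IsPullback (e j) (r j) h (c j ≫ V₀.ι)) (H : ∀ j, P (r j)) : P (h ∣_ V₀) := by
  have : IsAffine V₀.toScheme := hV₀
  have hrange : ∀ j, Set.range (e j).base ⊆ ((h ⁻¹ᵁ V₀).ι).opensRange := by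
    rintro j _ ⟨z, rfl⟩
    rw [Scheme.Opens.opensRange_ι]
    change h (e j z) ∈ V₀
    rw [← Scheme.Hom.comp_apply, (sq j).w, Scheme.Hom.comp_apply, Scheme.Hom.comp_apply]
    exact (c j (r j z)).2
  let e' : ∀ j, Uj j ⟶ (h ⁻¹ᵁ V₀).toScheme := fun j =>
    IsOpenImmersion.lift (h ⁻¹ᵁ V₀).ι (e j) (hrange j)
  have he' : ∀ j, e' j ≫ (h ⁻¹ᵁ V₀).ι = e j := fun j => IsOpenImmersion.lift_fac _ _ _
  refine descent_finite_family P (h ∣_ V₀) W hW c hc hsurj Uj e' r (fun j => ?_) H
  refine IsPullback.of_right (h₁₂ := (h ⁻¹ᵁ V₀).ι) (h₂₂ := V₀.ι) (v₁₃ := h) ?_ ?_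
    (isPullback_morphismRestrict h V₀).flip
  · rw [he' j]; exact sq j
  · rw [← cancel_mono V₀.ι, Category.assoc, Category.assoc, morphismRestrict_ι, ← Category.assoc,
      he' j]
    exact (sq j).w

end Groth.Agent.Lib.Helper78.FpqcFamily
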