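import Groth.Agent.Lib.Helper78.AlgSpLocP3
import Groth.Agent.Lib.Helper78.FpqcFamily
import Groth.Agent.Lib.Helper51.AlgSpCharts
import Groth.Prelude.Def_AlgSpCov

/-!
# `LocP P` is fpqc local on the base, for `P` etale local on source-and-target with fpqc descent (helper78)
-/

set_option autoImplicit false
universe u
open CategoryTheory CategoryTheory.Limits AlgebraicGeometry
open AlgSp

namespace Groth.Agent.Lib.Helper78.AlgSpLocPFpqc

open Groth.Agent.Lib.Helper52 Groth.Agent.Lib.Helper51 Groth.Agent.Lib.Helper78.AlgSpLocP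
  Groth.Agent.Lib.Helper78.AlgSpFibre Groth.Agent.Lib.Helper78.AlgSpBasic
  Groth.Agent.Lib.Helper78.FpqcFamily

/-- descent of `LocP P` along an fpqc covering of the target, for `P` etale local on the
source-and-target, Zariski local at the target and satisfying fpqc descent. -/
theorem locP_of_fpqc_cover_base {P : MorphismProperty Scheme.{u}} (hP : EtLocalST P)
    [IsZariskiLocalAtTarget P] [P.IsStableUnderBaseChange]
    [P.DescendsAlong (@Surjective ⊓ @Flat ⊓ @QuasiCompact : MorphismProperty Scheme.{u})]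
    {S : Scheme.{u}} {X Y : Sp S} {ι : Type u} (Yi : ι → Sp S)
    (g : ∀ i, Yi i ⟶ Y) (hX : IsAlgSpace X) (hY : IsAlgSpace Y) (hYi : ∀ i, IsAlgSpace (Yi i))
    (hcov : IsFpqcCover Yi g) (f : X ⟶ Y)
    (Xi : ι → Sp S) (p : ∀ i, Xi i ⟶ Yi i) (q : ∀ i, Xi i ⟶ X)
    (hXi : ∀ i, IsAlgSpace (Xi i)) (sq : ∀ i, IsPullback (q i) (p i) f (g i))
    (H : ∀ i, LocP P (p i)) : LocP P f := by
  obtain ⟨U₀, a₀, ha₀, ha₀s⟩ := hX.atlas
  obtain ⟨V, b, hb, hbs⟩ := hY.atlas
  obtain ⟨U, j, h, sq₀, ha, has⟩ := exists_chart_diagram f a₀ ha₀ b hb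
  have has := has ha₀s hbs
  obtain ⟨u₀, hu₀⟩ : ∃ u₀ : (yon S).obj U₀ ⟶ Y, u₀ = a₀ ≫ f := ⟨_, rfl⟩
  rw [← hu₀] at sq₀
  have comm : ((yon S).map j ≫ a₀) ≫ f = (yon S).map h ≫ b := by
    rw [Category.assoc, ← hu₀]; exact sq₀.w.symm
  refine locP_of_chart hP f _ b h ha has hb comm ?_
  refine IsZariskiLocalAtTarget.of_forall_exists_morphismRestrict (P := P) fun y => ?_
  -- an affine neighbourhood of `y`
  obtain ⟨V₀, hV₀, hyV₀, -⟩ := exists_isAffineOpen_mem_and_subset
    (TopologicalSpace.Opens.mem_top y)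
  refine ⟨V₀, hyV₀, ?_⟩
  set ι₀ := opensOverι V V₀ with hι₀
  obtain ⟨m, W, c, hW, hc, hsurj, hl⟩ := hcov.2 (opensOver V V₀) hV₀ ((yon S).map ι₀ ≫ b)
  have key : ∀ jj : Fin m, ∃ (Uj : Over S) (e : Uj ⟶ U) (r : Uj ⟶ W jj),
      IsPullback e.left r.left h.left ((c jj).left ≫ V₀.ι) ∧ P r.left := by
    intro jj
    obtain ⟨i, l, hl⟩ := hl jj
    obtain ⟨cι, hcι⟩ : ∃ cι : W jj ⟶ V, cι = c jj ≫ ι₀ := ⟨_, rfl⟩
    obtain ⟨t, ht⟩ : ∃ t : (yon S).obj (W jj) ⟶ Y, t = (yon S).map cι ≫ b := ⟨_, rfl⟩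
    have hlt : l ≫ g i = t := by
      rw [ht, hcι, Functor.map_comp, Category.assoc]; exact hl
    -- `Z = Xi ×_{Yi} W`
    have sqZ : IsPullback (pullback.fst (p i) l) (pullback.snd (p i) l) (p i) l :=
      IsPullback.of_hasPullback _ _
    have hZP : LocP P (pullback.snd (p i) l) :=
      locP_of_isPullback hP sqZ (repAll_of_isAlgSpace (hYi i)) (hXi i).atlas
        (hYi i).atlas (H i)
    have sqZ' : IsPullback (pullback.fst (p i) l ≫ q i) (pullback.snd (p i) l) f t := by
      rw [← hlt]; exact sqZ.paste_horiz (sq i)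
    -- `U_j = U₀ ×_Y W`
    have htrep : Representable t := repAll_of_isAlgSpace hY t
    have sqj := htrep.isPullback' u₀
    set r : htrep.pullback u₀ ⟶ W jj := htrep.fst' u₀ with hr
    set s : htrep.pullback u₀ ⟶ U₀ := htrep.snd u₀ with hs
    -- `d : U_j ⟶ Z`
    have wd : ((yon S).map s ≫ a₀) ≫ f = (yon S).map r ≫ t := by
      rw [Category.assoc, ← hu₀]; exact sqj.w.symm
    set d := sqZ'.lift _ _ wd with hd
    have hd₁ : d ≫ (pullback.fst (p i) l ≫ q i) = (yon S).map s ≫ a₀ := sqZ'.lift_fst _ _ _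
    have hd₂ : d ≫ pullback.snd (p i) l = (yon S).map r := sqZ'.lift_snd _ _ _
    have sqd : IsPullback d ((yon S).map s) (pullback.fst (p i) l ≫ q i) a₀ := by
      refine IsPullback.of_right ?_ hd₁ (?_ : IsPullback (pullback.snd (p i) l)
        (pullback.fst (p i) l ≫ q i) t f)
      · rw [hd₂, ← hu₀]; exact sqj
      · exact sqZ'.flip
    have hde : RepWith @Etale d := MorphismProperty.of_isPullback sqd.flip ha₀
    have hrP : P r.left := by
      refine hZP d (𝟙 _) r hde (repWith_id _ _) ?_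
      rw [hd₂, Category.comp_id]
    -- `e : U_j ⟶ U`
    have we : (yon S).map (r ≫ cι) ≫ b = (yon S).map s ≫ u₀ := by
      rw [Functor.map_comp, Category.assoc, ← ht]; exact sqj.w
    obtain ⟨e, he⟩ := (yon S).map_surjective (sq₀.lift _ _ we)
    have e₁ : e ≫ h = r ≫ cι := (yon S).map_injective (by
      rw [Functor.map_comp, he]; exact sq₀.lift_fst _ _ _)
    have e₂ : e ≫ j = s := (yon S).map_injective (by
      rw [Functor.map_comp, he]; exact sq₀.lift_snd _ _ _)
    have sqe : IsPullback ((yon S).map e) ((yon S).map r) ((yon S).map h) ((yon S).map cι) := by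
      refine IsPullback.of_right ?_ (by rw [← Functor.map_comp, ← Functor.map_comp, e₁]) sq₀.flip
      rw [← Functor.map_comp, e₂, ← ht]
      exact sqj.flip
    have sqe' : IsPullback e r h cι := IsPullback.of_map (yon S) e₁ sqe
    have sqe'' : IsPullback e.left r.left h.left cι.left := sqe'.map (Over.forget S)
    refine ⟨_, e, r, ?_, hrP⟩
    have : cι.left = (c jj).left ≫ V₀.ι := by rw [hcι]; rfl
    rw [← this]
    exact sqe''
  choose Uj e r hsq hr using key
  exact descent_finite_family_restrict P h.left V₀ hV₀ (fun j => (W j).left) hW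
    (fun j => (c j).left) hc hsurj (fun j => (Uj j).left) (fun j => (e j).left)
    (fun j => (r j).left) hsq hr

/-- `LocP P` is fpqc local on the base. -/
theorem isLocalOnBase_fpqc_locP {P : MorphismProperty Scheme.{u}} (hP : EtLocalST P)
    [IsZariskiLocalAtTarget P] [P.IsStableUnderBaseChange]
    [P.DescendsAlong (@Surjective ⊓ @Flat ⊓ @QuasiCompact : MorphismProperty Scheme.{u})]
    (S : Scheme.{u}) : AlgSp.IsLocalOnBase (AlgSp.IsFpqcCover (S := S)) (AlgSp.LocP P) := by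
  intro ι Y Yi g hY hYi hcov X f hX Xi p q hXi sq
  constructor
  · intro hf i
    exact locP_of_isPullback hP (sq i) (repAll_of_isAlgSpace hY) hX.atlas hY.atlas hf
  · intro H
    exact locP_of_fpqc_cover_base hP Yi g hX hY hYi hcov f Xi p q hXi sq H

end Groth.Agent.Lib.Helper78.AlgSpLocPFpqc
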