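import Groth.Agent.Lib.Helper78.AlgSpLocPSeven
import Groth.Agent.Lib.Helper78.AlgSpLocPFpqc
import Mathlib.AlgebraicGeometry.Morphisms.QuasiFinite
import Mathlib.AlgebraicGeometry.Morphisms.LocalFlatDescent

/-!
# fpqc descent of locally quasi-finite morphisms (helper78)
-/

set_option autoImplicit false
universe u
open CategoryTheory CategoryTheory.Limits AlgebraicGeometry MorphismProperty
open AlgSp

namespace Groth.Agent.Lib.Helper78.AlgSpLqfDesc

/-- locally quasi-finite and locally of finite type descends along fpqc morphisms. -/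
instance lqf_descends :
    (@LocallyQuasiFinite ⊓ @LocallyOfFiniteType : MorphismProperty Scheme.{u}).DescendsAlong
      (@Surjective ⊓ @Flat ⊓ @QuasiCompact) := by
  constructor
  intro A X Y Z fst snd f g sq hf hfst
  have hf1 : Surjective f := hf.1.1
  have hlft : LocallyOfFiniteType g :=
    MorphismProperty.of_isPullback_of_descendsAlong (P := @LocallyOfFiniteType) sq hf hfst.2
  refine ⟨?_, hlft⟩
  have hq0 : LocallyQuasiFinite fst := hfst.1
  refine LocallyQuasiFinite.of_fiberToSpecResidueField g fun z => ?_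
  obtain ⟨x, rfl⟩ := f.surjective z
  obtain ⟨m, hm⟩ : ∃ m, IsPullback m (fst.fiberToSpecResidueField x)
      (g.fiberToSpecResidueField (f x)) (Spec.map (f.residueFieldMap x)) :=
    ⟨_, isPullback_fiberToSpecResidueField_of_isPullback sq.flip x⟩
  have hφo : UniversallyOpen (Spec.map (f.residueFieldMap x)) := inferInstance
  have hφs : Surjective (Spec.map (f.residueFieldMap x)) :=
    ⟨fun y => ⟨IsLocalRing.closedPoint _, Subsingleton.elim (α := PrimeSpectrum _) _ _⟩⟩
  have hmo : UniversallyOpen m := MorphismProperty.of_isPullback hm.flip hφo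
  have hms : Surjective m := MorphismProperty.of_isPullback hm.flip hφs
  have hq : LocallyQuasiFinite (fst.fiberToSpecResidueField x) :=
    MorphismProperty.pullback_snd (P := @LocallyQuasiFinite) _ _ hq0
  have hd' : DiscreteTopology (fst.fiber x) := by
    rw [← isDiscrete_univ_iff]
    have := (fst.fiberToSpecResidueField x).isDiscrete_preimage_singleton
      (IsLocalRing.closedPoint _)
    refine this.mono ?_
    intro t _
    exact Subsingleton.elim (α := PrimeSpectrum _) _ _
  have hd : _root_.IsDiscrete (Set.univ : Set (g.fiber (f x))) := by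
    have := m.isOpenMap.isDiscrete_range
    rwa [Set.range_eq_univ.2 m.surjective] at this
  have hlft' : LocallyOfFiniteType (g.fiberToSpecResidueField (f x)) :=
    MorphismProperty.pullback_snd (P := @LocallyOfFiniteType) _ _ hlft
  rw [locallyQuasiFinite_iff_isDiscrete_preimage_singleton]
  intro y
  exact hd.mono (Set.subset_univ _)

/-- locally quasi-finite (and locally of finite type) is fpqc local on the base. -/
theorem isLocalOnBase_fpqc_lqf (S : Scheme.{u}) :
    AlgSp.IsLocalOnBase (AlgSp.IsFpqcCover (S := S))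
      (AlgSp.LocP (@LocallyQuasiFinite ⊓ @LocallyOfFiniteType)) :=
  AlgSpLocPFpqc.isLocalOnBase_fpqc_locP AlgSpLocPLqf.etLocalST_lqf S

/-- conjunction of properties local on the base. -/
theorem isLocalOnBase_and {S : Scheme.{u}} {τ : AlgSp.CovNotion S} {P Q : MorphismProperty (Sp S)}
    (hP : AlgSp.IsLocalOnBase τ P) (hQ : AlgSp.IsLocalOnBase τ Q) :
    AlgSp.IsLocalOnBase τ (fun _ _ f => P f ∧ Q f) := by
  intro ι Y Yi g hY hYi hcov X f hX Xi p q hXi sq
  have h1 := hP Yi g hY hYi hcov f hX Xi p q hXi sq
  have h2 := hQ Yi g hY hYi hcov f hX Xi p q hXi sq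
  constructor
  · intro h i
    exact ⟨h1.1 h.1 i, h2.1 h.2 i⟩
  · intro h
    exact ⟨h1.2 fun i => (h i).1, h2.2 fun i => (h i).2⟩

end Groth.Agent.Lib.Helper78.AlgSpLqfDesc
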