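import Groth.Agent.Lib.Helper78.AlgSpLocPLoft
import Mathlib.AlgebraicGeometry.Morphisms.QuasiFinite
import Mathlib.RingTheory.Unramified.LocalStructure

/-!
# `LocallyQuasiFinite ⊓ LocallyOfFiniteType` is etale local on the source-and-target (helper78)
-/

set_option autoImplicit false
universe u

open CategoryTheory CategoryTheory.Limits AlgebraicGeometry MorphismProperty

namespace Groth.Agent.Lib.Helper78.AlgSpLocPLqf

open Groth.Agent.Lib.Helper78.AlgSpLocP Groth.Agent.Lib.Helper78.AlgSpLocPLoft

/-- discreteness descends along open continuous surjections. -/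
theorem isDiscrete_of_preimage {X Y : Type*} [TopologicalSpace X] [TopologicalSpace Y] (e : X → Y)
    (he : IsOpenMap e) (hs : Function.Surjective e) (s : Set Y) (h : IsDiscrete (e ⁻¹' s)) :
    IsDiscrete s := by
  rw [isDiscrete_iff_forall_mem_exists_isOpen] at h ⊢
  intro y hy
  obtain ⟨x, rfl⟩ := hs y
  obtain ⟨u, hu, hus⟩ := h x hy
  refine ⟨e '' u, he u hu, ?_⟩
  ext z
  constructor
  · rintro ⟨⟨w, hwu, rfl⟩, hz⟩
    have : w ∈ u ∩ e ⁻¹' s := ⟨hwu, hz⟩
    rw [hus] at this
    rw [Set.mem_singleton_iff] at this ⊢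
    rw [this]
  · rintro rfl
    have : x ∈ u ∩ e ⁻¹' s := by rw [hus]; rfl
    exact ⟨⟨x, this.1, rfl⟩, hy⟩

/-- etale morphisms are locally quasi-finite. -/
theorem lqf_of_etale {A B : Scheme.{u}} (e : A ⟶ B) [Etale e] : LocallyQuasiFinite e := by
  rw [HasRingHomProperty.iff_appLE (P := @LocallyQuasiFinite)]
  intro U V hUV
  have h1 : RingHom.Etale (e.appLE U V hUV).hom :=
    HasRingHomProperty.appLE (P := @Etale) e inferInstance U V hUV
  algebraize [(e.appLE U V hUV).hom]
  have : Algebra.Etale Γ(B, U) Γ(A, V) := RingHom.etale_algebraMap.1 h1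
  have : Algebra.QuasiFinite Γ(B, U) Γ(A, V) := inferInstance
  exact RingHom.quasiFinite_algebraMap.2 this

/-- `LocallyQuasiFinite ⊓ LocallyOfFiniteType` descends along etale surjections on the source. -/
theorem lqf_descend {A B C : Scheme.{u}} (e : A ⟶ B) (h : B ⟶ C) (he : Etale e)
    (hs : Surjective e)
    (H : ((@LocallyQuasiFinite : MorphismProperty Scheme.{u}) ⊓ @LocallyOfFiniteType) (e ≫ h)) :
    ((@LocallyQuasiFinite : MorphismProperty Scheme.{u}) ⊓ @LocallyOfFiniteType) h := by
  have hlft : LocallyOfFiniteType h := loft_descend e h he hs H.2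
  refine ⟨?_, hlft⟩
  have h1 : LocallyQuasiFinite (e ≫ h) := H.1
  rw [locallyQuasiFinite_iff_isDiscrete_preimage_singleton]
  intro y
  have h2 : _root_.IsDiscrete ((e ≫ h) ⁻¹' {y}) := (e ≫ h).isDiscrete_preimage_singleton y
  refine isDiscrete_of_preimage e e.isOpenMap e.surjective _ ?_
  convert h2 using 1
  ext z
  simp only [Set.mem_preimage, Set.mem_singleton_iff, Scheme.Hom.comp_apply]

/-- `LocallyQuasiFinite ⊓ LocallyOfFiniteType` is etale local on the source-and-target. -/
theorem etLocalST_lqf :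
    EtLocalST ((@LocallyQuasiFinite : MorphismProperty Scheme.{u}) ⊓ @LocallyOfFiniteType) :=
  EtLocalST.mk' _ (fun e he => by
      have : Etale e := he
      exact ⟨lqf_of_etale e, inferInstance⟩)
    (fun e he => by
      have : IsOpenImmersion e := he
      exact ⟨inferInstance, inferInstance⟩)
    (fun e h he hs H => lqf_descend e h he hs H)

end Groth.Agent.Lib.Helper78.AlgSpLocPLqf
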