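import Groth.Agent.Lib.Helper78.AlgSpLocPGen
import Mathlib.AlgebraicGeometry.Morphisms.FormallyUnramified
import Mathlib.RingTheory.Unramified.Locus
import Mathlib.RingTheory.Etale.Kaehler

/-!
# `FormallyUnramified` is etale local on the source-and-target (helper78)
-/

set_option autoImplicit false
universe u

open TensorProduct CategoryTheory CategoryTheory.Limits AlgebraicGeometry MorphismProperty

namespace Groth.Agent.Lib.Helper78.AlgSpLocPUnram

/-- if `B` is flat over `A` and `B ⊗[A] M = 0`, the support of `M` misses the image of `Spec B`. -/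
theorem notMem_support_of_flat_of_subsingleton_tensor {A B M : Type u} [CommRing A] [CommRing B]
    [Algebra A B] [Module.Flat A B] [AddCommGroup M] [Module A M] [Subsingleton (B ⊗[A] M)]
    (q : PrimeSpectrum B) : PrimeSpectrum.comap (algebraMap A B) q ∉ Module.support A M := by
  intro hp
  obtain ⟨m, hm⟩ := Module.mem_support_iff_exists_annihilator.1 hp
  set I : Ideal A := (Submodule.span A {m}).annihilator with hI
  -- the injection `A ⧸ I → M`
  have hker : LinearMap.ker (LinearMap.toSpanSingleton A M m) = I := by
    ext a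
    simp [hI]
  let φ : (A ⧸ I) →ₗ[A] M := Submodule.liftQ I (LinearMap.toSpanSingleton A M m) hker.ge
  have hφ : Function.Injective φ := by
    rw [← LinearMap.ker_eq_bot]
    exact Submodule.ker_liftQ_eq_bot _ _ _ hker.le
  have h1 : Function.Injective (LinearMap.lTensor B φ) :=
    Module.Flat.lTensor_preserves_injective_linearMap φ hφ
  have hsub : Subsingleton (B ⊗[A] (A ⧸ I)) := h1.subsingleton
  -- the map `B ⊗ A/I → B/q`
  have hIq : ∀ a ∈ I, algebraMap A (B ⧸ q.asIdeal) a = 0 := by
    intro a ha
    have : algebraMap A B a ∈ q.asIdeal := hm ha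
    rw [IsScalarTower.algebraMap_apply A B (B ⧸ q.asIdeal)]
    exact Ideal.Quotient.eq_zero_iff_mem.2 this
  let g : (A ⧸ I) →ₐ[A] (B ⧸ q.asIdeal) :=
    Ideal.Quotient.liftₐ I (Algebra.ofId A (B ⧸ q.asIdeal)) hIq
  let f : B →ₐ[A] (B ⧸ q.asIdeal) := IsScalarTower.toAlgHom A B (B ⧸ q.asIdeal)
  let ψ := Algebra.TensorProduct.productMap f g
  have : ψ 1 = ψ 0 := congrArg ψ (Subsingleton.elim _ _)
  rw [map_one, map_zero] at this
  exact one_ne_zero this

open Groth.Agent.Lib.Helper78.AlgSpLocP Groth.Agent.Lib.Helper78.AlgSpLocPGen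

/-- the ring-level core for `FormallyUnramified`. -/
theorem ringCore_fu : RingCore (@FormallyUnramified : MorphismProperty Scheme.{u}) := by
  intro R A B _ _ _ _ _ _ H q
  have hfu : ((algebraMap A B).comp (algebraMap R A)).FormallyUnramified := by
    rw [← Spec.map_comp, ← CommRingCat.ofHom_comp,
      HasRingHomProperty.Spec_iff (P := @FormallyUnramified)] at H
    exact H
  let _ : Algebra R B := ((algebraMap A B).comp (algebraMap R A)).toAlgebra
  have : IsScalarTower R A B := IsScalarTower.of_algebraMap_eq' rfl
  have hfu' : Algebra.FormallyUnramified R B := hfu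
  have hΩB : Subsingleton (Ω[B⁄R]) := inferInstance
  have hsub : Subsingleton (B ⊗[A] Ω[A⁄R]) :=
    (KaehlerDifferential.tensorKaehlerEquivOfFormallyEtale R A B).toEquiv.subsingleton
  -- the image of `Spec B` lies in the unramified locus
  have hloc : ∀ q' : PrimeSpectrum B,
      PrimeSpectrum.comap (algebraMap A B) q' ∈ Algebra.unramifiedLocus R A := by
    intro q'
    rw [Algebra.unramifiedLocus_eq_compl_support]
    exact notMem_support_of_flat_of_subsingleton_tensor q'
  -- the image is open
  have hπ : Etale (Spec.map (CommRingCat.ofHom (algebraMap A B))) := by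
    rw [HasRingHomProperty.Spec_iff (P := @Etale)]
    exact RingHom.etale_algebraMap.2 inferInstance
  have hU : IsOpen (Set.range (PrimeSpectrum.comap (algebraMap A B))) :=
    (Spec.map (CommRingCat.ofHom (algebraMap A B))).isOpenMap.isOpen_range
  obtain ⟨_, ⟨_, ⟨f, rfl⟩, rfl⟩, hpf, hfU⟩ :=
    PrimeSpectrum.isBasis_basic_opens.exists_subset_of_mem_open
      (show PrimeSpectrum.comap (algebraMap A B) q ∈ Set.range _ from ⟨q, rfl⟩) hU
  have hAf : Algebra.FormallyUnramified R (Localization.Away f) := by
    refine Algebra.basicOpen_subset_unramifiedLocus_iff.1 fun p' hp' => ?_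
    obtain ⟨q', rfl⟩ := hfU hp'
    exact hloc q'
  refine ⟨PrimeSpectrum.basicOpen f, hpf, ?_⟩
  have h1 := basicOpenIsoSpecAway_hom_SpecMap (R := CommRingCat.of A) f
  rw [← h1, Category.assoc,
    MorphismProperty.cancel_left_of_respectsIso (P := @FormallyUnramified),
    ← Spec.map_comp, ← CommRingCat.ofHom_comp,
    HasRingHomProperty.Spec_iff (P := @FormallyUnramified)]
  have : (algebraMap A (Localization.Away f)).comp (algebraMap R A) =
      algebraMap R (Localization.Away f) := (IsScalarTower.algebraMap_eq R A _).symm
  rw [CommRingCat.hom_ofHom, this]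
  exact RingHom.formallyUnramified_algebraMap.2 hAf

theorem fu_respectsRight :
    MorphismProperty.RespectsRight (@FormallyUnramified.{u}) @IsOpenImmersion where
  postcomp i hi f hf := by
    have : IsOpenImmersion i := hi
    have : FormallyUnramified i := inferInstance
    exact MorphismProperty.comp_mem (@FormallyUnramified) f i hf this

/-- `FormallyUnramified` descends along etale surjections on the source. -/
theorem fu_descend {A B C : Scheme.{u}} (e : A ⟶ B) (h : B ⟶ C) (he : Etale e)
    (hs : Surjective e) (H : FormallyUnramified (e ≫ h)) : FormallyUnramified h :=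
  haveI := fu_respectsRight.{u}
  descend_of_ringCore ringCore_fu e h H

/-- `FormallyUnramified` is etale local on the source-and-target. -/
theorem etLocalST_fu : EtLocalST (@FormallyUnramified : MorphismProperty Scheme.{u}) :=
  EtLocalST.mk' _ (fun e he => by have : Etale e := he; infer_instance)
    (fun e he => by have : IsOpenImmersion e := he; infer_instance)
    (fun e h he hs H => fu_descend e h he hs H)

/-- the intersection of two classes etale local on the source-and-target is so. -/
theorem etLocalST_inf {P Q : MorphismProperty Scheme.{u}} (hP : EtLocalST P) (hQ : EtLocalST Q) :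
    EtLocalST (P ⊓ Q) where
  precomp e h he hh := ⟨hP.precomp e h he hh.1, hQ.precomp e h he hh.2⟩
  postcomp h e hh he := ⟨hP.postcomp h e hh.1 he, hQ.postcomp h e hh.2 he⟩
  cancel g e he hge := ⟨hP.cancel g e he hge.1, hQ.cancel g e he hge.2⟩
  descend e h he hs H := ⟨hP.descend e h he hs H.1, hQ.descend e h he hs H.2⟩

end Groth.Agent.Lib.Helper78.AlgSpLocPUnram
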