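import Groth.Agent.Lib.Helper78.AlgSpBasic

/-!
# Fibre products of algebraic spaces are algebraic spaces (helper78)
-/

set_option autoImplicit false
set_option backward.isDefEq.respectTransparency false
universe u

namespace Groth.Agent.Lib.Helper78.AlgSpFibre

open CategoryTheory CategoryTheory.Limits AlgebraicGeometry AlgSp

variable {S : Scheme.{u}}

/-- mono cancellation for representability -/
theorem representable_of_comp_mono {F G : Sp S} {T : Over S} (t : (yon S).obj T ⟶ F)
    (j : F ⟶ G) [Mono j] (h : Representable (t ≫ j)) : Representable t := by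
  have sq : IsPullback (𝟙 ((yon S).obj T)) t (t ≫ j) j :=
    IsPullback.of_horiz_isIso_mono ⟨by simp⟩
  exact MorphismProperty.of_isPullback sq h

section
variable {C : Type*} [Category C]

/-- the pullback square exhibiting `𝟙 X × f` as a base change of `f` -/
lemma isPullback_prod_snd_with_id {A B : C} (f : A ⟶ B) (X : C) [HasBinaryProduct X A]
    [HasBinaryProduct X B] :
    IsPullback prod.snd (prod.map (𝟙 X) f) f prod.snd where
  w := by simp
  isLimit' := ⟨PullbackCone.isLimitAux' _ (fun s ↦ by
    refine ⟨prod.lift (s.snd ≫ prod.fst) s.fst, ?_, ?_, ?_⟩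
    · simp
    · ext
      · simp
      · simp [PullbackCone.condition]
    · intro m h₁ h₂
      dsimp at m h₁ h₂ ⊢
      apply Limits.prod.hom_ext
      · simp [← h₂]
      · simpa using h₁)⟩
end

/-- all maps from representables into `F` are representable -/
def RepAll (F : Sp S) : Prop := ∀ ⦃T : Over S⦄ (t : (yon S).obj T ⟶ F), Representable t

theorem repAll_iff_diag (F : Sp S) : RepAll F ↔ Representable (Limits.diag F) :=
  (Functor.relativelyRepresentable.diag_iff (F := yon S) (X := F)).symm

theorem repAll_of_isAlgSpace {F : Sp S} (hF : IsAlgSpace F) : RepAll F :=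
  (repAll_iff_diag F).2 hF.diag

theorem representable_prod_lift {F G : Sp S} (hF : RepAll F) (hG : RepAll G) {T : Over S}
    (u : (yon S).obj T ⟶ F) (v : (yon S).obj T ⟶ G) : Representable (prod.lift u v) := by
  have e : prod.lift u v = Limits.diag ((yon S).obj T) ≫ prod.map u (𝟙 ((yon S).obj T)) ≫
      prod.map (𝟙 F) v := by
    ext <;> simp
  rw [e]
  have h1 : Representable (Limits.diag ((yon S).obj T)) := (IsAlgSpace.yon_obj T).diag
  have h2 : Representable (prod.map u (𝟙 ((yon S).obj T))) :=
    MorphismProperty.of_isPullback (IsPullback.of_prod_fst_with_id u ((yon S).obj T)) (hF u)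
  have h3 : Representable (prod.map (𝟙 F) v) :=
    MorphismProperty.of_isPullback (isPullback_prod_snd_with_id v F) (hG v)
  exact (Representable (S := S)).comp_mem _ _ h1 ((Representable (S := S)).comp_mem _ _ h2 h3)

/-- a subsheaf of a product of sheaves with representable diagonals has representable diagonal -/
theorem repAll_of_mono_prod {P F G : Sp S} (hF : RepAll F) (hG : RepAll G) (a : P ⟶ F)
    (b : P ⟶ G) [Mono (prod.lift a b)] : RepAll P := by
  intro T t
  apply representable_of_comp_mono t (prod.lift a b)
  have e : t ≫ prod.lift a b = prod.lift (t ≫ a) (t ≫ b) := by ext <;> simp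
  rw [e]
  exact representable_prod_lift hF hG _ _

/-- the fibre product of sheaves with representable diagonals has representable diagonal -/
theorem repAll_of_isPullback {P X Y H : Sp S} {f : X ⟶ H} {g : Y ⟶ H} {fst : P ⟶ X} {snd : P ⟶ Y}
    (h : IsPullback fst snd f g) (hX : RepAll X) (hY : RepAll Y) : RepAll P := by
  have : Mono (prod.lift fst snd) := by
    constructor
    intro Z a b hab
    apply h.hom_ext
    · simpa using hab =≫ prod.fst
    · simpa using hab =≫ prod.snd
  exact repAll_of_mono_prod hX hY fst snd

/-- a chart of a fibre product `X ×_H Y` built from charts of `X` and `Y`, when all maps from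
representables to `H` are representable -/
theorem exists_chart_of_isPullback_charts {P X Y H : Sp S} {f : X ⟶ H} {g : Y ⟶ H}
    {fst : P ⟶ X} {snd : P ⟶ Y} (h : IsPullback fst snd f g) (hH : RepAll H)
    {U V : Over S} (a : (yon S).obj U ⟶ X) (b : (yon S).obj V ⟶ Y) :
    ∃ (W : Over S) (p : (yon S).obj W ⟶ P),
      ∀ (Q : MorphismProperty Scheme.{u}) [Q.IsStableUnderBaseChange] [Q.IsMultiplicative],
        RepWith Q a → RepWith Q b → RepWith Q p := by
  have s1 : IsPullback (pullback.fst a fst) (pullback.snd a fst) a fst :=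
    IsPullback.of_hasPullback a fst
  have s2 : IsPullback (pullback.fst b (pullback.snd a fst ≫ snd))
      (pullback.snd b (pullback.snd a fst ≫ snd)) b (pullback.snd a fst ≫ snd) :=
    IsPullback.of_hasPullback b _
  have bottom : IsPullback (pullback.snd a fst ≫ snd) (pullback.fst a fst) g (a ≫ f) :=
    s1.flip.paste_horiz h.flip
  have big : IsPullback (pullback.fst b (pullback.snd a fst ≫ snd))
      (pullback.snd b (pullback.snd a fst ≫ snd) ≫ pullback.fst a fst) (b ≫ g) (a ≫ f) :=
    s2.paste_vert bottom
  have hrep := hH (b ≫ g)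
  let e := (hrep.isPullback (a ≫ f)).isoIsPullback _ _ big
  refine ⟨hrep.pullback (a ≫ f),
    e.hom ≫ pullback.snd b (pullback.snd a fst ≫ snd) ≫ pullback.snd a fst, ?_⟩
  intro Q _ _ ha hb
  have : Q.RespectsIso := MorphismProperty.IsStableUnderBaseChange.respectsIso
  have h1 : RepWith Q (pullback.snd a fst) := MorphismProperty.of_isPullback s1 ha
  have h2 : RepWith Q (pullback.snd b (pullback.snd a fst ≫ snd)) :=
    MorphismProperty.of_isPullback s2 hb
  have h3 := (RepWith (S := S) Q).comp_mem _ _ h2 h1
  exact MorphismProperty.RespectsIso.precomp _ e.hom _ h3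

/-- **Fibre products of algebraic spaces**: if `H` has representable diagonal and `X`, `Y` are
algebraic spaces then any fibre product `X ×_H Y` of sheaves is an algebraic space. -/
theorem isAlgSpace_of_isPullback {P X Y H : Sp S} {f : X ⟶ H} {g : Y ⟶ H}
    {fst : P ⟶ X} {snd : P ⟶ Y} (h : IsPullback fst snd f g)
    (hH : Representable (Limits.diag H)) (hX : IsAlgSpace X) (hY : IsAlgSpace Y) :
    IsAlgSpace P where
  diag := (repAll_iff_diag P).1
    (repAll_of_isPullback h (repAll_of_isAlgSpace hX) (repAll_of_isAlgSpace hY))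
  atlas := by
    obtain ⟨U, a, ha1, ha2⟩ := hX.atlas
    obtain ⟨V, b, hb1, hb2⟩ := hY.atlas
    obtain ⟨W, p, hp⟩ := exists_chart_of_isPullback_charts h ((repAll_iff_diag H).2 hH) a b
    exact ⟨W, p, hp @Etale ha1 hb1, hp @Surjective ha2 hb2⟩

end Groth.Agent.Lib.Helper78.AlgSpFibre
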