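import Groth.Agent.Lib.Helper78.AlgSpLocP2
import Groth.Agent.Lib.Helper78.AlgSpFibre

/-!
# `AlgSp.LocP`: base change (helper78)
-/

set_option autoImplicit false
universe u

namespace Groth.Agent.Lib.Helper78.AlgSpLocP

open CategoryTheory CategoryTheory.Limits AlgebraicGeometry AlgSp
open Groth.Agent.Lib.Helper52 Groth.Agent.Lib.Helper51 Groth.Agent.Lib.Helper78.AlgSpFibre
open Groth.Agent.Lib.Helper78.AlgSpBasic

variable {S : Scheme.{u}}

/-- **Base change.**  `LocP P` is stable under arbitrary base change (for `P` etale local on the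
source-and-target and stable under base change), when source and target have etale atlases and maps
from schemes to the target are representable. -/
theorem locP_of_isPullback {P : MorphismProperty Scheme.{u}} (hP : EtLocalST P)
    [P.IsStableUnderBaseChange] {X Y X' Y' : Sp S}
    {f : X ⟶ Y} {g : Y' ⟶ Y} {fst : X' ⟶ X} {f' : X' ⟶ Y'} (sq : IsPullback fst f' f g)
    (hYrep : RepAll Y)
    (hX : ∃ (U : Over S) (a : (yon S).obj U ⟶ X), RepWith @Etale a ∧ RepWith @Surjective a)
    (hY : ∃ (V : Over S) (b : (yon S).obj V ⟶ Y), RepWith @Etale b ∧ RepWith @Surjective b)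
    (hf : LocP P f) : LocP P f' := by
  obtain ⟨U₀, a₀, ha₀, ha₀s⟩ := hX
  obtain ⟨V, b, hb, hbs⟩ := hY
  obtain ⟨U, j, h, sq₀, ha, has⟩ := exists_chart_diagram f a₀ ha₀ b hb
  have has := has ha₀s hbs
  obtain ⟨a, ha_def⟩ : ∃ a : (yon S).obj U ⟶ X, a = (yon S).map j ≫ a₀ := ⟨_, rfl⟩
  rw [← ha_def] at ha has
  have comm : a ≫ f = (yon S).map h ≫ b := by
    rw [ha_def, Category.assoc]; exact sq₀.w.symm
  have hPh : P h.left := hf a b h ha hb comm
  intro U' V' a' b' h' ha' hb' comm'
  -- the base change of `u = a ≫ f` along `t = b' ≫ g`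
  obtain ⟨u, hu⟩ : ∃ u : (yon S).obj U ⟶ Y, u = a ≫ f := ⟨_, rfl⟩
  obtain ⟨t, ht_def⟩ : ∃ t : (yon S).obj V' ⟶ Y, t = b' ≫ g := ⟨_, rfl⟩
  have comm₂ : u = (yon S).map h ≫ b := hu.trans comm
  have ht : Representable t := hYrep t
  have sq₁ := ht.isPullback' u
  set r : ht.pullback u ⟶ V' := ht.fst' u with hr
  set s : ht.pullback u ⟶ U := ht.snd u with hs
  -- the chart `c` of `X'`
  have wc : ((yon S).map s ≫ a) ≫ f = ((yon S).map r ≫ b') ≫ g := by
    rw [Category.assoc, Category.assoc, ← hu, ← ht_def]; exact sq₁.w.symm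
  set c : (yon S).obj (ht.pullback u) ⟶ X' := sq.lift _ _ wc with hc
  have hc₁ : c ≫ fst = (yon S).map s ≫ a := sq.lift_fst _ _ _
  have hc₂ : c ≫ f' = (yon S).map r ≫ b' := sq.lift_snd _ _ _
  -- Claim B : `P r`
  have hPr : P r.left := by
    have sqV₁ := hb.rep.isPullback' t
    set s₁ : hb.rep.pullback t ⟶ V := hb.rep.fst' t with hs₁
    set s₂ : hb.rep.pullback t ⟶ V' := hb.rep.snd t with hs₂
    have hs₂e : Etale s₂.left := hb.property _ _ _ sqV₁
    have wk : (yon S).map (s ≫ h) ≫ b = (yon S).map r ≫ t := by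
      rw [Functor.map_comp, Category.assoc, ← comm₂]; exact sq₁.w.symm
    obtain ⟨k, hk⟩ := (yon S).map_surjective (sqV₁.lift _ _ wk)
    have e₁ : k ≫ s₁ = s ≫ h := (yon S).map_injective (by
      rw [Functor.map_comp, hk]; exact sqV₁.lift_fst _ _ _)
    have e₂ : k ≫ s₂ = r := (yon S).map_injective (by
      rw [Functor.map_comp, hk]; exact sqV₁.lift_snd _ _ _)
    have big : IsPullback ((yon S).map k ≫ (yon S).map s₂) ((yon S).map s) t
        ((yon S).map h ≫ b) := by
      rw [← Functor.map_comp, e₂, ← comm₂]; exact sq₁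
    have left : IsPullback ((yon S).map k) ((yon S).map s) ((yon S).map s₁) ((yon S).map h) :=
      IsPullback.of_right big (by rw [← Functor.map_comp, ← Functor.map_comp, e₁]) sqV₁.flip
    have hPk : P k.left :=
      ((repWith_yon_map_iff P h).2 hPh).property _ _ _ left.flip
    have : r.left = k.left ≫ s₂.left := congrArg CommaMorphism.left e₂.symm
    rw [this]
    exact hP.postcomp _ _ hPk hs₂e
  -- Claim A : `c` is etale
  set c₂ : pullback a fst ⟶ X' := pullback.snd a fst with hc₂_def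
  have sqQ : IsPullback (pullback.fst a fst) c₂ a fst := IsPullback.of_hasPullback a fst
  have hc₂e : RepWith @Etale c₂ := MorphismProperty.of_isPullback sqQ ha
  have hc₂s : RepWith @Surjective c₂ := MorphismProperty.of_isPullback sqQ has
  set c₁ : (yon S).obj (ht.pullback u) ⟶ pullback a fst :=
    pullback.lift ((yon S).map s) c hc₁.symm with hc₁_def
  have hc₁₁ : c₁ ≫ pullback.fst a fst = (yon S).map s := pullback.lift_fst _ _ _
  have hc₁₂ : c₁ ≫ c₂ = c := pullback.lift_snd _ _ _
  have right : IsPullback (pullback.fst a fst) (c₂ ≫ f') u g := by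
    rw [hu]; exact sqQ.paste_vert sq
  have sqc₁ : IsPullback c₁ ((yon S).map r) (c₂ ≫ f') b' := by
    refine IsPullback.of_right ?_ ?_ right
    · rw [hc₁₁, ← ht_def]; exact sq₁.flip
    · rw [← Category.assoc, hc₁₂, hc₂]
  have hc₁e : RepWith @Etale c₁ := MorphismProperty.of_isPullback sqc₁.flip hb'
  have hce : RepWith @Etale c := by
    rw [← hc₁₂]; exact (RepWith (S := S) @Etale).comp_mem _ _ hc₁e hc₂e
  -- Claim C : weak surjectivity
  have hsurj : ∀ t₀ : ↥U'.left, Points.ofPt a' t₀ ∈ Set.range (Points.map c) := by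
    intro t₀
    obtain ⟨q, hq⟩ := surjective_map_of_repWith_surjective hc₂s (Points.ofPt a' t₀)
    have hq' : Points.map (c₂ ≫ f') q = Points.map b' (Points.ofScheme V' (h'.left t₀)) := by
      rw [Points.map_comp, hq, Points.map_ofPt, comm', ofPt_yon_map_comp,
        Points.ofPt_eq_map_ofScheme]
    obtain ⟨w, hw₁, -⟩ := exists_point_of_isPullback sqc₁ q _ hq'
    exact ⟨w, by rw [← hc₁₂, Points.map_comp, hw₁, hq]⟩
  exact transfer' hP f' c b' r hce hb' hc₂ hPr a' b' h' ha' hb' comm' hsurj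

end Groth.Agent.Lib.Helper78.AlgSpLocP
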