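import Groth.Agent.Lib.Helper78.AlgSpFibre
import Groth.Prelude.Def_AlgSpDec
import Mathlib.AlgebraicGeometry.Morphisms.FlatMono

/-!
# Field-valued points of sheaves with representable diagonal (helper78)
-/

set_option autoImplicit false
set_option backward.isDefEq.respectTransparency false
universe u

namespace Groth.Agent.Lib.Helper78.AlgSpFieldPt

open CategoryTheory CategoryTheory.Limits AlgebraicGeometry AlgSp
open Groth.Agent.Lib.Helper78.AlgSpFibre

variable {S : Scheme.{u}}

/-- a monomorphism from a nonempty scheme to the spectrum of a field is an isomorphism -/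
theorem isIso_of_mono_to_field {E : Scheme.{u}} {K : Type u} [Field K]
    (i : E ⟶ Spec (CommRingCat.of K)) [Mono i] [Nonempty E] : IsIso i := by
  have hsub : Subsingleton ↥(Spec (CommRingCat.of K)) :=
    inferInstanceAs (Subsingleton (PrimeSpectrum K))
  have hinj : Function.Injective i.base := i.injective
  have : Subsingleton E := hinj.subsingleton
  have : CompactSpace E := Finite.compactSpace
  have : QuasiCompact i := (HasAffineProperty.iff_of_isAffine (P := @QuasiCompact)).mpr ‹_›
  have : Surjective i := ⟨fun y => ⟨Classical.arbitrary E, Subsingleton.elim _ _⟩⟩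
  exact Flat.isIso_of_surjective_of_mono i

/-- **Field points are separated for field extensions**: if `X` has representable diagonal and
two `K`-points of `X` agree after restriction along `Spec Ω ⟶ Spec K`, they are equal. -/
theorem eq_of_yon_map_comp_eq {X : Sp S} (hX : RepAll X) {K Ω : Type u} [Field K] [Field Ω]
    {strK : Spec (CommRingCat.of K) ⟶ S} {strΩ : Spec (CommRingCat.of Ω) ⟶ S}
    (α : Over.mk strΩ ⟶ Over.mk strK) (a b : (yon S).obj (Over.mk strK) ⟶ X)
    (h : (yon S).map α ≫ a = (yon S).map α ≫ b) : a = b := by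
  have ha := hX a
  have sq := ha.isPullback' b
  -- E = T ×_X T with projections e₁, e₂
  set E := ha.pullback b with hE
  set e₁ : E ⟶ Over.mk strK := ha.fst' b with he₁
  set e₂ : E ⟶ Over.mk strK := ha.snd b with he₂
  -- the lift γ of (α, α)
  obtain ⟨γ, hγ⟩ := (yon S).map_surjective (sq.lift ((yon S).map α) ((yon S).map α) h)
  have hγ₁ : γ ≫ e₁ = α := (yon S).map_injective (by
    rw [Functor.map_comp, hγ]; exact sq.lift_fst _ _ _)
  have hγ₂ : γ ≫ e₂ = α := (yon S).map_injective (by
    rw [Functor.map_comp, hγ]; exact sq.lift_snd _ _ _)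
  -- the equalizer of e₁ and e₂
  let ι : equalizer e₁ e₂ ⟶ E := equalizer.ι e₁ e₂
  have hι : ι ≫ e₁ = ι ≫ e₂ := equalizer.condition e₁ e₂
  have hmono : Mono (ι ≫ e₁) := by
    constructor
    intro Z u v huv
    have h1 : (u ≫ ι) ≫ e₁ = (v ≫ ι) ≫ e₁ := by simpa using huv
    have h2 : (u ≫ ι) ≫ e₂ = (v ≫ ι) ≫ e₂ := by
      rw [Category.assoc, Category.assoc, ← hι, ← Category.assoc, ← Category.assoc, h1]
    have h3 : u ≫ ι = v ≫ ι := by
      apply (yon S).map_injective
      apply sq.hom_ext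
      · rw [← Functor.map_comp, ← Functor.map_comp, h1]
      · rw [← Functor.map_comp, ← Functor.map_comp, h2]
    exact (cancel_mono ι).mp h3
  have hmono' : Mono (ι ≫ e₁).left := inferInstance
  have hne : Nonempty ↥(equalizer e₁ e₂).left := by
    let γ' : Over.mk strΩ ⟶ equalizer e₁ e₂ := equalizer.lift γ (hγ₁.trans hγ₂.symm)
    exact ⟨γ'.left.base (IsLocalRing.closedPoint Ω)⟩
  have hiso' : IsIso (ι ≫ e₁).left := isIso_of_mono_to_field (K := K) (ι ≫ e₁).left
  have hiso : IsIso (ι ≫ e₁) := by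
    have : IsIso ((Over.forget S).map (ι ≫ e₁)) := hiso'
    exact isIso_of_reflects_iso (ι ≫ e₁) (Over.forget S)
  -- the section τ
  obtain ⟨τ, hτ₁, hτ₂⟩ : ∃ τ : Over.mk strK ⟶ E, τ ≫ e₁ = 𝟙 _ ∧ τ ≫ e₂ = 𝟙 _ := by
    refine ⟨inv (ι ≫ e₁) ≫ ι, ?_, ?_⟩
    · rw [Category.assoc]
      exact IsIso.inv_hom_id (ι ≫ e₁)
    · rw [Category.assoc, ← hι]
      exact IsIso.inv_hom_id (ι ≫ e₁)
  have hid : (yon S).map (𝟙 (Over.mk strK)) = 𝟙 _ := (yon S).map_id _
  calc a = (yon S).map (τ ≫ e₁) ≫ a := by rw [hτ₁, hid, Category.id_comp]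
    _ = (yon S).map τ ≫ (yon S).map e₁ ≫ a := by rw [Functor.map_comp, Category.assoc]
    _ = (yon S).map τ ≫ (yon S).map e₂ ≫ b := by rw [sq.w]
    _ = (yon S).map (τ ≫ e₂) ≫ b := by rw [Functor.map_comp, Category.assoc]
    _ = b := by rw [hτ₂, hid, Category.id_comp]

end Groth.Agent.Lib.Helper78.AlgSpFieldPt
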