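import Groth.Agent.Lib.Helper78.AlgSpLocPSeven
import Groth.Agent.Lib.Helper78.AlgSpLocP3
import Groth.Prelude.Def_AlgSpDec

/-!
# Miscellaneous scheme-level facts and `LocP` monotonicity (helper78)
-/

set_option autoImplicit false
universe u

open CategoryTheory CategoryTheory.Limits AlgebraicGeometry MorphismProperty

namespace Groth.Agent.Lib.Helper78.AlgSpMisc

open AlgSp

/-- unramified (locally of finite type and formally unramified) morphisms of schemes are
locally quasi-finite. -/
theorem lqf_of_unram {A B : Scheme.{u}} (e : A ⟶ B) [LocallyOfFiniteType e]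
    [FormallyUnramified e] : LocallyQuasiFinite e := by
  rw [HasRingHomProperty.iff_appLE (P := @LocallyQuasiFinite)]
  intro U V hUV
  have h1 : RingHom.FiniteType (e.appLE U V hUV).hom :=
    HasRingHomProperty.appLE (P := @LocallyOfFiniteType) e inferInstance U V hUV
  have h2 : RingHom.FormallyUnramified (e.appLE U V hUV).hom :=
    HasRingHomProperty.appLE (P := @FormallyUnramified) e inferInstance U V hUV
  algebraize [(e.appLE U V hUV).hom]
  have : Algebra.QuasiFinite Γ(B, U) Γ(A, V) := inferInstance
  exact RingHom.quasiFinite_algebraMap.2 this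

variable {S : Scheme.{u}}

/-- `LocP` is monotone in the property. -/
theorem locP_mono {P Q : MorphismProperty Scheme.{u}} (hPQ : P ≤ Q) {F G : Sp S} {f : F ⟶ G}
    (hf : LocP P f) : LocP Q f :=
  fun _ _ a b h ha hb comm => hPQ _ (hf a b h ha hb comm)

/-- `HasAtMor` is monotone in the property. -/
theorem hasAtMor_mono {Q Q' : ∀ (U V : Scheme.{u}), (U ⟶ V) → ↥U → Prop}
    (hQ : ∀ U V h u, Q U V h u → Q' U V h u) {F G : Sp S} {f : F ⟶ G} {x : Points F}
    (hf : HasAtMor Q f x) : HasAtMor Q' f x := by
  obtain ⟨U, V, a, b, h, u, ha, hb, comm, hu, hq⟩ := hf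
  exact ⟨U, V, a, b, h, u, ha, hb, comm, hu, hQ _ _ _ _ hq⟩

open Groth.Agent.Lib.Helper78.AlgSpLocP Groth.Agent.Lib.Helper78.AlgSpFibre

/-- for a representable morphism of sheaves whose source has an etale atlas and whose target is
an algebraic space: `P` etale locally on the source-and-target implies `P` in the
representable sense. -/
theorem repWith_of_locP {P : MorphismProperty Scheme.{u}} (hE : EtLocalST P)
    [P.IsStableUnderBaseChange] {X Y : Sp S} (f : X ⟶ Y) (hf : Representable f)
    (hX : ∃ (U : Over S) (a : (yon S).obj U ⟶ X), RepWith @Etale a ∧ RepWith @Surjective a)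
    (hY : IsAlgSpace Y) (hL : LocP P f) : RepWith P f := by
  refine ⟨hf, fun U V g fst snd sq => ?_⟩
  have hL' : LocP P ((yon S).map snd) :=
    locP_of_isPullback hE sq (repAll_of_isAlgSpace hY) hX hY.atlas hL
  exact locP_yon_map hL'

/-- for a morphism of sheaves whose target has an etale atlas: `P` in the representable sense
implies `P` etale locally on the source-and-target. -/
theorem locP_of_repWith {P : MorphismProperty Scheme.{u}} (hE : EtLocalST P)
    {X Y : Sp S} (f : X ⟶ Y)
    (hY : ∃ (V : Over S) (b : (yon S).obj V ⟶ Y), RepWith @Etale b ∧ RepWith @Surjective b)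
    (hR : RepWith P f) : LocP P f := by
  obtain ⟨V, b, hb, hbs⟩ := hY
  have hf : Representable f := hR.1
  have sq := hf.isPullback b
  refine locP_of_chart hE f (hf.fst b) b (hf.snd b) ?_ ?_ hb sq.w ?_
  · exact MorphismProperty.of_isPullback sq.flip hb
  · exact MorphismProperty.of_isPullback sq.flip hbs
  · exact hR.2 b _ _ sq

/-- for morphisms of algebraic spaces, etale in the sense of the reference (composites with
etale charts of the source are representable etale) agrees with etale on chart diagrams. -/
theorem isEtaleMor_iff_locP {X Y : Sp S} (hY : IsAlgSpace Y) (f : X ⟶ Y) :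
    IsEtaleMor f ↔ LocP @Etale f := by
  constructor
  · intro hf U V a b h ha hb comm
    have h1 : RepWith @Etale ((yon S).map h ≫ b) := comm ▸ hf a ha
    have h2 : LocP @Etale ((yon S).map h ≫ b) :=
      locP_of_repWith AlgSpLocPSmooth.etLocalST_etale _ hY.atlas h1
    exact h2 (𝟙 _) b h (repWith_id _ _) hb (Category.id_comp _)
  · intro hf U φ hφ
    have h1 : LocP @Etale (φ ≫ f) := AlgSpLocP.locP_precomp_chart f φ hφ hf
    exact repWith_of_locP AlgSpLocPSmooth.etLocalST_etale (φ ≫ f)
      (hY.representable_from_yon _) (IsAlgSpace.yon_obj U).atlas hY h1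

end Groth.Agent.Lib.Helper78.AlgSpMisc
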