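import Groth.Agent.Lib.Helper78.AlgSpLocP4

/-!
# `AlgSp.LocP`: conditional cancellation (helper78)
-/

set_option autoImplicit false
universe u

namespace Groth.Agent.Lib.Helper78.AlgSpLocP

open CategoryTheory CategoryTheory.Limits AlgebraicGeometry AlgSp
open Groth.Agent.Lib.Helper78.AlgSpBasic

variable {S : Scheme.{u}}

/-- **Conditional cancellation**: if `Q v → P (u ≫ v) → P u` for morphisms of schemes, then
`LocP Q g → LocP P (f ≫ g) → LocP P f` (source, middle and target having etale atlases). -/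
theorem locP_of_comp_cancel' {P Q : MorphismProperty Scheme.{u}} (hP : EtLocalST P)
    (hcancel : ∀ {A B C : Scheme.{u}} (u : A ⟶ B) (v : B ⟶ C), Q v → P (u ≫ v) → P u)
    {X Y Z : Sp S} (f : X ⟶ Y) (g : Y ⟶ Z)
    (hX : ∃ (U : Over S) (a : (yon S).obj U ⟶ X), RepWith @Etale a ∧ RepWith @Surjective a)
    (hY : ∃ (V : Over S) (b : (yon S).obj V ⟶ Y), RepWith @Etale b ∧ RepWith @Surjective b)
    (hZ : ∃ (W : Over S) (c : (yon S).obj W ⟶ Z), RepWith @Etale c ∧ RepWith @Surjective c)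
    (hg : LocP Q g) (h : LocP P (f ≫ g)) : LocP P f := by
  obtain ⟨U₀, a₀, ha₀, ha₀s⟩ := hX
  obtain ⟨V₀, b₀, hb₀, hb₀s⟩ := hY
  obtain ⟨W, c, hc, hcs⟩ := hZ
  obtain ⟨V, jV, k, sqV, hb, hbs⟩ := exists_chart_diagram g b₀ hb₀ c hc
  have hbs := hbs hb₀s hcs
  obtain ⟨b, hb_def⟩ : ∃ b : (yon S).obj V ⟶ Y, b = (yon S).map jV ≫ b₀ := ⟨_, rfl⟩
  rw [← hb_def] at hb hbs
  have commV : b ≫ g = (yon S).map k ≫ c := by
    rw [hb_def, Category.assoc]; exact sqV.w.symm
  obtain ⟨U, jU, h', sqU, ha, has⟩ := exists_chart_diagram f a₀ ha₀ b hb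
  have has := has ha₀s hbs
  have commU : ((yon S).map jU ≫ a₀) ≫ f = (yon S).map h' ≫ b := by
    rw [Category.assoc]; exact sqU.w.symm
  have hhk : P (h' ≫ k).left := by
    refine h _ c (h' ≫ k) ha hc ?_
    rw [← Category.assoc, commU, Category.assoc, commV, Functor.map_comp, Category.assoc]
  have hk : Q k.left := hg b c k hb hc commV
  have hh : P h'.left := hcancel h'.left k.left hk hhk
  exact locP_of_chart hP f _ b h' ha has hb commU hh

end Groth.Agent.Lib.Helper78.AlgSpLocP
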