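import Groth.Agent.Lib.Helper78.AlgSpSmLocal
import Groth.Agent.Lib.Helper78.AlgSpLocP5

/-!
# Graphs along etale morphisms of algebraic spaces (helper78)
-/

set_option autoImplicit false
universe u

open CategoryTheory CategoryTheory.Limits AlgebraicGeometry MorphismProperty

namespace Groth.Agent.Lib.Helper78.AlgSpSmLocal

open AlgSp Groth.Agent.Lib.Helper78.AlgSpLocP Groth.Agent.Lib.Helper78.AlgSpFibre
  Groth.Agent.Lib.Helper78.AlgSpMisc Groth.Agent.Lib.Helper78.AlgSpLocPSmooth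

variable {S : Scheme.{u}}

theorem isEtaleMor_id (Y : Sp S) : IsEtaleMor (𝟙 Y) :=
  fun U φ hφ => by rwa [Category.comp_id]

/-- base change of an etale morphism of algebraic spaces. -/
theorem locP_etale_baseChange {X Y X' Y' : Sp S} (hX : IsAlgSpace X) (hY : IsAlgSpace Y)
    {f : X ⟶ Y} {g : Y' ⟶ Y} {fst : X' ⟶ X} {f' : X' ⟶ Y'} (sq : IsPullback fst f' f g)
    (hf : LocP @Etale f) : LocP @Etale f' :=
  locP_of_isPullback etLocalST_etale sq (repAll_of_isAlgSpace hY) hX.atlas hY.atlas hf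

/-- cancellation for etale morphisms of algebraic spaces. -/
theorem locP_etale_of_comp {X Y Z : Sp S} (hX : IsAlgSpace X) (hY : IsAlgSpace Y)
    (hZ : IsAlgSpace Z) (f : X ⟶ Y) (g : Y ⟶ Z) (hfg : LocP @Etale (f ≫ g))
    (hg : LocP @Etale g) : LocP @Etale f :=
  locP_of_comp_cancel' (Q := @Etale) etLocalST_etale
    (fun u v hv huv => by
      have : Etale v := hv
      have : Etale (u ≫ v) := huv
      exact Etale.of_comp u v) f g hX.atlas hY.atlas hZ.atlas hg hfg

/-- the graph of `f : X ⟶ Y` into `X ×_Z Y` is etale when `g : Y ⟶ Z` is etale. -/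
theorem isEtaleMor_graph {X Y Z W : Sp S} (hX : IsAlgSpace X) (hY : IsAlgSpace Y)
    (hZ : IsAlgSpace Z) (f : X ⟶ Y) (g : Y ⟶ Z) (hg : IsEtaleMor g) {p : W ⟶ X} {q : W ⟶ Y}
    (sq : IsPullback p q (f ≫ g) g) (e : X ⟶ W) (he : e ≫ p = 𝟙 X) :
    IsAlgSpace W ∧ IsEtaleMor e := by
  have hW : IsAlgSpace W := isAlgSpace_of_isPullback sq hZ.diag hX hY
  refine ⟨hW, ?_⟩
  have hg' : LocP @Etale g := (isEtaleMor_iff_locP hZ g).1 hg
  have hp : LocP @Etale p := locP_etale_baseChange hY hZ sq.flip hg'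
  rw [isEtaleMor_iff_locP hW]
  refine locP_etale_of_comp hX hW hX e p ?_ hp
  rw [he]
  exact locP_etale_id hX

end Groth.Agent.Lib.Helper78.AlgSpSmLocal
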