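import Groth.Agent.Lib.Helper78.AlgSpZar
import Groth.Agent.Lib.Helper78.AlgSpFibre
import Groth.Agent.Lib.Helper30.AlgSpDesc
import Groth.Agent.Lib.Helper51.AlgSpEtaleMor
import Groth.Agent.Lib.Helper51.AlgSpPoints
import Groth.Agent.Lib.Helper52.Points

set_option autoImplicit false
set_option linter.style.haveILetI false
universe u
open CategoryTheory CategoryTheory.Limits AlgebraicGeometry Opposite
open AlgSp

namespace Groth.Agent.Lib.Helper78.AlgSpEtDesc

variable {S : Scheme.{u}}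

open Groth.Agent.Lib.Helper78.AlgSpBasic Groth.Agent.Lib.Helper78.AlgSpZar
  Groth.Agent.Lib.Helper51 Groth.Agent.Lib.Helper52

/-- A morphism of sheaves from a compatible family of maps on test schemes. -/
theorem exists_hom_of_family {T' F : Sp S}
    (ℓ : ∀ (W : Over S) (_ : (yon S).obj W ⟶ T'), ((yon S).obj W ⟶ F))
    (hres : ∀ {W W' : Over S} (c : W' ⟶ W) (w : (yon S).obj W ⟶ T'),
      (yon S).map c ≫ ℓ W w = ℓ W' ((yon S).map c ≫ w)) :
    ∃ L : T' ⟶ F, ∀ (W : Over S) (w : (yon S).obj W ⟶ T'), w ≫ L = ℓ W w := by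
  let η : T'.obj ⟶ F.obj :=
    { app := fun X => ↾fun s => (J S).uliftYonedaEquiv (ℓ X.unop ((J S).uliftYonedaEquiv.symm s))
      naturality := by
        intro X Y c
        ext s
        change (J S).uliftYonedaEquiv (ℓ Y.unop ((J S).uliftYonedaEquiv.symm (T'.obj.map c s))) =
          F.obj.map c ((J S).uliftYonedaEquiv (ℓ X.unop ((J S).uliftYonedaEquiv.symm s)))
        rw [GrothendieckTopology.uliftYonedaEquiv_naturality',
          GrothendieckTopology.uliftYonedaEquiv_symm_map, hres] }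
  refine ⟨ObjectProperty.homMk η, fun W w => ?_⟩
  apply (J S).uliftYonedaEquiv.injective
  rw [GrothendieckTopology.uliftYonedaEquiv_comp]
  change (J S).uliftYonedaEquiv (ℓ W ((J S).uliftYonedaEquiv.symm ((J S).uliftYonedaEquiv w))) = _
  rw [Equiv.symm_apply_apply]

/-- For an etale morphism `a : A ⟶ yon Z` from an algebraic space, the points of `Z` in the image
are covered by an etale scheme chart. -/
theorem exists_chart_over {A : Sp S} (hA : IsAlgSpace A) {Z : Over S} (a : A ⟶ (yon S).obj Z)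
    (ha : IsEtaleMor a) :
    ∃ (A₀ : Over S) (b : (yon S).obj A₀ ⟶ A) (g : A₀ ⟶ Z), RepWith @Etale b ∧
      b ≫ a = (yon S).map g ∧ Etale g.left ∧
      ∀ y : Points A, ∃ z₀ : A₀.left, Points.map a y = Points.ofScheme Z (g.left z₀) := by
  obtain ⟨A₀, b, hbe, hbs⟩ := hA.atlas
  obtain ⟨g, hg⟩ := (yon S).map_surjective (b ≫ a)
  have hge : RepWith @Etale ((yon S).map g) := by
    rw [hg]
    exact ha b hbe
  refine ⟨A₀, b, g, hbe, hg.symm, (repWith_yon_map_iff _ _).1 hge, fun y => ?_⟩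
  obtain ⟨y₀, rfl⟩ := surjective_map_of_repWith_surjective hbs y
  obtain ⟨z₀, rfl⟩ := (Points.schemeEquiv A₀).surjective y₀
  refine ⟨z₀, ?_⟩
  rw [← Points.map_comp, ← hg]
  exact map_yon_map_ofScheme g z₀


/-- A jointly surjective family of etale morphisms of algebraic spaces to `Q` induces, on every
test scheme `Z ⟶ Q`, an etale covering of `Z` by schemes lifting to the members. -/
theorem exists_cover_of_etale_family {Q : Sp S} (hQ : IsAlgSpace Q) {ι : Type*} (A : ι → Sp S)
    (hA : ∀ i, IsAlgSpace (A i)) (a : ∀ i, A i ⟶ Q) (ha : ∀ i, IsEtaleMor (a i))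
    (hsurj : ∀ x : Points Q, ∃ i, x ∈ Set.range (Points.map (a i))) {Z : Over S}
    (w : (yon S).obj Z ⟶ Q) :
    ∃ (Zi : ι → Over S) (g : ∀ i, Zi i ⟶ Z) (u : ∀ i, (yon S).obj (Zi i) ⟶ A i),
      (∀ i, Etale (g i).left) ∧ (∀ z : Z.left, ∃ i, z ∈ Set.range (g i).left) ∧
      ∀ i, u i ≫ a i = (yon S).map (g i) ≫ w := by
  have sq : ∀ i, IsPullback (pullback.fst w (a i)) (pullback.snd w (a i)) w (a i) :=
    fun i => IsPullback.of_hasPullback _ _
  have hB : ∀ i, IsAlgSpace (pullback w (a i)) := fun i =>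
    Groth.Agent.Lib.Helper78.AlgSpFibre.isAlgSpace_of_isPullback (sq i) hQ.diag
      (IsAlgSpace.yon_obj Z) (hA i)
  have hfe : ∀ i, IsEtaleMor (pullback.fst w (a i)) := fun i =>
    isEtaleMor_of_isPullback (hA i) hQ (IsAlgSpace.yon_obj Z) (sq i) (ha i)
  choose Zi b g hbe hbg hge hpts using fun i => exists_chart_over (hB i) _ (hfe i)
  refine ⟨Zi, g, fun i => b i ≫ pullback.snd w (a i), hge, fun z => ?_, fun i => ?_⟩
  · obtain ⟨i, y, hy⟩ := hsurj (Points.map w (Points.ofScheme Z z))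
    obtain ⟨β, hβ1, hβ2⟩ := exists_point_of_isPullback (sq i) (Points.ofScheme Z z) y hy.symm
    obtain ⟨z₀, hz₀⟩ := hpts i β
    refine ⟨i, z₀, ?_⟩
    apply ofScheme_injective Z
    rw [← hz₀, hβ1]
  · rw [Category.assoc, ← (sq i).w, ← Category.assoc, hbg]


section Desc

variable {Q Y : Sp S} (hQ : IsAlgSpace Q) {ι : Type*} (A : ι → Sp S)
  (hA : ∀ i, IsAlgSpace (A i)) (a : ∀ i, A i ⟶ Q) (ha : ∀ i, IsEtaleMor (a i))
  (hsurj : ∀ x : Points Q, ∃ i, x ∈ Set.range (Points.map (a i)))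

include hQ hA ha hsurj in
/-- A jointly surjective family of etale morphisms of algebraic spaces is jointly epimorphic. -/
theorem hom_ext_of_etale_family (c c' : Q ⟶ Y) (h : ∀ i, a i ≫ c = a i ≫ c') : c = c' := by
  refine hom_ext_yon fun Z w => ?_
  obtain ⟨Zi, g, u, hge, hgs, hu⟩ := exists_cover_of_etale_family hQ A hA a ha hsurj w
  refine hom_ext_of_cover _ _ Zi g (fun i => by haveI := hge i; infer_instance)
    (fun i => by haveI := hge i; infer_instance) hgs (fun i => ?_)
  rw [← Category.assoc, ← Category.assoc, ← hu i, Category.assoc, Category.assoc, h i]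

/-- the gluing condition on a candidate value on a test scheme -/
def IsGood (x : ∀ i, A i ⟶ Y) {Z : Over S} (w : (yon S).obj Z ⟶ Q) (l : (yon S).obj Z ⟶ Y) :
    Prop :=
  ∀ ⦃Z' : Over S⦄ (c : Z' ⟶ Z) (i : ι) (u : (yon S).obj Z' ⟶ A i),
    u ≫ a i = (yon S).map c ≫ w → (yon S).map c ≫ l = u ≫ x i

include hQ hA ha hsurj in
/-- **Descent of morphisms along a jointly surjective etale family of algebraic spaces.** -/
theorem exists_desc_of_etale_family (x : ∀ i, A i ⟶ Y)
    (hx : ∀ ⦃Z' : Over S⦄ (i i' : ι) (u₁ : (yon S).obj Z' ⟶ A i) (u₂ : (yon S).obj Z' ⟶ A i'),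
      u₁ ≫ a i = u₂ ≫ a i' → u₁ ≫ x i = u₂ ≫ x i') :
    ∃ c : Q ⟶ Y, ∀ i, a i ≫ c = x i := by
  have hex : ∀ (Z : Over S) (w : (yon S).obj Z ⟶ Q), ∃ l, IsGood A a x w l := by
    intro Z w
    obtain ⟨Zi, g, u, hge, hgs, hu⟩ := exists_cover_of_etale_family hQ A hA a ha hsurj w
    have hfl : ∀ i, Flat (g i).left := fun i => by haveI := hge i; infer_instance
    have hfp : ∀ i, LocallyOfFinitePresentation (g i).left := fun i => by
      haveI := hge i; infer_instance
    obtain ⟨l, hl⟩ := exists_glue Zi g hfl hfp hgs (fun i => u i ≫ x i) (by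
      intro i i' Z' gi gj hij
      rw [← Category.assoc, ← Category.assoc]
      refine hx i i' _ _ ?_
      rw [Category.assoc, Category.assoc, hu i, hu i', ← Category.assoc, ← Category.assoc,
        ← (yon S).map_comp, ← (yon S).map_comp, hij])
    refine ⟨l, ?_⟩
    intro Z' c i₀ u₀ hu₀
    -- pull the cover back to `Z'`
    choose Wi w1 w2 sqW sqWl using fun i => Groth.Agent.Lib.Helper30.isPullback_over' (g i) c
    have hw2e : ∀ i, Etale (w2 i).left := fun i =>
      MorphismProperty.of_isPullback (P := @Etale) (sqWl i) (hge i)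
    refine hom_ext_of_cover _ _ Wi w2 (fun i => by haveI := hw2e i; infer_instance)
      (fun i => by haveI := hw2e i; infer_instance) (fun z' => ?_) (fun i => ?_)
    · obtain ⟨i, z₀, hz₀⟩ := hgs (c.left z')
      obtain ⟨p, hp1, hp2⟩ := Scheme.Pullback.exists_preimage_pullback z₀ z' hz₀
      refine ⟨i, (sqWl i).isoPullback.inv p, ?_⟩
      rw [← Scheme.Hom.comp_apply, IsPullback.isoPullback_inv_snd, hp2]
    · have e1 : (yon S).map (w2 i) ≫ (yon S).map c ≫ l = (yon S).map (w1 i) ≫ u i ≫ x i := by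
        rw [← Category.assoc, ← (yon S).map_comp, ← (sqW i).w, (yon S).map_comp, Category.assoc,
          hl i]
      rw [e1, ← Category.assoc, ← Category.assoc]
      refine hx i i₀ _ _ ?_
      rw [Category.assoc, Category.assoc, hu i, hu₀, ← Category.assoc, ← Category.assoc,
        ← (yon S).map_comp, ← (yon S).map_comp, (sqW i).w]
  have huniq : ∀ (Z : Over S) (w : (yon S).obj Z ⟶ Q) (l l' : (yon S).obj Z ⟶ Y),
      IsGood A a x w l → IsGood A a x w l' → l = l' := by
    intro Z w l l' hl hl'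
    obtain ⟨Zi, g, u, hge, hgs, hu⟩ := exists_cover_of_etale_family hQ A hA a ha hsurj w
    refine hom_ext_of_cover _ _ Zi g (fun i => by haveI := hge i; infer_instance)
      (fun i => by haveI := hge i; infer_instance) hgs (fun i => ?_)
    rw [hl (g i) i (u i) (hu i), hl' (g i) i (u i) (hu i)]
  choose ℓ hℓ using hex
  obtain ⟨L, hL⟩ := exists_hom_of_family ℓ (fun {W W'} c w => by
    refine huniq _ _ _ _ ?_ (hℓ W' _)
    intro Z' c' i u hu
    rw [← Category.assoc, ← (yon S).map_comp]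
    refine hℓ W w (c' ≫ c) i u ?_
    rw [hu, (yon S).map_comp, Category.assoc])
  refine ⟨L, fun i => hom_ext_yon fun X p => ?_⟩
  rw [← Category.assoc, hL]
  have := hℓ X (p ≫ a i) (𝟙 X) i p (by rw [(yon S).map_id, Category.id_comp])
  rwa [(yon S).map_id, Category.id_comp] at this

end Desc

end Groth.Agent.Lib.Helper78.AlgSpEtDesc
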