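import Groth.Prelude.Def_AlgSpSub
import Groth.Agent.Lib.Helper78.AlgSpEtDesc
import Groth.Agent.Lib.Helper30.AlgSpLoc
import Groth.Agent.Lib.Helper30.AlgSpUnram

set_option autoImplicit false
set_option linter.style.haveILetI false
universe u
open CategoryTheory CategoryTheory.Limits AlgebraicGeometry Opposite
open AlgSp

namespace Groth.Agent.Lib.Helper78.ElemDist

variable {S : Scheme.{u}}

open Groth.Agent.Lib.Helper78.AlgSpBasic Groth.Agent.Lib.Helper78.AlgSpZar
  Groth.Agent.Lib.Helper51 Groth.Agent.Lib.Helper52 Groth.Agent.Lib.Helper78.AlgSpEtDesc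

section Pair

variable {Q Y A₁ A₂ : Sp S} (hQ : IsAlgSpace Q) (hA₁ : IsAlgSpace A₁) (hA₂ : IsAlgSpace A₂)
  (a₁ : A₁ ⟶ Q) (a₂ : A₂ ⟶ Q) (ha₁ : IsEtaleMor a₁) (ha₂ : IsEtaleMor a₂)
  (hsurj : ∀ x : Points Q, x ∈ Set.range (Points.map a₁) ∨ x ∈ Set.range (Points.map a₂))

include hQ hA₁ hA₂ ha₁ ha₂ hsurj in
theorem hom_ext_of_etale_pair (c c' : Q ⟶ Y) (h₁ : a₁ ≫ c = a₁ ≫ c') (h₂ : a₂ ≫ c = a₂ ≫ c') :
    c = c' := by
  refine hom_ext_of_etale_family hQ (fun k : Bool => cond k A₁ A₂)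
    (fun k => by cases k <;> assumption)
    (fun k => Bool.rec (motive := fun k => cond k A₁ A₂ ⟶ Q) a₂ a₁ k)
    (fun k => by cases k <;> assumption) (fun x => ?_) c c' (fun k => by cases k <;> assumption)
  rcases hsurj x with h | h
  · exact ⟨true, h⟩
  · exact ⟨false, h⟩

include hQ hA₁ hA₂ ha₁ ha₂ hsurj in
theorem exists_desc_of_etale_pair (x₁ : A₁ ⟶ Y) (x₂ : A₂ ⟶ Y)
    (h₁₁ : ∀ ⦃Z' : Over S⦄ (u₁ u₂ : (yon S).obj Z' ⟶ A₁), u₁ ≫ a₁ = u₂ ≫ a₁ → u₁ ≫ x₁ = u₂ ≫ x₁)
    (h₁₂ : ∀ ⦃Z' : Over S⦄ (u₁ : (yon S).obj Z' ⟶ A₁) (u₂ : (yon S).obj Z' ⟶ A₂),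
      u₁ ≫ a₁ = u₂ ≫ a₂ → u₁ ≫ x₁ = u₂ ≫ x₂)
    (h₂₂ : ∀ ⦃Z' : Over S⦄ (u₁ u₂ : (yon S).obj Z' ⟶ A₂), u₁ ≫ a₂ = u₂ ≫ a₂ → u₁ ≫ x₂ = u₂ ≫ x₂) :
    ∃ c : Q ⟶ Y, a₁ ≫ c = x₁ ∧ a₂ ≫ c = x₂ := by
  obtain ⟨c, hc⟩ := exists_desc_of_etale_family hQ (fun k : Bool => cond k A₁ A₂)
    (fun k => by cases k <;> assumption)
    (fun k => Bool.rec (motive := fun k => cond k A₁ A₂ ⟶ Q) a₂ a₁ k)
    (fun k => by cases k <;> assumption) (fun x => by
      rcases hsurj x with h | h
      · exact ⟨true, h⟩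
      · exact ⟨false, h⟩)
    (fun k => Bool.rec (motive := fun k => cond k A₁ A₂ ⟶ Y) x₂ x₁ k) (by
      intro Z' k k' u₁ u₂ h
      cases k <;> cases k'
      · exact h₂₂ u₁ u₂ h
      · exact (h₁₂ u₂ u₁ h.symm).symm
      · exact h₁₂ u₁ u₂ h
      · exact h₁₁ u₁ u₂ h)
  exact ⟨c, hc true, hc false⟩

end Pair

theorem isEtaleMor_id (X : Sp S) : IsEtaleMor (𝟙 X) := by
  intro U φ hφ
  rwa [Category.comp_id]

theorem isEtaleMor_of_repWith_isOpenImmersion {X Y : Sp S} {j : X ⟶ Y}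
    (hj : RepWith @IsOpenImmersion j) : IsEtaleMor j :=
  Groth.Agent.Lib.Helper30.isEtaleMor_of_repWith_etale
    (Groth.Agent.Lib.Helper30.repWith_etale_of_repWith_isOpenImmersion hj)

section

variable {U V W P : Sp S} (hU : IsAlgSpace U) (hV : IsAlgSpace V) (hW : IsAlgSpace W)
  (j : U ⟶ W) (f : V ⟶ W) (hsq : IsElemDistSq j f) (p : P ⟶ U) (q : P ⟶ V)
  (hP : IsPullback p q j f)

include hsq in
/-- The two legs of an elementary distinguished square are jointly surjective on points. -/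
theorem surj_of_isElemDistSq (x : Points W) :
    x ∈ Set.range (Points.map j) ∨ x ∈ Set.range (Points.map f) := by
  obtain ⟨hj, hf, T, Pt, i, p₁, p₂, ⟨hi, hrange, hred⟩, sqT, hp₁⟩ := hsq
  by_cases hx : x ∈ Set.range (Points.map j)
  · exact Or.inl hx
  · right
    have hx' : x ∈ Set.range (Points.map i) := by
      rw [hrange]; exact hx
    obtain ⟨t, rfl⟩ := hx'
    refine ⟨Points.map p₂ (Points.map (inv p₁) t), ?_⟩
    rw [← Points.map_comp, ← Points.map_comp, ← sqT.w, ← Category.assoc, IsIso.inv_hom_id,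
      Category.id_comp]

include hU hV hW hsq hP in
/-- Key claim: a map out of `V` compatible on `U ×_W V` equalises the two projections of
`V ×_W V`. -/
theorem fst_comp_eq_snd_comp {Y : Sp S} (a : U ⟶ Y) (b : V ⟶ Y) (hab : p ≫ a = q ≫ b) :
    pullback.fst f f ≫ b = pullback.snd f f ≫ b := by
  obtain ⟨hj, hf, T, Pt, i, p₁, p₂, ⟨hi, hrange, hred⟩, sqT, hp₁⟩ := hsq
  have sqQ : IsPullback (pullback.fst f f) (pullback.snd f f) f f := IsPullback.of_hasPullback _ _
  have hQ : IsAlgSpace (pullback f f) :=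
    Groth.Agent.Lib.Helper78.AlgSpFibre.isAlgSpace_of_isPullback sqQ hW.diag hV hV
  have hπ₁ : IsEtaleMor (pullback.fst f f) := isEtaleMor_of_isPullback hV hW hV sqQ hf
  have hΔ : IsEtaleMor (pullback.diagonal f) := by
    refine Groth.Agent.Lib.Helper30.isEtaleMor_of_comp hQ (pullback.diagonal f) (pullback.fst f f)
      ?_ hπ₁
    rw [pullback.diagonal_fst]
    exact isEtaleMor_id V
  -- the open part
  have sqU : IsPullback (pullback.fst (pullback.fst f f ≫ f) j)
      (pullback.snd (pullback.fst f f ≫ f) j) (pullback.fst f f ≫ f) j :=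
    IsPullback.of_hasPullback _ _
  have hQU : IsAlgSpace (pullback (pullback.fst f f ≫ f) j) :=
    Groth.Agent.Lib.Helper78.AlgSpFibre.isAlgSpace_of_isPullback sqU hW.diag hQ hU
  have hje : IsEtaleMor j := isEtaleMor_of_repWith_isOpenImmersion hj
  have hfstU : IsEtaleMor (pullback.fst (pullback.fst f f ≫ f) j) :=
    isEtaleMor_of_isPullback hU hW hQ sqU hje
  refine hom_ext_of_etale_pair hQ hQU hV (pullback.fst (pullback.fst f f ≫ f) j)
    (pullback.diagonal f) hfstU hΔ (fun x => ?_) _ _ ?_ ?_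
  · -- joint surjectivity
    by_cases hx : Points.map (pullback.fst f f ≫ f) x ∈ Set.range (Points.map j)
    · left
      obtain ⟨u, hu⟩ := hx
      obtain ⟨β, hβ1, hβ2⟩ := exists_point_of_isPullback sqU x u hu.symm
      exact ⟨β, hβ1⟩
    · right
      have hx' : Points.map (pullback.fst f f ≫ f) x ∈ Set.range (Points.map i) := by
        rw [hrange]; exact hx
      obtain ⟨t, ht⟩ := hx'
      have sqTQ : IsPullback (pullback.fst (pullback.fst f f ≫ f) i)
          (pullback.snd (pullback.fst f f ≫ f) i) (pullback.fst f f ≫ f) i :=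
        IsPullback.of_hasPullback _ _
      obtain ⟨β, hβ1, hβ2⟩ := exists_point_of_isPullback sqTQ x t ht.symm
      set pr := pullback.fst (pullback.fst f f ≫ f) i with hpr
      set r := pullback.snd (pullback.fst f f ≫ f) i with hr
      have e1 : r ≫ i = (pr ≫ pullback.fst f f) ≫ f := by
        rw [Category.assoc]; exact sqTQ.w.symm
      have e2 : r ≫ i = (pr ≫ pullback.snd f f) ≫ f := by
        rw [Category.assoc, ← pullback.condition (f := f) (g := f)]; exact sqTQ.w.symm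
      have hl : sqT.lift r (pr ≫ pullback.fst f f) e1 = sqT.lift r (pr ≫ pullback.snd f f) e2 := by
        haveI : Mono p₁ := inferInstance
        rw [← cancel_mono p₁, IsPullback.lift_fst, IsPullback.lift_fst]
      have hpr12 : pr ≫ pullback.fst f f = pr ≫ pullback.snd f f := by
        rw [← sqT.lift_snd r (pr ≫ pullback.fst f f) e1, hl, IsPullback.lift_snd]
      have hprΔ : pr = (pr ≫ pullback.fst f f) ≫ pullback.diagonal f := by
        apply pullback.hom_ext
        · rw [Category.assoc, pullback.diagonal_fst, Category.comp_id]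
        · rw [Category.assoc, pullback.diagonal_snd, Category.comp_id, hpr12]
      refine ⟨Points.map (pr ≫ pullback.fst f f) β, ?_⟩
      rw [← Points.map_comp, ← hprΔ, hβ1]
  · -- agreement on the open part
    set s₁ := pullback.fst (pullback.fst f f ≫ f) j with hs₁
    set s₂ := pullback.snd (pullback.fst f f ≫ f) j with hs₂
    have e1 : s₂ ≫ j = (s₁ ≫ pullback.fst f f) ≫ f := by
      rw [Category.assoc]; exact sqU.w.symm
    have e2 : s₂ ≫ j = (s₁ ≫ pullback.snd f f) ≫ f := by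
      rw [Category.assoc, ← pullback.condition (f := f) (g := f)]; exact sqU.w.symm
    have k1 : s₁ ≫ pullback.fst f f ≫ b = s₂ ≫ a := by
      rw [← Category.assoc, ← hP.lift_snd s₂ (s₁ ≫ pullback.fst f f) e1, Category.assoc, ← hab,
        ← Category.assoc, IsPullback.lift_fst]
    have k2 : s₁ ≫ pullback.snd f f ≫ b = s₂ ≫ a := by
      rw [← Category.assoc, ← hP.lift_snd s₂ (s₁ ≫ pullback.snd f f) e2, Category.assoc, ← hab,
        ← Category.assoc, IsPullback.lift_fst]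
    rw [k1, k2]
  · rw [← Category.assoc, ← Category.assoc, pullback.diagonal_fst, pullback.diagonal_snd]

include hU hV hW hsq hP in
/-- An elementary distinguished square is a pushout against every sheaf. -/
theorem existsUnique_desc {Y : Sp S} (a : U ⟶ Y) (b : V ⟶ Y) (hab : p ≫ a = q ≫ b) :
    ∃! c : W ⟶ Y, j ≫ c = a ∧ f ≫ c = b := by
  have hVV := fst_comp_eq_snd_comp hU hV hW j f hsq p q hP a b hab
  have hsurj := surj_of_isElemDistSq j f hsq
  obtain ⟨hj, hf, -⟩ := hsq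
  have hje : IsEtaleMor j := isEtaleMor_of_repWith_isOpenImmersion hj
  haveI : Mono j := Groth.Agent.Lib.Helper51.mono_of_repWith
    (P := @IsOpenImmersion) (fun g (_ : IsOpenImmersion g) => inferInstance) hj
  obtain ⟨c, hc1, hc2⟩ := exists_desc_of_etale_pair hW hU hV j f hje hf hsurj a b
    (fun Z' u₁ u₂ h => by rw [(cancel_mono j).1 h])
    (fun Z' u₁ u₂ h => by
      rw [← hP.lift_fst u₁ u₂ h, Category.assoc, hab, ← Category.assoc, IsPullback.lift_snd])
    (fun Z' u₁ u₂ h => by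
      rw [← pullback.lift_fst u₁ u₂ h, Category.assoc, hVV, ← Category.assoc, pullback.lift_snd])
  refine ⟨c, ⟨hc1, hc2⟩, fun c' hc' => ?_⟩
  refine hom_ext_of_etale_pair hW hU hV j f hje hf hsurj _ _ ?_ ?_
  · rw [hc1, hc'.1]
  · rw [hc2, hc'.2]

end

end Groth.Agent.Lib.Helper78.ElemDist
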