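import Groth.Prelude.Def_AlgSpSub
import Groth.Agent.Lib.Helper78.ElemDist

set_option autoImplicit false
set_option linter.style.haveILetI false
universe u
open CategoryTheory CategoryTheory.Limits AlgebraicGeometry Opposite
open AlgSp

namespace Groth.Agent.Lib.Helper78.DiagCover

variable {S : Scheme.{u}}

open Groth.Agent.Lib.Helper78.AlgSpBasic Groth.Agent.Lib.Helper51 Groth.Agent.Lib.Helper52

section

variable {X Y A B P R : Sp S} (g : X ⟶ Y) (a : A ⟶ X) (b : B ⟶ X)
  {pa : P ⟶ A} {pb : P ⟶ B} (hP : IsPullback pa pb (a ≫ g) (b ≫ g))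
  {ra : R ⟶ A} {rb : R ⟶ B} (hR : IsPullback ra rb a b)
  (c : R ⟶ P) (hc₁ : c ≫ pa = ra) (hc₂ : c ≫ pb = rb)

/-- the map `A ×_Y B ⟶ X ×_Y X` -/
noncomputable def prodMap : P ⟶ pullback g g :=
  pullback.lift (pa ≫ a) (pb ≫ b) (by rw [Category.assoc, Category.assoc]; exact hP.w)

@[simp] theorem prodMap_fst : prodMap g a b hP ≫ pullback.fst g g = pa ≫ a :=
  pullback.lift_fst _ _ _

@[simp] theorem prodMap_snd : prodMap g a b hP ≫ pullback.snd g g = pb ≫ b :=
  pullback.lift_snd _ _ _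

include hR hc₁ hc₂ in
/-- the magic square: `A ×_X B` is the preimage of the diagonal in `A ×_Y B`. -/
theorem isPullback_diagonal_prodMap :
    IsPullback (ra ≫ a) c (pullback.diagonal g) (prodMap g a b hP) := by
  have w : (ra ≫ a) ≫ pullback.diagonal g = c ≫ prodMap g a b hP := by
    apply pullback.hom_ext
    · rw [Category.assoc, pullback.diagonal_fst, Category.comp_id, Category.assoc, prodMap_fst,
        ← Category.assoc, hc₁]
    · rw [Category.assoc, pullback.diagonal_snd, Category.comp_id, Category.assoc, prodMap_snd,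
        ← Category.assoc, hc₂, hR.w]
  refine ⟨⟨w⟩, ⟨PullbackCone.IsLimit.mk _ (fun s => hR.lift (s.snd ≫ pa) (s.snd ≫ pb) ?_) ?_ ?_ ?_⟩⟩
  · have h1 := s.condition =≫ pullback.fst g g
    have h2 := s.condition =≫ pullback.snd g g
    simp only [Category.assoc, pullback.diagonal_fst, pullback.diagonal_snd, Category.comp_id,
      prodMap_fst, prodMap_snd] at h1 h2
    rw [Category.assoc, Category.assoc, ← h1, ← h2]
  · intro s
    have h1 := s.condition =≫ pullback.fst g g
    simp only [Category.assoc, pullback.diagonal_fst, Category.comp_id, prodMap_fst] at h1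
    rw [← Category.assoc, IsPullback.lift_fst, Category.assoc, ← h1]
  · intro s
    apply hP.hom_ext
    · rw [Category.assoc, hc₁, IsPullback.lift_fst]
    · rw [Category.assoc, hc₂, IsPullback.lift_snd]
  · intro s m' _ h2
    apply hR.hom_ext
    · rw [IsPullback.lift_fst, ← h2, Category.assoc, hc₁]
    · rw [IsPullback.lift_snd, ← h2, Category.assoc, hc₂]

/-- first intermediate map `A ×_Y B ⟶ X ×_Y B` -/
noncomputable def m₁ : P ⟶ pullback g (b ≫ g) :=
  pullback.lift (pa ≫ a) pb (by rw [Category.assoc]; exact hP.w)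

/-- second intermediate map `X ×_Y B ⟶ X ×_Y X` -/
noncomputable def m₂ : pullback g (b ≫ g) ⟶ pullback g g :=
  pullback.lift (pullback.fst g (b ≫ g)) (pullback.snd g (b ≫ g) ≫ b)
    (by rw [Category.assoc]; exact pullback.condition)

theorem m₁_m₂ : m₁ g a b hP ≫ m₂ g b = prodMap g a b hP := by
  apply pullback.hom_ext
  · rw [prodMap_fst]
    unfold m₁ m₂
    rw [Category.assoc, pullback.lift_fst, pullback.lift_fst]
  · rw [prodMap_snd]
    unfold m₁ m₂
    rw [Category.assoc, pullback.lift_snd, ← Category.assoc, pullback.lift_snd]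

theorem isPullback_m₁ : IsPullback pa (m₁ g a b hP) a (pullback.fst g (b ≫ g)) := by
  refine IsPullback.of_bot ?_ ?_ (IsPullback.of_hasPullback g (b ≫ g))
  · have : m₁ g a b hP ≫ pullback.snd g (b ≫ g) = pb := pullback.lift_snd _ _ _
    rw [this]; exact hP
  · exact (pullback.lift_fst _ _ _).symm

theorem isPullback_m₂ :
    IsPullback (pullback.snd g (b ≫ g)) (m₂ g b) b (pullback.snd g g) := by
  refine IsPullback.of_bot ?_ ?_ (IsPullback.of_hasPullback g g).flip
  · have : m₂ g b ≫ pullback.fst g g = pullback.fst g (b ≫ g) := pullback.lift_fst _ _ _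
    rw [this]; exact (IsPullback.of_hasPullback g (b ≫ g)).flip
  · exact (pullback.lift_snd _ _ _).symm

theorem isEtaleMor_comp {F G H : Sp S} {f : F ⟶ G} {h : G ⟶ H} (hf : IsEtaleMor f)
    (hh : IsEtaleMor h) : IsEtaleMor (f ≫ h) := by
  intro U φ hφ
  rw [← Category.assoc]
  exact hh _ (hf φ hφ)

include hP in
theorem isAlgSpace_P (hY : IsAlgSpace Y) (hA : IsAlgSpace A) (hB : IsAlgSpace B) :
    IsAlgSpace P :=
  Groth.Agent.Lib.Helper78.AlgSpFibre.isAlgSpace_of_isPullback hP hY.diag hA hB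

theorem isEtaleMor_prodMap (hX : IsAlgSpace X) (hY : IsAlgSpace Y) (hA : IsAlgSpace A)
    (hB : IsAlgSpace B) (ha : IsEtaleMor a) (hb : IsEtaleMor b) :
    IsEtaleMor (prodMap g a b hP) := by
  rw [← m₁_m₂]
  have hQ : IsAlgSpace (pullback g (b ≫ g)) :=
    Groth.Agent.Lib.Helper78.AlgSpFibre.isAlgSpace_of_isPullback
      (IsPullback.of_hasPullback g (b ≫ g)) hY.diag hX hB
  have hD : IsAlgSpace (pullback g g) :=
    Groth.Agent.Lib.Helper78.AlgSpFibre.isAlgSpace_of_isPullback
      (IsPullback.of_hasPullback g g) hY.diag hX hX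
  exact isEtaleMor_comp
    (isEtaleMor_of_isPullback hA hX hQ (isPullback_m₁ g a b hP).flip ha)
    (isEtaleMor_of_isPullback hB hX hD (isPullback_m₂ g b).flip hb)

theorem mem_range_prodMap (z : Points (pullback g g))
    (h1 : Points.map (pullback.fst g g) z ∈ Set.range (Points.map a))
    (h2 : Points.map (pullback.snd g g) z ∈ Set.range (Points.map b)) :
    z ∈ Set.range (Points.map (prodMap g a b hP)) := by
  obtain ⟨α, hα⟩ := h1
  obtain ⟨β, hβ⟩ := h2
  obtain ⟨w, hw1, hw2⟩ := exists_point_of_isPullback (isPullback_m₂ g b) β z hβ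
  have hqx : Points.map (pullback.fst g (b ≫ g)) w = Points.map a α := by
    have : m₂ g b ≫ pullback.fst g g = pullback.fst g (b ≫ g) := pullback.lift_fst _ _ _
    rw [← this, Points.map_comp, hw2, hα]
  obtain ⟨v, -, hv2⟩ := exists_point_of_isPullback (isPullback_m₁ g a b hP) α w hqx.symm
  refine ⟨v, ?_⟩
  rw [← m₁_m₂, Points.map_comp, hv2, hw2]

end

theorem repWith_mono' {P Q : MorphismProperty Scheme.{u}} (hPQ : P ≤ Q) {F G : Sp S} {f : F ⟶ G}
    (hf : RepWith P f) : RepWith Q f := by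
  refine MorphismProperty.relative_monotone ?_ _ hf
  intro A B k hk
  exact hPQ _ hk

/-- A representable immersion which is closed on points is a closed immersion. -/
theorem repWith_isClosedImmersion_of_isClosedMor {F G : Sp S} (c : F ⟶ G)
    (hc : RepWith @IsImmersion c) (hcl : IsClosedMor c) : RepWith @IsClosedImmersion c := by
  refine ⟨hc.1, fun T A t fst snd sq => ?_⟩
  haveI : IsImmersion snd.left := hc.2 t fst snd sq
  have hrange : Set.range snd.left = Points.ofPt t ⁻¹' Set.range (Points.map c) := by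
    ext x
    exact (ofPt_mem_range_map_iff sq x).symm
  show IsClosedImmersion snd.left
  refine IsClosedImmersion.of_isPreimmersion _ ?_
  rw [hrange]
  have h1 : IsClosed (Set.range (Points.map c)) := by
    rw [← Set.image_univ]
    exact hcl _ isClosed_univ
  exact h1.preimage (Points.continuous_ofPt t)

section Graph

variable {U V X Y PX PY : Sp S} (g : X ⟶ Y) (j : U ⟶ X) (f : V ⟶ X)
  {pX : PX ⟶ U} {qX : PX ⟶ V} (hPX : IsPullback pX qX j f)
  {pY : PY ⟶ U} {qY : PY ⟶ V} (hPY : IsPullback pY qY (j ≫ g) (f ≫ g))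
  (c : PX ⟶ PY) (hc₁ : c ≫ pY = pX) (hc₂ : c ≫ qY = qX)

include hPX hPY hc₁ hc₂ in
/-- `U ×_X V ⟶ U ×_Y V` is an immersion when `U ⟶ X` is an open immersion and `U ⟶ Y` is
separated. -/
theorem repWith_isImmersion_of_open_of_separated (hj : RepWith @IsOpenImmersion j)
    (hU : IsSeparatedMor (j ≫ g)) : RepWith @IsImmersion c := by
  have hcond : pX ≫ j ≫ g = 𝟙 PX ≫ qX ≫ f ≫ g := by
    rw [Category.id_comp, ← Category.assoc, hPX.w, Category.assoc]
  let Γ : PX ⟶ pullback (j ≫ g) (qX ≫ f ≫ g) := pullback.lift pX (𝟙 PX) hcond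
  have hΓ1 : Γ ≫ pullback.fst (j ≫ g) (qX ≫ f ≫ g) = pX := pullback.lift_fst _ _ _
  have hΓ2 : Γ ≫ pullback.snd (j ≫ g) (qX ≫ f ≫ g) = 𝟙 PX := pullback.lift_snd _ _ _
  have hωc : pullback.fst (j ≫ g) (qX ≫ f ≫ g) ≫ j ≫ g =
      (pullback.snd (j ≫ g) (qX ≫ f ≫ g) ≫ qX) ≫ f ≫ g := by
    rw [Category.assoc]; exact pullback.condition
  let ω : pullback (j ≫ g) (qX ≫ f ≫ g) ⟶ PY := hPY.lift _ _ hωc
  have hω1 : ω ≫ pY = pullback.fst (j ≫ g) (qX ≫ f ≫ g) := hPY.lift_fst _ _ _
  have hω2 : ω ≫ qY = pullback.snd (j ≫ g) (qX ≫ f ≫ g) ≫ qX := hPY.lift_snd _ _ _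
  have hc : c = Γ ≫ ω := by
    apply hPY.hom_ext
    · rw [hc₁, Category.assoc, hω1, hΓ1]
    · rw [hc₂, Category.assoc, hω2, ← Category.assoc, hΓ2, Category.id_comp]
  -- ω is a base change of qX, an open immersion
  have sqω : IsPullback (pullback.snd (j ≫ g) (qX ≫ f ≫ g)) ω qX qY := by
    refine IsPullback.of_bot ?_ hω2.symm hPY.flip
    rw [hω1]
    exact (IsPullback.of_hasPullback (j ≫ g) (qX ≫ f ≫ g)).flip
  have hqX : RepWith @IsOpenImmersion qX :=
    MorphismProperty.of_isPullback (P := RepWith @IsOpenImmersion) hPX hj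
  have hω : RepWith @IsOpenImmersion ω :=
    MorphismProperty.of_isPullback (P := RepWith @IsOpenImmersion) sqω hqX
  -- Γ is a base change of the diagonal of `j ≫ g`
  have hμc : pullback.fst (j ≫ g) (qX ≫ f ≫ g) ≫ j ≫ g =
      (pullback.snd (j ≫ g) (qX ≫ f ≫ g) ≫ pX) ≫ j ≫ g := by
    rw [pullback.condition, Category.assoc, ← Category.assoc pX, hPX.w, Category.assoc]
  let μ : pullback (j ≫ g) (qX ≫ f ≫ g) ⟶ pullback (j ≫ g) (j ≫ g) := pullback.lift _ _ hμc
  have hμ1 : μ ≫ pullback.fst (j ≫ g) (j ≫ g) = pullback.fst (j ≫ g) (qX ≫ f ≫ g) :=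
    pullback.lift_fst _ _ _
  have hμ2 : μ ≫ pullback.snd (j ≫ g) (j ≫ g) = pullback.snd (j ≫ g) (qX ≫ f ≫ g) ≫ pX :=
    pullback.lift_snd _ _ _
  have sqΓ : IsPullback pX Γ (pullback.diagonal (j ≫ g)) μ := by
    have w : pX ≫ pullback.diagonal (j ≫ g) = Γ ≫ μ := by
      apply pullback.hom_ext
      · rw [Category.assoc, pullback.diagonal_fst, Category.comp_id, Category.assoc, hμ1, hΓ1]
      · rw [Category.assoc, pullback.diagonal_snd, Category.comp_id, Category.assoc, hμ2,
          ← Category.assoc, hΓ2, Category.id_comp]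
    refine ⟨⟨w⟩, ⟨PullbackCone.IsLimit.mk _
      (fun s => s.snd ≫ pullback.snd (j ≫ g) (qX ≫ f ≫ g)) ?_ ?_ ?_⟩⟩
    · intro s
      have h2 := s.condition =≫ pullback.snd (j ≫ g) (j ≫ g)
      simp only [Category.assoc, pullback.diagonal_snd, Category.comp_id, hμ2] at h2
      rw [Category.assoc, ← h2]
    · intro s
      have h1 := s.condition =≫ pullback.fst (j ≫ g) (j ≫ g)
      have h2 := s.condition =≫ pullback.snd (j ≫ g) (j ≫ g)
      simp only [Category.assoc, pullback.diagonal_fst, pullback.diagonal_snd, Category.comp_id,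
        hμ1, hμ2] at h1 h2
      apply pullback.hom_ext
      · rw [Category.assoc, hΓ1, Category.assoc, ← h2, h1]
      · rw [Category.assoc, hΓ2, Category.comp_id]
    · intro s m' _ h2
      rw [← h2, Category.assoc, hΓ2, Category.comp_id]
  have hΓ : RepWith @IsClosedImmersion Γ :=
    MorphismProperty.of_isPullback (P := RepWith @IsClosedImmersion) sqΓ hU
  rw [hc]
  refine (RepWith (S := S) @IsImmersion).comp_mem _ _ (repWith_mono' ?_ hΓ) (repWith_mono' ?_ hω)
  · intro A B k (hk : IsClosedImmersion k)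
    exact (inferInstance : IsImmersion k)
  · intro A B k (hk : IsOpenImmersion k)
    exact (inferInstance : IsImmersion k)

end Graph

end Groth.Agent.Lib.Helper78.DiagCover
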