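import Groth.Agent.Lib.Helper78.AlgSpSmLocal
import Groth.Agent.Lib.Helper51.EtaleReduced
import Groth.Agent.Lib.Helper51.AlgSpPoints
import Groth.Prelude.Def_AlgSpSub
import Mathlib.AlgebraicGeometry.Morphisms.Flat
import Mathlib.AlgebraicGeometry.Morphisms.Smooth

/-!
# Reducedness of algebraic spaces along flat and smooth morphisms (helper78)
-/

set_option autoImplicit false
universe u

open CategoryTheory CategoryTheory.Limits AlgebraicGeometry MorphismProperty

namespace Groth.Agent.Lib.Helper78.AlgSpReduced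

open AlgSp Groth.Agent.Lib.Helper78.AlgSpBasic

set_option backward.isDefEq.respectTransparency.types false in
/-- reducedness descends along flat surjective morphisms of schemes. -/
theorem isReduced_of_flat_of_surjective {X Y : Scheme.{u}} (f : X ⟶ Y) [Flat f] [Surjective f]
    [IsReduced X] : IsReduced Y := by
  have key : ∀ y : Y, _root_.IsReduced (Y.presheaf.stalk y) := by
    intro y
    obtain ⟨x, rfl⟩ := f.surjective y
    algebraize [(f.stalkMap x).hom]
    have : Module.FaithfullyFlat (Y.presheaf.stalk (f x)) (X.presheaf.stalk x) :=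
      @Module.FaithfullyFlat.of_flat_of_isLocalHom _ _ _ _ _ _ _
        (Flat.stalkMap f x) (f.toLRSHom.prop x)
    have hinj : Function.Injective (f.stalkMap x).hom := ‹RingHom.FaithfullyFlat _›.injective
    exact isReduced_of_injective (f.stalkMap x).hom hinj
  exact isReduced_of_isReduced_stalk Y

/-- a scheme smooth over a reduced scheme is reduced. -/
theorem isReduced_of_smooth {X Y : Scheme.{u}} (f : X ⟶ Y) [Smooth f] [IsReduced Y] :
    IsReduced X := by
  have key : ∀ x : X, _root_.IsReduced (X.presheaf.stalk x) := by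
    intro x
    obtain ⟨V, hV, hxV, -⟩ := exists_isAffineOpen_mem_and_subset
      (TopologicalSpace.Opens.mem_top (f x))
    have hx' : x ∈ f ⁻¹ᵁ V := hxV
    obtain ⟨U, hU, hxU, hUV⟩ := exists_isAffineOpen_mem_and_subset hx'
    have h := HasRingHomProperty.appLE (P := @Smooth) f inferInstance ⟨V, hV⟩ ⟨U, hU⟩ hUV
    algebraize [(f.appLE V U hUV).hom]
    have : Algebra.Smooth Γ(Y, V) Γ(X, U) := h
    have hred : _root_.IsReduced Γ(X, U) := Groth.Agent.S9407.result Γ(Y, V) Γ(X, U)
    let _ : Algebra Γ(X, U) (X.presheaf.stalk x) :=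
      TopCat.Presheaf.algebra_section_stalk X.presheaf ⟨x, hxU⟩
    have hloc : IsLocalization.AtPrime (X.presheaf.stalk x)
        (hU.primeIdealOf ⟨x, hxU⟩).asIdeal := hU.isLocalization_stalk ⟨x, hxU⟩
    exact isReduced_localizationPreserves (hU.primeIdealOf ⟨x, hxU⟩).asIdeal.primeCompl
      (X.presheaf.stalk x) hred
  exact isReduced_of_isReduced_stalk X

variable {S : Scheme.{u}}

/-- every etale chart of a reduced algebraic space is reduced. -/
theorem isReduced_of_chart {X : Sp S} (hX : IsReducedSp X) {U : Over S}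
    (a : (yon S).obj U ⟶ X) (ha : RepWith @Etale a) : IsReduced U.left := by
  obtain ⟨U', a', ha', ha's, hU'⟩ := hX
  -- `W = U ×_X U'`
  have sq := ha'.rep.isPullback' a
  have h1 : Etale (ha'.rep.snd a).left := ha'.property _ _ _ sq
  have h1s : Surjective (ha'.rep.snd a).left := ha's.property _ _ _ sq
  have h2 : Etale (ha'.rep.fst' a).left := ha.property _ _ _ sq.flip
  have : IsReduced U'.left := hU'
  have hW : IsReduced (ha'.rep.pullback a).left :=
    Groth.Agent.Lib.Helper51.isReduced_of_etale (ha'.rep.fst' a).left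
  exact isReduced_of_flat_of_surjective (ha'.rep.snd a).left

/-- in a chart diagram built from atlases, the top arrow is surjective when `f` is surjective
on points. -/
theorem surjective_of_chart_diagram {X Y : Sp S} (f : X ⟶ Y) (hs : IsSurjectiveMor f)
    {U₀ U V : Over S} (a₀ : (yon S).obj U₀ ⟶ X) (ha₀s : RepWith @Surjective a₀)
    (b : (yon S).obj V ⟶ Y) (j : U ⟶ U₀) (h : U ⟶ V)
    (sq : IsPullback ((yon S).map h) ((yon S).map j) b (a₀ ≫ f)) : Surjective h.left := by
  refine ⟨fun v => ?_⟩
  refine (Groth.Agent.Lib.Helper52.ofPt_mem_range_map_iff sq.flip v).1 ?_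
  obtain ⟨x, hx⟩ := hs (Points.ofPt b v)
  obtain ⟨ξ, hξ⟩ := Groth.Agent.Lib.Helper51.surjective_map_of_repWith_surjective ha₀s x
  exact ⟨ξ, by rw [Points.map_comp, hξ, hx]⟩

/-- reducedness descends along flat surjective morphisms of algebraic spaces. -/
theorem isReducedSp_of_flat_of_surjective {X Y : Sp S} (hX : IsAlgSpace X) (hY : IsAlgSpace Y)
    (f : X ⟶ Y) (hfl : LocP @Flat f) (hs : IsSurjectiveMor f) (hXr : IsReducedSp X) :
    IsReducedSp Y := by
  obtain ⟨V, b, hb, hbs⟩ := hY.atlas
  obtain ⟨U₀, a₀, ha₀, ha₀s⟩ := hX.atlas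
  obtain ⟨U, j, h, sq, ha, -⟩ := exists_chart_diagram f a₀ ha₀ b hb
  have comm : ((yon S).map j ≫ a₀) ≫ f = (yon S).map h ≫ b := by
    rw [Category.assoc]; exact sq.w.symm
  have : IsReduced U.left := isReduced_of_chart hXr _ ha
  have : Flat h.left := hfl _ b h ha hb comm
  have : Surjective h.left := surjective_of_chart_diagram f hs a₀ ha₀s b j h sq
  exact ⟨V, b, hb, hbs, isReduced_of_flat_of_surjective h.left⟩

/-- the source of a smooth morphism to a reduced algebraic space is reduced. -/
theorem isReducedSp_of_smooth {X Y : Sp S} (hX : IsAlgSpace X) (hY : IsAlgSpace Y)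
    (f : X ⟶ Y) (hf : LocP @Smooth f) (hYr : IsReducedSp Y) : IsReducedSp X := by
  obtain ⟨V, b, hb, hbs⟩ := hY.atlas
  obtain ⟨U₀, a₀, ha₀, ha₀s⟩ := hX.atlas
  obtain ⟨U, j, h, sq, ha, has⟩ := exists_chart_diagram f a₀ ha₀ b hb
  have has := has ha₀s hbs
  have comm : ((yon S).map j ≫ a₀) ≫ f = (yon S).map h ≫ b := by
    rw [Category.assoc]; exact sq.w.symm
  have : IsReduced V.left := isReduced_of_chart hYr _ hb
  have : Smooth h.left := hf _ b h ha hb comm
  exact ⟨U, _, ha, has, isReduced_of_smooth h.left⟩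

end Groth.Agent.Lib.Helper78.AlgSpReduced
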