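import Groth.Agent.Lib.Helper78.AlgSpThick
import Groth.Agent.Lib.Helper78.AlgSpFibre
import Groth.Agent.Lib.Helper51.AlgSpOpen
import Groth.Agent.Lib.Helper51.AlgSpPoints

/-!
# Morphisms of thickenings of algebraic spaces (helper78)

For a morphism `(f, f')` of thickenings `X ⊂ X'`, `Y ⊂ Y'`, every base change of `f` is, up to
thickenings (homeomorphisms on points), a base change of `f'`, and conversely.
-/

set_option autoImplicit false
universe u
open CategoryTheory CategoryTheory.Limits AlgebraicGeometry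
open AlgSp

namespace Groth.Agent.Lib.Helper78.AlgSpThickMor

open Groth.Agent.Lib.Helper51 Groth.Agent.Lib.Helper52 Groth.Agent.Lib.Helper30
open Groth.Agent.Lib.Helper78.AlgSpThick Groth.Agent.Lib.Helper78.AlgSpFibre

variable {S : Scheme.{u}}

instance isThickMor_isStableUnderBaseChange :
    (IsThickMor (S := S)).IsStableUnderBaseChange :=
  inferInstanceAs ((RepWith (S := S) thick).IsStableUnderBaseChange)

theorem isHomeomorph_map_of_isThickMor {X X' : Sp S} {i : X ⟶ X'} (hi : IsThickMor i) :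
    IsHomeomorph (Points.map i) :=
  ⟨Points.continuous_map i, isOpenMap_map_of_isThickMor hi,
    ⟨injective_map_of_isThickMor hi, surjective_map_of_isThickMor hi⟩⟩

theorem isHomeomorph_map_id (X : Sp S) : IsHomeomorph (Points.map (𝟙 X)) := by
  have : Points.map (𝟙 X) = id := funext fun x => Points.map_id x
  rw [this]
  exact IsHomeomorph.id

/-- Comparison data, direction `f' ⇒ f`. -/
theorem exists_comparison_of_base {X X' Y Y' : Sp S} (i : X ⟶ X') (j : Y ⟶ Y')
    (f : X ⟶ Y) (f' : X' ⟶ Y') (hi : IsThickMor i) (hj : IsThickMor j) (w : i ≫ f' = f ≫ j)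
    {Z Z' : Sp S} (g : Z ⟶ Y) (fst : Z' ⟶ X) (snd : Z' ⟶ Z) (sq : IsPullback fst snd f g) :
    ∃ (P : Sp S) (p1 : P ⟶ X') (p2 : P ⟶ Z) (c : Z' ⟶ P),
      IsPullback p1 p2 f' (g ≫ j) ∧ IsThickMor c ∧ c ≫ p2 = snd := by
  have : Mono j := mono_of_isThickMor hj
  have sq' : IsPullback fst snd (f ≫ j) (g ≫ j) := (isPullback_comp_mono_iff fst snd f g j).2 sq
  rw [← w] at sq'
  have sqP := IsPullback.of_hasPullback f' (g ≫ j)
  have hw : (fst ≫ i) ≫ f' = snd ≫ (g ≫ j) := by rw [Category.assoc, sq'.w]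
  refine ⟨pullback f' (g ≫ j), pullback.fst _ _, pullback.snd _ _, sqP.lift (fst ≫ i) snd hw,
    sqP, ?_, sqP.lift_snd _ _ _⟩
  have key : IsPullback (sqP.lift (fst ≫ i) snd hw) fst (pullback.fst f' (g ≫ j)) i := by
    refine IsPullback.of_right (h₁₂ := pullback.snd f' (g ≫ j)) (v₁₃ := g ≫ j) (h₂₂ := f')
      ?_ (sqP.lift_fst _ _ _) sqP.flip
    rw [sqP.lift_snd]
    exact sq'.flip
  exact MorphismProperty.of_isPullback key.flip hi

/-- Comparison data, direction `f ⇒ f'`. -/
theorem exists_comparison_of_thick {X X' Y Y' : Sp S} (i : X ⟶ X') (j : Y ⟶ Y')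
    (f : X ⟶ Y) (f' : X' ⟶ Y') (hi : IsThickMor i) (hj : IsThickMor j) (w : i ≫ f' = f ≫ j)
    {Z Z' : Sp S} (g' : Z ⟶ Y') (fst' : Z' ⟶ X') (snd' : Z' ⟶ Z)
    (sq : IsPullback fst' snd' f' g') :
    ∃ (ZY : Sp S) (p : ZY ⟶ Y) (q : ZY ⟶ Z) (W : Sp S) (a : W ⟶ X) (b : W ⟶ ZY) (c : W ⟶ Z'),
      IsPullback p q j g' ∧ IsThickMor q ∧ IsPullback a b f p ∧ IsThickMor c ∧
        c ≫ snd' = b ≫ q := by
  have sqJ := IsPullback.of_hasPullback j g'
  have hq : IsThickMor (pullback.snd j g') := MorphismProperty.of_isPullback sqJ hj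
  have sqW := IsPullback.of_hasPullback f (pullback.fst j g')
  have big : IsPullback (pullback.snd f (pullback.fst j g') ≫ pullback.snd j g')
      (pullback.fst f (pullback.fst j g')) g' (f ≫ j) := sqW.flip.paste_horiz sqJ.flip
  rw [← w] at big
  have hw : (pullback.fst f (pullback.fst j g') ≫ i) ≫ f' =
      (pullback.snd f (pullback.fst j g') ≫ pullback.snd j g') ≫ g' := by
    rw [Category.assoc]; exact big.w.symm
  refine ⟨pullback j g', pullback.fst _ _, pullback.snd _ _, pullback f (pullback.fst j g'),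
    pullback.fst _ _, pullback.snd _ _, sq.lift _ _ hw, sqJ, hq, sqW, ?_, sq.lift_snd _ _ _⟩
  have key : IsPullback (sq.lift _ _ hw) (pullback.fst f (pullback.fst j g')) fst' i := by
    refine IsPullback.of_right (h₁₂ := snd') (v₁₃ := g') (h₂₂ := f')
      ?_ (sq.lift_fst _ _ _) sq.flip
    rw [sq.lift_snd]
    exact big
  exact MorphismProperty.of_isPullback key.flip hi

/-- A property of morphisms of sheaves that only depends on the map on points up to
homeomorphisms. -/
def HomeoInv (QP : MorphismProperty (Sp S)) : Prop :=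
  ∀ ⦃A A' B B' : Sp S⦄ (c : A ⟶ A') (q : B ⟶ B') (b : A ⟶ B) (s : A' ⟶ B'),
    IsHomeomorph (Points.map c) → IsHomeomorph (Points.map q) → b ≫ q = c ≫ s → (QP b ↔ QP s)

theorem univSp_iff_of_thick {QP : MorphismProperty (Sp S)} (hQP : HomeoInv QP)
    {X X' Y Y' : Sp S} (hY : IsAlgSpace Y)
    (hY' : IsAlgSpace Y') (i : X ⟶ X') (j : Y ⟶ Y')
    (f : X ⟶ Y) (f' : X' ⟶ Y') (hi : IsThickMor i) (hj : IsThickMor j) (w : i ≫ f' = f ≫ j) :
    UnivSp QP f ↔ UnivSp QP f' := by
  constructor
  · intro h Z Z' hZ g' fst' snd' sq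
    obtain ⟨ZY, p, q, W, a, b, c, sqJ, hq, sqW, hc, hcomm⟩ :=
      exists_comparison_of_thick i j f f' hi hj w g' fst' snd' sq
    have hZY : IsAlgSpace ZY := isAlgSpace_of_isPullback sqJ hY'.diag hY hZ
    have hb : QP b := h hZY p a b sqW
    exact (hQP c q b snd' (isHomeomorph_map_of_isThickMor hc)
      (isHomeomorph_map_of_isThickMor hq) hcomm.symm).1 hb
  · intro h Z Z' hZ g fst snd sq
    obtain ⟨P, p1, p2, c, sqP, hc, hcomm⟩ :=
      exists_comparison_of_base i j f f' hi hj w g fst snd sq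
    have hp2 : QP p2 := h hZ (g ≫ j) p1 p2 sqP
    exact (hQP c (𝟙 Z) snd p2 (isHomeomorph_map_of_isThickMor hc) (isHomeomorph_map_id Z)
      (by rw [Category.comp_id, hcomm])).2 hp2

section HomeoInvInstances

/-- The conjugation formula on points. -/
theorem map_conj {A A' B B' : Sp S} (c : A ⟶ A') (q : B ⟶ B') (b : A ⟶ B) (s : A' ⟶ B')
    (hc : IsHomeomorph (Points.map c)) (hq : IsHomeomorph (Points.map q)) (w : b ≫ q = c ≫ s) :
    Points.map s = (hq.homeomorph _) ∘ Points.map b ∘ (hc.homeomorph _).symm ∧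
    Points.map b = (hq.homeomorph _).symm ∘ Points.map s ∘ (hc.homeomorph _) := by
  have h1 : ∀ x, Points.map q (Points.map b x) = Points.map s (Points.map c x) := fun x => by
    rw [← Points.map_comp, ← Points.map_comp, w]
  constructor
  · funext y
    obtain ⟨x, rfl⟩ := hc.bijective.2 y
    have : (hc.homeomorph _).symm (Points.map c x) = x :=
      (hc.homeomorph _).symm_apply_apply x
    simp only [Function.comp_apply, this]
    exact (h1 x).symm
  · funext x
    simp only [Function.comp_apply]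
    have : (hc.homeomorph _) x = Points.map c x := rfl
    rw [this, ← h1 x]
    exact ((hq.homeomorph _).symm_apply_apply _).symm

theorem homeoInv_isOpenMor : HomeoInv (S := S) IsOpenMor := by
  intro A A' B B' c q b s hc hq w
  obtain ⟨e1, e2⟩ := map_conj c q b s hc hq w
  constructor
  · intro (h : IsOpenMap (Points.map b))
    show IsOpenMap (Points.map s)
    rw [e1]
    exact (hq.homeomorph _).isOpenMap.comp (h.comp (hc.homeomorph _).symm.isOpenMap)
  · intro (h : IsOpenMap (Points.map s))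
    show IsOpenMap (Points.map b)
    rw [e2]
    exact (hq.homeomorph _).symm.isOpenMap.comp (h.comp (hc.homeomorph _).isOpenMap)

theorem homeoInv_isClosedMor : HomeoInv (S := S) IsClosedMor := by
  intro A A' B B' c q b s hc hq w
  obtain ⟨e1, e2⟩ := map_conj c q b s hc hq w
  constructor
  · intro (h : IsClosedMap (Points.map b))
    show IsClosedMap (Points.map s)
    rw [e1]
    exact (hq.homeomorph _).isClosedMap.comp (h.comp (hc.homeomorph _).symm.isClosedMap)
  · intro (h : IsClosedMap (Points.map s))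
    show IsClosedMap (Points.map b)
    rw [e2]
    exact (hq.homeomorph _).symm.isClosedMap.comp (h.comp (hc.homeomorph _).isClosedMap)

theorem homeoInv_injective :
    HomeoInv (S := S) (fun _ _ f => Function.Injective (Points.map f)) := by
  intro A A' B B' c q b s hc hq w
  obtain ⟨e1, e2⟩ := map_conj c q b s hc hq w
  constructor
  · intro (h : Function.Injective (Points.map b))
    show Function.Injective (Points.map s)
    rw [e1]
    exact (hq.homeomorph _).injective.comp (h.comp (hc.homeomorph _).symm.injective)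
  · intro (h : Function.Injective (Points.map s))
    show Function.Injective (Points.map b)
    rw [e2]
    exact (hq.homeomorph _).symm.injective.comp (h.comp (hc.homeomorph _).injective)

end HomeoInvInstances

theorem isSurjectiveMor_iff_of_thick {X X' Y Y' : Sp S} (i : X ⟶ X') (j : Y ⟶ Y')
    (f : X ⟶ Y) (f' : X' ⟶ Y') (hi : IsThickMor i) (hj : IsThickMor j) (w : i ≫ f' = f ≫ j) :
    IsSurjectiveMor f ↔ IsSurjectiveMor f' := by
  have h1 : ∀ x, Points.map f' (Points.map i x) = Points.map j (Points.map f x) := fun x => by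
    rw [← Points.map_comp, ← Points.map_comp, w]
  constructor
  · intro (h : Function.Surjective (Points.map f)) y'
    obtain ⟨y, rfl⟩ := surjective_map_of_isThickMor hj y'
    obtain ⟨x, rfl⟩ := h y
    exact ⟨Points.map i x, h1 x⟩
  · intro (h : Function.Surjective (Points.map f')) y
    obtain ⟨x', hx'⟩ := h (Points.map j y)
    obtain ⟨x, rfl⟩ := surjective_map_of_isThickMor hi x'
    refine ⟨x, injective_map_of_isThickMor hj ?_⟩
    rw [← h1 x, hx']

theorem compactSpace_iff_of_isHomeomorph {A B : Sp S} (c : A ⟶ B)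
    (hc : IsHomeomorph (Points.map c)) : CompactSpace (Points A) ↔ CompactSpace (Points B) :=
  ⟨fun _ => (hc.homeomorph _).compactSpace, fun _ => (hc.homeomorph _).symm.compactSpace⟩

theorem isQuasiCompactMor_iff_of_thick
    {X X' Y Y' : Sp S} (hX : IsAlgSpace X) (hX' : IsAlgSpace X') (hY : IsAlgSpace Y)
    (hY' : IsAlgSpace Y') (i : X ⟶ X') (j : Y ⟶ Y')
    (f : X ⟶ Y) (f' : X' ⟶ Y') (hi : IsThickMor i) (hj : IsThickMor j) (w : i ≫ f' = f ≫ j) :
    IsQuasiCompactMor f ↔ IsQuasiCompactMor f' := by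
  constructor
  · intro h Z Z' hZ hZqc g' fst' snd' sq
    obtain ⟨ZY, p, q, W, a, b, c, sqJ, hq, sqW, hc, hcomm⟩ :=
      exists_comparison_of_thick i j f f' hi hj w g' fst' snd' sq
    have hZY : IsAlgSpace ZY := isAlgSpace_of_isPullback sqJ hY'.diag hY hZ
    have hZ' : IsAlgSpace Z' := isAlgSpace_of_isPullback sq hY'.diag hX' hZ
    have hZYqc : IsQuasiCompactSp ZY := by
      rw [isQuasiCompactSp_iff_compactSpace_points hZY,
        compactSpace_iff_of_isHomeomorph q (isHomeomorph_map_of_isThickMor hq)]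
      exact compactSpace_points_of_isQuasiCompactSp hZqc
    have hW : IsQuasiCompactSp W := h hZY hZYqc p a b sqW
    rw [isQuasiCompactSp_iff_compactSpace_points hZ',
      ← compactSpace_iff_of_isHomeomorph c (isHomeomorph_map_of_isThickMor hc)]
    exact compactSpace_points_of_isQuasiCompactSp hW
  · intro h Z Z' hZ hZqc g fst snd sq
    obtain ⟨P, p1, p2, c, sqP, hc, hcomm⟩ :=
      exists_comparison_of_base i j f f' hi hj w g fst snd sq
    have hZ' : IsAlgSpace Z' := isAlgSpace_of_isPullback sq hY.diag hX hZ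
    have hP : IsQuasiCompactSp P := h hZ hZqc (g ≫ j) p1 p2 sqP
    rw [isQuasiCompactSp_iff_compactSpace_points hZ',
      compactSpace_iff_of_isHomeomorph c (isHomeomorph_map_of_isThickMor hc)]
    exact compactSpace_points_of_isQuasiCompactSp hP

end Groth.Agent.Lib.Helper78.AlgSpThickMor
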