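import Groth.Agent.Lib.Helper78.AlgSpLargestOpen
import Groth.Agent.Lib.Helper30.AlgSpMor
import Groth.Prelude.Def_AlgSpInf

/-!
# Thickenings of algebraic spaces: points and open subspaces (helper78)
-/

set_option autoImplicit false
universe u
open CategoryTheory CategoryTheory.Limits AlgebraicGeometry
open AlgSp

namespace Groth.Agent.Lib.Helper78.AlgSpThick

open Groth.Agent.Lib.Helper51 Groth.Agent.Lib.Helper52 Groth.Agent.Lib.Helper30
open Groth.Agent.Lib.Helper78.AlgSpLargestOpen

variable {S : Scheme.{u}}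

theorem mono_of_isThickMor {X X' : Sp S} {i : X ⟶ X'} (hi : IsThickMor i) : Mono i :=
  mono_of_repWith (fun g (h : thick g) => by
    have : IsClosedImmersion g := h.1
    infer_instance) hi

theorem injective_map_of_isThickMor {X X' : Sp S} {i : X ⟶ X'} (hi : IsThickMor i) :
    Function.Injective (Points.map i) := by
  have := mono_of_isThickMor hi
  exact injective_map_of_mono i

theorem surjective_map_of_isThickMor {X X' : Sp S} {i : X ⟶ X'} (hi : IsThickMor i) :
    Function.Surjective (Points.map i) :=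
  surjective_map_of_repWith_surjective (repWith_mono' (fun _ _ g (h : thick g) => h.2) hi)

theorem isOpenMap_map_of_isThickMor {X X' : Sp S} {i : X ⟶ X'} (hi : IsThickMor i) :
    IsOpenMap (Points.map i) := by
  refine isOpenMap_map_of_charts i fun T g => ?_
  have sq := hi.1.isPullback g
  have hth : thick (hi.1.snd g).left := hi.2 g _ _ sq
  have h1 : IsClosedImmersion (hi.1.snd g).left := hth.1
  have h2 : Surjective (hi.1.snd g).left := hth.2
  refine ⟨_, hi.1.fst g, hi.1.snd g, sq.w, ?_, fun w t hwt => exists_pt_of_isPullback_yon sq w t hwt⟩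
  have hce := (hi.1.snd g).left.isClosedEmbedding
  have hhomeo : IsHomeomorph (hi.1.snd g).left :=
    ⟨(hi.1.snd g).left.continuous, ?_, ⟨hce.injective, h2.surj⟩⟩
  · exact hhomeo.isOpenMap
  · intro O hO
    have hcl : IsClosed ((hi.1.snd g).left '' Oᶜ) := hce.isClosedMap _ hO.isClosed_compl
    have : (hi.1.snd g).left '' O = ((hi.1.snd g).left '' Oᶜ)ᶜ := by
      rw [Set.image_compl_eq ⟨hce.injective, h2.surj⟩, compl_compl]
    rw [this]
    exact hcl.isOpen_compl

/-- two open immersions with the same image on points are isomorphic over the target. -/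
theorem exists_iso_of_range_eq {U₁ U₂ X : Sp S} (u₁ : U₁ ⟶ X) (u₂ : U₂ ⟶ X)
    (h₁ : RepWith @IsOpenImmersion u₁) (h₂ : RepWith @IsOpenImmersion u₂)
    (h : Set.range (Points.map u₁) = Set.range (Points.map u₂)) :
    ∃ e : U₁ ≅ U₂, e.hom ≫ u₂ = u₁ := by
  have m₁ : Mono u₁ := mono_of_repWith (fun g (_ : IsOpenImmersion g) => inferInstance) h₁
  have m₂ : Mono u₂ := mono_of_repWith (fun g (_ : IsOpenImmersion g) => inferInstance) h₂
  obtain ⟨a, ha⟩ := exists_factor_of_range_subset u₂ h₂ u₁ (by rw [h])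
  obtain ⟨b, hb⟩ := exists_factor_of_range_subset u₁ h₁ u₂ (by rw [h])
  refine ⟨⟨a, b, ?_, ?_⟩, ha⟩
  · rw [← cancel_mono u₁, Category.assoc, hb, ha, Category.id_comp]
  · rw [← cancel_mono u₂, Category.assoc, ha, hb, Category.id_comp]

/-- the image of the base change of an open immersion. -/
theorem range_fst_of_isPullback {X X' U U' : Sp S} {i : X ⟶ X'} {u' : U' ⟶ X'} {u : U ⟶ X}
    {k : U ⟶ U'} (sq : IsPullback u k i u') :
    Set.range (Points.map u) = Points.map i ⁻¹' Set.range (Points.map u') := by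
  ext x
  constructor
  · rintro ⟨z, rfl⟩
    exact ⟨Points.map k z, by rw [← Points.map_comp, ← Points.map_comp, sq.w]⟩
  · rintro ⟨w, hw⟩
    obtain ⟨z, hz, -⟩ := exists_point_of_isPullback sq x w hw.symm
    exact ⟨z, hz⟩

theorem thick_open_exists {X X' U : Sp S} (hX : IsAlgSpace X) (hX' : IsAlgSpace X')
    (hU : IsAlgSpace U) (i : X ⟶ X') (hi : IsThickMor i) (u : U ⟶ X)
    (hu : RepWith @IsOpenImmersion u) :
    ∃ (U' : Sp S) (_ : IsAlgSpace U') (u' : U' ⟶ X') (k : U ⟶ U'),
      RepWith @IsOpenImmersion u' ∧ IsPullback u k i u' := by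
  have hopen_u : IsOpenMap (Points.map u) :=
    goodClass_etale_locP.isOpenMap u hU hX (goodClass_etale_locP.of_openImm u hU hX hu)
  have hV : IsOpen (Set.range (Points.map u)) := hopen_u.isOpen_range
  have hV' : IsOpen (Points.map i '' Set.range (Points.map u)) :=
    isOpenMap_map_of_isThickMor hi _ hV
  have hu' := repWith_isOpenImmersion_openSpι (F := X') _ hV'
  have hU' := isAlgSpace_openSp (F := X') _ hV' hX'
  have hsub : Set.range (Points.map (u ≫ i)) ⊆
      Set.range (Points.map (openSpι X' (Points.map i '' Set.range (Points.map u)))) := by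
    rw [range_map_openSpι]
    rintro _ ⟨z, rfl⟩
    exact ⟨Points.map u z, ⟨z, rfl⟩, (Points.map_comp _ _ _).symm⟩
  obtain ⟨k, hk⟩ := exists_factor_of_range_subset _ hu' (u ≫ i) hsub
  have sqP := IsPullback.of_hasPullback i (openSpι X' (Points.map i '' Set.range (Points.map u)))
  have hp₁ : RepWith @IsOpenImmersion
      (pullback.fst i (openSpι X' (Points.map i '' Set.range (Points.map u)))) :=
    MorphismProperty.of_isPullback sqP.flip hu'
  have hrange : Set.range (Points.map u) = Set.range (Points.map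
      (pullback.fst i (openSpι X' (Points.map i '' Set.range (Points.map u))))) := by
    rw [range_fst_of_isPullback sqP, range_map_openSpι,
      Set.preimage_image_eq _ (injective_map_of_isThickMor hi)]
  obtain ⟨e, he⟩ := exists_iso_of_range_eq u _ hu hp₁ hrange
  have : Mono (openSpι X' (Points.map i '' Set.range (Points.map u))) :=
    mono_of_repWith (fun g (_ : IsOpenImmersion g) => inferInstance) hu'
  have he₂ : e.hom ≫ pullback.snd i (openSpι X' (Points.map i '' Set.range (Points.map u))) = k := by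
    rw [← cancel_mono (openSpι X' (Points.map i '' Set.range (Points.map u))), Category.assoc,
      ← pullback.condition, ← Category.assoc, he, hk]
  exact ⟨_, hU', _, k, hu', IsPullback.of_iso_pullback ⟨hk.symm⟩ e he he₂⟩

theorem thick_open_unique {X X' U U₁ U₂ : Sp S} (i : X ⟶ X') (hi : IsThickMor i) (u : U ⟶ X)
    (u₁ : U₁ ⟶ X') (u₂ : U₂ ⟶ X') (k₁ : U ⟶ U₁) (k₂ : U ⟶ U₂)
    (h₁ : RepWith @IsOpenImmersion u₁) (sq₁ : IsPullback u k₁ i u₁)
    (h₂ : RepWith @IsOpenImmersion u₂) (sq₂ : IsPullback u k₂ i u₂) :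
    ∃ e : U₁ ≅ U₂, e.hom ≫ u₂ = u₁ := by
  refine exists_iso_of_range_eq u₁ u₂ h₁ h₂ ?_
  have e₁ := range_fst_of_isPullback sq₁
  have e₂ := range_fst_of_isPullback sq₂
  have hs := surjective_map_of_isThickMor hi
  rw [← Set.image_preimage_eq (Set.range (Points.map u₁)) hs,
    ← Set.image_preimage_eq (Set.range (Points.map u₂)) hs, ← e₁, ← e₂]

end Groth.Agent.Lib.Helper78.AlgSpThick
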