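import Groth.Agent.Lib.Helper78.AlgSpThickMor
import Groth.Agent.Lib.Helper78.AlgSpLocP3
import Groth.Agent.Lib.Helper51.AlgSpPull

/-!
# Chart diagrams of a cartesian morphism of thickenings (helper78)

For a cartesian morphism of thickenings `(f, f') : (X ⊂ X') ⟶ (Y ⊂ Y')` of sheaves, every chart
diagram `h' : U' ⟶ V'` of `f'` restricts to a chart diagram `h : U ⟶ V` of `f` such that
`U ⟶ U'`, `V ⟶ V'` are thickenings of schemes and the square of schemes is cartesian.
-/

set_option autoImplicit false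
universe u
open CategoryTheory CategoryTheory.Limits AlgebraicGeometry
open AlgSp

namespace Groth.Agent.Lib.Helper78.AlgSpThickChart

open Groth.Agent.Lib.Helper51 Groth.Agent.Lib.Helper52 Groth.Agent.Lib.Helper30
open Groth.Agent.Lib.Helper78.AlgSpThick Groth.Agent.Lib.Helper78.AlgSpThickMor

variable {S : Scheme.{u}}

theorem exists_thick_chart {X X' Y Y' : Sp S} (i : X ⟶ X') (j : Y ⟶ Y')
    (f : X ⟶ Y) (f' : X' ⟶ Y') (hi : IsThickMor i) (hj : IsThickMor j)
    (hcart : IsPullback i f f' j) {U' V' : Over S} (a' : (yon S).obj U' ⟶ X')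
    (b' : (yon S).obj V' ⟶ Y') (h' : U' ⟶ V') (ha' : RepWith @Etale a') (hb' : RepWith @Etale b')
    (comm' : a' ≫ f' = (yon S).map h' ≫ b') :
    ∃ (U V : Over S) (pU : (yon S).obj U ⟶ X) (pV : (yon S).obj V ⟶ Y) (kU : U ⟶ U')
      (kV : V ⟶ V') (h : U ⟶ V), RepWith @Etale pU ∧ RepWith @Etale pV ∧
      pU ≫ f = (yon S).map h ≫ pV ∧ thick kU.left ∧ thick kV.left ∧
      IsPullback pU ((yon S).map kU) i a' ∧ IsPullback pV ((yon S).map kV) j b' ∧
      IsPullback kU.left h.left h'.left kV.left := by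
  have sqU := hi.1.isPullback a'
  have sqV := hj.1.isPullback b'
  have hkU : thick (hi.1.snd a').left := hi.2 a' _ _ sqU
  have hkV : thick (hj.1.snd b').left := hj.2 b' _ _ sqV
  have hpU : RepWith @Etale (hi.1.fst a') := MorphismProperty.of_isPullback sqU.flip ha'
  have hpV : RepWith @Etale (hj.1.fst b') := MorphismProperty.of_isPullback sqV.flip hb'
  have hw : (hi.1.fst a' ≫ f) ≫ j = ((yon S).map (hi.1.snd a') ≫ (yon S).map h') ≫ b' := by
    rw [Category.assoc, ← hcart.w, ← Category.assoc, sqU.w, Category.assoc, comm',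
      Category.assoc]
  obtain ⟨h, hh⟩ := (yon S).map_surjective (sqV.lift _ _ hw)
  have hh1 : (yon S).map h ≫ hj.1.fst b' = hi.1.fst a' ≫ f := by rw [hh, sqV.lift_fst]
  have hh2 : (yon S).map h ≫ (yon S).map (hj.1.snd b') =
      (yon S).map (hi.1.snd a') ≫ (yon S).map h' := by rw [hh, sqV.lift_snd]
  refine ⟨_, _, hi.1.fst a', hj.1.fst b', hi.1.snd a', hj.1.snd b', h, hpU, hpV, hh1.symm,
    hkU, hkV, sqU, sqV, ?_⟩
  apply isPullback_left_of_yon
  have big : IsPullback ((yon S).map (hi.1.snd a')) (hi.1.fst a' ≫ f) (a' ≫ f') j :=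
    sqU.flip.paste_vert hcart
  rw [comm', ← hh1] at big
  exact IsPullback.of_bot big hh2.symm sqV.flip

end Groth.Agent.Lib.Helper78.AlgSpThickChart
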