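import Groth.Agent.Lib.Helper78.AlgSpLocPLofp
import Groth.Agent.Lib.Helper78.AlgSpLocPUnram
import Mathlib.RingTheory.Etale.Descent
import Mathlib.RingTheory.Etale.Kaehler
import Mathlib.RingTheory.Smooth.Basic
import Mathlib.RingTheory.Flat.Basic
import Mathlib.RingTheory.Smooth.Flat
import Mathlib.RingTheory.Flat.Stability

/-!
# Smoothness descends along etale covers of the source: ring level (helper78)
-/

set_option autoImplicit false
universe u

open TensorProduct

namespace Groth.Agent.Lib.Helper78.SmoothDesc

open Algebra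

attribute [local instance] SMulCommClass.of_commMonoid

set_option maxHeartbeats 1000000 in
/-- Let `P → A` be an extension of `R`-algebras with `P` formally smooth, `Q'` an etale `P`-algebra and
`T = A ⊗[P] Q'`.  If `T` is formally smooth over `R`, then `T ⊗[A] H¹(L_P) = 0`. -/
theorem subsingleton_tensor_h1Cotangent {R A : Type u} [CommRing R] [CommRing A] [Algebra R A]
    (P : Extension.{u} R A) (Q' : Type u) [CommRing Q'] [Algebra P.Ring Q'] [Algebra R Q']
    [IsScalarTower R P.Ring Q'] [Algebra.Etale P.Ring Q'] [FormallySmooth R P.Ring]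
    [FormallySmooth R (A ⊗[P.Ring] Q')] :
    Subsingleton ((A ⊗[P.Ring] Q') ⊗[A] P.H1Cotangent) := by
  -- the extension `Q' → T`
  let ψ : Q' →ₐ[R] A ⊗[P.Ring] Q' :=
    (Algebra.TensorProduct.includeRight : Q' →ₐ[P.Ring] A ⊗[P.Ring] Q').restrictScalars R
  have hψ : Function.Surjective ψ := by
    intro t
    induction t using TensorProduct.induction_on with
    | zero => exact ⟨0, map_zero _⟩
    | add x y hx hy =>
      obtain ⟨x', rfl⟩ := hx
      obtain ⟨y', rfl⟩ := hy
      exact ⟨x' + y', map_add _ _ _⟩
    | tmul a q =>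
      obtain ⟨p, rfl⟩ := P.algebraMap_surjective a
      refine ⟨p • q, ?_⟩
      change (1 : A) ⊗ₜ[P.Ring] (p • q) = algebraMap P.Ring A p ⊗ₜ[P.Ring] q
      rw [← TensorProduct.smul_tmul, Algebra.smul_def, mul_one]
  let Q : Extension.{u} R (A ⊗[P.Ring] Q') := .ofSurjective ψ hψ
  let f : P.Hom Q :=
  { toRingHom := algebraMap P.Ring Q'
    toRingHom_algebraMap := fun x => (IsScalarTower.algebraMap_apply R P.Ring Q' x).symm
    algebraMap_toRingHom := fun x => by
      change (1 : A) ⊗ₜ[P.Ring] (algebraMap P.Ring Q' x) = (algebraMap P.Ring A x) ⊗ₜ[P.Ring] (1 : Q')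
      rw [Algebra.algebraMap_eq_smul_one, Algebra.algebraMap_eq_smul_one, TensorProduct.smul_tmul] }
  let _ : Algebra P.Ring Q.Ring := (inferInstance : Algebra P.Ring Q')
  have hsmQ : FormallySmooth R Q.Ring := by
    have : FormallySmooth P.Ring Q' := inferInstance
    exact FormallySmooth.comp R P.Ring Q'
  have H₁ : f.toRingHom.FormallyEtale :=
    RingHom.formallyEtale_algebraMap.mpr (inferInstance : FormallyEtale P.Ring Q')
  have hflat : Module.Flat P.Ring Q' := by
    have : Algebra.Smooth P.Ring Q' := inferInstance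
    exact Algebra.Smooth.flat P.Ring Q'
  have H₂ : Function.Bijective ((f.mapKer rfl).liftBaseChange Q.Ring) := by
    have hflatQ : Module.Flat P.Ring Q.Ring := hflat
    set L := (f.mapKer rfl).liftBaseChange Q.Ring with hL
    let G : Q.Ring ⊗[P.Ring] P.ker →ₗ[P.Ring] Q.Ring :=
      (TensorProduct.rid P.Ring Q.Ring).toLinearMap ∘ₗ
        LinearMap.lTensor Q.Ring (Submodule.subtype P.ker)
    have hG : ∀ x : Q.Ring ⊗[P.Ring] P.ker, G x = ((L x : Q.ker) : Q.Ring) := by
      intro x
      induction x using TensorProduct.induction_on with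
      | zero => rw [map_zero, map_zero]; rfl
      | add x y hx hy => rw [map_add, map_add, hx, hy]; rfl
      | tmul q i =>
        simp only [G, hL, LinearMap.coe_comp, LinearEquiv.coe_coe, Function.comp_apply,
          LinearMap.lTensor_tmul, Submodule.subtype_apply, TensorProduct.rid_tmul,
          LinearMap.liftBaseChange_tmul, Submodule.coe_smul]
        change (i : P.Ring) • q = q • (algebraMap P.Ring Q.Ring (i : P.Ring))
        rw [Algebra.smul_def, smul_eq_mul, mul_comm]
    have hGinj : Function.Injective G := by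
      refine (TensorProduct.rid P.Ring Q.Ring).injective.comp ?_
      exact Module.Flat.lTensor_preserves_injective_linearMap _ (Submodule.subtype_injective _)
    constructor
    · intro x y hxy
      apply hGinj
      rw [hG, hG, hxy]
    · intro j
      have hj : algebraMap Q.Ring (A ⊗[P.Ring] Q') (j : Q.Ring) = 0 := j.2
      have hj' : (1 : A) ⊗ₜ[P.Ring] ((j : Q.Ring) : Q') = 0 := hj
      have key : ∀ j₀ : Q', (1 : A) ⊗ₜ[P.Ring] j₀ = 0 →
          j₀ ⊗ₜ[P.Ring] (1 : A) = (0 : Q' ⊗[P.Ring] A) := by
        intro j₀ h
        have := congrArg (TensorProduct.comm P.Ring A Q') h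
        rwa [TensorProduct.comm_tmul, map_zero] at this
      have hj'' : (j : Q.Ring) ⊗ₜ[P.Ring] (1 : A) = 0 := key _ hj'
      have hex := lTensor_exact Q.Ring
        (LinearMap.exact_subtype_ker_map (Algebra.linearMap P.Ring A))
        (show Function.Surjective (Algebra.linearMap P.Ring A) from P.algebraMap_surjective)
      obtain ⟨y, hy⟩ := (hex ((j : Q.Ring) ⊗ₜ[P.Ring] (1 : P.Ring))).1 (by
        rw [LinearMap.lTensor_tmul, Algebra.linearMap_apply, map_one]
        exact hj'')
      refine ⟨y, Subtype.ext ?_⟩
      rw [← hG]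
      change (TensorProduct.rid P.Ring Q.Ring)
        (LinearMap.lTensor Q.Ring (Submodule.subtype P.ker) y) = _
      have : LinearMap.lTensor Q.Ring (Submodule.subtype P.ker) y =
          (j : Q.Ring) ⊗ₜ[P.Ring] (1 : P.Ring) := hy
      rw [this]
      exact (TensorProduct.rid_tmul _ _).trans (one_smul _ _)
  have : Module.Flat A (A ⊗[P.Ring] Q') := inferInstance
  have e := Extension.tensorH1CotangentOfFormallyEtale f rfl H₁ H₂ ≪≫ₗ
      Extension.equivH1CotangentOfFormallySmooth _
  have : Subsingleton (H1Cotangent R (A ⊗[P.Ring] Q')) := inferInstance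
  exact e.toEquiv.subsingleton

open Groth.Agent.Lib.Helper78.AlgSpLocPLofp Groth.Agent.Lib.Helper78.AlgSpLocPUnram

set_option maxHeartbeats 1000000 in
/-- **Smoothness descends along etale covers of the source** (ring level, global form). -/
theorem smooth_of_etale_of_comap_surjective {R A B : Type u} [CommRing R] [CommRing A] [CommRing B]
    [Algebra R A] [Algebra A B] [Algebra R B] [IsScalarTower R A B]
    [Algebra.FinitePresentation R A] [Algebra.Etale A B] [Algebra.Smooth R B]
    (hsurj : Function.Surjective (PrimeSpectrum.comap (algebraMap A B))) : Algebra.Smooth R A := by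
  have hflatAB : Module.Flat A B := Algebra.Smooth.flat A B
  have hff : Module.FaithfullyFlat A B := Module.FaithfullyFlat.of_comap_surjective hsurj
  refine ⟨?_, inferInstance⟩
  rw [Algebra.formallySmooth_iff]
  constructor
  · let e' : B ⊗[A] Ω[A⁄R] ≃ₗ[B] Ω[B⁄R] :=
      KaehlerDifferential.tensorKaehlerEquivOfFormallyEtale R A B
    have : Module.Projective B Ω[B⁄R] := inferInstance
    have : Module.Flat B (B ⊗[A] Ω[A⁄R]) := .of_linearEquiv e'
    have : Module.Flat A Ω[A⁄R] := Module.Flat.of_flat_tensorProduct _ _ B
    exact Module.Flat.projective_of_finitePresentation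
  · rw [← Module.support_eq_empty_iff (R := A)]
    by_contra hne
    obtain ⟨p, hp⟩ := Set.nonempty_iff_ne_empty.2 hne
    obtain ⟨q, rfl⟩ := hsurj p
    -- local lifting
    let P := (Generators.self R A).toExtension
    have : q.asIdeal.IsPrime := q.isPrime
    obtain ⟨Q', _, _, _, g, hgq, ⟨e'⟩⟩ :=
      exists_etale_lift (P₀ := P.Ring) P.algebraMap_surjective q.asIdeal
    let _ : Algebra R Q' := ((algebraMap P.Ring Q').comp (algebraMap R P.Ring)).toAlgebra
    have : IsScalarTower R P.Ring Q' := .of_algebraMap_eq' rfl
    have : FormallySmooth R P.Ring := inferInstanceAs (FormallySmooth R (MvPolynomial A R))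
    have hsmBg : FormallySmooth R (Localization.Away g) := by
      have : FormallySmooth B (Localization.Away g) := .of_isLocalization (Submonoid.powers g)
      exact FormallySmooth.comp R B (Localization.Away g)
    have : FormallySmooth R (A ⊗[P.Ring] Q') :=
      FormallySmooth.of_equiv (e'.symm.restrictScalars R)
    have hsub := subsingleton_tensor_h1Cotangent P Q'
    -- the point
    have hq : q ∈ Set.range (PrimeSpectrum.comap (algebraMap B (Localization.Away g))) := by
      rw [PrimeSpectrum.localization_away_comap_range (Localization.Away g) g]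
      exact hgq
    obtain ⟨qg, rfl⟩ := hq
    let t : PrimeSpectrum (A ⊗[P.Ring] Q') := PrimeSpectrum.comap (e' : _ →+* Localization.Away g) qg
    have hflatT : Module.Flat A (A ⊗[P.Ring] Q') := by
      have : Module.Flat P.Ring Q' := Algebra.Smooth.flat P.Ring Q'
      infer_instance
    have hnot := notMem_support_of_flat_of_subsingleton_tensor (A := A) (B := A ⊗[P.Ring] Q')
      (M := P.H1Cotangent) t
    apply hnot
    convert hp using 1
    change PrimeSpectrum.comap (algebraMap A (A ⊗[P.Ring] Q')) (PrimeSpectrum.comap _ qg) =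
      PrimeSpectrum.comap (algebraMap A B) (PrimeSpectrum.comap _ qg)
    rw [← PrimeSpectrum.comap_comp_apply, ← PrimeSpectrum.comap_comp_apply]
    congr 1
    ext a
    simp only [RingHom.comp_apply]
    change e' (algebraMap A _ a) = _
    rw [e'.commutes, IsScalarTower.algebraMap_apply A B (Localization.Away g)]

end Groth.Agent.Lib.Helper78.SmoothDesc
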