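import Groth.Agent.Lib.Helper78.AlgSpLocPGen2
import Groth.Agent.Lib.Helper78.SmoothDesc
import Groth.Agent.Lib.Helper78.AlgSpLocPFlat
import Mathlib.AlgebraicGeometry.Morphisms.Smooth

/-!
# `Smooth` and `Etale` are etale local on the source-and-target (helper78)
-/

set_option autoImplicit false
universe u

open CategoryTheory CategoryTheory.Limits AlgebraicGeometry MorphismProperty

namespace Groth.Agent.Lib.Helper78.AlgSpLocPSmooth

open Groth.Agent.Lib.Helper78.AlgSpLocP Groth.Agent.Lib.Helper78.AlgSpLocPGen
  Groth.Agent.Lib.Helper78.AlgSpLocPLofp Groth.Agent.Lib.Helper78.SmoothDesc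
  Groth.Agent.Lib.Helper78.AlgSpLocPUnram Groth.Agent.Lib.Helper78.AlgSpLocPFlat

/-- the global ring-level statement for `Smooth`. -/
theorem ringGlobalFP_smooth : RingGlobalFP (@Smooth : MorphismProperty Scheme.{u}) := by
  intro R A B _ _ _ _ _ _ _ hsurj H
  have hsm : ((algebraMap A B).comp (algebraMap R A)).Smooth := by
    rw [← Spec.map_comp, ← CommRingCat.ofHom_comp,
      HasRingHomProperty.Spec_iff (P := @Smooth)] at H
    exact H
  let _ : Algebra R B := ((algebraMap A B).comp (algebraMap R A)).toAlgebra
  have : IsScalarTower R A B := IsScalarTower.of_algebraMap_eq' rfl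
  have : Algebra.Smooth R B := hsm
  have key : Algebra.Smooth R A := smooth_of_etale_of_comap_surjective (B := B) hsurj
  rw [HasRingHomProperty.Spec_iff (P := @Smooth)]
  exact RingHom.smooth_algebraMap.2 key

theorem smooth_respectsRight :
    MorphismProperty.RespectsRight (@Smooth.{u}) @IsOpenImmersion where
  postcomp i hi f hf := by
    have : IsOpenImmersion i := hi
    have : Smooth i := inferInstance
    exact MorphismProperty.comp_mem (@Smooth) f i hf this

/-- `Smooth` descends along etale surjections on the source. -/
theorem smooth_descend {A B C : Scheme.{u}} (e : A ⟶ B) (h : B ⟶ C) (he : Etale e)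
    (hs : Surjective e) (H : Smooth (e ≫ h)) : Smooth h := by
  have h1 : LocallyOfFinitePresentation (e ≫ h) := inferInstance
  have hfp : LocallyOfFinitePresentation h := lofp_descend e h he hs h1
  have := smooth_respectsRight.{u}
  exact descend_of_ringGlobalFP ringGlobalFP_smooth e h hfp H

instance smooth_isMultiplicative : MorphismProperty.IsMultiplicative (@Smooth.{u}) where
  id_mem _ := inferInstance

/-- `Smooth` is etale local on the source-and-target. -/
theorem etLocalST_smooth : EtLocalST (@Smooth : MorphismProperty Scheme.{u}) :=
  EtLocalST.mk' _ (fun e he => by have : Etale e := he; infer_instance)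
    (fun e he => by have : IsOpenImmersion e := he; infer_instance)
    (fun e h he hs H => smooth_descend e h he hs H)

/-- `Etale` descends along etale surjections on the source. -/
theorem etale_descend {A B C : Scheme.{u}} (e : A ⟶ B) (h : B ⟶ C) (he : Etale e)
    (hs : Surjective e) (H : Etale (e ≫ h)) : Etale h := by
  rw [Etale.iff_flat_and_formallyUnramified] at H ⊢
  exact ⟨etLocalST_flat.descend e h he hs H.1, fu_descend e h he hs H.2.1,
    lofp_descend e h he hs H.2.2⟩

/-- `Etale` is etale local on the source-and-target. -/
theorem etLocalST_etale : EtLocalST (@Etale : MorphismProperty Scheme.{u}) :=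
  EtLocalST.mk' _ (fun e he => he)
    (fun e he => by have : IsOpenImmersion e := he; infer_instance)
    (fun e h he hs H => etale_descend e h he hs H)

end Groth.Agent.Lib.Helper78.AlgSpLocPSmooth
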