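import Groth.Agent.Lib.Helper78.AlgSpThickChart
import Groth.Agent.Lib.Helper78.AlgSpLocPLqf
import Groth.Agent.Lib.Helper78.AlgSpLocPUnram
import Groth.Agent.Lib.Helper7.Thick
import Groth.Agent.Lib.Helper7.ThickBridge

/-!
# `LocP P` along cartesian morphisms of thickenings (helper78)
-/

set_option autoImplicit false
universe u
open CategoryTheory CategoryTheory.Limits AlgebraicGeometry
open AlgSp

namespace Groth.Agent.Lib.Helper78.AlgSpThickLocP

open Groth.Agent.Lib.Helper51 Groth.Agent.Lib.Helper52 Groth.Agent.Lib.Helper30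
open Groth.Agent.Lib.Helper78.AlgSpThick Groth.Agent.Lib.Helper78.AlgSpThickMor
open Groth.Agent.Lib.Helper78.AlgSpThickChart Groth.Agent.Lib.Helper78.AlgSpLocP
open Groth.Agent.Lib.Helper78.AlgSpFibre

variable {S : Scheme.{u}}

/-- For a cartesian morphism of thickenings of algebraic spaces and a property `P` that lifts along
cartesian morphisms of thickenings of schemes (under the side condition `R` on the thick morphism),
`LocP P f ↔ LocP P f'`. -/
theorem locP_iff_of_thick_cartesian {P R : MorphismProperty Scheme.{u}} (hP : EtLocalST P)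
    [P.IsStableUnderBaseChange]
    (hlift : ∀ {A A' B B' : Scheme.{u}} (iA : A ⟶ A') (iB : B ⟶ B') (g : A ⟶ B) (g' : A' ⟶ B'),
      thick iA → thick iB → IsPullback iA g g' iB → R g' → P g → P g')
    {X X' Y Y' : Sp S} (hX' : IsAlgSpace X') (hY' : IsAlgSpace Y') (i : X ⟶ X') (j : Y ⟶ Y')
    (f : X ⟶ Y) (f' : X' ⟶ Y') (hi : IsThickMor i) (hj : IsThickMor j)
    (hcart : IsPullback i f f' j) (hR : LocP R f') :
    LocP P f ↔ LocP P f' := by
  constructor
  · intro hPf U' V' a' b' h' ha' hb' comm'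
    obtain ⟨U, V, pU, pV, kU, kV, h, hpU, hpV, comm, hkU, hkV, -, -, sq⟩ :=
      exists_thick_chart i j f f' hi hj hcart a' b' h' ha' hb' comm'
    exact hlift kU.left kV.left h.left h'.left hkU hkV sq (hR a' b' h' ha' hb' comm')
      (hPf pU pV h hpU hpV comm)
  · intro hPf'
    exact locP_of_isPullback hP hcart (repAll_of_isAlgSpace hY') hX'.atlas hY'.atlas hPf'

theorem lqf_lift {A A' B B' : Scheme.{u}} (iA : A ⟶ A') (iB : B ⟶ B') (g : A ⟶ B) (g' : A' ⟶ B')
    (hA : thick iA) (hB : thick iB) (sq : IsPullback iA g g' iB)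
    (hg' : (@LocallyOfFiniteType : MorphismProperty Scheme.{u}) g')
    (hg : ((@LocallyQuasiFinite : MorphismProperty Scheme.{u}) ⊓ @LocallyOfFiniteType) g) :
    ((@LocallyQuasiFinite : MorphismProperty Scheme.{u}) ⊓ @LocallyOfFiniteType) g' := by
  have h1 : LocallyOfFiniteType g := hg.2
  have h2 : LocallyOfFiniteType g' := hg'
  exact ⟨(Groth.Agent.Lib.Helper7.Thick.locallyQuasiFinite_iff_of_square iA iB g g'
    ⟨hA.1, hA.2⟩ ⟨hB.1, hB.2⟩ sq.w).1 hg.1, hg'⟩

theorem unram_lift {A A' B B' : Scheme.{u}} (iA : A ⟶ A') (iB : B ⟶ B') (g : A ⟶ B)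
    (g' : A' ⟶ B') (_hA : thick iA) (hB : thick iB) (sq : IsPullback iA g g' iB)
    (hg' : (@LocallyOfFiniteType : MorphismProperty Scheme.{u}) g')
    (hg : ((@LocallyOfFiniteType : MorphismProperty Scheme.{u}) ⊓ @FormallyUnramified) g) :
    ((@LocallyOfFiniteType : MorphismProperty Scheme.{u}) ⊓ @FormallyUnramified) g' := by
  have h2 : LocallyOfFiniteType g' := hg'
  have h3 : IsClosedImmersion iB := hB.1
  have h4 : Surjective iB := hB.2
  exact ⟨hg', Groth.Agent.Lib.Helper7.ThickBridge.formallyUnramified_of_isPullback_of_thickening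
    sq hg.2⟩

end Groth.Agent.Lib.Helper78.AlgSpThickLocP
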