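import Groth.Agent.Lib.Helper78.AlgSpReduced
import Mathlib.AlgebraicGeometry.Noetherian
import Mathlib.AlgebraicGeometry.Morphisms.FlatDescent

/-!
# Locally Noetherian descends along fppf surjective morphisms (helper78)
-/

set_option autoImplicit false
universe u
open CategoryTheory CategoryTheory.Limits AlgebraicGeometry
open AlgSp

namespace Groth.Agent.Lib.Helper78.AlgSpNoethDesc

open Groth.Agent.Lib.Helper78.AlgSpBasic Groth.Agent.Lib.Helper78.AlgSpReduced

theorem isNoetherianRing_of_faithfullyFlat' {A B : Type u} [CommRing A] [CommRing B] (φ : A →+* B)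
    (hφ : φ.FaithfullyFlat) [IsNoetherianRing B] : IsNoetherianRing A := by
  algebraize [φ]
  have : Module.FaithfullyFlat A B := hφ
  rw [isNoetherianRing_iff, isNoetherian_iff'] at *
  let e : Ideal A ↪o Ideal B :=
    { toFun := Ideal.map (algebraMap A B)
      inj' := Ideal.map_injective_of_faithfullyFlat
      map_rel_iff' := by
        intro I J
        constructor
        · intro h
          have h' : Ideal.map (algebraMap A B) I ≤ Ideal.map (algebraMap A B) J := h
          have := Ideal.comap_mono (f := algebraMap A B) h'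
          rwa [Ideal.comap_map_eq_self_of_faithfullyFlat, Ideal.comap_map_eq_self_of_faithfullyFlat]
            at this
        · exact fun h => Ideal.map_mono h }
  exact e.wellFoundedGT

theorem isNoetherianRing_of_flat_surjective_affine {U Y : Scheme.{u}} [IsAffine Y] (h : U ⟶ Y)
    [Flat h] [Surjective h] (hopen : IsOpenMap h) [IsLocallyNoetherian U] :
    IsNoetherianRing Γ(Y, ⊤) := by
  let 𝒰 := U.affineCover
  have hcov : (Set.univ : Set Y) ⊆ ⋃ i : 𝒰.I₀, h '' Set.range (𝒰.f i) := by
    intro y _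
    obtain ⟨x, rfl⟩ := h.surjective y
    exact Set.mem_iUnion.2 ⟨𝒰.idx x, ⟨x, 𝒰.covers x, rfl⟩⟩
  obtain ⟨t, ht⟩ := isCompact_univ.elim_finite_subcover (fun i : 𝒰.I₀ => h '' Set.range (𝒰.f i))
    (fun i => hopen _ (𝒰.f i).isOpenEmbedding.isOpen_range) hcov
  let Z : Scheme.{u} := ∐ fun i : t => 𝒰.X i.1
  let q : Z ⟶ U := Sigma.desc fun i : t => 𝒰.f i.1
  have hZaff : IsAffine Z := inferInstance
  have hq : LocallyOfFiniteType q :=
    IsZariskiLocalAtSource.sigmaDesc (P := @LocallyOfFiniteType) (fun i => inferInstance)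
  have hqf : Flat q :=
    IsZariskiLocalAtSource.sigmaDesc (P := @Flat) (fun i => inferInstance)
  have : IsLocallyNoetherian Z := LocallyOfFiniteType.isLocallyNoetherian q
  have hfl : Flat (q ≫ h) := inferInstance
  have hsurj : Surjective (q ≫ h) := ⟨fun y => by
    have hy := ht (Set.mem_univ y)
    simp only [Set.mem_iUnion] at hy
    obtain ⟨i, hi, _, ⟨z, rfl⟩, rfl⟩ := hy
    refine ⟨Sigma.ι (fun i : t => 𝒰.X i.1) ⟨i, hi⟩ z, ?_⟩
    rw [← Scheme.Hom.comp_apply, ← Category.assoc, Sigma.ι_desc, Scheme.Hom.comp_apply]⟩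
  have hff := (Flat.flat_and_surjective_iff_faithfullyFlat_of_isAffine (f := q ≫ h)).1 ⟨hfl, hsurj⟩
  have : IsNoetherianRing Γ(Z, ⊤) := IsLocallyNoetherian.component_noetherian ⟨⊤, isAffineOpen_top Z⟩
  exact isNoetherianRing_of_faithfullyFlat' _ hff

/-- locally Noetherian descends along flat, locally finitely presented, surjective morphisms of
schemes. -/
theorem isLocallyNoetherian_of_fppf_surjective {U V : Scheme.{u}} (h : U ⟶ V) [Flat h]
    [LocallyOfFinitePresentation h] [Surjective h] [IsLocallyNoetherian U] :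
    IsLocallyNoetherian V := by
  refine ⟨fun W => ?_⟩
  have : IsAffine (W.1 : Scheme.{u}) := W.2
  have : Surjective (h ∣_ W.1) := ⟨fun y => by
    obtain ⟨x, hx⟩ := h.surjective y.1
    refine ⟨⟨x, by show h x ∈ W.1; rw [hx]; exact y.2⟩, ?_⟩
    apply Subtype.ext
    rw [morphismRestrict_base_coe]
    exact hx⟩
  have h1 : IsNoetherianRing Γ(W.1.toScheme, ⊤) :=
    isNoetherianRing_of_flat_surjective_affine (h ∣_ W.1) (h ∣_ W.1).isOpenMap
  exact isNoetherianRing_of_ringEquiv _ (Scheme.Opens.topIso W.1).commRingCatIsoToRingEquiv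

variable {S : Scheme.{u}}

/-- locally Noetherian descends along flat, locally finitely presented, surjective morphisms of
algebraic spaces. -/
theorem isLocNoethSp_of_fppf_surjective {X Y : Sp S} (hY : IsAlgSpace Y)
    (f : X ⟶ Y) (hfp : LocP @LocallyOfFinitePresentation f) (hfl : LocP @Flat f)
    (hs : IsSurjectiveMor f) (hXn : IsLocNoethSp X) : IsLocNoethSp Y := by
  obtain ⟨V, b, hb, hbs⟩ := hY.atlas
  obtain ⟨U₀, a₀, ha₀, ha₀s, hU₀⟩ := hXn
  obtain ⟨U, j, h, sq, ha, -⟩ := exists_chart_diagram f a₀ ha₀ b hb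
  have comm : ((yon S).map j ≫ a₀) ≫ f = (yon S).map h ≫ b := by
    rw [Category.assoc]; exact sq.w.symm
  have hje : Etale j.left := hb.property _ _ _ sq
  have : IsLocallyNoetherian U₀.left := hU₀
  have : IsLocallyNoetherian U.left := LocallyOfFiniteType.isLocallyNoetherian j.left
  have : Flat h.left := hfl _ b h ha hb comm
  have : LocallyOfFinitePresentation h.left := hfp _ b h ha hb comm
  have : Surjective h.left := surjective_of_chart_diagram f hs a₀ ha₀s b j h sq
  exact ⟨V, b, hb, hbs, isLocallyNoetherian_of_fppf_surjective h.left⟩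

end Groth.Agent.Lib.Helper78.AlgSpNoethDesc
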