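import Mathlib
import Groth.Agent.Lib.Helper70.AffineStalk
import Groth.Agent.Lib.Helper73.JacobsonDim
import Groth.Prelude.Def_Flat

set_option autoImplicit false
set_option linter.style.haveILetI false
universe u
open CategoryTheory AlgebraicGeometry

namespace Groth.Agent.Lib.Helper78.EtaleDim


section Ring

variable {R S : Type*} [CommRing R] [CommRing S] [Algebra R S]

theorem strictMono_comap_of_quasiFinite [Algebra.QuasiFinite R S] :
    StrictMono (PrimeSpectrum.comap (algebraMap R S)) := by
  intro P Q hPQ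
  have hle : PrimeSpectrum.comap (algebraMap R S) P ≤ PrimeSpectrum.comap (algebraMap R S) Q :=
    Ideal.comap_mono hPQ.le
  refine lt_of_le_of_ne hle fun h => ?_
  have h' : P.asIdeal.under R = Q.asIdeal.under R := congrArg PrimeSpectrum.asIdeal h
  have := Algebra.QuasiFinite.eq_of_le_of_under_eq P.asIdeal Q.asIdeal hPQ.le h'
  exact hPQ.ne (PrimeSpectrum.ext this)

theorem height_comap_le [Algebra.HasGoingDown R S] (P : PrimeSpectrum S) :
    Order.height (PrimeSpectrum.comap (algebraMap R S) P) ≤ Order.height P := by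
  rw [Order.height_eq_iSup_last_eq]
  refine iSup₂_le fun l hl => ?_
  haveI : P.asIdeal.LiesOver l.last.asIdeal := ⟨by rw [hl]; rfl⟩
  obtain ⟨L, hlen, hlast, -⟩ := Ideal.exists_ltSeries_of_hasGoingDown l P.asIdeal
  rw [← hlen]
  have : L.last = P := hlast
  rw [← this]
  exact Order.length_le_height_last

theorem height_comap_eq [Algebra.QuasiFinite R S] [Algebra.HasGoingDown R S]
    (P : PrimeSpectrum S) :
    Order.height (PrimeSpectrum.comap (algebraMap R S) P) = Order.height P :=
  le_antisymm (height_comap_le P) (Order.height_le_height_apply_of_strictMono _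
    strictMono_comap_of_quasiFinite P)

end Ring

open Groth.Agent.Lib.Helper70

theorem ringKrullDim_stalk_eq_of_etale {U' U : Scheme.{u}} (h : U' ⟶ U) [Etale h] (u' : U') :
    ringKrullDim (U'.presheaf.stalk u') = ringKrullDim (U.presheaf.stalk (h u')) := by
  obtain ⟨V, hV, huV, -⟩ := exists_isAffineOpen_mem_and_subset (x := h u') (U := ⊤) trivial
  obtain ⟨V', hV', hu'V', hV'V⟩ :=
    exists_isAffineOpen_mem_and_subset (x := u') (U := h ⁻¹ᵁ V) huV
  rw [ringKrullDim_stalk_eq_height hV' u' hu'V', ringKrullDim_stalk_eq_height hV (h u') huV]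
  have hφ : RingHom.Etale (h.appLE V V' hV'V).hom :=
    HasRingHomProperty.appLE (P := @Etale) h inferInstance ⟨V, hV⟩ ⟨V', hV'⟩ hV'V
  algebraize [(h.appLE V V' hV'V).hom]
  have key := height_comap_eq (R := Γ(U, V)) (S := Γ(U', V')) (hV'.primeIdealOf ⟨u', hu'V'⟩)
  have hc := IsAffineOpen.comap_primeIdealOf_appLE (f := h) V hV V' hV' hV'V hu'V'
  change PrimeSpectrum.comap (algebraMap Γ(U, V) Γ(U', V')) _ = _ at hc
  rw [hc, ← PrimeSpectrum.height_eq_orderHeight, ← PrimeSpectrum.height_eq_orderHeight] at key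
  rw [key]



theorem ringKrullDim_stalk_le_of_flat {U' U : Scheme.{u}} (h : U' ⟶ U) [Flat h] (u' : U') :
    ringKrullDim (U.presheaf.stalk (h u')) ≤ ringKrullDim (U'.presheaf.stalk u') := by
  obtain ⟨V, hV, huV, -⟩ := exists_isAffineOpen_mem_and_subset (x := h u') (U := ⊤) trivial
  obtain ⟨V', hV', hu'V', hV'V⟩ :=
    exists_isAffineOpen_mem_and_subset (x := u') (U := h ⁻¹ᵁ V) huV
  rw [ringKrullDim_stalk_eq_height hV' u' hu'V', ringKrullDim_stalk_eq_height hV (h u') huV]
  have hφ : RingHom.Flat (h.appLE V V' hV'V).hom :=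
    HasRingHomProperty.appLE (P := @Flat) h inferInstance ⟨V, hV⟩ ⟨V', hV'⟩ hV'V
  algebraize [(h.appLE V V' hV'V).hom]
  have key := height_comap_le (R := Γ(U, V)) (S := Γ(U', V')) (hV'.primeIdealOf ⟨u', hu'V'⟩)
  have hc := IsAffineOpen.comap_primeIdealOf_appLE (f := h) V hV V' hV' hV'V hu'V'
  change PrimeSpectrum.comap (algebraMap Γ(U, V) Γ(U', V')) _ = _ at hc
  rw [hc, ← PrimeSpectrum.height_eq_orderHeight, ← PrimeSpectrum.height_eq_orderHeight] at key
  exact_mod_cast key

/-- The dimension of an open subset of a scheme is the supremum of the dimensions of the local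
rings at its points. -/
theorem topologicalKrullDim_open_eq_iSup {X : Scheme.{u}} (W : X.Opens) :
    topologicalKrullDim (W.1 : Set X) = ⨆ w : (W.1 : Set X), ringKrullDim (X.presheaf.stalk w.1) := by
  haveI : QuasiSober ↥(W.1 : Set X) := W.2.isOpenEmbedding_subtypeVal.quasiSober
  rw [Groth.Agent.Lib.Helper73.SchemeDim.topologicalKrullDim_eq_krullDim_specialization,
    @Order.krullDim_eq_iSup_coheight _ (specializationPreorder _)]
  refine iSup_congr fun w => ?_
  rw [ringKrullDim_stalk_eq_coheight]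
  have := Topology.IsOpenEmbedding.coheight_eq (x := w) Subtype.val W.2.isOpenEmbedding_subtypeVal
  exact congrArg _ this.symm


theorem topologicalKrullDim_eq_iSup (X : Scheme.{u}) :
    topologicalKrullDim X = ⨆ x : X, ringKrullDim (X.presheaf.stalk x) := by
  have h1 : topologicalKrullDim X = topologicalKrullDim ((⊤ : X.Opens).1 : Set X) :=
    (IsHomeomorph.topologicalKrullDim_eq _ (Homeomorph.Set.univ X).isHomeomorph).symm
  rw [h1, topologicalKrullDim_open_eq_iSup]
  apply le_antisymm
  · exact iSup_le fun w => le_iSup (fun x : X => ringKrullDim (X.presheaf.stalk x)) w.1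
  · exact iSup_le fun x => le_iSup
      (fun w : ((⊤ : X.Opens).1 : Set X) => ringKrullDim (X.presheaf.stalk w.1)) ⟨x, trivial⟩

theorem topologicalKrullDim_le_of_etale {U' U : Scheme.{u}} (h : U' ⟶ U) [Etale h] :
    topologicalKrullDim U' ≤ topologicalKrullDim U := by
  rw [topologicalKrullDim_eq_iSup, topologicalKrullDim_eq_iSup]
  refine iSup_le fun u' => ?_
  rw [ringKrullDim_stalk_eq_of_etale h u']
  exact le_iSup (fun x : U => ringKrullDim (U.presheaf.stalk x)) (h u')

theorem topologicalKrullDim_eq_of_etale_surjective {U' U : Scheme.{u}} (h : U' ⟶ U) [Etale h]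
    [Surjective h] : topologicalKrullDim U' = topologicalKrullDim U := by
  refine le_antisymm (topologicalKrullDim_le_of_etale h) ?_
  rw [topologicalKrullDim_eq_iSup, topologicalKrullDim_eq_iSup]
  refine iSup_le fun u => ?_
  obtain ⟨u', rfl⟩ := h.surjective u
  rw [← ringKrullDim_stalk_eq_of_etale h u']
  exact le_iSup (fun x : U' => ringKrullDim (U'.presheaf.stalk x)) u'

/-- The value entering the local dimension, in terms of local rings. -/
theorem localDim_eq_iInf_iSup {X : Scheme.{u}} (x : X) :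
    FlatMor.localDim X x = ⨅ W : {W : TopologicalSpace.Opens X // x ∈ W},
      ⨆ w : (W.1.1 : Set X), ringKrullDim (X.presheaf.stalk w.1) := by
  unfold FlatMor.localDim
  exact iInf_congr fun W => topologicalKrullDim_open_eq_iSup W.1

/-- **The local dimension is invariant under etale morphisms.** -/
theorem localDim_eq_of_etale {U' U : Scheme.{u}} (h : U' ⟶ U) [Etale h] (u' : U') :
    FlatMor.localDim U' u' = FlatMor.localDim U (h u') := by
  rw [localDim_eq_iInf_iSup, localDim_eq_iInf_iSup]
  apply le_antisymm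
  · refine le_iInf fun W => ?_
    refine iInf_le_of_le ⟨h ⁻¹ᵁ W.1, W.2⟩ ?_
    refine iSup_le fun w' => ?_
    rw [ringKrullDim_stalk_eq_of_etale h w'.1]
    exact le_iSup (fun w : (W.1.1 : Set U) => ringKrullDim (U.presheaf.stalk w.1)) ⟨h w'.1, w'.2⟩
  · refine le_iInf fun W' => ?_
    have hopen : IsOpen (h '' (W'.1.1 : Set U')) := h.isOpenMap _ W'.1.2
    refine iInf_le_of_le ⟨⟨h '' (W'.1.1 : Set U'), hopen⟩, ⟨u', W'.2, rfl⟩⟩ ?_
    refine iSup_le fun w => ?_
    obtain ⟨w', hw', hw⟩ := w.2
    have : ringKrullDim (U.presheaf.stalk w.1) = ringKrullDim (U'.presheaf.stalk w') := by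
      rw [ringKrullDim_stalk_eq_of_etale h w', hw]
    rw [this]
    exact le_iSup (fun w : (W'.1.1 : Set U') => ringKrullDim (U'.presheaf.stalk w.1)) ⟨w', hw'⟩

end Groth.Agent.Lib.Helper78.EtaleDim
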