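import Groth.Prelude.Def_AlgSpDec
import Groth.Agent.Lib.Helper78.EtaleDim
import Groth.Agent.Lib.Helper78.AlgSpBasic
import Groth.Agent.Lib.Helper51.AlgSpPoints
import Groth.Agent.Lib.Helper52.Points

set_option autoImplicit false
set_option linter.style.haveILetI false
universe u
open CategoryTheory CategoryTheory.Limits AlgebraicGeometry Opposite
open AlgSp

namespace Groth.Agent.Lib.Helper78.HasAtEt

variable {S : Scheme.{u}}

open Groth.Agent.Lib.Helper78.AlgSpBasic Groth.Agent.Lib.Helper51 Groth.Agent.Lib.Helper52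

/-- a property of pointed schemes invariant under etale morphisms -/
def EtInv (Q : ∀ U : Scheme.{u}, ↥U → Prop) : Prop :=
  ∀ {U' U : Scheme.{u}} (h : U' ⟶ U) [Etale h] (u' : U'), Q U' u' ↔ Q U (h u')

variable {Q : ∀ U : Scheme.{u}, ↥U → Prop}

/-- two etale charts through the same point have the same value of an etale invariant property -/
theorem iff_of_ofPt_eq (hQ : EtInv Q) {X : Sp S} {U V : Over S} (a : (yon S).obj U ⟶ X)
    (ha : RepWith @Etale a) (b : (yon S).obj V ⟶ X) (hb : RepWith @Etale b) (u : U.left)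
    (v : V.left) (h : Points.ofPt a u = Points.ofPt b v) : Q U.left u ↔ Q V.left v := by
  obtain ⟨W, φ, ψ, sq⟩ := exists_isPullback_of_representable ha.1 b
  obtain ⟨w, hw1, hw2⟩ := exists_of_ofPt_eq_ofPt sq h
  haveI hφ : Etale φ.left := hb.2 a _ φ sq.flip
  haveI hψ : Etale ψ.left := ha.2 b _ ψ sq
  rw [← hw1, ← hw2, ← hQ φ.left w, ← hQ ψ.left w]

theorem hasAt_iff_forall (hQ : EtInv Q) {X : Sp S} (hX : IsAlgSpace X) (x : Points X) :
    HasAt Q X x ↔ ∀ (U : Over S) (a : (yon S).obj U ⟶ X) (u : ↥U.left),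
      RepWith @Etale a → Points.ofPt a u = x → Q U.left u := by
  constructor
  · rintro ⟨U₀, a₀, u₀, ha₀, hu₀, hq⟩ U a u ha hu
    exact (iff_of_ofPt_eq hQ a₀ ha₀ a ha u₀ u (hu₀.trans hu.symm)).1 hq
  · intro h
    obtain ⟨U, a, ha, has⟩ := hX.atlas
    obtain ⟨u, hu⟩ := surjective_ofPt_of_repWith_surjective a has x
    exact ⟨U, a, u, ha, hu, h U a u ha hu⟩

theorem hasAt_map_iff (hQ : EtInv Q) {X Y : Sp S} (hX : IsAlgSpace X) (f : X ⟶ Y)
    (hf : IsEtaleMor f) (x : Points X) : HasAt Q X x ↔ HasAt Q Y (Points.map f x) := by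
  constructor
  · rintro ⟨U, a, u, ha, hu, hq⟩
    refine ⟨U, a ≫ f, u, hf a ha, ?_, hq⟩
    rw [← hu, Points.map_ofPt]
  · rintro ⟨V, b, v, hb, hv, hq⟩
    obtain ⟨U, a, ha, has⟩ := hX.atlas
    obtain ⟨u, hu⟩ := surjective_ofPt_of_repWith_surjective a has x
    refine ⟨U, a, u, ha, hu, ?_⟩
    refine (iff_of_ofPt_eq hQ (a ≫ f) (hf a ha) b hb u v ?_).2 hq
    rw [hv, ← hu, Points.map_ofPt]

theorem etInv_ringKrullDim (d : WithBot ℕ∞) :
    EtInv (fun U u => ringKrullDim ↥(U.presheaf.stalk u) = d) := by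
  intro U' U h _ u'
  show ringKrullDim ↥(U'.presheaf.stalk u') = d ↔ ringKrullDim ↥(U.presheaf.stalk (h u')) = d
  rw [Groth.Agent.Lib.Helper78.EtaleDim.ringKrullDim_stalk_eq_of_etale h u']

theorem etInv_localDim (d : WithBot ℕ∞) :
    EtInv (fun U u => FlatMor.localDim ↥U u = d) := by
  intro U' U h _ u'
  show FlatMor.localDim ↥U' u' = d ↔ FlatMor.localDim ↥U (h u') = d
  rw [Groth.Agent.Lib.Helper78.EtaleDim.localDim_eq_of_etale h u']

theorem dim_eq_of_etale_surjective {X Y : Sp S} (hX : IsAlgSpace X) (f : X ⟶ Y)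
    (hf : IsEtaleMor f) (hs : IsSurjectiveMor f) : AlgSp.dim X = AlgSp.dim Y := by
  unfold AlgSp.dim
  apply le_antisymm
  · exact iSup_le fun U => iSup_le fun a => iSup_le fun ha =>
      le_iSup_of_le U (le_iSup_of_le (a ≫ f) (le_iSup_of_le (hf a ha) le_rfl))
  · refine iSup_le fun V => iSup_le fun b => iSup_le fun hb => ?_
    obtain ⟨U₀, a₀, ha₀, ha₀s⟩ := hX.atlas
    obtain ⟨U, j, h, sq, hae, -⟩ := exists_chart_diagram f a₀ ha₀ b hb
    have hg : RepWith @Etale (a₀ ≫ f) := hf a₀ ha₀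
    have hgs : RepWith @Surjective (a₀ ≫ f) := by
      refine repWith_surjective_of_surjective_map hg.1 ?_
      rw [show Points.map (a₀ ≫ f) = Points.map f ∘ Points.map a₀ from
        funext fun p => Points.map_comp a₀ f p]
      exact hs.comp (surjective_map_of_repWith_surjective ha₀s)
    haveI : Etale h.left := hg.2 b _ h sq.flip
    haveI : Surjective h.left := hgs.2 b _ h sq.flip
    rw [← Groth.Agent.Lib.Helper78.EtaleDim.topologicalKrullDim_eq_of_etale_surjective h.left]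
    exact le_iSup_of_le U (le_iSup_of_le ((yon S).map j ≫ a₀) (le_iSup_of_le hae le_rfl))

theorem hasAt_dim_zero_of_flat {X Y : Sp S} (hY : IsAlgSpace Y) (f : X ⟶ Y)
    (hf : LocP @Flat f) (x : Points X)
    (hx : HasAt (fun U u => ringKrullDim ↥(U.presheaf.stalk u) = 0) X x) :
    HasAt (fun U u => ringKrullDim ↥(U.presheaf.stalk u) = 0) Y (Points.map f x) := by
  obtain ⟨U₁, a₁, u₁, ha₁, hu₁, hq⟩ := hx
  obtain ⟨V, b, hb, hbs⟩ := hY.atlas
  obtain ⟨U, j, h, sq, hae, -⟩ := exists_chart_diagram f a₁ ha₁ b hb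
  obtain ⟨v, hv⟩ := surjective_ofPt_of_repWith_surjective b hbs (Points.ofPt (a₁ ≫ f) u₁)
  obtain ⟨w, hw1, hw2⟩ := exists_of_ofPt_eq_ofPt sq hv
  haveI : Etale j.left := hb.2 (a₁ ≫ f) _ j sq
  have comm : ((yon S).map j ≫ a₁) ≫ f = (yon S).map h ≫ b := by
    rw [Category.assoc]; exact sq.w.symm
  haveI : Flat h.left := hf _ b h hae hb comm
  have h0 : ringKrullDim ↥(U.left.presheaf.stalk w) = 0 := by
    rw [Groth.Agent.Lib.Helper78.EtaleDim.ringKrullDim_stalk_eq_of_etale j.left w, hw2]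
    exact hq
  refine ⟨V, b, h.left w, hb, ?_, ?_⟩
  · rw [hw1, hv, ← hu₁, Points.map_ofPt]
  · apply le_antisymm
    · rw [← h0]
      exact Groth.Agent.Lib.Helper78.EtaleDim.ringKrullDim_stalk_le_of_flat h.left w
    · exact ringKrullDim_nonneg_of_nontrivial

end Groth.Agent.Lib.Helper78.HasAtEt
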