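import Groth.Prelude.Def_ProCons
import Mathlib.AlgebraicGeometry.Morphisms.FinitePresentation
import Mathlib.AlgebraicGeometry.Restrict

/-!
Preimages of locally constructible sets under morphisms of schemes (helper78).
-/

set_option autoImplicit false
open CategoryTheory AlgebraicGeometry Topology
universe u

namespace Groth.Agent.Lib.Helper78.LocConstr

/-- The preimage of a locally constructible set under a morphism of schemes is locally
constructible. -/
theorem isLocallyConstructible_preimage {X Y : Scheme.{u}} (f : X ⟶ Y) {s : Set Y}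
    (hs : IsLocallyConstructible s) : IsLocallyConstructible (f ⁻¹' s) := by
  intro x
  obtain ⟨U, hU, hUo, hc⟩ := hs (f x)
  let U' : Y.Opens := ⟨U, hUo⟩
  refine ⟨(f ⁻¹ᵁ U' : Set X), ?_, (f ⁻¹ᵁ U').isOpen, ?_⟩
  · exact (f ⁻¹ᵁ U').isOpen.mem_nhds (show f x ∈ U from mem_of_mem_nhds hU)
  · have h1 : IsConstructible ((f ∣_ U') ⁻¹' ((Subtype.val : ↥U → Y) ⁻¹' s)) :=
      Scheme.Hom.isConstructible_preimage (f ∣_ U') hc
    have heq : ((f ∣_ U') ⁻¹' ((Subtype.val : ↥U → Y) ⁻¹' s)) =
        ((Subtype.val : ↥(f ⁻¹ᵁ U') → X) ⁻¹' (f ⁻¹' s)) := by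
      ext v
      simp only [Set.mem_preimage]
      rw [morphismRestrict_base_coe]
      rfl
    rw [heq] at h1
    exact h1

/-- restriction of a morphism to preimage of an open set, as a map of subtypes -/
theorem isLocallyConstructible_preimage_restrict {X Y : Scheme.{u}} (f : X ⟶ Y) (U : Set Y)
    (hU : IsOpen U) {T : Set ↥U} (hT : IsLocallyConstructible T) :
    IsLocallyConstructible (U.restrictPreimage f ⁻¹' T) := by
  let U' : Y.Opens := ⟨U, hU⟩
  have h1 : IsLocallyConstructible ((f ∣_ U') ⁻¹' T) :=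
    isLocallyConstructible_preimage (f ∣_ U') (s := T) hT
  rw [morphismRestrict_base] at h1
  exact h1

theorem isProConstructible_preimage {X Y : Scheme.{u}} (f : X ⟶ Y) (T : Set Y)
    (hT : ProCons.IsProConstructible T) : ProCons.IsProConstructible (f ⁻¹' T) := by
  intro x
  obtain ⟨U, hUo, hxU, S, hS, hEq⟩ := hT (f x)
  refine ⟨f ⁻¹' U, hUo.preimage f.continuous, hxU, (fun T' => U.restrictPreimage f ⁻¹' T') '' S, ?_, ?_⟩
  · rintro _ ⟨T', hT', rfl⟩
    exact isLocallyConstructible_preimage_restrict f U hUo (hS T' hT')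
  · ext v
    have hv : (U.restrictPreimage f v : Y) = f v.1 := rfl
    have h2 : (U.restrictPreimage f v) ∈ (Subtype.val ⁻¹' T : Set ↥U) ↔ v.1 ∈ f ⁻¹' T := by
      simp only [Set.mem_preimage, hv]
    rw [Set.mem_preimage, ← h2, hEq]
    simp only [Set.mem_sInter, Set.mem_image, forall_exists_index, and_imp, forall_apply_eq_imp_iff₂,
      Set.mem_preimage]

theorem isIndConstructible_preimage {X Y : Scheme.{u}} (f : X ⟶ Y) (T : Set Y)
    (hT : ProCons.IsIndConstructible T) : ProCons.IsIndConstructible (f ⁻¹' T) := by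
  intro x
  obtain ⟨U, hUo, hxU, S, hS, hEq⟩ := hT (f x)
  refine ⟨f ⁻¹' U, hUo.preimage f.continuous, hxU, (fun T' => U.restrictPreimage f ⁻¹' T') '' S, ?_, ?_⟩
  · rintro _ ⟨T', hT', rfl⟩
    exact isLocallyConstructible_preimage_restrict f U hUo (hS T' hT')
  · ext v
    have hv : (U.restrictPreimage f v : Y) = f v.1 := rfl
    have h2 : (U.restrictPreimage f v) ∈ (Subtype.val ⁻¹' T : Set ↥U) ↔ v.1 ∈ f ⁻¹' T := by
      simp only [Set.mem_preimage, hv]
    rw [Set.mem_preimage, ← h2, hEq]
    simp only [Set.mem_sUnion, Set.mem_image, exists_exists_and_eq_and, Set.mem_preimage]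

end Groth.Agent.Lib.Helper78.LocConstr
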