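import Groth.Agent.Lib.Helper78.RInvBasic
import Mathlib.RingTheory.Jacobson.Radical
import Mathlib.RingTheory.LocalRing.MaximalIdeal.Basic

/-!
Rings with involution whose fixed ring is local (helper78).
-/

set_option autoImplicit false
universe u v

namespace Groth.Agent.Lib.Helper78.RInvLocal

open RInv Groth.Agent.Lib.Helper78.RInvBasic

variable {S : Type u} {R : Type v} [CommRing S] [CommRing R] [Algebra S R]

/-- Every maximal ideal of `R` contains the image of the maximal ideal of the local fixed ring. -/
theorem algebraMap_mem_of_isMaximal [IsLocalRing S] {lam : R ≃+* R}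
    (hlam : Function.Involutive lam) (hS : RInv.IsFixedRing S R lam) (N : Ideal R)
    (hN : N.IsMaximal) {s : S} (hs : s ∈ IsLocalRing.maximalIdeal S) : algebraMap S R s ∈ N := by
  by_contra hsN
  obtain ⟨y, n, hn, hyn⟩ := hN.exists_inv hsN
  -- n = 1 - y s, and n * lam n is in S and is a unit there
  have htfix : lam (y + lam y) = y + lam y := by rw [map_add, hlam y]; ring
  have hnfix : lam (y * lam y) = y * lam y := by rw [map_mul, hlam y]; ring
  obtain ⟨t, ht⟩ := exists_of_fixed hS htfix
  obtain ⟨m, hm⟩ := exists_of_fixed hS hnfix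
  have hn' : n = 1 - y * algebraMap S R s := by rw [← hyn]; ring
  have hprod : n * lam n = algebraMap S R (1 - s * (t - s * m)) := by
    rw [hn', map_sub, map_one, map_mul, fixed_algebraMap hS]
    simp only [map_sub, map_mul, map_one, ht, hm]
    ring
  have hunit : IsUnit (1 - s * (t - s * m)) := by
    apply IsLocalRing.isUnit_one_sub_self_of_mem_nonunits
    rw [← IsLocalRing.mem_maximalIdeal]
    exact Ideal.mul_mem_right _ _ hs
  have hmem : n * lam n ∈ N := Ideal.mul_mem_right _ _ hn
  rw [hprod] at hmem
  exact hN.ne_top (Ideal.eq_top_of_isUnit_mem _ hmem (hunit.map (algebraMap S R)))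

theorem map_maximalIdeal_le_of_isMaximal [IsLocalRing S] {lam : R ≃+* R}
    (hlam : Function.Involutive lam) (hS : RInv.IsFixedRing S R lam) (N : Ideal R)
    (hN : N.IsMaximal) : (IsLocalRing.maximalIdeal S).map (algebraMap S R) ≤ N := by
  rw [Ideal.map_le_iff_le_comap]
  intro s hs
  exact algebraMap_mem_of_isMaximal hlam hS N hN hs

/-- An anti-invariant element is a unit or lies in the Jacobson radical. -/
theorem isUnit_or_mem_jacobson_of_anti [IsLocalRing S] {lam : R ≃+* R}
    (hlam : Function.Involutive lam) (hS : RInv.IsFixedRing S R lam) {x : R}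
    (hx : lam x = -x) : IsUnit x ∨ x ∈ Ring.jacobson R := by
  have hfix : lam (x * x) = x * x := by rw [map_mul, hx]; ring
  obtain ⟨s, hs⟩ := exists_of_fixed hS hfix
  by_cases hu : IsUnit s
  · left
    have : IsUnit (x * x) := hs ▸ hu.map (algebraMap S R)
    exact isUnit_of_mul_isUnit_left this
  · right
    have hsm : s ∈ IsLocalRing.maximalIdeal S := (IsLocalRing.mem_maximalIdeal s).mpr hu
    rw [Ring.jacobson_eq_sInf_isMaximal, Ideal.mem_sInf]
    intro N hN
    have hmem := algebraMap_mem_of_isMaximal hlam hS N hN hsm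
    rw [hs] at hmem
    rcases hN.isPrime.mem_or_mem hmem with h | h <;> exact h

/-- invariant elements of the Jacobson radical come from the maximal ideal -/
theorem mem_maximalIdeal_of_algebraMap_mem_jacobson [IsLocalRing S] [Nontrivial R] {s : S}
    (h : algebraMap S R s ∈ Ring.jacobson R) : s ∈ IsLocalRing.maximalIdeal S := by
  rw [IsLocalRing.mem_maximalIdeal]
  intro hu
  obtain ⟨M, hM⟩ := Ideal.exists_maximal R
  have : algebraMap S R s ∈ M := by
    rw [Ring.jacobson_eq_sInf_isMaximal, Ideal.mem_sInf] at h
    exact h hM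
  exact hM.ne_top (Ideal.eq_top_of_isUnit_mem _ this (hu.map (algebraMap S R)))

theorem nontrivial_of_isFixedRing [Nontrivial S] {lam : R ≃+* R}
    (hS : RInv.IsFixedRing S R lam) : Nontrivial R :=
  hS.1.nontrivial

end Groth.Agent.Lib.Helper78.RInvLocal

namespace Groth.Agent.Lib.Helper78.RInvLocal

open RInv Groth.Agent.Lib.Helper78.RInvBasic

variable {S : Type u} {R : Type v} [CommRing S] [CommRing R] [Algebra S R]

theorem lam_mem_jacobson (lam : R ≃+* R) {a : R} (ha : a ∈ Ring.jacobson R) :
    lam a ∈ Ring.jacobson R := by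
  rw [Ring.jacobson_eq_sInf_isMaximal, Ideal.mem_sInf] at ha ⊢
  intro N hN
  have hN' : N.IsMaximal := hN
  have : (Ideal.comap (lam : R →+* R) N).IsMaximal :=
    Ideal.comap_isMaximal_of_surjective (lam : R →+* R) lam.surjective
  exact ha this

end Groth.Agent.Lib.Helper78.RInvLocal
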