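import Groth.Prelude.Def_AlgSp4
import Groth.Agent.Lib.Helper78.AlgSpBasic
import Groth.Agent.Lib.Helper51.AlgSpDiag
import Groth.Agent.Lib.Helper30.AlgSpSep

set_option autoImplicit false
set_option linter.style.haveILetI false
universe u
open CategoryTheory CategoryTheory.Limits AlgebraicGeometry Opposite
open AlgSp

namespace Groth.Agent.Lib.Helper78.NoethFP

variable {S : Scheme.{u}}

open Groth.Agent.Lib.Helper78.AlgSpBasic

theorem isQuasiSeparatedSp_of_isQuasiSeparatedMor {X Y : Sp S} (f : X ⟶ Y)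
    (hf : IsQuasiSeparatedMor f) (hY : IsQuasiSeparatedSp Y) : IsQuasiSeparatedSp X := by
  have sq : IsPullback (pullback.fst f f) (pullback.snd f f) f f := IsPullback.of_hasPullback _ _
  have h1 := Groth.Agent.Lib.Helper51.isPullback_diag_of_isPullback sq
  have h2 : RepWith @QuasiCompact (prod.lift (pullback.fst f f) (pullback.snd f f)) :=
    MorphismProperty.of_isPullback (P := RepWith @QuasiCompact) h1 hY
  change RepWith @QuasiCompact (Limits.diag X)
  rw [← Groth.Agent.Lib.Helper30.diagonal_comp_prod_lift f]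
  exact (RepWith (S := S) @QuasiCompact).comp_mem _ _ hf h2

theorem isLocNoethSp_of_locP_loft {X Y : Sp S} (hX : IsAlgSpace X) (f : X ⟶ Y)
    (hf : LocP @LocallyOfFiniteType f) (hY : IsLocNoethSp Y) : IsLocNoethSp X := by
  obtain ⟨V, b, hb, hbs, hV⟩ := hY
  obtain ⟨U₀, a₀, ha₀, ha₀s⟩ := hX.atlas
  obtain ⟨U, j, h, sq, ha, has⟩ := exists_chart_diagram f a₀ ha₀ b hb
  have has := has ha₀s hbs
  have comm : ((yon S).map j ≫ a₀) ≫ f = (yon S).map h ≫ b := by
    rw [Category.assoc]; exact sq.w.symm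
  have hh : LocallyOfFiniteType h.left := hf _ b h ha hb comm
  have : IsLocallyNoetherian V.left := hV
  exact ⟨U, _, ha, has, LocallyOfFiniteType.isLocallyNoetherian h.left⟩

end Groth.Agent.Lib.Helper78.NoethFP
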