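import Groth.Agent.Lib.Helper78.AlgSpBasic

/-!
# Calculus of `AlgSp.IsAffineMor` and friends (helper78)
-/

set_option autoImplicit false
universe u

namespace Groth.Agent.Lib.Helper78.AlgSpAffine

open CategoryTheory CategoryTheory.Limits AlgebraicGeometry AlgSp

variable {S : Scheme.{u}}

/-- affine morphisms of sheaves are stable under base change -/
theorem isAffineMor_of_isPullback {F G F' G' : Sp S} {f : F ⟶ G} {g : G' ⟶ G} {fst : F' ⟶ F}
    {snd : F' ⟶ G'} (sq : IsPullback fst snd f g) (hf : IsAffineMor f) : IsAffineMor snd := by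
  intro Z hZ k
  obtain ⟨W, i, fst₀, sq₀, hW⟩ := hf hZ (k ≫ g)
  have w : fst₀ ≫ f = ((yon S).map i ≫ k) ≫ g := by rw [sq₀.w, Category.assoc]
  refine ⟨W, i, sq.lift fst₀ ((yon S).map i ≫ k) w, ?_, hW⟩
  have outer : IsPullback (sq.lift fst₀ ((yon S).map i ≫ k) w ≫ fst) ((yon S).map i) f (k ≫ g) := by
    rw [sq.lift_fst]
    exact sq₀
  exact IsPullback.of_right outer (sq.lift_snd _ _ _) sq

/-- affine morphisms of sheaves are stable under composition -/
theorem isAffineMor_comp {F G H : Sp S} {f : F ⟶ G} {g : G ⟶ H} (hf : IsAffineMor f)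
    (hg : IsAffineMor g) : IsAffineMor (f ≫ g) := by
  intro Z hZ k
  obtain ⟨W, i, fst₁, sq₁, hW⟩ := hg hZ k
  obtain ⟨W', i', fst₂, sq₂, hW'⟩ := hf hW fst₁
  refine ⟨W', i' ≫ i, fst₂, ?_, hW'⟩
  rw [Functor.map_comp]
  exact sq₂.paste_vert sq₁

/-- a morphism representable by affine morphisms of schemes is affine -/
theorem isAffineMor_of_repWith_isAffineHom {F G : Sp S} {f : F ⟶ G}
    (hf : RepWith @IsAffineHom f) : IsAffineMor f := by
  intro Z hZ k
  refine ⟨hf.rep.pullback k, hf.rep.snd k, hf.rep.fst k, hf.rep.isPullback k, ?_⟩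
  have h1 : IsAffineHom (hf.rep.snd k).left := hf.property_snd k
  have : IsAffine Z.left := hZ
  exact isAffine_of_isAffineHom (hf.rep.snd k).left

/-- a morphism representable by closed immersions is affine -/
theorem isAffineMor_of_repWith_isClosedImmersion {F G : Sp S} {f : F ⟶ G}
    (hf : RepWith @IsClosedImmersion f) : IsAffineMor f := by
  apply isAffineMor_of_repWith_isAffineHom
  refine MorphismProperty.relative_monotone ?_ _ hf
  intro A B i hi
  have : IsClosedImmersion i.left := hi
  exact (inferInstance : IsAffineHom i.left)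

/-- cancellation: if `g ≫ q` is affine and the diagonal of `q` is affine, then `g` is affine -/
theorem isAffineMor_of_comp_of_diagonal {X Y B : Sp S} (g : X ⟶ Y) (q : Y ⟶ B)
    (hp : IsAffineMor (g ≫ q)) (hd : IsAffineMor (pullback.diagonal q)) : IsAffineMor g := by
  have h1 : IsAffineMor (pullback.lift (𝟙 X) g (by simp) : X ⟶ pullback (g ≫ q) q) :=
    isAffineMor_of_isPullback (pullback_lift_diagonal_isPullback g q) hd
  have h2 : IsAffineMor (pullback.snd (g ≫ q) q) :=
    isAffineMor_of_isPullback (IsPullback.of_hasPullback (g ≫ q) q) hp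
  have e : g = (pullback.lift (𝟙 X) g (by simp) : X ⟶ pullback (g ≫ q) q) ≫
      pullback.snd (g ≫ q) q := by
    rw [pullback.lift_snd]
  rw [e]
  exact isAffineMor_comp h1 h2

end Groth.Agent.Lib.Helper78.AlgSpAffine
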