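import Groth.Agent.Lib.Helper40.AlgSpBasic

/-!
# Locality of sections of fppf sheaves over schemes (helper78)

Separation and gluing of morphisms `h_U ⟶ X` along jointly surjective flat lfp families
(in particular Zariski open covers and etale covers).
-/

set_option autoImplicit false
universe u
open CategoryTheory CategoryTheory.Limits AlgebraicGeometry Opposite
open AlgSp

namespace Groth.Agent.Lib.Helper78.AlgSpZar

variable {S : Scheme.{u}}

theorem isSheaf_type (X : Sp S) : Presieve.IsSheaf (J S) X.obj :=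
  (isSheaf_iff_isSheaf_of_type _ _).1 X.property

/-- A jointly surjective family of flat lfp morphisms over `S` generates an fppf covering sieve. -/
theorem generate_ofArrows_mem_J {U : Over S} {ι : Type*} (V : ι → Over S) (g : ∀ i, V i ⟶ U)
    (hfl : ∀ i, Flat (g i).left) (hfp : ∀ i, LocallyOfFinitePresentation (g i).left)
    (hs : ∀ x : U.left, ∃ i, x ∈ Set.range (g i).left) :
    Sieve.generate (Presieve.ofArrows V g) ∈ (J S) U := by
  rw [J_eq, GrothendieckTopology.mem_over_iff, Sieve.overEquiv_generate]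
  have hcov : Sieve.generate (Presieve.ofArrows (fun i => (V i).left) (fun i => (g i).left)) ∈
      Scheme.fppfTopology U.left := by
    refine Precoverage.generate_mem_toGrothendieck ?_
    unfold Scheme.fppfPrecoverage
    rw [Scheme.ofArrows_mem_precoverage_iff]
    exact ⟨hs, fun i => ⟨hfl i, hfp i⟩⟩
  refine GrothendieckTopology.superset_covering Scheme.fppfTopology ?_ hcov
  rw [Sieve.generate_le_iff]
  rintro _ _ ⟨i⟩
  exact ⟨(V i).left, 𝟙 _, (g i).left, ⟨V i, g i, 𝟙 _, Presieve.ofArrows.mk i,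
    (Category.id_comp _).symm⟩, Category.id_comp _⟩

theorem isSheafFor_ofArrows (X : Sp S) {U : Over S} {ι : Type*} (V : ι → Over S)
    (g : ∀ i, V i ⟶ U)
    (hfl : ∀ i, Flat (g i).left) (hfp : ∀ i, LocallyOfFinitePresentation (g i).left)
    (hs : ∀ x : U.left, ∃ i, x ∈ Set.range (g i).left) :
    Presieve.IsSheafFor X.obj (Presieve.ofArrows V g) :=
  (isSheaf_type X).isSheafFor _ (generate_ofArrows_mem_J V g hfl hfp hs)

/-- **Separation**: two maps `h_U ⟶ X` that agree on a flat lfp jointly surjective family are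
equal. -/
theorem hom_ext_of_cover {X : Sp S} {U : Over S} (a b : (yon S).obj U ⟶ X) {ι : Type*}
    (V : ι → Over S) (g : ∀ i, V i ⟶ U)
    (hfl : ∀ i, Flat (g i).left) (hfp : ∀ i, LocallyOfFinitePresentation (g i).left)
    (hs : ∀ x : U.left, ∃ i, x ∈ Set.range (g i).left)
    (h : ∀ i, (yon S).map (g i) ≫ a = (yon S).map (g i) ≫ b) : a = b := by
  apply (J S).uliftYonedaEquiv.injective
  refine (isSheafFor_ofArrows X V g hfl hfp hs).isSeparatedFor.ext ?_
  rintro _ _ ⟨i⟩
  rw [GrothendieckTopology.uliftYonedaEquiv_naturality,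
    GrothendieckTopology.uliftYonedaEquiv_naturality]
  exact congrArg _ (h i)

/-- **Gluing**: a compatible family of maps `h_{V i} ⟶ X` on a flat lfp jointly surjective family
glues uniquely to a map `h_U ⟶ X`. -/
theorem exists_glue {X : Sp S} {U : Over S} {ι : Type*} (V : ι → Over S) (g : ∀ i, V i ⟶ U)
    (hfl : ∀ i, Flat (g i).left) (hfp : ∀ i, LocallyOfFinitePresentation (g i).left)
    (hs : ∀ x : U.left, ∃ i, x ∈ Set.range (g i).left)
    (x : ∀ i, (yon S).obj (V i) ⟶ X)
    (hx : ∀ i j (Z : Over S) (gi : Z ⟶ V i) (gj : Z ⟶ V j), gi ≫ g i = gj ≫ g j →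
      (yon S).map gi ≫ x i = (yon S).map gj ≫ x j) :
    ∃ t : (yon S).obj U ⟶ X, ∀ i, (yon S).map (g i) ≫ t = x i := by
  have hsh := (Presieve.isSheafFor_arrows_iff X.obj g).1 (isSheafFor_ofArrows X V g hfl hfp hs)
  obtain ⟨t, ht, -⟩ := hsh (fun i => (J S).uliftYonedaEquiv (x i)) (by
    intro i j Z gi gj hij
    rw [GrothendieckTopology.uliftYonedaEquiv_naturality,
      GrothendieckTopology.uliftYonedaEquiv_naturality]
    exact congrArg _ (hx i j Z gi gj hij))
  refine ⟨(J S).uliftYonedaEquiv.symm t, fun i => ?_⟩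
  apply (J S).uliftYonedaEquiv.injective
  rw [← GrothendieckTopology.uliftYonedaEquiv_naturality, Equiv.apply_symm_apply]
  exact ht i

/-- the open immersion of an open subscheme, over `S`. -/
noncomputable def opensι (U : Over S) (W : U.left.Opens) : Over.mk (W.ι ≫ U.hom) ⟶ U :=
  Over.homMk W.ι rfl

/-- **Zariski separation** on the affine opens. -/
theorem hom_ext_of_affineOpens {X : Sp S} {U : Over S} (a b : (yon S).obj U ⟶ X)
    (h : ∀ W : U.left.affineOpens, (yon S).map (opensι U W.1) ≫ a =
      (yon S).map (opensι U W.1) ≫ b) : a = b := by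
  refine hom_ext_of_cover a b (fun W : U.left.affineOpens => Over.mk (W.1.ι ≫ U.hom))
    (fun W => opensι U W.1) (fun W => ?_) (fun W => ?_) (fun x => ?_) h
  · change Flat W.1.ι
    infer_instance
  · change LocallyOfFinitePresentation W.1.ι
    infer_instance
  · obtain ⟨_, ⟨W, hW, rfl⟩, hxW, -⟩ :=
      U.left.isBasis_affineOpens.exists_subset_of_mem_open (Set.mem_univ x) isOpen_univ
    exact ⟨⟨W, hW⟩, ⟨x, hxW⟩, rfl⟩

end Groth.Agent.Lib.Helper78.AlgSpZar
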