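import Groth.Agent.Lib.Helper78.AlgSpInfBridge

set_option autoImplicit false
universe u
open CategoryTheory CategoryTheory.Limits AlgebraicGeometry Opposite
open AlgSp

namespace Groth.Agent.Lib.Helper78.AlgSpInfBridge

variable {S : Scheme.{u}}

/-- a formally unramified morphism of schemes gives a formally unramified map of sheaves. -/
theorem isFormallyUnramifiedMor_yon_of_formallyUnramified {U V : Over S} (h : U ⟶ V)
    [FormallyUnramified h.left] : IsFormallyUnramifiedMor ((yon S).map h) := by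
  intro sq l l' h1 h2 h1' h2'
  obtain ⟨l₀, rfl⟩ := (yon S).map_surjective l
  obtain ⟨l₀', rfl⟩ := (yon S).map_surjective l'
  congr 1
  have ht := Groth.Agent.Lib.Helper61.ThickBC.isFirstOrderThickening_SpecMap_mk sq.I sq.sq_zero
  haveI : IsClosedImmersion sq.j.left := ht.1.1
  have e1 : sq.j ≫ l₀ = sq.j ≫ l₀' := by
    apply (yon S).map_injective
    rw [Functor.map_comp, Functor.map_comp, h1, h1']
  have e2 : l₀ ≫ h = l₀' ≫ h := by
    apply (yon S).map_injective
    rw [Functor.map_comp, Functor.map_comp, h2, h2']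
  apply Over.OverMorphism.ext
  refine FormallyUnramified.hom_ext sq.j.left ⟨2, ?_⟩ h.left
    (by rw [← Over.comp_left, ← Over.comp_left, e1]) (by rw [← Over.comp_left, ← Over.comp_left, e2])
  rw [pow_two]
  exact ht.2

/-- a formally unramified map of representable sheaves comes from a formally unramified morphism
of schemes. -/
theorem formallyUnramified_of_isFormallyUnramifiedMor_yon {U V : Over S} (h : U ⟶ V)
    (hf : IsFormallyUnramifiedMor ((yon S).map h)) : FormallyUnramified h.left := by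
  refine FormallyUnramified.of_hom_ext h.left fun R R' φ hφ hker g₁ g₂ hg1 hg2 => ?_
  -- standard form
  let I : Ideal R := RingHom.ker φ.hom
  let e : (R ⧸ I) ≃+* R' := RingHom.quotientKerEquivOfSurjective hφ
  have hφe : φ = CommRingCat.ofHom (Ideal.Quotient.mk I) ≫ e.toCommRingCatIso.hom := by
    ext x
    rfl
  have hg1' : Spec.map (CommRingCat.ofHom (Ideal.Quotient.mk I)) ≫ g₁ =
      Spec.map (CommRingCat.ofHom (Ideal.Quotient.mk I)) ≫ g₂ := by
    rw [hφe, Spec.map_comp, Category.assoc, Category.assoc] at hg1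
    exact (cancel_epi _).1 hg1
  have w : Spec.map (CommRingCat.ofHom (Ideal.Quotient.mk I)) ≫ (g₁ ≫ h.left) =
      (Spec.map (CommRingCat.ofHom (Ideal.Quotient.mk I)) ≫ g₁) ≫ h.left := by
    rw [Category.assoc]
  let sq := mkInfSq h R I hker (Spec.map (CommRingCat.ofHom (Ideal.Quotient.mk I)) ≫ g₁)
    (g₁ ≫ h.left) w
  have hw1 : g₁ ≫ U.hom = (g₁ ≫ h.left) ≫ V.hom := by rw [Category.assoc, Over.w h]
  have hw2 : g₂ ≫ U.hom = (g₁ ≫ h.left) ≫ V.hom := by rw [hg2, Category.assoc, Over.w h]
  let L₁ : sq.ptT' ⟶ U := Over.homMk g₁ hw1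
  let L₂ : sq.ptT' ⟶ U := Over.homMk g₂ hw2
  have k1 := (mkInfSq_lift_iff h R I hker _ _ w L₁).2 ⟨rfl, rfl⟩
  have k2 := (mkInfSq_lift_iff h R I hker _ _ w L₂).2 ⟨hg1'.symm, hg2.symm⟩
  have := hf sq _ _ k1.1 k1.2 k2.1 k2.2
  have h3 := (yon S).map_injective this
  exact congrArg (·.left) h3

end Groth.Agent.Lib.Helper78.AlgSpInfBridge
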