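import Groth.Agent.Lib.Helper78.AlgSpFEtale
import Groth.Agent.Lib.Helper78.AlgSpInfBridge2
import Groth.Agent.S10618
import Groth.Agent.S10619
import Groth.Agent.S1489
import Groth.Agent.S1516

set_option autoImplicit false
universe u
open CategoryTheory CategoryTheory.Limits AlgebraicGeometry Opposite
open AlgSp

namespace Groth.Agent.Lib.Helper78.AlgSpFUnram

open Groth.Agent.Lib.Helper78.AlgSpZar Groth.Agent.Lib.Helper40.AlgSpBasic
open Groth.Agent.Lib.Helper78.AlgSpInfSq Groth.Agent.Lib.Helper78.AlgSpLiftGlue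
open Groth.Agent.Lib.Helper78.AlgSpFEtale Groth.Agent.Lib.Helper78.AlgSpInfBridge
open Groth.Agent.Lib.Helper51

variable {S : Scheme.{u}}

/-- **Descent of uniqueness of lifts** along an etale surjective chart of the source. -/
theorem lift_unique_of_chart {X Y : Sp S} (hY : IsAlgSpace Y) (f : X ⟶ Y)
    {U V : Over S} (a : (yon S).obj U ⟶ X) (b : (yon S).obj V ⟶ Y) (h : U ⟶ V)
    (ha : RepWith @Etale a) (has : RepWith @Surjective a) (hb : RepWith @Etale b)
    (comm : a ≫ f = (yon S).map h ≫ b) [FormallyUnramified h.left]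
    {T T' : Over S} (j : T ⟶ T') (hj : MoreMor.IsFirstOrderThickening j.left)
    (l l' : (yon S).obj T' ⟶ X) (h1 : (yon S).map j ≫ l = (yon S).map j ≫ l')
    (h2 : l ≫ f = l' ≫ f) : l = l' := by
  -- `a ≫ f` is formally unramified
  have hbe : IsFormallyEtaleMor b :=
    isFormallyEtaleMor_of_isEtaleMor (IsAlgSpace.yon_obj V) hY
      (Groth.Agent.Lib.Helper30.isEtaleMor_of_repWith_etale hb)
  have hg : IsFormallyUnramifiedMor (a ≫ f) := by
    rw [comm]
    exact (Groth.Agent.S10619.result _ _).2.2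
      (isFormallyUnramifiedMor_yon_of_formallyUnramified h)
      (isFormallyUnramifiedMor_of_isFormallyEtaleMor hbe)
  -- the three pullbacks
  have sqP := ha.1.isPullback l
  have sqP' := ha.1.isPullback l'
  have sqP₀ := ha.1.isPullback ((yon S).map j ≫ l)
  have hπ : Etale (ha.1.snd l).left := ha.2 l _ _ sqP
  have hπ' : Etale (ha.1.snd l').left := ha.2 l' _ _ sqP'
  have hπ's : Surjective (ha.1.snd l').left := has.2 l' _ _ sqP'
  -- the maps `k`, `k'`
  obtain ⟨k, hk⟩ := (yon S).map_surjective (sqP.lift (ha.1.fst ((yon S).map j ≫ l))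
    ((yon S).map (ha.1.snd ((yon S).map j ≫ l) ≫ j)) (by
      rw [sqP₀.w, Functor.map_comp, Category.assoc]))
  have hk1 : (yon S).map k ≫ ha.1.fst l = ha.1.fst ((yon S).map j ≫ l) := by
    rw [hk]; exact sqP.lift_fst _ _ _
  have hk2 : k ≫ ha.1.snd l = ha.1.snd ((yon S).map j ≫ l) ≫ j := by
    apply (yon S).map_injective
    rw [Functor.map_comp, hk]; exact sqP.lift_snd _ _ _
  obtain ⟨k', hk'⟩ := (yon S).map_surjective (sqP'.lift (ha.1.fst ((yon S).map j ≫ l))
    ((yon S).map (ha.1.snd ((yon S).map j ≫ l) ≫ j)) (by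
      rw [sqP₀.w, Functor.map_comp, Category.assoc, h1]))
  have hk'1 : (yon S).map k' ≫ ha.1.fst l' = ha.1.fst ((yon S).map j ≫ l) := by
    rw [hk']; exact sqP'.lift_fst _ _ _
  have hk'2 : k' ≫ ha.1.snd l' = ha.1.snd ((yon S).map j ≫ l) ≫ j := by
    apply (yon S).map_injective
    rw [Functor.map_comp, hk']; exact sqP'.lift_snd _ _ _
  -- `k'` is a first order thickening
  have sqk' : IsPullback ((yon S).map k') ((yon S).map (ha.1.snd ((yon S).map j ≫ l)))
      ((yon S).map (ha.1.snd l')) ((yon S).map j) := by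
    refine IsPullback.of_right ?_ ?_ sqP'
    · rw [hk'1, ← h1]; exact sqP₀
    · rw [← Functor.map_comp, ← Functor.map_comp, hk'2]
  have sqk'l := isPullback_left_of_yon sqk'
  have hk'fo : MoreMor.IsFirstOrderThickening k'.left :=
    Groth.Agent.Lib.Helper61.ThickBC.isFirstOrderThickening_of_isPullback sqk'l hj
  -- the comparison `φ : P' ⟶ P`
  have hπfe : MoreMor.IsFormallyEtaleHom (ha.1.snd l).left :=
    ((Groth.Agent.S1489.result _).1 hπ).2
  obtain ⟨φ₀, ⟨hφ1, hφ2⟩, -⟩ := Groth.Agent.S1516.result (ha.1.snd l).left hπfe k'.left hk'fo k.left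
    (ha.1.snd l').left (by
      rw [← Over.comp_left, ← Over.comp_left, hk'2, hk2])
  let φ : ha.1.pullback l' ⟶ ha.1.pullback l := Over.homMk φ₀ (by
    rw [← Over.w (ha.1.snd l), ← Category.assoc, hφ2, Over.w])
  have hφ1' : k' ≫ φ = k := by
    apply Over.OverMorphism.ext
    exact hφ1
  have hφ2' : φ ≫ ha.1.snd l = ha.1.snd l' := by
    apply Over.OverMorphism.ext
    exact hφ2
  -- two lifts
  haveI : IsClosedImmersion k'.left := hk'fo.1.1
  have hFO : IsFOThickMor ((yon S).map k') := isFOThickMor_yon_map k' hk'fo.2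
  have key : ha.1.fst l' = (yon S).map φ ≫ ha.1.fst l := by
    refine lift_unique (IsAlgSpace.yon_obj _) hFO hg (a := ha.1.fst ((yon S).map j ≫ l))
      (b := (yon S).map (ha.1.snd l') ≫ l' ≫ f) _ _ hk'1 ?_ ?_ ?_
    · rw [← Category.assoc, sqP'.w, Category.assoc]
    · rw [← Category.assoc, ← Functor.map_comp, hφ1', hk1]
    · rw [Category.assoc, ← Category.assoc (ha.1.fst l), sqP.w, Category.assoc, h2,
        ← Category.assoc, ← Functor.map_comp, hφ2']
  -- conclude
  symm
  refine hom_ext_of_cover _ _ (fun _ : Unit => ha.1.pullback l') (fun _ => ha.1.snd l')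
    (fun _ => inferInstance) (fun _ => inferInstance)
    (fun x => ⟨(), (ha.1.snd l').left.surjective x⟩) (fun _ => ?_)
  rw [← sqP'.w, key, Category.assoc, sqP.w, ← Category.assoc, ← Functor.map_comp, hφ2']

end Groth.Agent.Lib.Helper78.AlgSpFUnram
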