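import Groth.Agent.Lib.Helper30.AlgSpSep

/-!
# Cancellation via the diagonal (helper78)
-/

set_option autoImplicit false
universe u
open CategoryTheory CategoryTheory.Limits AlgebraicGeometry
open AlgSp

namespace Groth.Agent.Lib.Helper78.AlgSpPostcomp

/-- If `W` is multiplicative and stable under base change, `W (f ≫ g)` and `W (Δ_g)` give `W f`. -/
theorem of_postcomp_of_diagonal {C : Type*} [Category C] [HasPullbacks C] (W : MorphismProperty C)
    [W.IsStableUnderBaseChange] [W.IsMultiplicative] {X Y Z : C} (f : X ⟶ Y) (g : Y ⟶ Z)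
    (hd : W (pullback.diagonal g)) (hfg : W (f ≫ g)) : W f := by
  have : W.HasOfPostcompProperty W.diagonal :=
    (MorphismProperty.hasOfPostcompProperty_iff_le_diagonal).2 le_rfl
  exact this.of_postcomp f g hd hfg

theorem repWith_inf {S : Scheme.{u}} {P Q : MorphismProperty Scheme.{u}} {F G : Sp S} {f : F ⟶ G}
    (hP : RepWith P f) (hQ : RepWith Q f) : RepWith (P ⊓ Q) f :=
  ⟨hP.1, fun _ _ g fst snd sq => ⟨hP.2 g fst snd sq, hQ.2 g fst snd sq⟩⟩

end Groth.Agent.Lib.Helper78.AlgSpPostcomp
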