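import Groth.Prelude.Def_EGA43

/-!
# Basic API for `EGA43.IsOpenAt` (helper78)
-/

set_option autoImplicit false
universe u v w

namespace Groth.Agent.Lib.Helper78.OpenAt

open EGA43 Filter Topology

variable {α : Type u} {β : Type v} {γ : Type w} [TopologicalSpace α] [TopologicalSpace β]
  [TopologicalSpace γ]

theorem isOpenAt_iff (f : α → β) (x : α) : IsOpenAt f x ↔ 𝓝 (f x) ≤ Filter.map f (𝓝 x) := by
  constructor
  · intro h s hs
    rw [Filter.mem_map] at hs
    exact Filter.mem_of_superset (h _ hs) (Set.image_preimage_subset f s)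
  · intro h U hU
    exact h (Filter.image_mem_map hU)

theorem IsOpenAt.comp {g : β → γ} {f : α → β} {x : α} (hg : IsOpenAt g (f x)) (hf : IsOpenAt f x) :
    IsOpenAt (g ∘ f) x := by
  intro U hU
  rw [Set.image_comp]
  exact hg _ (hf U hU)

theorem IsOpenAt.of_comp {g : β → γ} {f : α → β} (hf : Continuous f) {x : α}
    (h : IsOpenAt (g ∘ f) x) : IsOpenAt g (f x) := by
  intro U hU
  have h1 : f ⁻¹' U ∈ 𝓝 x := hf.continuousAt hU
  have h2 := h _ h1
  refine Filter.mem_of_superset h2 ?_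
  rw [Set.image_comp]
  exact Set.image_mono (Set.image_preimage_subset f U)

theorem isOpenAt_of_isOpenMap {f : α → β} (hf : IsOpenMap f) (x : α) : IsOpenAt f x :=
  fun _ hU => hf.image_mem_nhds hU

theorem isOpenAt_homeomorph (e : α ≃ₜ β) (x : α) : IsOpenAt e x :=
  isOpenAt_of_isOpenMap e.isOpenMap x

theorem IsOpenAt.congr {f g : α → β} (h : f = g) {x : α} (hf : IsOpenAt f x) : IsOpenAt g x :=
  h ▸ hf

/-- openness at a point can be tested on a finite cover by closed "pieces", each presented by a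
set-theoretically cartesian square whose right vertical map is inducing with closed range -/
theorem isOpenAt_of_finite_closed_pieces {ι : Type*} [Finite ι] {P T : ι → Type*}
    [∀ i, TopologicalSpace (P i)] [∀ i, TopologicalSpace (T i)]
    (ψ : α → β) (x : α) (p : ∀ i, P i → α) (q : ∀ i, P i → T i) (v : ∀ i, T i → β)
    (hcomm : ∀ i z, ψ (p i z) = v i (q i z))
    (hsurj : ∀ i a t, ψ a = v i t → ∃ z, p i z = a ∧ q i z = t)
    (hp : ∀ i, Continuous (p i)) (hv : ∀ i, Topology.IsInducing (v i))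
    (hcl : ∀ i, IsClosed (Set.range (v i))) (hcov : ⋃ i, Set.range (v i) = Set.univ)
    (h : ∀ i z, p i z = x → IsOpenAt (q i) z) : IsOpenAt ψ x := by
  intro U hU
  have key : ∀ i, ∃ V ∈ 𝓝 (ψ x), V ∩ Set.range (v i) ⊆ ψ '' U := by
    intro i
    by_cases hi : ψ x ∈ Set.range (v i)
    · obtain ⟨t, ht⟩ := hi
      obtain ⟨z, hz1, hz2⟩ := hsurj i x t ht.symm
      have hU' : p i ⁻¹' U ∈ 𝓝 z := (hp i).continuousAt.preimage_mem_nhds (by rw [hz1]; exact hU)
      have h1 := h i z hz1 _ hU'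
      rw [hz2, (hv i).nhds_eq_comap, ht, Filter.mem_comap] at h1
      obtain ⟨V, hV, hVsub⟩ := h1
      refine ⟨V, hV, ?_⟩
      rintro y' ⟨hy'V, t', rfl⟩
      obtain ⟨z', hz'U, hz't'⟩ := hVsub (show t' ∈ v i ⁻¹' V from hy'V)
      refine ⟨p i z', hz'U, ?_⟩
      rw [hcomm, hz't']
    · refine ⟨(Set.range (v i))ᶜ, (hcl i).isOpen_compl.mem_nhds hi, ?_⟩
      rintro y' ⟨h1, h2⟩
      exact absurd h2 h1
  choose V hV hVsub using key
  have hmem : (⋂ i, V i) ∈ 𝓝 (ψ x) := (Filter.iInter_mem).mpr hV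
  refine Filter.mem_of_superset hmem ?_
  intro y' hy'
  have hy'cov : y' ∈ ⋃ i, Set.range (v i) := by rw [hcov]; trivial
  obtain ⟨i, hi⟩ := Set.mem_iUnion.mp hy'cov
  exact hVsub i ⟨Set.mem_iInter.mp hy' i, hi⟩

end Groth.Agent.Lib.Helper78.OpenAt
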