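import Groth.Agent.Lib.Helper78.AlgSpMisc2
import Mathlib.AlgebraicGeometry.Noetherian

/-!
# Locally of finite type over locally Noetherian (helper78)
-/

set_option autoImplicit false
universe u

open CategoryTheory CategoryTheory.Limits AlgebraicGeometry MorphismProperty

namespace Groth.Agent.Lib.Helper78.AlgSpMisc

open AlgSp Groth.Agent.Lib.Helper78.AlgSpBasic

/-- over a locally Noetherian scheme, locally of finite type implies locally of finite
presentation. -/
theorem lofp_of_loft_of_isLocallyNoetherian {X Y : Scheme.{u}} (f : X ⟶ Y)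
    [IsLocallyNoetherian Y] (hf : LocallyOfFiniteType f) : LocallyOfFinitePresentation f := by
  rw [HasRingHomProperty.iff_appLE (P := @LocallyOfFinitePresentation)]
  intro U V e
  have h1 : RingHom.FiniteType (f.appLE U V e).hom :=
    HasRingHomProperty.appLE (P := @LocallyOfFiniteType) f hf U V e
  have : IsNoetherianRing Γ(Y, U) := IsLocallyNoetherian.component_noetherian U
  exact RingHom.FinitePresentation.of_finiteType.1 h1

variable {S : Scheme.{u}}

/-- over a locally Noetherian algebraic space, locally of finite type implies locally of finite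
presentation. -/
theorem locP_lofp_of_loft_of_isLocNoethSp {X Y : Sp S} (hX : IsAlgSpace X) (f : X ⟶ Y)
    (hY : IsLocNoethSp Y) (hf : LocP @LocallyOfFiniteType f) :
    LocP @LocallyOfFinitePresentation f := by
  obtain ⟨V, b, hb, hbs, hV⟩ := hY
  obtain ⟨U₀, a₀, ha₀, ha₀s⟩ := hX.atlas
  obtain ⟨U, j, h, sq, ha, has⟩ := exists_chart_diagram f a₀ ha₀ b hb
  have has := has ha₀s hbs
  have comm : ((yon S).map j ≫ a₀) ≫ f = (yon S).map h ≫ b := by
    rw [Category.assoc]; exact sq.w.symm
  have hh : LocallyOfFiniteType h.left := hf _ b h ha hb comm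
  have : IsLocallyNoetherian V.left := hV
  exact AlgSpLocP.locP_of_chart AlgSpLocPLofp.etLocalST_lofp f _ b h ha has hb comm
    (lofp_of_loft_of_isLocallyNoetherian h.left hh)

end Groth.Agent.Lib.Helper78.AlgSpMisc
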