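import Groth.Agent.Lib.Helper78.AlgSpLiftGlue4

/-!
# Closed subschemes of an affine scheme over `S` (helper78)

`TK str K = Spec (A ⧸ K)` over `S`, inclusions `ιK`, `fac`, first order thickenings among them,
and the identification of an arbitrary closed subscheme of `Spec A` with some `TK str J`.
-/

set_option autoImplicit false
universe u
open CategoryTheory CategoryTheory.Limits AlgebraicGeometry Opposite
open AlgSp

namespace Groth.Agent.Lib.Helper78.AffClosed

/-- `Spec R' ⟶ Spec R` is a first order thickening for a surjection with square-zero kernel. -/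
theorem isFirstOrderThickening_SpecMap_of_surjective {R R' : Type u} [CommRing R] [CommRing R']
    (φ : R →+* R') (hφ : Function.Surjective φ) (hLL : ∀ x ∈ RingHom.ker φ, ∀ y ∈ RingHom.ker φ,
      x * y = 0) :
    MoreMor.IsFirstOrderThickening (Spec.map (CommRingCat.ofHom φ)) := by
  have hsurjP : ∀ p : PrimeSpectrum R, ∃ q : PrimeSpectrum R', PrimeSpectrum.comap φ q = p := by
    intro p
    have hIp : RingHom.ker φ ≤ p.asIdeal := by
      intro x hx
      have h0 : x * x ∈ p.asIdeal := by rw [hLL x hx x hx]; exact Ideal.zero_mem _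
      exact (p.isPrime.mem_or_mem h0).elim id id
    have hp' : (p.asIdeal.map φ).IsPrime := Ideal.map_isPrime_of_surjective hφ hIp
    refine ⟨⟨p.asIdeal.map φ, hp'⟩, ?_⟩
    apply PrimeSpectrum.ext
    show (p.asIdeal.map φ).comap φ = p.asIdeal
    rw [Ideal.comap_map_of_surjective _ hφ, ← RingHom.ker_eq_comap_bot, sup_eq_left]
    exact hIp
  refine ⟨⟨IsClosedImmersion.spec_of_surjective (CommRingCat.ofHom φ) hφ,
    ⟨fun p => hsurjP p⟩⟩, ?_⟩
  · refine le_antisymm ?_ bot_le
    apply Scheme.IdealSheafData.le_of_isAffine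
    rw [Scheme.IdealSheafData.ideal_mul, Scheme.IdealSheafData.ideal_bot]
    simp only [Pi.mul_apply, Pi.bot_apply]
    rw [Ideal.mul_le]
    intro x hx y hy
    rw [Scheme.Hom.ker_apply, RingHom.mem_ker] at hx hy
    rw [Ideal.mem_bot]
    have key : ∀ z : Γ(Spec (CommRingCat.of R), ⊤),
        ((Spec.map (CommRingCat.ofHom φ)).app ⊤).hom z = 0 →
        (Scheme.ΓSpecIso (CommRingCat.of R)).hom.hom z ∈ RingHom.ker φ := by
      intro z hz
      have hnat := Scheme.ΓSpecIso_naturality (CommRingCat.ofHom φ)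
      have h1 := congrArg (fun F => F.hom z) hnat
      simp only [CommRingCat.hom_comp, RingHom.comp_apply] at h1
      rw [RingHom.mem_ker]
      change φ ((Scheme.ΓSpecIso (CommRingCat.of R)).hom.hom z) = 0
      erw [← h1]
      erw [hz]
      exact map_zero _
    have h0 := hLL _ (key x hx) _ (key y hy)
    rw [← map_mul] at h0
    have hinj : Function.Injective (Scheme.ΓSpecIso (CommRingCat.of R)).hom.hom :=
      (ConcreteCategory.bijective_of_isIso (Scheme.ΓSpecIso (CommRingCat.of R)).hom).1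
    exact hinj (by rw [h0, map_zero])

variable {S : Scheme.{u}} {A : Type u} [CommRing A] (str : Spec (CommRingCat.of A) ⟶ S)

/-- the closed subscheme `Spec (A ⧸ K)` of `Spec A`, over `S`. -/
noncomputable abbrev TK (K : Ideal A) : Over S :=
  Over.mk (Spec.map (CommRingCat.ofHom (Ideal.Quotient.mk K)) ≫ str)

/-- its inclusion. -/
noncomputable abbrev ιK (K : Ideal A) : TK str K ⟶ Over.mk str :=
  Over.homMk (Spec.map (CommRingCat.ofHom (Ideal.Quotient.mk K))) rfl

/-- the inclusion `Spec (A ⧸ K) ⟶ Spec (A ⧸ K')` for `K' ≤ K`. -/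
noncomputable def fac {K' K : Ideal A} (h : K' ≤ K) : TK str K ⟶ TK str K' :=
  Over.homMk (Spec.map (CommRingCat.ofHom (Ideal.Quotient.factor h))) (by
    change Spec.map _ ≫ Spec.map _ ≫ str = Spec.map _ ≫ str
    rw [← Category.assoc, ← Spec.map_comp, ← CommRingCat.ofHom_comp,
      Ideal.Quotient.factor_comp_mk])

theorem fac_ι {K' K : Ideal A} (h : K' ≤ K) : fac str h ≫ ιK str K' = ιK str K := by
  apply Over.OverMorphism.ext
  change Spec.map _ ≫ Spec.map _ = Spec.map _
  rw [← Spec.map_comp, ← CommRingCat.ofHom_comp, Ideal.Quotient.factor_comp_mk]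

theorem fac_fac {K'' K' K : Ideal A} (h : K'' ≤ K') (h' : K' ≤ K) :
    fac str h' ≫ fac str h = fac str (h.trans h') := by
  apply Over.OverMorphism.ext
  change Spec.map _ ≫ Spec.map _ = Spec.map _
  rw [← Spec.map_comp, ← CommRingCat.ofHom_comp, Ideal.Quotient.factor_comp]

instance (K : Ideal A) : IsClosedImmersion (ιK str K).left :=
  IsClosedImmersion.spec_of_surjective _ Ideal.Quotient.mk_surjective

instance {K' K : Ideal A} (h : K' ≤ K) : IsClosedImmersion (fac str h).left :=
  IsClosedImmersion.spec_of_surjective _ (Ideal.Quotient.factor_surjective h)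

theorem mono_ιK (K : Ideal A) : Mono (ιK str K) := by
  have : Mono ((Over.forget S).map (ιK str K)) := by
    have : IsClosedImmersion ((Over.forget S).map (ιK str K)) :=
      inferInstanceAs (IsClosedImmersion (ιK str K).left)
    infer_instance
  exact (Over.forget S).mono_of_mono_map this

theorem isFOThickMor_fac {K' K : Ideal A} (h : K' ≤ K) (h2 : K ^ 2 ≤ K') :
    IsFOThickMor ((yon S).map (fac str h)) := by
  have hfo : MoreMor.IsFirstOrderThickening (fac str h).left := by
    refine isFirstOrderThickening_SpecMap_of_surjective _ (Ideal.Quotient.factor_surjective h) ?_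
    intro x hx y hy
    obtain ⟨a, rfl⟩ := Ideal.Quotient.mk_surjective x
    obtain ⟨b, rfl⟩ := Ideal.Quotient.mk_surjective y
    rw [RingHom.mem_ker, Ideal.Quotient.factor_mk, Ideal.Quotient.eq_zero_iff_mem] at hx hy
    rw [← map_mul, Ideal.Quotient.eq_zero_iff_mem]
    apply h2
    rw [pow_two]
    exact Ideal.mul_mem_mul hx hy
  exact Groth.Agent.Lib.Helper78.AlgSpLiftGlue.isFOThickMor_yon_map _ hfo.2

theorem le_of_factors {K' K : Ideal A} (m : TK str K ⟶ TK str K')
    (hm : m ≫ ιK str K' = ιK str K) : K' ≤ K := by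
  have h1 : m.left ≫ Spec.map (CommRingCat.ofHom (Ideal.Quotient.mk K')) =
      Spec.map (CommRingCat.ofHom (Ideal.Quotient.mk K)) := congrArg (·.left) hm
  obtain ⟨μ, hμ⟩ := Spec.map_surjective m.left
  rw [← hμ, ← Spec.map_comp] at h1
  have h2 := Spec.map_injective h1
  intro x hx
  have h3 := congrArg (fun F => F.hom x) h2
  change μ.hom (Ideal.Quotient.mk K' x) = Ideal.Quotient.mk K x at h3
  rw [Ideal.Quotient.eq_zero_iff_mem.2 hx, map_zero] at h3
  exact Ideal.Quotient.eq_zero_iff_mem.1 h3.symm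

/-- a closed subscheme of `Spec A` over `S` is `Spec (A ⧸ J)`. -/
theorem exists_ideal_of_closedImmersion {W₀ : Over S} (k : W₀ ⟶ Over.mk str)
    [IsClosedImmersion k.left] :
    ∃ (J : Ideal A) (Ψ : W₀ ≅ TK str J), Ψ.hom ≫ ιK str J = k ∧
      (k.left.ker * k.left.ker = ⊥ → J ^ 2 = ⊥) := by
  haveI : IsAffine (Over.mk str).left := inferInstanceAs (IsAffine (Spec (CommRingCat.of A)))
  obtain ⟨hW₀, hsurj⟩ := IsClosedImmersion.isAffine_surjective_of_isAffine k.left
  let φc : CommRingCat.of A ⟶ Γ(W₀.left, ⊤) :=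
    (Scheme.ΓSpecIso (CommRingCat.of A)).inv ≫ k.left.appTop
  have hφs : Function.Surjective φc.hom := by
    intro y
    obtain ⟨x, hx⟩ := hsurj y
    refine ⟨(Scheme.ΓSpecIso (CommRingCat.of A)).hom.hom x, ?_⟩
    have h1 : (Scheme.ΓSpecIso (CommRingCat.of A)).inv.hom
      ((Scheme.ΓSpecIso (CommRingCat.of A)).hom.hom x) = x := by
      rw [← RingHom.comp_apply, ← CommRingCat.hom_comp, Iso.hom_inv_id]
      rfl
    change k.left.appTop.hom ((Scheme.ΓSpecIso (CommRingCat.of A)).inv.hom
      ((Scheme.ΓSpecIso (CommRingCat.of A)).hom.hom x)) = y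
    rw [h1]
    exact hx
  let J : Ideal A := RingHom.ker φc.hom
  let e : (A ⧸ J) ≃+* Γ(W₀.left, ⊤) := RingHom.quotientKerEquivOfSurjective hφs
  let ψ₀ : W₀.left ≅ Spec (CommRingCat.of (A ⧸ J)) :=
    W₀.left.isoSpec ≪≫ Scheme.Spec.mapIso e.toCommRingCatIso.op
  have h2 : CommRingCat.ofHom (Ideal.Quotient.mk J) ≫ e.toCommRingCatIso.hom = φc := by
    ext x
    rfl
  have hcomp : ψ₀.hom ≫ Spec.map (CommRingCat.ofHom (Ideal.Quotient.mk J)) = k.left := by
    simp only [ψ₀, Iso.trans_hom, Functor.mapIso_hom, Iso.op_hom, Scheme.Spec_map,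
      Quiver.Hom.unop_op, Category.assoc, ← Spec.map_comp, h2]
    have h3 := Scheme.isoSpec_hom_naturality k.left
    have h4 : (Over.mk str).left.isoSpec.hom =
        Spec.map (Scheme.ΓSpecIso (CommRingCat.of A)).hom :=
      Scheme.isoSpec_Spec_hom (CommRingCat.of A)
    rw [h4] at h3
    simp only [φc, Spec.map_comp]
    rw [← Category.assoc, h3, Category.assoc, ← Spec.map_comp, Iso.inv_hom_id, Spec.map_id]
    exact Category.comp_id _
  refine ⟨J, Over.isoMk ψ₀ ?_, ?_, ?_⟩
  · change ψ₀.hom ≫ Spec.map _ ≫ str = W₀.hom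
    rw [← Category.assoc, hcomp]
    exact Over.w k
  · apply Over.OverMorphism.ext
    exact hcomp
  · intro hsq
    rw [eq_bot_iff, pow_two, Ideal.mul_le]
    intro x hx y hy
    rw [Ideal.mem_bot]
    have hx' : (k.left.app ⊤).hom ((Scheme.ΓSpecIso (CommRingCat.of A)).inv.hom x) = 0 := hx
    have hy' : (k.left.app ⊤).hom ((Scheme.ΓSpecIso (CommRingCat.of A)).inv.hom y) = 0 := hy
    have h0 := Groth.Agent.Lib.Helper61.ThickBC.sq_zero k.left hsq ⊤ _ _ hx' hy'
    rw [← map_mul] at h0
    have hinj : Function.Injective (Scheme.ΓSpecIso (CommRingCat.of A)).inv.hom :=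
      (ConcreteCategory.bijective_of_isIso (Scheme.ΓSpecIso (CommRingCat.of A)).inv).1
    exact hinj (by rw [h0, map_zero])

end Groth.Agent.Lib.Helper78.AffClosed
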