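import Groth.Agent.Lib.Helper78.SheafCoprod
import Groth.Agent.Lib.Helper78.AlgSpZar
import Groth.Agent.Lib.Helper51.AlgSpOpen
import Groth.Agent.Lib.Helper40.AlgSpLocal
import Groth.Agent.Lib.Helper40.FppfLocal

/-!
# Coproducts of fppf sheaves over a scheme (helper78)
-/

set_option autoImplicit false
universe w₀ u
open CategoryTheory CategoryTheory.Limits AlgebraicGeometry Opposite
open AlgSp

namespace Groth.Agent.Lib.Helper78.AlgSpCoprod

open Groth.Agent.Lib.Helper78.AlgSpZar Groth.Agent.Lib.Helper78.SheafCoprod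
open Groth.Agent.Lib.Helper40.AlgSpBasic

variable {S : Scheme.{u}}

/-- A commutative square of sheaves is a pullback as soon as it has the universal property
for maps out of representables. -/
theorem isPullback_of_yon {A B D E : Sp S} (t : A ⟶ B) (l : A ⟶ D) (r : B ⟶ E) (b : D ⟶ E)
    (w : t ≫ r = l ≫ b)
    (huniq : ∀ (T : Over S) (k k' : (yon S).obj T ⟶ A), k ≫ t = k' ≫ t → k ≫ l = k' ≫ l → k = k')
    (hex : ∀ (T : Over S) (p : (yon S).obj T ⟶ B) (q : (yon S).obj T ⟶ D), p ≫ r = q ≫ b →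
      ∃ k : (yon S).obj T ⟶ A, k ≫ t = p ∧ k ≫ l = q) : IsPullback t l r b := by
  refine Groth.Agent.Lib.Helper51.isPullback_sheaf_of_sections t l r b w ?_ ?_
  · rintro ⟨T⟩ x y h1 h2
    have := huniq T ((J S).uliftYonedaEquiv.symm x) ((J S).uliftYonedaEquiv.symm y) (by
      rw [GrothendieckTopology.uliftYonedaEquiv_symm_naturality_right,
        GrothendieckTopology.uliftYonedaEquiv_symm_naturality_right, h1]) (by
      rw [GrothendieckTopology.uliftYonedaEquiv_symm_naturality_right,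
        GrothendieckTopology.uliftYonedaEquiv_symm_naturality_right, h2])
    exact (J S).uliftYonedaEquiv.symm.injective this
  · rintro ⟨T⟩ x₂ x₃ h
    obtain ⟨k, hk1, hk2⟩ := hex T ((J S).uliftYonedaEquiv.symm x₂) ((J S).uliftYonedaEquiv.symm x₃) (by
      rw [GrothendieckTopology.uliftYonedaEquiv_symm_naturality_right,
        GrothendieckTopology.uliftYonedaEquiv_symm_naturality_right, h])
    refine ⟨(J S).uliftYonedaEquiv k, ?_, ?_⟩
    · rw [← GrothendieckTopology.uliftYonedaEquiv_comp, hk1, Equiv.apply_symm_apply]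
    · rw [← GrothendieckTopology.uliftYonedaEquiv_comp, hk2, Equiv.apply_symm_apply]

section Coprod

variable {ι : Type w₀} [HasColimitsOfShape (Discrete ι) (Type (u + 1))]
  {F : ι → Sp S} {c : Cofan F}

theorem mono_inj (hc : IsColimit c) (i : ι) : Mono (c.inj i) :=
  Sheaf.mono_of_injective _ (fun T => inj_injective hc i T)

/-- The empty sieve only covers the empty scheme. -/
theorem isEmpty_of_bot_mem {T : Over S} (h : (⊥ : Sieve T) ∈ (J S) T) : IsEmpty T.left := by
  obtain ⟨R, hR, hRR⟩ := exists_precover_of_mem_J ⊥ h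
  obtain ⟨hsurj, -⟩ := Groth.Agent.Lib.Helper40.FppfLocal.exists_of_mem_fppfPrecoverage hR
  refine ⟨fun t => ?_⟩
  obtain ⟨Y, g, hg, -⟩ := hsurj t
  exact hRR g hg

/-- Two different summands of a coproduct of sheaves only meet over the empty scheme. -/
theorem isEmpty_of_lifts (hc : IsColimit c) {i j : ι} (hij : i ≠ j) {T : Over S}
    (a : (yon S).obj T ⟶ F i) (b : (yon S).obj T ⟶ F j) (h : a ≫ c.inj i = b ≫ c.inj j) :
    IsEmpty T.left := by
  apply isEmpty_of_bot_mem
  refine bot_mem_of_inj_eq (J := J S) hc hij (T := op T) ((J S).uliftYonedaEquiv a)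
    ((J S).uliftYonedaEquiv b) ?_
  rw [← GrothendieckTopology.uliftYonedaEquiv_comp, ← GrothendieckTopology.uliftYonedaEquiv_comp, h]

/-- `x` restricted along `g` comes from the `i`-th summand. -/
def Lifts (c : Cofan F) {T : Over S} (x : (yon S).obj T ⟶ c.pt) (i : ι) {T' : Over S} (g : T' ⟶ T) :
    Prop :=
  ∃ y : (yon S).obj T' ⟶ F i, y ≫ c.inj i = (yon S).map g ≫ x

theorem Lifts.comp {T : Over S} {x : (yon S).obj T ⟶ c.pt} {i : ι} {T' T'' : Over S} {g : T' ⟶ T}
    (h : Lifts c x i g) (k : T'' ⟶ T') : Lifts c x i (k ≫ g) := by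
  obtain ⟨y, hy⟩ := h
  exact ⟨(yon S).map k ≫ y, by rw [Category.assoc, hy, Functor.map_comp, Category.assoc]⟩

/-- Sections of a coproduct of sheaves over a scheme are fppf locally sections of a summand. -/
theorem exists_cover_lifts (hc : IsColimit c) {T : Over S} (x : (yon S).obj T ⟶ c.pt) :
    ∃ R ∈ Scheme.fppfPrecoverage T.left, ∀ ⦃Y : Scheme.{u}⦄ (g : Y ⟶ T.left), R g →
      ∃ i, Lifts c x i (Over.homMk g : Over.mk (g ≫ T.hom) ⟶ T) := by
  obtain ⟨R', hR', hl⟩ := exists_local_lift (J := J S) hc (T := op T) ((J S).uliftYonedaEquiv x)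
  obtain ⟨R, hR, hRR⟩ := exists_precover_of_mem_J R' hR'
  refine ⟨R, hR, fun Y g hg => ?_⟩
  obtain ⟨i, y, hy⟩ := hl _ (hRR g hg)
  refine ⟨i, (J S).uliftYonedaEquiv.symm y, ?_⟩
  apply (J S).uliftYonedaEquiv.injective
  rw [GrothendieckTopology.uliftYonedaEquiv_comp, Equiv.apply_symm_apply,
    ← GrothendieckTopology.uliftYonedaEquiv_naturality]
  exact hy

/-- The points of `T` over which `x` comes from the `i`-th summand. -/
def supp (c : Cofan F) {T : Over S} (x : (yon S).obj T ⟶ c.pt) (i : ι) : Set T.left :=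
  {t | ∃ (T' : Over S) (g : T' ⟶ T), Lifts c x i g ∧ t ∈ Set.range g.left}

theorem supp_disjoint (hc : IsColimit c) {T : Over S} (x : (yon S).obj T ⟶ c.pt) {i j : ι}
    (hij : i ≠ j) : Disjoint (supp c x i) (supp c x j) := by
  rw [Set.disjoint_left]
  rintro t ⟨T₁, g₁, ⟨y₁, h₁⟩, ⟨t₁, e₁⟩⟩ ⟨T₂, g₂, ⟨y₂, h₂⟩, ⟨t₂, e₂⟩⟩
  obtain ⟨z, -, -⟩ := Scheme.Pullback.exists_preimage_pullback (f := g₁.left) (g := g₂.left) t₁ t₂
    (e₁.trans e₂.symm)
  let W : Over S := Over.mk (pullback.fst g₁.left g₂.left ≫ T₁.hom)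
  let p₁ : W ⟶ T₁ := Over.homMk (pullback.fst g₁.left g₂.left) rfl
  let p₂ : W ⟶ T₂ := Over.homMk (pullback.snd g₁.left g₂.left) (by
    change pullback.snd g₁.left g₂.left ≫ T₂.hom = pullback.fst g₁.left g₂.left ≫ T₁.hom
    rw [← Over.w g₁, ← Over.w g₂, ← Category.assoc, ← Category.assoc, pullback.condition])
  have hp : p₁ ≫ g₁ = p₂ ≫ g₂ := by
    ext
    exact pullback.condition
  have := isEmpty_of_lifts hc hij ((yon S).map p₁ ≫ y₁) ((yon S).map p₂ ≫ y₂) (by
    rw [Category.assoc, Category.assoc, h₁, h₂, ← Category.assoc, ← Category.assoc,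
      ← Functor.map_comp, ← Functor.map_comp, hp])
  exact this.false z

theorem exists_cover_supp (hc : IsColimit c) {T : Over S} (x : (yon S).obj T ⟶ c.pt)
    (t : T.left) : ∃ (i : ι) (Y : Scheme.{u}) (g : Y ⟶ T.left), Flat g ∧
      LocallyOfFinitePresentation g ∧ Lifts c x i (Over.homMk g : Over.mk (g ≫ T.hom) ⟶ T) ∧
      t ∈ Set.range g := by
  obtain ⟨R, hR, hl⟩ := exists_cover_lifts hc x
  obtain ⟨hsurj, hprop⟩ := Groth.Agent.Lib.Helper40.FppfLocal.exists_of_mem_fppfPrecoverage hR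
  obtain ⟨Y, g, hg, ht⟩ := hsurj t
  obtain ⟨i, hi⟩ := hl g hg
  exact ⟨i, Y, g, (hprop g hg).1, (hprop g hg).2, hi, ht⟩

theorem supp_cover (hc : IsColimit c) {T : Over S} (x : (yon S).obj T ⟶ c.pt) (t : T.left) :
    ∃ i, t ∈ supp c x i := by
  obtain ⟨i, Y, g, -, -, hi, ht⟩ := exists_cover_supp hc x t
  exact ⟨i, Over.mk (g ≫ T.hom), Over.homMk g rfl, hi, ht⟩

theorem exists_cover_of_mem_supp (hc : IsColimit c) {T : Over S} (x : (yon S).obj T ⟶ c.pt)
    {i : ι} {t : T.left} (ht : t ∈ supp c x i) : ∃ (Y : Scheme.{u}) (g : Y ⟶ T.left), Flat g ∧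
      LocallyOfFinitePresentation g ∧ Lifts c x i (Over.homMk g : Over.mk (g ≫ T.hom) ⟶ T) ∧
      t ∈ Set.range g := by
  obtain ⟨j, Y, g, h1, h2, hj, htg⟩ := exists_cover_supp hc x t
  by_cases hij : j = i
  · subst hij
    exact ⟨Y, g, h1, h2, hj, htg⟩
  · exact absurd ht (Set.disjoint_left.1 (supp_disjoint hc x hij)
      ⟨Over.mk (g ≫ T.hom), Over.homMk g rfl, hj, htg⟩)

theorem supp_isOpen (hc : IsColimit c) {T : Over S} (x : (yon S).obj T ⟶ c.pt) (i : ι) :
    IsOpen (supp c x i) := by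
  rw [isOpen_iff_forall_mem_open]
  intro t ht
  obtain ⟨Y, g, h1, h2, hi, htg⟩ := exists_cover_of_mem_supp hc x ht
  refine ⟨Set.range g, ?_, g.isOpenMap.isOpen_range, htg⟩
  rintro _ ⟨y, rfl⟩
  exact ⟨Over.mk (g ≫ T.hom), Over.homMk g rfl, hi, ⟨y, rfl⟩⟩

/-- The open subscheme of `T` over which `x` comes from the `i`-th summand. -/
def suppOpen (hc : IsColimit c) {T : Over S} (x : (yon S).obj T ⟶ c.pt) (i : ι) : T.left.Opens :=
  ⟨supp c x i, supp_isOpen hc x i⟩

omit [HasColimitsOfShape (Discrete ι) (Type (u + 1))] in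
/-- A section which fppf locally lies in a subsheaf lies in the subsheaf. -/
theorem exists_lift_of_cover {A B : Sp S} (f : A ⟶ B) [Mono f] {U : Over S}
    (s : (yon S).obj U ⟶ B) {κ : Type*} (V : κ → Over S) (g : ∀ k, V k ⟶ U)
    (hfl : ∀ k, Flat (g k).left) (hfp : ∀ k, LocallyOfFinitePresentation (g k).left)
    (hs : ∀ x : U.left, ∃ k, x ∈ Set.range (g k).left)
    (y : ∀ k, (yon S).obj (V k) ⟶ A) (hy : ∀ k, y k ≫ f = (yon S).map (g k) ≫ s) :
    ∃ y' : (yon S).obj U ⟶ A, y' ≫ f = s := by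
  obtain ⟨t, ht⟩ := exists_glue V g hfl hfp hs y (by
    intro k l Z gk gl hkl
    rw [← cancel_mono f, Category.assoc, Category.assoc, hy k, hy l, ← Category.assoc,
      ← Category.assoc, ← Functor.map_comp, ← Functor.map_comp, hkl])
  refine ⟨t, hom_ext_of_cover _ _ V g hfl hfp hs (fun k => ?_)⟩
  rw [← Category.assoc, ht k, hy k]

theorem lifts_suppOpen (hc : IsColimit c) {T : Over S} (x : (yon S).obj T ⟶ c.pt) (i : ι) :
    Lifts c x i (opensι T (suppOpen hc x i)) := by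
  have := mono_inj hc i
  let κ := {p : Σ (Y : Scheme.{u}), (Y ⟶ T.left) // Flat p.2 ∧ LocallyOfFinitePresentation p.2 ∧
    Lifts c x i (Over.homMk p.2 rfl : Over.mk (p.2 ≫ T.hom) ⟶ T)}
  have hrange : ∀ k : κ, Set.range k.1.2 ⊆ Set.range (suppOpen hc x i).ι := by
    intro k
    rw [Scheme.Opens.range_ι]
    rintro _ ⟨y, rfl⟩
    exact ⟨Over.mk (k.1.2 ≫ T.hom), Over.homMk k.1.2 rfl, k.2.2.2, ⟨y, rfl⟩⟩
  let g' : ∀ k : κ, k.1.1 ⟶ (suppOpen hc x i).toScheme := fun k =>
    IsOpenImmersion.lift (suppOpen hc x i).ι k.1.2 (hrange k)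
  have hg' : ∀ k, g' k ≫ (suppOpen hc x i).ι = k.1.2 := fun k => IsOpenImmersion.lift_fac _ _ _
  let V : κ → Over S := fun k => Over.mk (k.1.2 ≫ T.hom)
  let g : ∀ k, V k ⟶ Over.mk ((suppOpen hc x i).ι ≫ T.hom) := fun k =>
    Over.homMk (g' k) (by
      change g' k ≫ (suppOpen hc x i).ι ≫ T.hom = k.1.2 ≫ T.hom
      rw [← Category.assoc, hg' k])
  have hgι : ∀ k, g k ≫ opensι T (suppOpen hc x i) = (Over.homMk k.1.2 rfl : V k ⟶ T) := by
    intro k
    ext
    exact hg' k
  choose y hy using fun k : κ => k.2.2.2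
  refine exists_lift_of_cover (c.inj i) ((yon S).map (opensι T (suppOpen hc x i)) ≫ x) V g
    ?_ ?_ ?_ y ?_
  · intro k
    have : Flat (g' k ≫ (suppOpen hc x i).ι) := by rw [hg' k]; exact k.2.1
    exact MorphismProperty.of_postcomp (W := @Flat) (W' := @IsOpenImmersion) (g' k)
      (suppOpen hc x i).ι inferInstance inferInstance
  · intro k
    have : LocallyOfFinitePresentation (g' k ≫ (suppOpen hc x i).ι) := by rw [hg' k]; exact k.2.2.1
    exact MorphismProperty.of_postcomp (W := @LocallyOfFinitePresentation)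
      (W' := @IsOpenImmersion) (g' k) (suppOpen hc x i).ι inferInstance inferInstance
  · intro u
    obtain ⟨Y, g₀, h1, h2, h3, ⟨t₀, ht₀⟩⟩ := exists_cover_of_mem_supp hc x (t := (suppOpen hc x i).ι u) u.2
    let k : κ := ⟨⟨Y, g₀⟩, h1, h2, h3⟩
    refine ⟨k, t₀, ?_⟩
    apply (suppOpen hc x i).ι.injective
    change (g' k ≫ (suppOpen hc x i).ι) t₀ = _
    rw [hg' k]
    exact ht₀
  · intro k
    rw [hy k, ← Category.assoc, ← Functor.map_comp, hgι k]

theorem isPullback_suppOpen (hc : IsColimit c) {T : Over S} (x : (yon S).obj T ⟶ c.pt) (i : ι)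
    (y : (yon S).obj (Over.mk ((suppOpen hc x i).ι ≫ T.hom)) ⟶ F i)
    (hy : y ≫ c.inj i = (yon S).map (opensι T (suppOpen hc x i)) ≫ x) :
    IsPullback y ((yon S).map (opensι T (suppOpen hc x i))) (c.inj i) x := by
  have := mono_inj hc i
  have hmono : Mono (opensι T (suppOpen hc x i)) := by
    have : Mono (opensι T (suppOpen hc x i)).left :=
      inferInstanceAs (Mono (suppOpen hc x i).ι)
    exact Over.mono_of_mono_left _
  refine isPullback_of_yon _ _ _ _ hy ?_ ?_
  · intro V k k' _ h2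
    obtain ⟨k, rfl⟩ := (yon S).map_surjective k
    obtain ⟨k', rfl⟩ := (yon S).map_surjective k'
    rw [← Functor.map_comp, ← Functor.map_comp] at h2
    rw [(cancel_mono _).1 ((yon S).map_injective h2)]
  · intro V p q hpq
    obtain ⟨q, rfl⟩ := (yon S).map_surjective q
    have hrange : Set.range q.left ⊆ Set.range (suppOpen hc x i).ι := by
      rw [Scheme.Opens.range_ι]
      rintro _ ⟨v, rfl⟩
      exact ⟨V, q, ⟨p, hpq⟩, ⟨v, rfl⟩⟩
    let k' : V.left ⟶ (suppOpen hc x i).toScheme :=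
      IsOpenImmersion.lift (suppOpen hc x i).ι q.left hrange
    have hk' : k' ≫ (suppOpen hc x i).ι = q.left := IsOpenImmersion.lift_fac _ _ _
    let k : V ⟶ Over.mk ((suppOpen hc x i).ι ≫ T.hom) := Over.homMk k' (by
      change k' ≫ (suppOpen hc x i).ι ≫ T.hom = V.hom
      rw [← Category.assoc, hk', Over.w q])
    have hk : k ≫ opensι T (suppOpen hc x i) = q := by
      ext
      exact hk'
    refine ⟨(yon S).map k, ?_, ?_⟩
    · rw [← cancel_mono (c.inj i), Category.assoc, hy, ← Category.assoc, ← Functor.map_comp, hk,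
        hpq]
    · rw [← Functor.map_comp, hk]

/-- **Decomposition**: a map from a scheme `T` to a coproduct of sheaves decomposes `T` into
pairwise disjoint open subschemes, each of which is the pullback of a summand. -/
theorem exists_decomposition (hc : IsColimit c) {T : Over S} (x : (yon S).obj T ⟶ c.pt) :
    ∃ (U : ι → T.left.Opens) (y : ∀ i, (yon S).obj (Over.mk ((U i).ι ≫ T.hom)) ⟶ F i),
      (∀ i j, i ≠ j → Disjoint (U i) (U j)) ∧ (⨆ i, U i = ⊤) ∧
      ∀ i, IsPullback (y i) ((yon S).map (opensι T (U i))) (c.inj i) x := by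
  choose y hy using fun i => lifts_suppOpen hc x i
  refine ⟨fun i => suppOpen hc x i, y, ?_, ?_, fun i => isPullback_suppOpen hc x i (y i) (hy i)⟩
  · intro i j hij
    rw [disjoint_iff]
    ext t
    simp only [TopologicalSpace.Opens.coe_inf, TopologicalSpace.Opens.coe_bot,
      Set.mem_empty_iff_false, iff_false]
    rintro ⟨h1, h2⟩
    exact Set.disjoint_left.1 (supp_disjoint hc x hij) h1 h2
  · rw [eq_top_iff]
    intro t _
    obtain ⟨i, hi⟩ := supp_cover hc x t
    exact TopologicalSpace.Opens.mem_iSup.2 ⟨i, hi⟩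

end Coprod

end Groth.Agent.Lib.Helper78.AlgSpCoprod
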