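import Groth.Agent.Lib.Helper78.AlgSpCoprod

/-!
# Coproducts of fppf sheaves: consequences (helper78)
-/

set_option autoImplicit false
universe w₀ u
open CategoryTheory CategoryTheory.Limits AlgebraicGeometry Opposite
open AlgSp

namespace Groth.Agent.Lib.Helper78.AlgSpCoprod

open Groth.Agent.Lib.Helper78.AlgSpZar Groth.Agent.Lib.Helper78.SheafCoprod
open Groth.Agent.Lib.Helper40.AlgSpBasic

variable {S : Scheme.{u}}

/-- a clopen open subscheme is a closed subscheme -/
theorem isClosedImmersion_ι_of_isClosed {X : Scheme.{u}} (U : X.Opens) (hU : IsClosed (U : Set X)) :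
    IsClosedImmersion U.ι := by
  apply IsClosedImmersion.of_isPreimmersion
  rw [Scheme.Opens.range_ι]
  exact hU

variable {ι : Type w₀} [HasColimitsOfShape (Discrete ι) (Type (u + 1))]
  {F : ι → Sp S} {c : Cofan F}

theorem isClosed_of_decomposition {X : Scheme.{u}} (U : ι → X.Opens)
    (hd : ∀ i j, i ≠ j → Disjoint (U i) (U j)) (hc : ⨆ i, U i = ⊤) (i : ι) :
    IsClosed (U i : Set X) := by
  have : (U i : Set X) = (⋃ j ∈ {j | j ≠ i}, (U j : Set X))ᶜ := by
    ext t
    simp only [Set.mem_compl_iff, Set.mem_iUnion, not_exists]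
    constructor
    · rintro h j hj hj'
      have := (hd j i hj).le_bot ⟨hj', h⟩
      exact this
    · intro h
      have ht : t ∈ ⨆ i, U i := by rw [hc]; trivial
      obtain ⟨j, hj⟩ := TopologicalSpace.Opens.mem_iSup.1 ht
      by_cases hji : j = i
      · exact hji ▸ hj
      · exact absurd hj (h j hji)
  rw [this, isClosed_compl_iff]
  exact isOpen_biUnion (fun j _ => (U j).2)

/-- The coprojections of a coproduct of sheaves are representable by open and closed
immersions. -/
theorem repWith_openClosed_inj (hc : IsColimit c) (i : ι) :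
    RepWith (@IsOpenImmersion ⊓ @IsClosedImmersion) (c.inj i) := by
  apply MorphismProperty.relative.of_exists
  intro T x
  obtain ⟨U, y, hd, hcov, hpb⟩ := exists_decomposition hc x
  refine ⟨_, y i, opensι T (U i), hpb i, ?_, ?_⟩
  · exact inferInstanceAs (IsOpenImmersion (U i).ι)
  · exact isClosedImmersion_ι_of_isClosed (U i) (isClosed_of_decomposition U hd hcov i)

end Groth.Agent.Lib.Helper78.AlgSpCoprod
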