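import Groth.Agent.Lib.Helper78.SheafCoprod
import Groth.Agent.Lib.Helper51.AlgSpOpen

/-!
# Coproducts of sheaves of types: recognition, universality, disjointness (helper78)
-/

set_option autoImplicit false
universe w₀ v₁ u₁

open CategoryTheory CategoryTheory.Limits Opposite

namespace Groth.Agent.Lib.Helper78.SheafCoprod

variable {C : Type u₁} [Category.{v₁} C] {J : GrothendieckTopology C}

/-- Sections of a sheaf over an object covered by the empty sieve are unique. -/
theorem eq_of_bot_mem (G : Sheaf J (Type (max u₁ v₁))) {T : C} (h : (⊥ : Sieve T) ∈ J T)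
    (a b : G.obj.obj (op T)) : a = b := by
  have hsep := ((isSheaf_iff_isSheaf_of_type _ _).1 G.property).isSeparated _ h
  exact hsep.ext (fun Y f hf => hf.elim)

/-- Sections of a pullback of sheaves of types. -/
theorem isPullback_sections {P X Y Z : Sheaf J (Type (max u₁ v₁))} {fst : P ⟶ X} {snd : P ⟶ Y}
    {f : X ⟶ Z} {g : Y ⟶ Z} (h : IsPullback fst snd f g) (T : Cᵒᵖ) :
    (∀ p q : P.obj.obj T, fst.hom.app T p = fst.hom.app T q → snd.hom.app T p = snd.hom.app T q →
      p = q) ∧
    ∀ (a : X.obj.obj T) (b : Y.obj.obj T), f.hom.app T a = g.hom.app T b →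
      ∃ p : P.obj.obj T, fst.hom.app T p = a ∧ snd.hom.app T p = b := by
  have h1 := (h.map (sheafToPresheaf J _)).map ((evaluation Cᵒᵖ (Type (max u₁ v₁))).obj T)
  rw [Types.isPullback_iff] at h1
  exact ⟨fun p q hp hq => h1.2.1 p q ⟨hp, hq⟩, fun a b hab => h1.2.2 a b hab⟩

/-- A sheaf has a section over any object covered by the empty sieve. -/
theorem nonempty_of_bot_mem (G : Sheaf J (Type (max u₁ v₁))) {T : C} (h : (⊥ : Sieve T) ∈ J T) :
    Nonempty (G.obj.obj (op T)) := by
  have hG := (isSheaf_iff_isSheaf_of_type _ _).1 G.property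
  let fam : Presieve.FamilyOfElements G.obj (⊥ : Sieve T).arrows := fun T' g hg => hg.elim
  obtain ⟨t, -, -⟩ := hG _ h fam (fun Y₁ Y₂ Z g₁ g₂ f₁ f₂ h₁ => h₁.elim)
  exact ⟨t⟩

/-- A section which locally lies in a subsheaf lies in the subsheaf. -/
theorem exists_preimage_of_local {A B : Sheaf J (Type (max u₁ v₁))} (f : A ⟶ B)
    (hf : ∀ T, Function.Injective (f.hom.app T)) {T : Cᵒᵖ} (s : B.obj.obj T) (R : Sieve T.unop)
    (hR : R ∈ J T.unop)
    (hl : ∀ ⦃T' : C⦄ (g : T' ⟶ T.unop), R g →
      ∃ y : A.obj.obj (op T'), f.hom.app (op T') y = B.obj.map g.op s) :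
    ∃ y : A.obj.obj T, f.hom.app T y = s := by
  choose y hy using hl
  let fam : Presieve.FamilyOfElements A.obj R.arrows := fun T' g hg => y g hg
  have hcomp : fam.Compatible := by
    rw [Presieve.compatible_iff_sieveCompatible]
    intro Y Z g h hg
    apply hf
    change f.hom.app _ (y (h ≫ g) _) = f.hom.app _ (A.obj.map h.op (y g hg))
    rw [hy, NatTrans.naturality_apply, hy, op_comp, Functor.map_comp]
    rfl
  have hA := (isSheaf_iff_isSheaf_of_type _ _).1 A.property
  obtain ⟨t, ht, -⟩ := hA R hR fam hcomp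
  refine ⟨t, ?_⟩
  have hsep := ((isSheaf_iff_isSheaf_of_type _ _).1 B.property).isSeparated _ hR
  refine hsep.ext (fun T' g hg => ?_)
  rw [← NatTrans.naturality_apply, ht g hg]
  exact hy g hg

variable {ι : Type w₀} [HasColimitsOfShape (Discrete ι) (Type (max u₁ v₁))]
  {F : ι → Sheaf J (Type (max u₁ v₁))}

/-- Recognition of coproducts of sheaves of types: injective, disjoint and jointly locally
surjective coprojections. -/
theorem isColimit_of_sections (c' : Cofan F)
    (hinj : ∀ i T, Function.Injective ((c'.inj i).hom.app T))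
    (hdisj : ∀ i j, i ≠ j → ∀ (T : Cᵒᵖ) (y : (F i).obj.obj T) (z : (F j).obj.obj T),
      (c'.inj i).hom.app T y = (c'.inj j).hom.app T z → (⊥ : Sieve T.unop) ∈ J T.unop)
    (hsurj : ∀ (T : Cᵒᵖ) (x : c'.pt.obj.obj T), ∃ R ∈ J T.unop, ∀ ⦃T' : C⦄ (g : T' ⟶ T.unop), R g →
      ∃ (i : ι) (y : (F i).obj.obj (op T')),
        (c'.inj i).hom.app (op T') y = c'.pt.obj.map g.op x) :
    Nonempty (IsColimit c') := by
  let c₀ : Cofan F := colimit.cocone (Discrete.functor F)
  have hc₀ : IsColimit c₀ := colimit.isColimit _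
  let φ : c₀.pt ⟶ c'.pt := Cofan.IsColimit.desc hc₀ c'.inj
  have hφ : ∀ i, c₀.inj i ≫ φ = c'.inj i := fun i => Cofan.IsColimit.fac hc₀ _ i
  have hφ' : ∀ i T (y : (F i).obj.obj T), φ.hom.app T ((c₀.inj i).hom.app T y) =
      (c'.inj i).hom.app T y := by
    intro i T y
    have := congrArg (fun f : F i ⟶ c'.pt => f.hom.app T y) (hφ i)
    exact this
  have h1 : Sheaf.IsLocallyInjective φ := by
    apply Presheaf.isLocallyInjective_of_injective
    intro T ξ ξ' h
    obtain ⟨R, hR, hl⟩ := exists_local_lift hc₀ ξ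
    obtain ⟨R', hR', hl'⟩ := exists_local_lift hc₀ ξ'
    have hsep := ((isSheaf_iff_isSheaf_of_type _ _).1 c₀.pt.property).isSeparated _
      (J.intersection_covering hR hR')
    refine hsep.ext ?_
    intro T' g hg
    obtain ⟨i, y, hy⟩ := hl g hg.1
    obtain ⟨j, z, hz⟩ := hl' g hg.2
    have e : (c'.inj i).hom.app _ y = (c'.inj j).hom.app _ z := by
      rw [← hφ', ← hφ', hy, hz, NatTrans.naturality_apply, NatTrans.naturality_apply, h]
    by_cases hij : i = j
    · subst hij
      rw [← hy, ← hz, hinj _ _ e]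
    · exact eq_of_bot_mem _ (hdisj i j hij _ y z e) _ _
  have h2 : Sheaf.IsLocallySurjective φ := by
    refine ⟨fun {T} x => ?_⟩
    obtain ⟨R, hR, hl⟩ := hsurj (op T) x
    refine J.superset_covering ?_ hR
    intro T' g hg
    obtain ⟨i, y, hy⟩ := hl g hg
    exact ⟨(c₀.inj i).hom.app _ y, (hφ' i _ y).trans hy⟩
  have hiso : IsIso φ := (Sheaf.isLocallyBijective_iff_isIso φ).1 ⟨h1, h2⟩
  exact ⟨IsColimit.ofIsoColimit hc₀ (Cofan.ext (asIso φ) (fun i => hφ i))⟩

/-- **Universality** of coproducts of sheaves of types. -/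
theorem isColimit_of_isPullback {c : Cofan F} (hc : IsColimit c) {F' : ι → Sheaf J (Type (max u₁ v₁))}
    (c' : Cofan F') (α : ∀ i, F' i ⟶ F i) (f : c'.pt ⟶ c.pt)
    (h : ∀ i, IsPullback (c'.inj i) (α i) f (c.inj i)) : Nonempty (IsColimit c') := by
  refine isColimit_of_sections c' ?_ ?_ ?_
  · intro i T p q hpq
    refine (isPullback_sections (h i) T).1 p q hpq ?_
    apply inj_injective hc i T
    have e1 := congrArg (fun k : F' i ⟶ c.pt => k.hom.app T p) (h i).w
    have e2 := congrArg (fun k : F' i ⟶ c.pt => k.hom.app T q) (h i).w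
    have e1' : (c.inj i).hom.app T ((α i).hom.app T p) = f.hom.app T ((c'.inj i).hom.app T p) :=
      e1.symm
    have e2' : (c.inj i).hom.app T ((α i).hom.app T q) = f.hom.app T ((c'.inj i).hom.app T q) :=
      e2.symm
    rw [e1', e2', hpq]
  · intro i j hij T y z hyz
    have e1 := congrArg (fun k : F' i ⟶ c.pt => k.hom.app T y) (h i).w
    have e2 := congrArg (fun k : F' j ⟶ c.pt => k.hom.app T z) (h j).w
    have e1' : (c.inj i).hom.app T ((α i).hom.app T y) = f.hom.app T ((c'.inj i).hom.app T y) :=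
      e1.symm
    have e2' : (c.inj j).hom.app T ((α j).hom.app T z) = f.hom.app T ((c'.inj j).hom.app T z) :=
      e2.symm
    exact bot_mem_of_inj_eq hc hij _ _ (by rw [e1', e2', hyz])
  · intro T x
    obtain ⟨R, hR, hl⟩ := exists_local_lift hc (f.hom.app T x)
    refine ⟨R, hR, fun T' g hg => ?_⟩
    obtain ⟨i, y, hy⟩ := hl g hg
    obtain ⟨p, hp, -⟩ := (isPullback_sections (h i) (op T')).2 (c'.pt.obj.map g.op x) y (by
      rw [hy, NatTrans.naturality_apply])
    exact ⟨i, p, hp⟩

/-- A map of coproducts of sheaves of types induced by maps of the summands is cartesian over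
each coprojection. -/
theorem isPullback_of_isColimit {c : Cofan F} (hc : IsColimit c)
    {F' : ι → Sheaf J (Type (max u₁ v₁))}
    {c' : Cofan F'} (hc' : IsColimit c') (α : ∀ i, F' i ⟶ F i) (f : c'.pt ⟶ c.pt)
    (hf : ∀ i, c'.inj i ≫ f = α i ≫ c.inj i) (i : ι) :
    IsPullback (c'.inj i) (α i) f (c.inj i) := by
  have key : ∀ (j : ι) (T : Cᵒᵖ) (y : (F' j).obj.obj T),
      f.hom.app T ((c'.inj j).hom.app T y) = (c.inj j).hom.app T ((α j).hom.app T y) :=
    fun j T y => congrArg (fun k : F' j ⟶ c.pt => k.hom.app T y) (hf j)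
  refine Groth.Agent.Lib.Helper51.isPullback_sheaf_of_sections _ _ _ _ (hf i) ?_ ?_
  · intro T p q hpq _
    exact inj_injective hc' i T hpq
  · intro T x b hxb
    -- `x` is locally in some summand; that summand must be `i` wherever nonempty
    obtain ⟨R, hR, hl⟩ := exists_local_lift hc' x
    have hloc : ∀ ⦃T' : C⦄ (g : T' ⟶ T.unop), R g →
        ∃ y : (F' i).obj.obj (op T'), (c'.inj i).hom.app (op T') y = c'.pt.obj.map g.op x ∧
          (α i).hom.app (op T') y = (F i).obj.map g.op b := by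
      intro T' g hg
      obtain ⟨j, y, hy⟩ := hl g hg
      have e : (c.inj j).hom.app _ ((α j).hom.app _ y) =
          (c.inj i).hom.app _ ((F i).obj.map g.op b) := by
        rw [← key, hy, NatTrans.naturality_apply, hxb, NatTrans.naturality_apply]
      by_cases hji : j = i
      · subst hji
        exact ⟨y, hy, inj_injective hc j _ e⟩
      · have hbot := bot_mem_of_inj_eq hc hji _ _ e
        obtain ⟨y'⟩ := nonempty_of_bot_mem (F' i) hbot
        exact ⟨y', eq_of_bot_mem _ hbot _ _, eq_of_bot_mem _ hbot _ _⟩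
    obtain ⟨y, hy⟩ := exists_preimage_of_local (c'.inj i) (inj_injective hc' i) x R hR
      (fun T' g hg => by
        obtain ⟨y, hy, -⟩ := hloc g hg
        exact ⟨y, hy⟩)
    refine ⟨y, hy, ?_⟩
    apply inj_injective hc i T
    rw [← key, hy, hxb]

end Groth.Agent.Lib.Helper78.SheafCoprod
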