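import Groth.Agent.Lib.Helper78.AlgSpCoprod2
import Groth.Agent.Lib.Helper78.SheafCoprod2

/-!
# Coproducts of fppf sheaves: recognition and representable maps (helper78)
-/

set_option autoImplicit false
universe w₀ u
open CategoryTheory CategoryTheory.Limits AlgebraicGeometry Opposite
open AlgSp

namespace Groth.Agent.Lib.Helper78.AlgSpCoprod

open Groth.Agent.Lib.Helper78.AlgSpZar Groth.Agent.Lib.Helper78.SheafCoprod
open Groth.Agent.Lib.Helper40.AlgSpBasic

variable {S : Scheme.{u}}

theorem bot_mem_J_of_isEmpty (T : Over S) [IsEmpty T.left] : (⊥ : Sieve T) ∈ (J S) T := by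
  have h := generate_ofArrows_mem_J (U := T) (fun e : PEmpty.{1} => (e.elim : Over S))
    (fun e => e.elim) (fun e => e.elim) (fun e => e.elim) (fun x => (IsEmpty.false x).elim)
  refine (J S).superset_covering ?_ h
  rw [Sieve.generate_le_iff]
  rintro _ _ ⟨e⟩
  exact e.elim

theorem hom_ext_of_isEmpty {X : Sp S} {T : Over S} [IsEmpty T.left] (a b : (yon S).obj T ⟶ X) :
    a = b := by
  apply (GrothendieckTopology.uliftYonedaEquiv.{u + 1} (J S) (X := T) (F := X)).injective
  exact eq_of_bot_mem (J := J S) X (bot_mem_J_of_isEmpty T) _ _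

variable {ι : Type w₀} [HasColimitsOfShape (Discrete ι) (Type (u + 1))] {F : ι → Sp S}

/-- Recognition of coproducts of fppf sheaves by maps from schemes. -/
theorem isColimit_of_yon (c' : Cofan F) (hmono : ∀ i, Mono (c'.inj i))
    (hdisj : ∀ i j, i ≠ j → ∀ (T : Over S) (a : (yon S).obj T ⟶ F i) (b : (yon S).obj T ⟶ F j),
      a ≫ c'.inj i = b ≫ c'.inj j → IsEmpty T.left)
    (hsurj : ∀ (T : Over S) (x : (yon S).obj T ⟶ c'.pt) (t : T.left),
      ∃ (T' : Over S) (g : T' ⟶ T), Flat g.left ∧ LocallyOfFinitePresentation g.left ∧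
        t ∈ Set.range g.left ∧ ∃ (i : ι) (y : (yon S).obj T' ⟶ F i),
          y ≫ c'.inj i = (yon S).map g ≫ x) :
    Nonempty (IsColimit c') := by
  refine isColimit_of_sections (J := J S) c' ?_ ?_ ?_
  · rintro i ⟨T⟩ y z h
    have := hmono i
    apply (GrothendieckTopology.uliftYonedaEquiv.{u + 1} (J S) (X := T) (F := F i)).symm.injective
    rw [← cancel_mono (c'.inj i),
      GrothendieckTopology.uliftYonedaEquiv_symm_naturality_right,
      GrothendieckTopology.uliftYonedaEquiv_symm_naturality_right, h]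
  · rintro i j hij ⟨T⟩ y z h
    have := hdisj i j hij T ((J S).uliftYonedaEquiv.symm y) ((J S).uliftYonedaEquiv.symm z) (by
      rw [GrothendieckTopology.uliftYonedaEquiv_symm_naturality_right,
        GrothendieckTopology.uliftYonedaEquiv_symm_naturality_right, h])
    exact bot_mem_J_of_isEmpty T
  · rintro ⟨T⟩ x
    choose T' g h1 h2 h3 i y hy using hsurj T ((J S).uliftYonedaEquiv.symm x)
    refine ⟨Sieve.generate (Presieve.ofArrows T' g),
      generate_ofArrows_mem_J T' g h1 h2 (fun t => ⟨t, h3 t⟩), ?_⟩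
    rintro T'' k ⟨T₁, k₁, _, ⟨t⟩, rfl⟩
    refine ⟨i t, (F (i t)).obj.map k₁.op ((J S).uliftYonedaEquiv (y t)), ?_⟩
    rw [NatTrans.naturality_apply, ← GrothendieckTopology.uliftYonedaEquiv_comp, hy t,
      ← GrothendieckTopology.uliftYonedaEquiv_naturality, Equiv.apply_symm_apply, op_comp,
      Functor.map_comp]
    rfl

/-- `h` of a disjoint union of open subschemes is the coproduct of the `h`'s as sheaves. -/
theorem isColimit_yon_of_openCover {T : Over S} {V : ι → Over S} (g : ∀ i, V i ⟶ T)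
    (hopen : ∀ i, IsOpenImmersion (g i).left)
    (hdisj : ∀ i j, i ≠ j → Disjoint (Set.range (g i).left) (Set.range (g j).left))
    (hcov : ∀ t : T.left, ∃ i, t ∈ Set.range (g i).left) :
    Nonempty (IsColimit (Cofan.mk ((yon S).obj T) (fun i => (yon S).map (g i)))) := by
  refine isColimit_of_yon _ ?_ ?_ ?_
  · intro i
    have : Mono (g i).left := inferInstance
    have : Mono (g i) := Over.mono_of_mono_left _
    exact inferInstanceAs (Mono ((yon S).map (g i)))
  · intro i j hij Z a b hab
    obtain ⟨a, rfl⟩ := (yon S).map_surjective a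
    obtain ⟨b, rfl⟩ := (yon S).map_surjective b
    have hab' : a ≫ g i = b ≫ g j := (yon S).map_injective (by
      rw [Functor.map_comp, Functor.map_comp]; exact hab)
    refine ⟨fun z => ?_⟩
    have h1 : (g i).left (a.left z) = (g j).left (b.left z) := by
      have := congrArg (fun k : Z ⟶ T => k.left z) hab'
      exact this
    exact Set.disjoint_left.1 (hdisj i j hij) ⟨_, rfl⟩ ⟨_, h1.symm⟩
  · intro Z x z
    obtain ⟨x, rfl⟩ := (yon S).map_surjective x
    obtain ⟨i, hi⟩ := hcov (x.left z)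
    have := hopen i
    let W : Z.left.Opens := x.left ⁻¹ᵁ (g i).left.opensRange
    have hrange : Set.range (W.ι ≫ x.left) ⊆ Set.range (g i).left := by
      rintro _ ⟨w, rfl⟩
      exact w.2
    let k' : W.toScheme ⟶ (V i).left := IsOpenImmersion.lift (g i).left (W.ι ≫ x.left) hrange
    have hk' : k' ≫ (g i).left = W.ι ≫ x.left := IsOpenImmersion.lift_fac _ _ _
    let k : Over.mk (W.ι ≫ Z.hom) ⟶ V i := Over.homMk k' (by
      change k' ≫ (V i).hom = W.ι ≫ Z.hom
      rw [← Over.w (g i), ← Category.assoc, hk', Category.assoc, Over.w x])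
    have hk : k ≫ g i = opensι Z W ≫ x := by
      ext
      exact hk'
    refine ⟨Over.mk (W.ι ≫ Z.hom), opensι Z W, inferInstanceAs (Flat W.ι),
      inferInstanceAs (LocallyOfFinitePresentation W.ι), ⟨⟨z, hi⟩, rfl⟩, i, (yon S).map k, ?_⟩
    change (yon S).map k ≫ (yon S).map (g i) = _
    rw [← Functor.map_comp, hk, Functor.map_comp]

section CofanMap

variable [Small.{u} ι] {G : ι → Sp S} {cF : Cofan F} {cG : Cofan G}

/-- A coproduct of representable maps is representable; the representing scheme over `T` is the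
disjoint union of the representing schemes of the summands over the pieces of `T`. -/
theorem exists_isPullback_cofan_map (hF : IsColimit cF) (hG : IsColimit cG) (f : ∀ i, F i ⟶ G i)
    (hf : ∀ i, Representable (f i)) (m : cF.pt ⟶ cG.pt) (hm : ∀ i, cF.inj i ≫ m = f i ≫ cG.inj i)
    {T : Over S} (x : (yon S).obj T ⟶ cG.pt) :
    ∃ (W : ι → T.left.Opens) (y : ∀ i, (yon S).obj (Over.mk ((W i).ι ≫ T.hom)) ⟶ G i)
      (V : ι → Over S) (snd : ∀ i, V i ⟶ Over.mk ((W i).ι ≫ T.hom))
      (fst : ∀ i, (yon S).obj (V i) ⟶ F i) (Vo : Over S) (j : ∀ i, V i ⟶ Vo) (h : Vo ⟶ T)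
      (fstV : (yon S).obj Vo ⟶ cF.pt),
      (∀ i j, i ≠ j → Disjoint (W i) (W j)) ∧ (⨆ i, W i = ⊤) ∧
      (∀ i, IsPullback (y i) ((yon S).map (opensι T (W i))) (cG.inj i) x) ∧
      (∀ i, IsPullback (fst i) ((yon S).map (snd i)) (f i) (y i)) ∧
      (∀ i, IsOpenImmersion (j i).left) ∧
      (∀ i k, i ≠ k → Disjoint (Set.range (j i).left) (Set.range (j k).left)) ∧
      (∀ v : Vo.left, ∃ i, v ∈ Set.range (j i).left) ∧
      (∀ i, j i ≫ h = snd i ≫ opensι T (W i)) ∧
      (∀ i, (yon S).map (j i) ≫ fstV = fst i ≫ cF.inj i) ∧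
      IsPullback fstV ((yon S).map h) m x := by
  obtain ⟨W, y, hd, hcov, hpb⟩ := exists_decomposition hG x
  choose V snd fst sq using fun i => hf i (y i)
  let Vs : Scheme.{u} := ∐ fun i => (V i).left
  let VT : Vs ⟶ T.left := Sigma.desc (fun i => (snd i).left ≫ (W i).ι)
  let Vo : Over S := Over.mk (VT ≫ T.hom)
  let h : Vo ⟶ T := Over.homMk VT rfl
  let j : ∀ i, V i ⟶ Vo := fun i => Over.homMk (Sigma.ι (fun i => (V i).left) i) (by
    change Sigma.ι (fun i => (V i).left) i ≫ VT ≫ T.hom = (V i).hom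
    rw [← Category.assoc, Sigma.ι_desc, Category.assoc]
    exact Over.w (snd i))
  have hjh : ∀ i, j i ≫ h = snd i ≫ opensι T (W i) := by
    intro i
    ext
    exact Sigma.ι_desc _ _
  have hjopen : ∀ i, IsOpenImmersion (j i).left := fun i =>
    inferInstanceAs (IsOpenImmersion (Sigma.ι (fun i => (V i).left) i))
  have hjdisj : ∀ i k, i ≠ k → Disjoint (Set.range (j i).left) (Set.range (j k).left) := by
    intro i k hik
    have := disjoint_opensRange_sigmaι (fun i => (V i).left) i k hik
    rw [Set.disjoint_left]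
    rintro v hv1 hv2
    exact this.le_bot ⟨hv1, hv2⟩
  have hjcov : ∀ v : Vo.left, ∃ i, v ∈ Set.range (j i).left := by
    intro v
    obtain ⟨i, w, hw⟩ := (sigmaOpenCover (fun i => (V i).left)).exists_eq v
    exact ⟨i, w, hw⟩
  obtain ⟨hcV⟩ := isColimit_yon_of_openCover j hjopen hjdisj hjcov
  -- the pullback sheaf is also a coproduct of the `h_{V i}`
  let a : ∀ i, (yon S).obj (V i) ⟶ pullback m x := fun i =>
    pullback.lift (fst i ≫ cF.inj i) ((yon S).map (snd i ≫ opensι T (W i))) (by
      rw [Category.assoc, hm i, ← Category.assoc, (sq i).w, Category.assoc, (hpb i).w,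
        Functor.map_comp, Category.assoc])
  have hsqa : ∀ i, IsPullback (a i) (fst i) (pullback.fst m x) (cF.inj i) := by
    intro i
    have big : IsPullback ((yon S).map (snd i) ≫ (yon S).map (opensι T (W i))) (fst i) x
        (f i ≫ cG.inj i) := (sq i).flip.paste_horiz (hpb i).flip
    refine IsPullback.of_right ?_ (pullback.lift_fst _ _ _) (IsPullback.of_hasPullback m x).flip
    rw [pullback.lift_snd, hm i, Functor.map_comp]
    exact big
  obtain ⟨hcP⟩ := isColimit_of_isPullback (J := J S) hF (Cofan.mk (pullback m x) a) fst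
    (pullback.fst m x) hsqa
  let e : (yon S).obj Vo ≅ pullback m x := hcV.coconePointUniqueUpToIso hcP
  have he : ∀ i, (yon S).map (j i) ≫ e.hom = a i := fun i =>
    hcV.comp_coconePointUniqueUpToIso_hom hcP ⟨i⟩
  have hsnd : e.hom ≫ pullback.snd m x = (yon S).map h := by
    refine Cofan.IsColimit.hom_ext hcV _ _ (fun i => ?_)
    change (yon S).map (j i) ≫ e.hom ≫ pullback.snd m x = (yon S).map (j i) ≫ (yon S).map h
    rw [← Category.assoc, he i, pullback.lift_snd, ← Functor.map_comp, hjh i]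
  refine ⟨W, y, V, snd, fst, Vo, j, h, e.hom ≫ pullback.fst m x, hd, hcov, hpb, sq, hjopen, hjdisj,
    hjcov, hjh, ?_, ?_⟩
  · intro i
    rw [← Category.assoc, he i, pullback.lift_fst]
  · refine IsPullback.of_iso_pullback ⟨?_⟩ e rfl hsnd
    rw [Category.assoc, pullback.condition, ← Category.assoc, hsnd]

end CofanMap

end Groth.Agent.Lib.Helper78.AlgSpCoprod
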