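import Groth.Agent.Lib.Helper78.AlgSpCoprod3

/-!
# Coproducts of fppf sheaves: properties of coproducts of maps (helper78)
-/

set_option autoImplicit false
universe w₀ u
open CategoryTheory CategoryTheory.Limits AlgebraicGeometry Opposite
open AlgSp

namespace Groth.Agent.Lib.Helper78.AlgSpCoprod

open Groth.Agent.Lib.Helper78.AlgSpZar Groth.Agent.Lib.Helper78.SheafCoprod
open Groth.Agent.Lib.Helper40.AlgSpBasic

variable {S : Scheme.{u}}

variable {ι : Type w₀} [HasColimitsOfShape (Discrete ι) (Type (u + 1))] [Small.{u} ι]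
  {F G : ι → Sp S} {cF : Cofan F} {cG : Cofan G}

theorem representable_cofan_map (hF : IsColimit cF) (hG : IsColimit cG) (f : ∀ i, F i ⟶ G i)
    (hf : ∀ i, Representable (f i)) (m : cF.pt ⟶ cG.pt)
    (hm : ∀ i, cF.inj i ≫ m = f i ≫ cG.inj i) : Representable m := by
  intro T x
  obtain ⟨W, y, V, snd, fst, Vo, j, h, fstV, -, -, -, -, -, -, -, -, -, hpb⟩ :=
    exists_isPullback_cofan_map hF hG f hf m hm x
  exact ⟨Vo, h, fstV, hpb⟩

/-- A coproduct of maps representable with a Zariski-local property has that property. -/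
theorem repWith_cofan_map (P : MorphismProperty Scheme.{u}) [P.IsStableUnderBaseChange]
    [IsZariskiLocalAtTarget P] (hF : IsColimit cF) (hG : IsColimit cG) (f : ∀ i, F i ⟶ G i)
    (hf : ∀ i, RepWith P (f i)) (m : cF.pt ⟶ cG.pt)
    (hm : ∀ i, cF.inj i ≫ m = f i ≫ cG.inj i) : RepWith P m := by
  have hri : P.RespectsIso := MorphismProperty.IsStableUnderBaseChange.respectsIso
  apply MorphismProperty.relative.of_exists
  intro T x
  obtain ⟨W, y, V, snd, fst, Vo, j, h, fstV, hd, hcov, -, sq, hjopen, hjdisj, hjcov, hjh, -, hpb⟩ :=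
    exists_isPullback_cofan_map hF hG f (fun i => (hf i).rep) m hm x
  refine ⟨Vo, fstV, h, hpb, ?_⟩
  change P h.left
  rw [IsZariskiLocalAtTarget.iff_of_iSup_eq_top (P := P) W hcov]
  intro i
  have hP : P (snd i).left := (hf i).property (y i) (fst i) (snd i) (sq i)
  have hjh' : (j i).left ≫ h.left = (snd i).left ≫ (W i).ι :=
    congrArg (fun k : V i ⟶ T => k.left) (hjh i)
  have := hjopen i
  have hrange : Set.range (j i).left = Set.range (h.left ⁻¹ᵁ W i).ι := by
    rw [Scheme.Opens.range_ι]
    ext v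
    constructor
    · rintro ⟨w, rfl⟩
      change h.left ((j i).left w) ∈ W i
      rw [← Scheme.Hom.comp_apply, hjh', Scheme.Hom.comp_apply]
      exact ((snd i).left w).2
    · intro hv
      obtain ⟨k, w, rfl⟩ := hjcov v
      by_cases hki : k = i
      · subst hki
        exact ⟨w, rfl⟩
      · exfalso
        have hjhk : (j k).left ≫ h.left = (snd k).left ≫ (W k).ι :=
          congrArg (fun l : V k ⟶ T => l.left) (hjh k)
        have h1 : h.left ((j k).left w) ∈ W k := by
          rw [← Scheme.Hom.comp_apply, hjhk, Scheme.Hom.comp_apply]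
          exact ((snd k).left w).2
        exact (hd k i hki).le_bot ⟨h1, hv⟩
  let φ : (V i).left ≅ (h.left ⁻¹ᵁ W i).toScheme :=
    IsOpenImmersion.isoOfRangeEq (j i).left (h.left ⁻¹ᵁ W i).ι hrange
  have hφ : φ.hom ≫ (h.left ⁻¹ᵁ W i).ι = (j i).left :=
    IsOpenImmersion.isoOfRangeEq_hom_fac _ _ _
  have e : φ.hom ≫ (h.left ∣_ W i) = (snd i).left := by
    rw [← cancel_mono (W i).ι, Category.assoc, morphismRestrict_ι, ← Category.assoc, hφ, hjh']
  rw [← e] at hP
  exact (P.cancel_left_of_respectsIso φ.hom _).1 hP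

omit [HasColimitsOfShape (Discrete ι) (Type (u + 1))] in
/-- The disjoint union of a family of schemes over `S`. -/
theorem exists_sigma_over (U : ι → Over S) :
    ∃ (Uo : Over S) (j : ∀ i, U i ⟶ Uo), (∀ i, IsOpenImmersion (j i).left) ∧
      (∀ i k, i ≠ k → Disjoint (Set.range (j i).left) (Set.range (j k).left)) ∧
      (∀ v : Uo.left, ∃ i, v ∈ Set.range (j i).left) := by
  let Uo : Over S := Over.mk (Sigma.desc (fun i => (U i).hom) : (∐ fun i => (U i).left) ⟶ S)
  let j : ∀ i, U i ⟶ Uo := fun i => Over.homMk (Sigma.ι (fun i => (U i).left) i) (by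
    change Sigma.ι (fun i => (U i).left) i ≫ Sigma.desc (fun i => (U i).hom) = (U i).hom
    exact Sigma.ι_desc _ _)
  refine ⟨Uo, j, fun i => inferInstanceAs (IsOpenImmersion (Sigma.ι (fun i => (U i).left) i)), ?_, ?_⟩
  · intro i k hik
    have := disjoint_opensRange_sigmaι (fun i => (U i).left) i k hik
    rw [Set.disjoint_left]
    rintro v hv1 hv2
    exact this.le_bot ⟨hv1, hv2⟩
  · intro v
    obtain ⟨i, w, hw⟩ := (sigmaOpenCover (fun i => (U i).left)).exists_eq v
    exact ⟨i, w, hw⟩

/-- A coproduct of algebraic spaces is an algebraic space. -/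
theorem isAlgSpace_cofan_pt {c : Cofan F} (hc : IsColimit c) (h : ∀ i, IsAlgSpace (F i)) :
    IsAlgSpace c.pt := by
  refine ⟨?_, ?_⟩
  · refine Functor.relativelyRepresentable.diag_of_map_from_obj (fun T g => ?_)
    obtain ⟨W, y, hd, hcov, hpb⟩ := exists_decomposition hc g
    obtain ⟨hcT⟩ := isColimit_yon_of_openCover (fun i => opensι T (W i))
      (fun i => inferInstanceAs (IsOpenImmersion (W i).ι))
      (fun i k hik => by
        change Disjoint (Set.range (W i).ι) (Set.range (W k).ι)
        rw [Scheme.Opens.range_ι, Scheme.Opens.range_ι]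
        exact Set.disjoint_iff_inter_eq_empty.2 (by
          have := (hd i k hik).eq_bot
          exact congrArg (fun V : T.left.Opens => (V : Set T.left)) this))
      (fun t => by
        have ht : t ∈ ⨆ i, W i := by rw [hcov]; trivial
        obtain ⟨i, hi⟩ := TopologicalSpace.Opens.mem_iSup.1 ht
        refine ⟨i, ?_⟩
        change t ∈ Set.range (W i).ι
        rw [Scheme.Opens.range_ι]
        exact hi)
    exact representable_cofan_map hcT hc y (fun i => (h i).representable_from_yon (y i)) g
      (fun i => (hpb i).w.symm)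
  · choose U p hpe hps using fun i => (h i).atlas
    obtain ⟨Uo, j, h1, h2, h3⟩ := exists_sigma_over U
    obtain ⟨hcU⟩ := isColimit_yon_of_openCover j h1 h2 h3
    let m : (yon S).obj Uo ⟶ c.pt := Cofan.IsColimit.desc hcU (fun i => p i ≫ c.inj i)
    have hm : ∀ i, (yon S).map (j i) ≫ m = p i ≫ c.inj i := fun i =>
      Cofan.IsColimit.fac hcU _ i
    exact ⟨Uo, m, repWith_cofan_map @Etale hcU hc p hpe m hm,
      repWith_cofan_map @Surjective hcU hc p hps m hm⟩

end Groth.Agent.Lib.Helper78.AlgSpCoprod
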