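import Groth.Agent.Lib.Helper78.AlgSpCoprod4

/-!
# Coproducts of fppf sheaves: base change of a coproduct to a scheme (helper78)
-/

set_option autoImplicit false
universe w₀ u
open CategoryTheory CategoryTheory.Limits AlgebraicGeometry Opposite
open AlgSp

namespace Groth.Agent.Lib.Helper78.AlgSpCoprod

open Groth.Agent.Lib.Helper78.AlgSpZar Groth.Agent.Lib.Helper78.SheafCoprod
open Groth.Agent.Lib.Helper40.AlgSpBasic

variable {S : Scheme.{u}}

variable {ι : Type w₀} [Small.{u} ι]

/-- The disjoint union of a family of schemes over `S`. -/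
noncomputable def sigmaOver (U : ι → Over S) : Over S :=
  Over.mk (Sigma.desc (fun i => (U i).hom) : (∐ fun i => (U i).left) ⟶ S)

/-- The coprojections of the disjoint union over `S`. -/
noncomputable def sigmaOverι (U : ι → Over S) (i : ι) : U i ⟶ sigmaOver U :=
  Over.homMk (Sigma.ι (fun i => (U i).left) i) (Sigma.ι_desc _ _)

/-- The map out of a disjoint union over `S`. -/
noncomputable def sigmaOverDesc (U : ι → Over S) {T : Over S} (k : ∀ i, U i ⟶ T) :
    sigmaOver U ⟶ T :=
  Over.homMk (Sigma.desc (fun i => (k i).left)) (by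
    apply Sigma.hom_ext
    intro i
    change Sigma.ι (fun i => (U i).left) i ≫ Sigma.desc (fun i => (k i).left) ≫ T.hom =
      Sigma.ι (fun i => (U i).left) i ≫ Sigma.desc (fun i => (U i).hom)
    rw [← Category.assoc, Sigma.ι_desc, Sigma.ι_desc]
    exact Over.w (k i))

@[simp]
theorem sigmaOverι_desc (U : ι → Over S) {T : Over S} (k : ∀ i, U i ⟶ T) (i : ι) :
    sigmaOverι U i ≫ sigmaOverDesc U k = k i := by
  ext
  exact Sigma.ι_desc _ _

theorem sigmaOver_left (U : ι → Over S) : (sigmaOver U).left = ∐ fun i => (U i).left := rfl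

theorem sigmaOverDesc_left (U : ι → Over S) {T : Over S} (k : ∀ i, U i ⟶ T) :
    (sigmaOverDesc U k).left = Sigma.desc (fun i => (k i).left) := rfl

variable [HasColimitsOfShape (Discrete ι) (Type (u + 1))]

theorem isColimit_yon_sigmaOver (U : ι → Over S) :
    Nonempty (IsColimit (Cofan.mk ((yon S).obj (sigmaOver U))
      (fun i => (yon S).map (sigmaOverι U i)))) := by
  refine isColimit_yon_of_openCover (sigmaOverι U)
    (fun i => inferInstanceAs (IsOpenImmersion (Sigma.ι (fun i => (U i).left) i))) ?_ ?_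
  · intro i k hik
    have := disjoint_opensRange_sigmaι (fun i => (U i).left) i k hik
    rw [Set.disjoint_left]
    rintro v hv1 hv2
    exact this.le_bot ⟨hv1, hv2⟩
  · intro v
    obtain ⟨i, w, hw⟩ := (sigmaOpenCover (fun i => (U i).left)).exists_eq v
    exact ⟨i, w, hw⟩

/-- The base change to a scheme of a map out of a coproduct of sheaves, all of whose summands have
representable base change, is represented by the disjoint union. -/
theorem exists_isPullback_of_cofan {F : ι → Sp S} {c : Cofan F} (hc : IsColimit c) {B : Sp S}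
    (d : c.pt ⟶ B) {T : Over S} (z : (yon S).obj T ⟶ B) (W : ι → Over S) (k : ∀ i, W i ⟶ T)
    (fst : ∀ i, (yon S).obj (W i) ⟶ F i)
    (sq : ∀ i, IsPullback (fst i) ((yon S).map (k i)) (c.inj i ≫ d) z) :
    ∃ fstW : (yon S).obj (sigmaOver W) ⟶ c.pt,
      (∀ i, (yon S).map (sigmaOverι W i) ≫ fstW = fst i ≫ c.inj i) ∧
      IsPullback fstW ((yon S).map (sigmaOverDesc W k)) d z := by
  obtain ⟨hcW⟩ := isColimit_yon_sigmaOver W
  let a : ∀ i, (yon S).obj (W i) ⟶ pullback d z := fun i =>
    pullback.lift (fst i ≫ c.inj i) ((yon S).map (k i)) (by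
      rw [Category.assoc, (sq i).w])
  have hsqa : ∀ i, IsPullback (a i) (fst i) (pullback.fst d z) (c.inj i) := by
    intro i
    refine IsPullback.of_right ?_ (pullback.lift_fst _ _ _) (IsPullback.of_hasPullback d z).flip
    rw [pullback.lift_snd]
    exact (sq i).flip
  obtain ⟨hcP⟩ := isColimit_of_isPullback (J := J S) hc (Cofan.mk (pullback d z) a) fst
    (pullback.fst d z) hsqa
  let e : (yon S).obj (sigmaOver W) ≅ pullback d z := hcW.coconePointUniqueUpToIso hcP
  have he : ∀ i, (yon S).map (sigmaOverι W i) ≫ e.hom = a i := fun i =>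
    hcW.comp_coconePointUniqueUpToIso_hom hcP ⟨i⟩
  have hsnd : e.hom ≫ pullback.snd d z = (yon S).map (sigmaOverDesc W k) := by
    refine Cofan.IsColimit.hom_ext hcW _ _ (fun i => ?_)
    change (yon S).map (sigmaOverι W i) ≫ e.hom ≫ pullback.snd d z =
      (yon S).map (sigmaOverι W i) ≫ (yon S).map (sigmaOverDesc W k)
    rw [← Category.assoc, he i, pullback.lift_snd, ← Functor.map_comp, sigmaOverι_desc]
  refine ⟨e.hom ≫ pullback.fst d z, ?_, ?_⟩
  · intro i
    rw [← Category.assoc, he i, pullback.lift_fst]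
  · refine IsPullback.of_iso_pullback ⟨?_⟩ e rfl hsnd
    rw [Category.assoc, pullback.condition, ← Category.assoc, hsnd]

end Groth.Agent.Lib.Helper78.AlgSpCoprod
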