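import Groth.Agent.Lib.Helper78.AlgSpCoprod5
import Groth.Agent.Lib.Helper30.AlgSpGlue

/-!
# Sheaves covered by open algebraic subspaces (helper78)
-/

set_option autoImplicit false
universe w₀ u
open CategoryTheory CategoryTheory.Limits AlgebraicGeometry Opposite
open AlgSp

namespace Groth.Agent.Lib.Helper78.AlgSpCoprod

open Groth.Agent.Lib.Helper78.AlgSpZar Groth.Agent.Lib.Helper78.SheafCoprod
open Groth.Agent.Lib.Helper40.AlgSpBasic

variable {S : Scheme.{u}}

variable {ι : Type w₀} [HasColimitsOfShape (Discrete ι) (Type (u + 1))]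

/-- If the map from the coproduct of the `Fi` to `F` is surjective, every section of `F` over a
scheme lifts fppf locally to one of the `Fi`. -/
theorem exists_local_lift_of_locallySurjective {F : Sp S} {Fi : ι → Sp S} (f : ∀ i, Fi i ⟶ F)
    {c : Cofan Fi} (hc : IsColimit c)
    (hsurj : Sheaf.IsLocallySurjective (Cofan.IsColimit.desc hc f)) {T : Over S}
    (x : (yon S).obj T ⟶ F) (t : T.left) :
    ∃ (T' : Over S) (g : T' ⟶ T), Flat g.left ∧ LocallyOfFinitePresentation g.left ∧
      t ∈ Set.range g.left ∧ ∃ (i : ι) (y : (yon S).obj T' ⟶ Fi i),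
        y ≫ f i = (yon S).map g ≫ x := by
  set σ := Cofan.IsColimit.desc hc f with hσ
  have hσi : ∀ i, c.inj i ≫ σ = f i := fun i => Cofan.IsColimit.fac hc f i
  have hmem := Presheaf.imageSieve_mem (J S) σ.hom ((J S).uliftYonedaEquiv x)
  obtain ⟨R, hR, hRR⟩ := exists_precover_of_mem_J _ hmem
  obtain ⟨hs, hprop⟩ := Groth.Agent.Lib.Helper40.FppfLocal.exists_of_mem_fppfPrecoverage hR
  obtain ⟨Y, g, hg, ⟨t₀, rfl⟩⟩ := hs t
  obtain ⟨s, hs'⟩ := hRR g hg
  have hfl := (hprop g hg).1
  have hfp := (hprop g hg).2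
  let T₁ : Over S := Over.mk (g ≫ T.hom)
  let g₁ : T₁ ⟶ T := Over.homMk g rfl
  let s' : (yon S).obj T₁ ⟶ c.pt := (J S).uliftYonedaEquiv.symm s
  have hs'' : s' ≫ σ = (yon S).map g₁ ≫ x := by
    apply (J S).uliftYonedaEquiv.injective
    rw [GrothendieckTopology.uliftYonedaEquiv_comp, Equiv.apply_symm_apply,
      ← GrothendieckTopology.uliftYonedaEquiv_naturality]
    exact hs'
  obtain ⟨i, Y', g', hfl', hfp', ⟨y, hy⟩, ht₀⟩ := exists_cover_supp hc s' t₀
  let T₂ : Over S := Over.mk (g' ≫ T₁.hom)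
  let g₂ : T₂ ⟶ T₁ := Over.homMk g' rfl
  refine ⟨T₂, g₂ ≫ g₁, ?_, ?_, ?_, i, y, ?_⟩
  · exact inferInstanceAs (Flat (g' ≫ g))
  · exact inferInstanceAs (LocallyOfFinitePresentation (g' ≫ g))
  · obtain ⟨t₁, rfl⟩ := ht₀
    exact ⟨t₁, rfl⟩
  · rw [← hσi i, ← Category.assoc, hy, Category.assoc, hs'', Functor.map_comp, Category.assoc]

section OpenCover

variable {κ : Type u} {F : Sp S} {Fi : κ → Sp S} (f : ∀ i, Fi i ⟶ F)

/-- Maps from schemes to a sheaf covered by open algebraic subspaces are representable. -/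
theorem representable_of_openCover (halg : ∀ i, IsAlgSpace (Fi i))
    (hopen : ∀ i, RepWith @IsOpenImmersion (f i))
    (hloc : ∀ (T : Over S) (x : (yon S).obj T ⟶ F) (t : T.left),
      ∃ (T' : Over S) (g : T' ⟶ T), Flat g.left ∧ LocallyOfFinitePresentation g.left ∧
        t ∈ Set.range g.left ∧ ∃ (i : κ) (y : (yon S).obj T' ⟶ Fi i),
          y ≫ f i = (yon S).map g ≫ x)
    {T : Over S} (a : (yon S).obj T ⟶ F) : Representable a := by
  intro T' b
  -- the open pieces
  choose Ta ka fa sqa using fun i => (hopen i).rep a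
  choose Tb kb fb sqb using fun i => (hopen i).rep b
  choose U s q sqc using fun i => (halg i).representable_from_yon (fa i) (fb i)
  let p₁ := pullback.fst a b
  let p₂ := pullback.snd a b
  let j : ∀ i, (yon S).obj (U i) ⟶ pullback a b := fun i =>
    pullback.lift (q i ≫ (yon S).map (ka i)) ((yon S).map (s i) ≫ (yon S).map (kb i)) (by
      rw [Category.assoc, ← (sqa i).w, ← Category.assoc, (sqc i).w, Category.assoc,
        Category.assoc, (sqb i).w])
  have hj1 : ∀ i, IsPullback (j i) (q i) p₁ ((yon S).map (ka i)) := by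
    intro i
    have big : IsPullback (q i) ((yon S).map (s i) ≫ (yon S).map (kb i)) (fa i ≫ f i) b :=
      (sqc i).paste_vert (sqb i)
    rw [(sqa i).w] at big
    refine IsPullback.of_right ?_ (pullback.lift_fst _ _ _) (IsPullback.of_hasPullback a b).flip
    rw [pullback.lift_snd]
    exact big.flip
  have hj2 : ∀ i, IsPullback (j i) (q i ≫ fa i) (p₁ ≫ a) (f i) := fun i =>
    (hj1 i).paste_vert (sqa i).flip
  have hjopen : ∀ i, RepWith @IsOpenImmersion (j i) := fun i =>
    MorphismProperty.of_isPullback (P := RepWith @IsOpenImmersion) (hj2 i).flip (hopen i)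
  have hjs : Groth.Agent.Lib.Helper30.Glue.JointlySurj j := by
    intro Z ξ
    choose Z' g hfl hfp hmem i y hy using hloc Z (ξ ≫ p₁ ≫ a)
    refine ⟨Sieve.generate (Presieve.ofArrows Z' g),
      generate_ofArrows_mem_J Z' g hfl hfp (fun z => ⟨z, hmem z⟩), ?_⟩
    rintro V k ⟨Z₁, k₁, _, ⟨z⟩, rfl⟩
    have hl : ((yon S).map (g z) ≫ ξ) ≫ p₁ ≫ a = y z ≫ f (i z) := by
      rw [hy z, Category.assoc]
    let l₀ : (yon S).obj (Z' z) ⟶ (yon S).obj (U (i z)) :=
      (hj2 (i z)).lift ((yon S).map (g z) ≫ ξ) (y z) hl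
    refine ⟨i z, k₁ ≫ (yon S).preimage l₀, ?_⟩
    rw [Functor.map_comp, Functor.map_preimage, Category.assoc, (hj2 (i z)).lift_fst,
      Functor.map_comp, Category.assoc]
  obtain ⟨W, e, -, -, -, -⟩ := Groth.Agent.Lib.Helper30.Glue.exists_iso_of_open_cover hjopen hjs
  refine ⟨W, (yon S).preimage (e.hom ≫ p₂), e.hom ≫ p₁, ?_⟩
  rw [Functor.map_preimage]
  exact IsPullback.of_iso_pullback ⟨by rw [Category.assoc, Category.assoc, pullback.condition]⟩ e
    rfl rfl

/-- A sheaf covered by open algebraic subspaces whose coproduct is an algebraic space is an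
algebraic space. -/
theorem isAlgSpace_of_openCover (halg : ∀ i, IsAlgSpace (Fi i))
    (hopen : ∀ i, RepWith @IsOpenImmersion (f i)) {c : Cofan Fi} (hc : IsColimit c)
    (hsurj : Sheaf.IsLocallySurjective (Cofan.IsColimit.desc hc f)) (hcop : IsAlgSpace c.pt) :
    IsAlgSpace F := by
  have hloc := fun (T : Over S) (x : (yon S).obj T ⟶ F) (t : T.left) =>
    exists_local_lift_of_locallySurjective f hc hsurj x t
  refine ⟨?_, ?_⟩
  · exact Functor.relativelyRepresentable.diag_of_map_from_obj
      (fun T a => representable_of_openCover f halg hopen hloc a)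
  · set σ := Cofan.IsColimit.desc hc f with hσ
    have hσi : ∀ i, c.inj i ≫ σ = f i := fun i => Cofan.IsColimit.fac hc f i
    have key : ∀ (T : Over S) (x : (yon S).obj T ⟶ F),
        ∃ (W : κ → Over S) (k : ∀ i, W i ⟶ T) (fstW : (yon S).obj (sigmaOver W) ⟶ c.pt),
          IsPullback fstW ((yon S).map (sigmaOverDesc W k)) σ x ∧
          (∀ i, IsOpenImmersion (k i).left) ∧ ⋃ i, Set.range (k i).left = Set.univ := by
      intro T x
      choose W k fst sq using fun i => (hopen i).rep x
      have sq' : ∀ i, IsPullback (fst i) ((yon S).map (k i)) (c.inj i ≫ σ) x := fun i => by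
        rw [hσi i]; exact sq i
      obtain ⟨fstW, -, hpb⟩ := exists_isPullback_of_cofan hc σ x W k fst sq'
      refine ⟨W, k, fstW, hpb, fun i => (hopen i).property x (fst i) (k i) (sq i), ?_⟩
      rw [Set.eq_univ_iff_forall]
      intro t
      obtain ⟨T', g, -, -, ⟨t', rfl⟩, i, y, hy⟩ := hloc T x t
      let l₀ : (yon S).obj T' ⟶ (yon S).obj (W i) := (sq i).lift y ((yon S).map g) hy
      have hl : (yon S).preimage l₀ ≫ k i = g := by
        apply (yon S).map_injective
        rw [Functor.map_comp, Functor.map_preimage, (sq i).lift_snd]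
      refine Set.mem_iUnion.2 ⟨i, ((yon S).preimage l₀).left t', ?_⟩
      rw [← Scheme.Hom.comp_apply, ← Over.comp_left, hl]
    have hσe : RepWith @Etale σ := by
      apply MorphismProperty.relative.of_exists
      intro T x
      obtain ⟨W, k, fstW, hpb, hk, -⟩ := key T x
      refine ⟨_, fstW, sigmaOverDesc W k, hpb, ?_⟩
      change Etale (Sigma.desc fun i => (k i).left)
      exact IsZariskiLocalAtSource.sigmaDesc (fun i => inferInstance)
    have hσs : RepWith @Surjective σ := by
      apply MorphismProperty.relative.of_exists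
      intro T x
      obtain ⟨W, k, fstW, hpb, -, hcov⟩ := key T x
      refine ⟨_, fstW, sigmaOverDesc W k, hpb, ?_⟩
      change Surjective (Sigma.desc fun i => (k i).left)
      exact Surjective.sigmaDesc_of_union_range_eq_univ hcov
    obtain ⟨U, p, hpe, hps⟩ := hcop.atlas
    exact ⟨U, p ≫ σ, (RepWith @Etale).comp_mem p σ hpe hσe,
      (RepWith @Surjective).comp_mem p σ hps hσs⟩

end OpenCover

end Groth.Agent.Lib.Helper78.AlgSpCoprod
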