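import Groth.Agent.Lib.Helper78.AlgSpFUnram
import Groth.Agent.Lib.Helper78.EtLift
import Groth.Agent.Lib.Helper30.AlgSpMor

set_option autoImplicit false
universe u
open CategoryTheory CategoryTheory.Limits AlgebraicGeometry Opposite
open AlgSp

namespace Groth.Agent.Lib.Helper78.AlgSpFDesc

open Groth.Agent.Lib.Helper78.AlgSpZar Groth.Agent.Lib.Helper40.AlgSpBasic
open Groth.Agent.Lib.Helper78.AlgSpInfSq Groth.Agent.Lib.Helper78.AlgSpLiftGlue
open Groth.Agent.Lib.Helper78.AlgSpFEtale Groth.Agent.Lib.Helper78.AlgSpInfBridge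
open Groth.Agent.Lib.Helper51

variable {S : Scheme.{u}} {F G H : Sp S}

/-- **Descent of uniqueness of lifts** along a representable etale surjective map of sheaves. -/
theorem lift_unique_of_etale_cover (a : F ⟶ G) (ha : RepWith @Etale a)
    (has : RepWith @Surjective a) (b : G ⟶ H) (hg : IsFormallyUnramifiedMor (a ≫ b))
    {T T' : Over S} (j : T ⟶ T') (hj : MoreMor.IsFirstOrderThickening j.left)
    (l l' : (yon S).obj T' ⟶ G) (h1 : (yon S).map j ≫ l = (yon S).map j ≫ l')
    (h2 : l ≫ b = l' ≫ b) : l = l' := by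
  have sqP := ha.1.isPullback l
  have sqP' := ha.1.isPullback l'
  have sqP₀ := ha.1.isPullback ((yon S).map j ≫ l)
  have hπ : Etale (ha.1.snd l).left := ha.2 l _ _ sqP
  have hπ' : Etale (ha.1.snd l').left := ha.2 l' _ _ sqP'
  have hπ's : Surjective (ha.1.snd l').left := has.2 l' _ _ sqP'
  obtain ⟨k, hk⟩ := (yon S).map_surjective (sqP.lift (ha.1.fst ((yon S).map j ≫ l))
    ((yon S).map (ha.1.snd ((yon S).map j ≫ l) ≫ j)) (by
      rw [sqP₀.w, Functor.map_comp, Category.assoc]))
  have hk1 : (yon S).map k ≫ ha.1.fst l = ha.1.fst ((yon S).map j ≫ l) := by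
    rw [hk]; exact sqP.lift_fst _ _ _
  have hk2 : k ≫ ha.1.snd l = ha.1.snd ((yon S).map j ≫ l) ≫ j := by
    apply (yon S).map_injective
    rw [Functor.map_comp, hk]; exact sqP.lift_snd _ _ _
  obtain ⟨k', hk'⟩ := (yon S).map_surjective (sqP'.lift (ha.1.fst ((yon S).map j ≫ l))
    ((yon S).map (ha.1.snd ((yon S).map j ≫ l) ≫ j)) (by
      rw [sqP₀.w, Functor.map_comp, Category.assoc, h1]))
  have hk'1 : (yon S).map k' ≫ ha.1.fst l' = ha.1.fst ((yon S).map j ≫ l) := by
    rw [hk']; exact sqP'.lift_fst _ _ _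
  have hk'2 : k' ≫ ha.1.snd l' = ha.1.snd ((yon S).map j ≫ l) ≫ j := by
    apply (yon S).map_injective
    rw [Functor.map_comp, hk']; exact sqP'.lift_snd _ _ _
  have sqk' : IsPullback ((yon S).map k') ((yon S).map (ha.1.snd ((yon S).map j ≫ l)))
      ((yon S).map (ha.1.snd l')) ((yon S).map j) := by
    refine IsPullback.of_right ?_ ?_ sqP'
    · rw [hk'1, ← h1]; exact sqP₀
    · rw [← Functor.map_comp, ← Functor.map_comp, hk'2]
  have sqk'l := isPullback_left_of_yon sqk'
  have hk'fo : MoreMor.IsFirstOrderThickening k'.left :=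
    Groth.Agent.Lib.Helper61.ThickBC.isFirstOrderThickening_of_isPullback sqk'l hj
  have hπfe : MoreMor.IsFormallyEtaleHom (ha.1.snd l).left :=
    ((Groth.Agent.S1489.result _).1 hπ).2
  obtain ⟨φ₀, ⟨hφ1, hφ2⟩, -⟩ := Groth.Agent.S1516.result (ha.1.snd l).left hπfe k'.left hk'fo k.left
    (ha.1.snd l').left (by
      rw [← Over.comp_left, ← Over.comp_left, hk'2, hk2])
  let φ : ha.1.pullback l' ⟶ ha.1.pullback l := Over.homMk φ₀ (by
    rw [← Over.w (ha.1.snd l), ← Category.assoc, hφ2, Over.w])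
  have hφ1' : k' ≫ φ = k := by
    apply Over.OverMorphism.ext
    exact hφ1
  have hφ2' : φ ≫ ha.1.snd l = ha.1.snd l' := by
    apply Over.OverMorphism.ext
    exact hφ2
  haveI : IsClosedImmersion k'.left := hk'fo.1.1
  have hFO : IsFOThickMor ((yon S).map k') := isFOThickMor_yon_map k' hk'fo.2
  have key : ha.1.fst l' = (yon S).map φ ≫ ha.1.fst l := by
    refine lift_unique (IsAlgSpace.yon_obj _) hFO hg (a := ha.1.fst ((yon S).map j ≫ l))
      (b := (yon S).map (ha.1.snd l') ≫ l' ≫ b) _ _ hk'1 ?_ ?_ ?_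
    · rw [← Category.assoc, sqP'.w, Category.assoc]
    · rw [← Category.assoc, ← Functor.map_comp, hφ1', hk1]
    · rw [Category.assoc, ← Category.assoc (ha.1.fst l), sqP.w, Category.assoc, h2,
        ← Category.assoc, ← Functor.map_comp, hφ2']
  symm
  refine hom_ext_of_cover _ _ (fun _ : Unit => ha.1.pullback l') (fun _ => ha.1.snd l')
    (fun _ => inferInstance) (fun _ => inferInstance)
    (fun x => ⟨(), (ha.1.snd l').left.surjective x⟩) (fun _ => ?_)
  rw [← sqP'.w, key, Category.assoc, sqP.w, ← Category.assoc, ← Functor.map_comp, hφ2']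

/-- formal unramifiedness descends along a representable etale surjective map. -/
theorem isFormallyUnramifiedMor_of_etale_cover (a : F ⟶ G) (ha : RepWith @Etale a)
    (has : RepWith @Surjective a) (b : G ⟶ H) (hg : IsFormallyUnramifiedMor (a ≫ b)) :
    IsFormallyUnramifiedMor b := by
  intro sq l l' h1 h2 h1' h2'
  exact lift_unique_of_etale_cover a ha has b hg sq.j
    (Groth.Agent.Lib.Helper61.ThickBC.isFirstOrderThickening_SpecMap_mk sq.I sq.sq_zero) l l'
    (h1.trans h1'.symm) (h2.trans h2'.symm)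

/-- formal etaleness descends along a representable etale surjective map. -/
theorem isFormallyEtaleMor_of_etale_cover (a : F ⟶ G) (ha : RepWith @Etale a)
    (has : RepWith @Surjective a) (b : G ⟶ H) (hg : IsFormallyEtaleMor (a ≫ b)) :
    IsFormallyEtaleMor b := by
  have hbu : IsFormallyUnramifiedMor b := isFormallyUnramifiedMor_of_etale_cover a ha has b
    (isFormallyUnramifiedMor_of_isFormallyEtaleMor hg)
  intro sq
  have ht := Groth.Agent.Lib.Helper61.ThickBC.isFirstOrderThickening_SpecMap_mk sq.I sq.sq_zero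
  haveI : IsClosedImmersion sq.j.left := ht.1.1
  haveI : Surjective sq.j.left := ht.1.2
  have hFOj : IsFOThickMor ((yon S).map sq.j) := isFOThickMor_yon_map sq.j ht.2
  have huniq : ∀ ⦃W : Over S⦄ (w : (yon S).obj W ⟶ (yon S).obj sq.ptT')
      (l l' : (yon S).obj W ⟶ G),
      IsLiftOn b ((yon S).map sq.j) sq.top sq.bot w l →
      IsLiftOn b ((yon S).map sq.j) sq.top sq.bot w l' → l = l' :=
    fun W w l l' hl hl' => isLiftOn_unique (IsAlgSpace.yon_obj _) hFOj hbu w l l' hl hl'
  have sqE := ha.1.isPullback sq.top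
  have hsE : Etale (ha.1.snd sq.top).left := ha.2 _ _ _ sqE
  have hsS : Surjective (ha.1.snd sq.top).left := has.2 _ _ _ sqE
  have hloc : ∀ e : (ha.1.pullback sq.top).left, ∃ (W' : Over S) (π : W' ⟶ sq.ptT'),
      Etale π.left ∧ (sq.j.left ((ha.1.snd sq.top).left e)) ∈ Set.range π.left ∧
      ∃ l : (yon S).obj W' ⟶ G, IsLiftOn b ((yon S).map sq.j) sq.top sq.bot ((yon S).map π) l := by
    intro e
    obtain ⟨W', W, π, ι, k, hW'aff, hπ, hι, he, sqW⟩ :=
      Groth.Agent.Lib.Helper78.EtLift.exists_etale_lift_scheme sq.I sq.sq_zero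
        (ha.1.snd sq.top).left e
    let W'o : Over S := Over.mk (π ≫ sq.str)
    let πo : W'o ⟶ sq.ptT' := Over.homMk π rfl
    let Wo : Over S := Over.mk (ι ≫ (ha.1.pullback sq.top).hom)
    let ιo : Wo ⟶ ha.1.pullback sq.top := Over.homMk ι rfl
    have hkw : k ≫ π ≫ sq.str = ι ≫ (ha.1.pullback sq.top).hom := by
      rw [← Category.assoc, sqW.w, Category.assoc, Category.assoc]
      congr 1
      exact Over.w (ha.1.snd sq.top)
    let ko : Wo ⟶ W'o := Over.homMk k hkw
    have sqo : IsPullback ko (ιo ≫ ha.1.snd sq.top) πo sq.j :=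
      IsPullback.of_map_of_faithful (Over.forget S) sqW
    have sqy := sqo.map (yon S)
    have hkfo : MoreMor.IsFirstOrderThickening k :=
      Groth.Agent.Lib.Helper61.ThickBC.isFirstOrderThickening_of_isPullback sqW ht
    haveI : IsClosedImmersion ko.left := hkfo.1.1
    haveI : IsAffine W'o.left := hW'aff
    have comm : ((yon S).map ιo ≫ ha.1.fst sq.top) ≫ (a ≫ b) =
        (yon S).map ko ≫ (yon S).map πo ≫ sq.bot := by
      rw [Category.assoc, ← Category.assoc (ha.1.fst sq.top), sqE.w, Category.assoc, sq.comm,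
        ← Functor.map_comp_assoc, ← Functor.map_comp_assoc, ← Functor.map_comp_assoc, sqo.w,
        Category.assoc]
    obtain ⟨lW, hlW1, hlW2⟩ := lift_exists_of_affine
      (isFormallySmoothMor_of_isFormallyEtaleMor hg) ko hkfo.2
      ((yon S).map ιo ≫ ha.1.fst sq.top) ((yon S).map πo ≫ sq.bot) comm
    refine ⟨W'o, πo, hπ, ?_, lW ≫ a, ?_⟩
    · obtain ⟨w, rfl⟩ := he
      refine ⟨k w, ?_⟩
      have := congrArg (fun m => m w) sqW.w
      exact this
    · rw [isLiftOn_iff_of_isPullback sqy.flip]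
      refine ⟨by rw [Category.assoc, hlW2], ?_⟩
      rw [← Category.assoc, hlW1, Category.assoc, sqE.w, Functor.map_comp, Category.assoc]
  choose V g hge hgr hgl using hloc
  obtain ⟨l, hl⟩ := exists_isLiftOn_of_cover (f := b) (j := (yon S).map sq.j) (a := sq.top)
    (b := sq.bot) (fun _ _ => True) (fun _ _ _ _ _ => trivial)
    (fun _ w _ l l' hl hl' => huniq w l l' hl hl') (𝟙 _) V g
    (fun _ => inferInstance) (fun _ => inferInstance) (fun x => by
      obtain ⟨t, rfl⟩ := sq.j.left.surjective x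
      obtain ⟨e, rfl⟩ := (ha.1.snd sq.top).left.surjective t
      exact ⟨e, hgr e⟩)
    (fun _ => trivial) (fun i => by
      obtain ⟨l, hl⟩ := hgl i
      exact ⟨l, by rwa [Category.comp_id]⟩)
  have h1 : (yon S).map sq.j ≫ l = sq.top := by
    have := hl.2 sq.ptT (𝟙 _) sq.j (by rw [Category.id_comp, Category.comp_id])
    rwa [Category.id_comp] at this
  have h2 : l ≫ b = sq.bot := by
    have := hl.1
    rwa [Category.id_comp] at this
  refine ⟨l, ⟨h1, h2⟩, fun l' hl' => ?_⟩
  exact hbu sq l' l hl'.1 hl'.2 h1 h2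

end Groth.Agent.Lib.Helper78.AlgSpFDesc
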