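import Groth.Agent.Lib.Helper78.AlgSpLiftGlue4
import Groth.Agent.Lib.Helper30.AlgSpUnram
import Groth.Agent.Lib.Helper78.AlgSpMisc
import Mathlib.AlgebraicGeometry.Morphisms.IsIso
import Mathlib.AlgebraicGeometry.Morphisms.UniversallyOpen

set_option autoImplicit false
universe u
open CategoryTheory CategoryTheory.Limits AlgebraicGeometry Opposite
open AlgSp

namespace Groth.Agent.Lib.Helper78.AlgSpFEtale

/-- a surjective closed immersion is an open map. -/
theorem isOpenMap_of_thick {A B : Scheme.{u}} (k : A ⟶ B) [IsClosedImmersion k] [Surjective k] :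
    IsOpenMap k := by
  have h1 : Topology.IsClosedEmbedding k := k.isClosedEmbedding
  have h2 : Function.Surjective k := k.surjective
  exact (h1.isEmbedding.toHomeomorphOfSurjective h2).isOpenMap

/-- A morphism from a scheme etale over `T` to a scheme etale over a thickening `T'` of `T` has
open range. -/
theorem isOpen_range_of_etale_thick {T T' U E : Scheme.{u}} (j : T ⟶ T') [IsClosedImmersion j]
    [Surjective j] (π : U ⟶ T') [Etale π] (s : E ⟶ T) [Etale s] (i : E ⟶ U)
    (w : i ≫ π = s ≫ j) : IsOpen (Set.range i) := by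
  let i' : E ⟶ pullback π j := pullback.lift i s w
  have h1 : i' ≫ pullback.snd π j = s := pullback.lift_snd _ _ _
  have h2 : i' ≫ pullback.fst π j = i := pullback.lift_fst _ _ _
  have het : Etale (i' ≫ pullback.snd π j) := h1 ▸ inferInstance
  have hi' : Etale i' := MorphismProperty.of_postcomp (W := @Etale) (W' := @Etale) i'
    (pullback.snd π j) inferInstance het
  have ho : IsOpenMap i' := i'.isOpenMap
  have hk : IsOpenMap (pullback.fst π j) := isOpenMap_of_thick _
  have : Set.range i = (pullback.fst π j) '' (Set.range i') := by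
    rw [← Set.range_comp, ← h2]
    rfl
  rw [this]
  exact hk _ ho.isOpen_range

/-- the comparison map to the pullback of the thickening is etale and surjective. -/
theorem etale_surjective_comparison {T T' U₁ E P : Scheme.{u}} (j : T ⟶ T') [IsClosedImmersion j]
    (π₁ : U₁ ⟶ T') [Etale π₁] (fst : P ⟶ T) (snd : P ⟶ U₁) (sq : IsPullback fst snd j π₁)
    (s : E ⟶ T) [Etale s] (i₁ : E ⟶ U₁) (hi₁ : Function.Surjective i₁) (c : E ⟶ P)
    (h1 : c ≫ fst = s) (h2 : c ≫ snd = i₁) : Etale c ∧ Surjective c := by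
  have hfst : Etale fst := MorphismProperty.of_isPullback (P := @Etale) sq.flip inferInstance
  have hsnd : IsClosedImmersion snd :=
    MorphismProperty.of_isPullback (P := @IsClosedImmersion) sq inferInstance
  have het : Etale (c ≫ fst) := h1 ▸ inferInstance
  refine ⟨MorphismProperty.of_postcomp (W := @Etale) (W' := @Etale) c fst hfst het, ⟨fun p => ?_⟩⟩
  obtain ⟨e, he⟩ := hi₁ (snd p)
  refine ⟨e, ?_⟩
  apply snd.isClosedEmbedding.injective
  rw [← he, ← h2]
  rfl

open Groth.Agent.Lib.Helper78.AlgSpZar Groth.Agent.Lib.Helper40.AlgSpBasic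
open Groth.Agent.Lib.Helper78.AlgSpInfSq Groth.Agent.Lib.Helper78.AlgSpLiftGlue

variable {S : Scheme.{u}}

/-- **Local existence of lifts** for an etale morphism of algebraic spaces along a thickening of
schemes: a single etale surjective chart of `T'` over which the lift exists. -/
theorem exists_isLiftOn_etale_cover {X Y : Sp S} (hX : IsAlgSpace X) {f : X ⟶ Y}
    (hf : IsEtaleMor f) {T T' : Over S} (j : T ⟶ T') [IsClosedImmersion j.left]
    [Surjective j.left] (top : (yon S).obj T ⟶ X) (bot : (yon S).obj T' ⟶ Y)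
    (comm : top ≫ f = (yon S).map j ≫ bot) :
    ∃ (U₁ : Over S) (π₁ : U₁ ⟶ T'), Etale π₁.left ∧ Surjective π₁.left ∧
      ∃ l : (yon S).obj U₁ ⟶ X, IsLiftOn f ((yon S).map j) top bot ((yon S).map π₁) l := by
  obtain ⟨U₀, p₀, hp₀e, hp₀s⟩ := hX.atlas
  have hg : RepWith @Etale (p₀ ≫ f) := hf p₀ hp₀e
  have sqU := hg.1.isPullback bot
  have hπ : Etale (hg.1.snd bot).left := hg.2 bot _ _ sqU
  have sqE := hp₀e.1.isPullback top
  have hsE : Etale (hp₀e.1.snd top).left := hp₀e.2 top _ _ sqE
  have hsS : Surjective (hp₀e.1.snd top).left := hp₀s.2 top _ _ sqE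
  -- the comparison map `E ⟶ U`
  have hcompat : hp₀e.1.fst top ≫ (p₀ ≫ f) = (yon S).map (hp₀e.1.snd top ≫ j) ≫ bot := by
    rw [← Category.assoc, sqE.w, Category.assoc, comm, Functor.map_comp, Category.assoc]
  obtain ⟨i₀, hi₀⟩ := (yon S).map_surjective (sqU.lift _ _ hcompat)
  have hi1 : (yon S).map i₀ ≫ hg.1.fst bot = hp₀e.1.fst top := by
    rw [hi₀]; exact sqU.lift_fst _ _ _
  have hi2 : i₀ ≫ hg.1.snd bot = hp₀e.1.snd top ≫ j := by
    apply (yon S).map_injective
    rw [Functor.map_comp, hi₀]; exact sqU.lift_snd _ _ _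
  have hi2' : i₀.left ≫ (hg.1.snd bot).left = (hp₀e.1.snd top).left ≫ j.left := by
    rw [← Over.comp_left, hi2, Over.comp_left]
  have hΩ : IsOpen (Set.range i₀.left) :=
    isOpen_range_of_etale_thick j.left (hg.1.snd bot).left (hp₀e.1.snd top).left i₀.left hi2'
  let Ω : (hg.1.pullback bot).left.Opens := ⟨Set.range i₀.left, hΩ⟩
  let ι := opensι (hg.1.pullback bot) Ω
  have hιr : Set.range ι.left = Set.range i₀.left := by
    change Set.range Ω.ι = _
    rw [Scheme.Opens.range_ι]
    rfl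
  let i₁l : (hp₀e.1.pullback top).left ⟶ Ω.toScheme :=
    IsOpenImmersion.lift Ω.ι i₀.left (by rw [Scheme.Opens.range_ι]; rfl)
  have hi₁l : i₁l ≫ Ω.ι = i₀.left := IsOpenImmersion.lift_fac _ _ _
  let i₁ : hp₀e.1.pullback top ⟶ Over.mk (Ω.ι ≫ (hg.1.pullback bot).hom) :=
    Over.homMk i₁l (by
      change i₁l ≫ Ω.ι ≫ _ = _
      rw [← Category.assoc, hi₁l]
      exact Over.w i₀)
  have hi₁ι : i₁ ≫ ι = i₀ := by
    apply Over.OverMorphism.ext
    exact hi₁l
  let π₁ := ι ≫ hg.1.snd bot
  have hπ₁e : Etale π₁.left := by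
    change Etale (Ω.ι ≫ (hg.1.snd bot).left)
    infer_instance
  have hi₁s : Function.Surjective i₁.left := by
    intro u
    have : ι.left u ∈ Set.range i₀.left := by rw [← hιr]; exact ⟨u, rfl⟩
    obtain ⟨e, he⟩ := this
    refine ⟨e, ?_⟩
    apply Ω.ι.isOpenEmbedding.injective
    change (i₁l ≫ Ω.ι) e = _
    rw [hi₁l]
    exact he
  have hw₁ : i₁ ≫ π₁ = hp₀e.1.snd top ≫ j := by
    rw [← Category.assoc, hi₁ι, hi2]
  refine ⟨_, π₁, hπ₁e, ⟨fun t' => ?_⟩, (yon S).map ι ≫ hg.1.fst bot ≫ p₀, ?_⟩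
  · obtain ⟨t, rfl⟩ := j.left.surjective t'
    obtain ⟨e, rfl⟩ := (hp₀e.1.snd top).left.surjective t
    refine ⟨i₁.left e, ?_⟩
    have := congrArg (fun m => m.left e) hw₁
    exact this
  · have sqP := IsPullback.of_hasPullback j π₁
    rw [isLiftOn_iff_of_isPullback (sqP.map (yon S))]
    refine ⟨?_, ?_⟩
    · rw [Category.assoc, Category.assoc, sqU.w, Functor.map_comp, Category.assoc]
    · let c : hp₀e.1.pullback top ⟶ pullback j π₁ := pullback.lift (hp₀e.1.snd top) i₁ hw₁.symm
      have hc1 : c ≫ pullback.fst j π₁ = hp₀e.1.snd top := pullback.lift_fst _ _ _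
      have hc2 : c ≫ pullback.snd j π₁ = i₁ := pullback.lift_snd _ _ _
      obtain ⟨hce, hcs⟩ := etale_surjective_comparison j.left π₁.left (pullback.fst j π₁).left
        (pullback.snd j π₁).left (sqP.map (Over.forget S)) (hp₀e.1.snd top).left i₁.left hi₁s
        c.left (by rw [← Over.comp_left, hc1]) (by rw [← Over.comp_left, hc2])
      refine hom_ext_of_cover _ _ (fun _ : Unit => hp₀e.1.pullback top) (fun _ => c)
        (fun _ => inferInstance) (fun _ => inferInstance) (fun x => ⟨(), c.left.surjective x⟩)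
        (fun _ => ?_)
      have e1 : (yon S).map c ≫ (yon S).map (pullback.snd j π₁) = (yon S).map i₁ := by
        rw [← Functor.map_comp, hc2]
      have e2 : (yon S).map c ≫ (yon S).map (pullback.fst j π₁) = (yon S).map (hp₀e.1.snd top) := by
        rw [← Functor.map_comp, hc1]
      have e3 : (yon S).map i₁ ≫ (yon S).map ι = (yon S).map i₀ := by
        rw [← Functor.map_comp, hi₁ι]
      rw [reassoc_of% e1, reassoc_of% e2, reassoc_of% e3, reassoc_of% hi1, sqE.w]


variable {F G T T' : Sp S} {f : F ⟶ G} {j : T ⟶ T'} {a : T ⟶ F} {b : T' ⟶ G}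

/-- Uniqueness of lifts on every test object, when the diagonal of `f` is an open immersion and
`j` is (representably) surjective. -/
theorem isLiftOn_unique_of_diag (hΔ : RepWith @IsOpenImmersion (pullback.diagonal f))
    (hj : RepWith @Surjective j) ⦃W : Over S⦄ (w : (yon S).obj W ⟶ T')
    (l l' : (yon S).obj W ⟶ F) (hl : IsLiftOn f j a b w l) (hl' : IsLiftOn f j a b w l') :
    l = l' := by
  have hw : l ≫ f = l' ≫ f := by rw [hl.1, hl'.1]
  let ll : (yon S).obj W ⟶ pullback f f := pullback.lift l l' hw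
  have sqΔ := hΔ.1.isPullback ll
  have he : IsOpenImmersion (hΔ.1.snd ll).left := hΔ.2 ll _ _ sqΔ
  have e1 : (yon S).map (hΔ.1.snd ll) ≫ l = hΔ.1.fst ll := by
    have := congrArg (· ≫ pullback.fst f f) sqΔ.w
    simp only [Category.assoc, pullback.diagonal_fst, Category.comp_id] at this
    rw [this]
    congr 1
    exact (pullback.lift_fst _ _ _).symm
  have e2 : (yon S).map (hΔ.1.snd ll) ≫ l' = hΔ.1.fst ll := by
    have := congrArg (· ≫ pullback.snd f f) sqΔ.w
    simp only [Category.assoc, pullback.diagonal_snd, Category.comp_id] at this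
    rw [this]
    congr 1
    exact (pullback.lift_snd _ _ _).symm
  -- surjectivity of the open immersion
  have sqj := hj.1.isPullback w
  have hk : Surjective (hj.1.snd w).left := hj.2 w _ _ sqj
  have k1 : (yon S).map (hj.1.snd w) ≫ l = hj.1.fst w ≫ a := hl.2 _ _ _ sqj.w
  have k2 : (yon S).map (hj.1.snd w) ≫ l' = hj.1.fst w ≫ a := hl'.2 _ _ _ sqj.w
  have k3 : ((yon S).map (hj.1.snd w) ≫ l) ≫ pullback.diagonal f =
      (yon S).map (hj.1.snd w) ≫ ll := by
    apply pullback.hom_ext
    · have h0 : ll ≫ pullback.fst f f = l := pullback.lift_fst _ _ _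
      rw [Category.assoc, pullback.diagonal_fst, Category.comp_id, Category.assoc, h0]
    · have h0 : ll ≫ pullback.snd f f = l' := pullback.lift_snd _ _ _
      rw [Category.assoc, pullback.diagonal_snd, Category.comp_id, Category.assoc, h0, k1, ← k2]
  obtain ⟨m, hm⟩ := (yon S).map_surjective (sqΔ.lift _ _ k3)
  have hm2 : m ≫ hΔ.1.snd ll = hj.1.snd w := by
    apply (yon S).map_injective
    rw [Functor.map_comp, hm]
    exact sqΔ.lift_snd _ _ _
  have hsurj : Surjective (hΔ.1.snd ll).left := by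
    have h3 : m.left ≫ (hΔ.1.snd ll).left = (hj.1.snd w).left := by
      rw [← Over.comp_left, hm2]
    have : Surjective (m.left ≫ (hΔ.1.snd ll).left) := h3 ▸ hk
    exact Surjective.of_comp m.left _
  have hiso : IsIso (hΔ.1.snd ll).left :=
    (isIso_iff_isOpenImmersion_and_surjective _).2 ⟨he, hsurj⟩
  have hiso' : IsIso (hΔ.1.snd ll) := by
    have : IsIso ((Over.forget S).map (hΔ.1.snd ll)) := hiso
    exact isIso_of_reflects_iso _ (Over.forget S)
  rw [← cancel_epi ((yon S).map (hΔ.1.snd ll)), e1, e2]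


/-- **Etale morphisms of algebraic spaces are formally etale** (infinitesimal lifting sense). -/
theorem isFormallyEtaleMor_of_isEtaleMor {X Y : Sp S} (hX : IsAlgSpace X) (hY : IsAlgSpace Y)
    {f : X ⟶ Y} (hf : IsEtaleMor f) : IsFormallyEtaleMor f := by
  intro sq
  have ht := Groth.Agent.Lib.Helper61.ThickBC.isFirstOrderThickening_SpecMap_mk sq.I sq.sq_zero
  haveI : IsClosedImmersion sq.j.left := ht.1.1
  haveI : Surjective sq.j.left := ht.1.2
  have hL : LocP @Etale f := (Groth.Agent.Lib.Helper78.AlgSpMisc.isEtaleMor_iff_locP hY f).1 hf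
  have hL' : LocP (@LocallyOfFiniteType ⊓ @FormallyUnramified) f := by
    refine Groth.Agent.Lib.Helper78.AlgSpMisc.locP_mono ?_ hL
    intro A B g hg
    have : Etale g := hg
    exact ⟨inferInstance, inferInstance⟩
  have hΔ := Groth.Agent.Lib.Helper30.repWith_isOpenImmersion_diagonal_of_locP_unramified hX hY f hL'
  have hjs : RepWith @Surjective ((yon S).map sq.j) :=
    (repWith_yon_map_iff @Surjective sq.j).2 inferInstance
  have huniq : ∀ ⦃W : Over S⦄ (w : (yon S).obj W ⟶ (yon S).obj sq.ptT')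
      (l l' : (yon S).obj W ⟶ X),
      IsLiftOn f ((yon S).map sq.j) sq.top sq.bot w l →
      IsLiftOn f ((yon S).map sq.j) sq.top sq.bot w l' → l = l' :=
    fun W w l l' hl hl' => isLiftOn_unique_of_diag hΔ hjs w l l' hl hl'
  obtain ⟨U₁, π₁, het, hsurj, l₁, hl₁⟩ :=
    exists_isLiftOn_etale_cover hX hf sq.j sq.top sq.bot sq.comm
  obtain ⟨l, hl⟩ := exists_isLiftOn_of_cover (f := f) (j := (yon S).map sq.j) (a := sq.top)
    (b := sq.bot) (fun _ _ => True) (fun _ _ _ _ _ => trivial)
    (fun _ w _ l l' hl hl' => huniq w l l' hl hl') (𝟙 _) (fun _ : Unit => U₁) (fun _ => π₁)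
    (fun _ => inferInstance) (fun _ => inferInstance) (fun x => ⟨(), π₁.left.surjective x⟩)
    (fun _ => trivial) (fun _ => ⟨l₁, by rwa [Category.comp_id]⟩)
  have h1 : (yon S).map sq.j ≫ l = sq.top := by
    have := hl.2 sq.ptT (𝟙 _) sq.j (by rw [Category.id_comp, Category.comp_id])
    rwa [Category.id_comp] at this
  have h2 : l ≫ f = sq.bot := by
    have := hl.1
    rwa [Category.id_comp] at this
  refine ⟨l, ⟨h1, h2⟩, fun l' hl' => ?_⟩
  have e1 := isLiftOn_of_lift (f := f) (j := (yon S).map sq.j) l' hl'.1 hl'.2 (𝟙 _)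
  have e2 := isLiftOn_of_lift (f := f) (j := (yon S).map sq.j) l h1 h2 (𝟙 _)
  have := huniq _ _ _ e1 e2
  rwa [Category.id_comp, Category.id_comp] at this

end Groth.Agent.Lib.Helper78.AlgSpFEtale
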