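import Groth.Agent.Lib.Helper78.AlgSpLiftGlue3
import Groth.Agent.Lib.Helper51.AlgSpPull

/-!
# Unique lifts along first order thickenings from the affine case (helper78)

Generalisation of `existsUnique_lift`: the existence and uniqueness of lifts on affine test objects
over which `j` is a square-zero closed immersion is taken as a hypothesis.
-/

set_option autoImplicit false
universe u
open CategoryTheory CategoryTheory.Limits AlgebraicGeometry Opposite
open AlgSp

namespace Groth.Agent.Lib.Helper78.AlgSpLiftGlue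

open Groth.Agent.Lib.Helper78.AlgSpZar Groth.Agent.Lib.Helper40.AlgSpBasic
open Groth.Agent.Lib.Helper78.AlgSpInfSq

variable {S : Scheme.{u}} {F G T T' : Sp S} {f : F ⟶ G} {j : T ⟶ T'} {a : T ⟶ F} {b : T' ⟶ G}

theorem isLiftOn_unique_of_isSqZeroOn'
    (H0u : ∀ ⦃W : Over S⦄, IsAffine W.left → ∀ (w : (yon S).obj W ⟶ T'), IsSqZeroOn j w →
      ∀ l l' : (yon S).obj W ⟶ F, IsLiftOn f j a b w l → IsLiftOn f j a b w l' → l = l')
    ⦃W : Over S⦄ (w : (yon S).obj W ⟶ T') (hw : IsSqZeroOn j w)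
    (l l' : (yon S).obj W ⟶ F) (hl : IsLiftOn f j a b w l) (hl' : IsLiftOn f j a b w l') :
    l = l' := by
  refine isLiftOn_unique_of_cover w (fun V : W.left.affineOpens => Over.mk (V.1.ι ≫ W.hom))
    (fun V => opensι W V.1) (fun V => flat_opensι W V.1) (fun V => lfp_opensι W V.1)
    (affineOpens_jointly_surjective W) (fun V m m' hm hm' => ?_) l l' hl hl'
  exact H0u (W := Over.mk (V.1.ι ≫ W.hom)) V.2 _ (hw.restrict w _) m m' hm hm'

theorem exists_isLiftOn_of_isSqZeroOn'
    (H0u : ∀ ⦃W : Over S⦄, IsAffine W.left → ∀ (w : (yon S).obj W ⟶ T'), IsSqZeroOn j w →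
      ∀ l l' : (yon S).obj W ⟶ F, IsLiftOn f j a b w l → IsLiftOn f j a b w l' → l = l')
    (H0e : ∀ ⦃W : Over S⦄, IsAffine W.left → ∀ (w : (yon S).obj W ⟶ T'), IsSqZeroOn j w →
      ∃ l : (yon S).obj W ⟶ F, IsLiftOn f j a b w l)
    ⦃W : Over S⦄ (w : (yon S).obj W ⟶ T') (hw : IsSqZeroOn j w) :
    ∃ l : (yon S).obj W ⟶ F, IsLiftOn f j a b w l := by
  refine exists_isLiftOn_of_cover (IsSqZeroOn j) (fun _ _ w c h => h.restrict w c)
    (fun _ w hw l l' => isLiftOn_unique_of_isSqZeroOn' H0u w hw l l') w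
    (fun V : W.left.affineOpens => Over.mk (V.1.ι ≫ W.hom))
    (fun V => opensι W V.1) (fun V => flat_opensι W V.1) (fun V => lfp_opensι W V.1)
    (affineOpens_jointly_surjective W) (fun V => hw.restrict w _) (fun V => ?_)
  exact H0e (W := Over.mk (V.1.ι ≫ W.hom)) V.2 _ (hw.restrict w _)

/-- **Unique lifts along a first order thickening of an algebraic space**, from existence and
uniqueness of lifts on affine schemes over which the thickening is a square-zero closed
immersion. -/
theorem existsUnique_lift' (hT' : IsAlgSpace T') (hj : IsFOThickMor j)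
    (H0u : ∀ ⦃W : Over S⦄, IsAffine W.left → ∀ (w : (yon S).obj W ⟶ T'), IsSqZeroOn j w →
      ∀ l l' : (yon S).obj W ⟶ F, IsLiftOn f j a b w l → IsLiftOn f j a b w l' → l = l')
    (H0e : ∀ ⦃W : Over S⦄, IsAffine W.left → ∀ (w : (yon S).obj W ⟶ T'), IsSqZeroOn j w →
      ∃ l : (yon S).obj W ⟶ F, IsLiftOn f j a b w l) :
    ∃! L : T' ⟶ F, j ≫ L = a ∧ L ≫ f = b := by
  have huniq : ∀ ⦃W : Over S⦄ (w : (yon S).obj W ⟶ T') (l l' : (yon S).obj W ⟶ F),
      IsLiftOn f j a b w l → IsLiftOn f j a b w l' → l = l' := by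
    intro W w l l' hl hl'
    obtain ⟨ι, V, g, hfl, hfp, hs, hsq⟩ := exists_sqZero_cover hT' hj w
    exact isLiftOn_unique_of_cover w V g hfl hfp hs
      (fun i m m' hm hm' => isLiftOn_unique_of_isSqZeroOn' H0u _ (hsq i) m m' hm hm') l l' hl hl'
  have hex : ∀ ⦃W : Over S⦄ (w : (yon S).obj W ⟶ T'), ∃ l : (yon S).obj W ⟶ F,
      IsLiftOn f j a b w l := by
    intro W w
    obtain ⟨ι, V, g, hfl, hfp, hs, hsq⟩ := exists_sqZero_cover hT' hj w
    exact exists_isLiftOn_of_cover (IsSqZeroOn j) (fun _ _ w c h => h.restrict w c)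
      (fun _ w hw l l' => isLiftOn_unique_of_isSqZeroOn' H0u w hw l l') w V g hfl hfp hs hsq
      (fun i => exists_isLiftOn_of_isSqZeroOn' H0u H0e _ (hsq i))
  obtain ⟨L, h1, h2⟩ := exists_lift_of_forall hex huniq
  exact ⟨L, ⟨h1, h2⟩, fun L' h' => lift_unique_of_forall huniq L' L h'.1 h'.2 h1 h2⟩

/-- A closed immersion with square-zero kernel is surjective. -/
theorem surjective_of_ker_mul_ker_eq_bot {X Y : Scheme.{u}} (k : X ⟶ Y) [IsClosedImmersion k]
    (h : k.ker * k.ker = ⊥) : Surjective k := by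
  have h1 : (k.ker * k.ker).support = k.ker.support := by
    rw [Scheme.IdealSheafData.support_mul, sup_idem]
  rw [h, Scheme.IdealSheafData.support_bot] at h1
  have h2 : (k.ker.support : Set Y) = closure (Set.range k) := Scheme.Hom.support_ker k
  rw [← h1] at h2
  have h3 : closure (Set.range k) = Set.range k := k.isClosedEmbedding.isClosed_range.closure_eq
  refine ⟨fun y => ?_⟩
  have : y ∈ Set.range k := by
    rw [← h3, ← h2]
    trivial
  exact this

open Groth.Agent.Lib.Helper51 in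
/-- A square-zero closed immersion of schemes over `S` gives a first order thickening of
sheaves. -/
theorem isFOThickMor_yon_map {W₀ W : Over S} (k : W₀ ⟶ W) [IsClosedImmersion k.left]
    (h : k.left.ker * k.left.ker = ⊥) : IsFOThickMor ((yon S).map k) := by
  refine ⟨(isThickMor_yon_map_iff k).2 ⟨inferInstance, surjective_of_ker_mul_ker_eq_bot _ h⟩, ?_⟩
  intro V W' b fst snd _ _ sq
  obtain ⟨c, rfl⟩ := (yon S).map_surjective b
  obtain ⟨c₀, rfl⟩ := (yon S).map_surjective fst
  have sq' := isPullback_left_of_yon sq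
  exact Groth.Agent.Lib.Helper61.ThickBC.ker_mul_ker_eq_bot_of_isPullback sq'.flip h

end Groth.Agent.Lib.Helper78.AlgSpLiftGlue
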