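import Groth.Agent.Lib.Helper78.SqZeroDesc
import Groth.Agent.Lib.Helper78.AlgSpLiftGlue4
import Groth.Agent.Lib.Helper78.AlgSpThickMor

set_option autoImplicit false
universe u
open CategoryTheory CategoryTheory.Limits AlgebraicGeometry Opposite
open AlgSp

namespace Groth.Agent.Lib.Helper78.AlgSpFOBaseChange

open Groth.Agent.Lib.Helper78.AlgSpLiftGlue Groth.Agent.Lib.Helper51

variable {S : Scheme.{u}} {T T' : Sp S} {j : T ⟶ T'}

/-- **Base change of a first order thickening of algebraic spaces to an arbitrary scheme** has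
square-zero kernel. -/
theorem ker_mul_ker_eq_bot_of_isFOThickMor (hT' : IsAlgSpace T') (hj : IsFOThickMor j)
    {W W₀ : Over S} (w : (yon S).obj W ⟶ T') (fst : (yon S).obj W₀ ⟶ T) (k : W₀ ⟶ W)
    (sq : IsPullback fst ((yon S).map k) j w) : k.left.ker * k.left.ker = ⊥ := by
  haveI : IsClosedImmersion k.left := (hj.1.2 w fst k sq).1
  obtain ⟨ι, V, g, hfl, hfp, hs, hsq⟩ := exists_sqZero_cover hT' hj w
  choose W₀' fst' k' sq' hk'c hk'z using hsq
  have hp : ∀ i, ∃ p : W₀' i ⟶ W₀, IsPullback (k' i).left p.left (g i).left k.left := by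
    intro i
    obtain ⟨p, hp⟩ := (yon S).map_surjective (sq.lift (fst' i) ((yon S).map (k' i ≫ g i)) (by
      rw [(sq' i).w, Functor.map_comp, Category.assoc]))
    have hp1 : (yon S).map p ≫ fst = fst' i := by rw [hp]; exact sq.lift_fst _ _ _
    have hp2 : (yon S).map p ≫ (yon S).map k = (yon S).map (k' i) ≫ (yon S).map (g i) := by
      rw [hp]; exact (sq.lift_snd _ _ _).trans (Functor.map_comp _ _ _)
    have big : IsPullback ((yon S).map p ≫ fst) ((yon S).map (k' i)) j
        ((yon S).map (g i) ≫ w) := by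
      rw [hp1]; exact sq' i
    have left := IsPullback.of_right big hp2 sq
    exact ⟨p, (isPullback_left_of_yon left).flip⟩
  choose p hp using hp
  haveI : ∀ i, Flat (g i).left := hfl
  exact Groth.Agent.Lib.Helper78.SqZeroDesc.ker_mul_ker_eq_bot_of_flat_cover k.left
    (fun i => (V i).left) (fun i => (g i).left) hs (fun i => (W₀' i).left)
    (fun i => (k' i).left) (fun i => (p i).left) hp hk'z

/-- **First order thickenings of algebraic spaces are stable under arbitrary base change.** -/
theorem isFOThickMor_of_isPullback (hT' : IsAlgSpace T') (hj : IsFOThickMor j) {Z P : Sp S}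
    {iZ : Z ⟶ P} {pW : P ⟶ T'} {q : Z ⟶ T} (sq : IsPullback q iZ j pW) : IsFOThickMor iZ := by
  refine ⟨MorphismProperty.of_isPullback (P := IsThickMor) sq hj.1, ?_⟩
  intro V W b fst snd _ _ sqb
  exact ker_mul_ker_eq_bot_of_isFOThickMor hT' hj (b ≫ pW) (fst ≫ q) snd (sqb.paste_horiz sq)

end Groth.Agent.Lib.Helper78.AlgSpFOBaseChange
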