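import Groth.Agent.Lib.Helper78.AlgSpFDesc

set_option autoImplicit false
set_option linter.style.haveILetI false
universe u
open CategoryTheory CategoryTheory.Limits AlgebraicGeometry Opposite
open AlgSp

namespace Groth.Agent.Lib.Helper78.AlgSpFSmLocal

open Groth.Agent.Lib.Helper78.AlgSpZar Groth.Agent.Lib.Helper40.AlgSpBasic
open Groth.Agent.Lib.Helper78.AlgSpInfSq Groth.Agent.Lib.Helper78.AlgSpLiftGlue
open Groth.Agent.Lib.Helper78.AlgSpFEtale Groth.Agent.Lib.Helper78.AlgSpInfBridge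
open Groth.Agent.Lib.Helper51

variable {S : Scheme.{u}} {F G H : Sp S}

/-- **Etale local lifts** for `b` when `a ≫ b` is formally smooth, `a` representable etale
surjective. -/
theorem exists_etale_local_lift (a : F ⟶ G) (ha : RepWith @Etale a)
    (has : RepWith @Surjective a) (b : G ⟶ H) (hg : IsFormallySmoothMor (a ≫ b))
    (sq : InfSq b) (t : ↥sq.ptT'.left) :
    ∃ (U' : Over S) (g : U' ⟶ sq.ptT') (l : (yon S).obj U' ⟶ G),
      IsAffine U'.left ∧ Etale g.left ∧ (∃ u : ↥U'.left, g.left u = t) ∧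
        l ≫ b = (yon S).map g ≫ sq.bot ∧
          ∀ (V : Over S) (p : V ⟶ sq.ptT) (q : V ⟶ U'), p ≫ sq.j = q ≫ g →
            (yon S).map q ≫ l = (yon S).map p ≫ sq.top := by
  have ht := Groth.Agent.Lib.Helper61.ThickBC.isFirstOrderThickening_SpecMap_mk sq.I sq.sq_zero
  haveI : IsClosedImmersion sq.j.left := ht.1.1
  haveI : Surjective sq.j.left := ht.1.2
  have sqE := ha.1.isPullback sq.top
  have hsE : Etale (ha.1.snd sq.top).left := ha.2 _ _ _ sqE
  have hsS : Surjective (ha.1.snd sq.top).left := has.2 _ _ _ sqE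
  obtain ⟨t₀, rfl⟩ := sq.j.left.surjective t
  obtain ⟨e, rfl⟩ := (ha.1.snd sq.top).left.surjective t₀
  obtain ⟨W', W, π, ι, k, hW'aff, hπ, hι, he, sqW⟩ :=
    Groth.Agent.Lib.Helper78.EtLift.exists_etale_lift_scheme sq.I sq.sq_zero
      (ha.1.snd sq.top).left e
  let W'o : Over S := Over.mk (π ≫ sq.str)
  let πo : W'o ⟶ sq.ptT' := Over.homMk π rfl
  let Wo : Over S := Over.mk (ι ≫ (ha.1.pullback sq.top).hom)
  let ιo : Wo ⟶ ha.1.pullback sq.top := Over.homMk ι rfl
  have hkw : k ≫ π ≫ sq.str = ι ≫ (ha.1.pullback sq.top).hom := by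
    rw [← Category.assoc, sqW.w, Category.assoc, Category.assoc]
    congr 1
    exact Over.w (ha.1.snd sq.top)
  let ko : Wo ⟶ W'o := Over.homMk k hkw
  have sqo : IsPullback ko (ιo ≫ ha.1.snd sq.top) πo sq.j :=
    IsPullback.of_map_of_faithful (Over.forget S) sqW
  have sqy := sqo.map (yon S)
  have hkfo : MoreMor.IsFirstOrderThickening k :=
    Groth.Agent.Lib.Helper61.ThickBC.isFirstOrderThickening_of_isPullback sqW ht
  haveI : IsClosedImmersion ko.left := hkfo.1.1
  haveI : IsAffine W'o.left := hW'aff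
  have comm : ((yon S).map ιo ≫ ha.1.fst sq.top) ≫ (a ≫ b) =
      (yon S).map ko ≫ (yon S).map πo ≫ sq.bot := by
    rw [Category.assoc, ← Category.assoc (ha.1.fst sq.top), sqE.w, Category.assoc, sq.comm,
      ← Functor.map_comp_assoc, ← Functor.map_comp_assoc, ← Functor.map_comp_assoc, sqo.w,
      Category.assoc]
  obtain ⟨lW, hlW1, hlW2⟩ := lift_exists_of_affine hg ko hkfo.2
    ((yon S).map ιo ≫ ha.1.fst sq.top) ((yon S).map πo ≫ sq.bot) comm
  have hlift : IsLiftOn b ((yon S).map sq.j) sq.top sq.bot ((yon S).map πo) (lW ≫ a) := by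
    rw [isLiftOn_iff_of_isPullback sqy.flip]
    refine ⟨by rw [Category.assoc, hlW2], ?_⟩
    rw [← Category.assoc, hlW1, Category.assoc, sqE.w, Functor.map_comp, Category.assoc]
  refine ⟨W'o, πo, lW ≫ a, hW'aff, hπ, ?_, hlift.1, fun V p q hpq => ?_⟩
  · obtain ⟨w, rfl⟩ := he
    refine ⟨k w, ?_⟩
    have := congrArg (fun m => m w) sqW.w
    exact this
  · exact hlift.2 V ((yon S).map p) q (by rw [← Functor.map_comp, hpq, Functor.map_comp])

end Groth.Agent.Lib.Helper78.AlgSpFSmLocal
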