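import Groth.Agent.Lib.Helper78.AlgSpInfSq
import Groth.Agent.Lib.Helper61.ThickBC
import Mathlib.AlgebraicGeometry.Morphisms.FormallyUnramified

set_option autoImplicit false
universe u
open CategoryTheory CategoryTheory.Limits AlgebraicGeometry Opposite
open AlgSp

namespace Groth.Agent.Lib.Helper78.AlgSpInfBridge

variable {S : Scheme.{u}}

/-- The infinitesimal lifting square of sheaves attached to a scheme-level lifting problem. -/
noncomputable def mkInfSq {U V : Over S} (h : U ⟶ V) (A : Type u) [CommRing A] (I : Ideal A)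
    (hI : I ^ 2 = ⊥) (a : Spec (CommRingCat.of (A ⧸ I)) ⟶ U.left)
    (b : Spec (CommRingCat.of A) ⟶ V.left)
    (w : Spec.map (CommRingCat.ofHom (Ideal.Quotient.mk I)) ≫ b = a ≫ h.left) :
    InfSq ((yon S).map h) where
  A := A
  I := I
  sq_zero := hI
  str := b ≫ V.hom
  top := (yon S).map (Over.homMk a (by
    change a ≫ U.hom = Spec.map _ ≫ b ≫ V.hom
    rw [← Category.assoc, w, Category.assoc, Over.w h]))
  bot := (yon S).map (Over.homMk b rfl)
  comm := by
    rw [← Functor.map_comp, ← Functor.map_comp]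
    congr 1
    apply Over.OverMorphism.ext
    exact w.symm

theorem mkInfSq_lift_iff {U V : Over S} (h : U ⟶ V) (A : Type u) [CommRing A] (I : Ideal A)
    (hI : I ^ 2 = ⊥) (a : Spec (CommRingCat.of (A ⧸ I)) ⟶ U.left)
    (b : Spec (CommRingCat.of A) ⟶ V.left)
    (w : Spec.map (CommRingCat.ofHom (Ideal.Quotient.mk I)) ≫ b = a ≫ h.left)
    (l₀ : (mkInfSq h A I hI a b w).ptT' ⟶ U) :
    ((yon S).map (mkInfSq h A I hI a b w).j ≫ (yon S).map l₀ = (mkInfSq h A I hI a b w).top ∧
      (yon S).map l₀ ≫ (yon S).map h = (mkInfSq h A I hI a b w).bot) ↔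
    (Spec.map (CommRingCat.ofHom (Ideal.Quotient.mk I)) ≫ l₀.left = a ∧ l₀.left ≫ h.left = b) := by
  constructor
  · rintro ⟨h1, h2⟩
    rw [← Functor.map_comp] at h1 h2
    have h1' := (yon S).map_injective h1
    have h2' := (yon S).map_injective h2
    exact ⟨congrArg (·.left) h1', congrArg (·.left) h2'⟩
  · rintro ⟨h1, h2⟩
    rw [← Functor.map_comp, ← Functor.map_comp]
    refine ⟨?_, ?_⟩
    · change _ = (yon S).map _
      congr 1
      apply Over.OverMorphism.ext
      exact h1
    · change _ = (yon S).map _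
      congr 1
      apply Over.OverMorphism.ext
      exact h2

/-- a formally etale map of representable sheaves comes from a formally etale morphism of
schemes. -/
theorem isFormallyEtaleHom_of_isFormallyEtaleMor_yon {U V : Over S} (h : U ⟶ V)
    (hf : IsFormallyEtaleMor ((yon S).map h)) : MoreMor.IsFormallyEtaleHom h.left := by
  intro A _ I hI a b w
  obtain ⟨L, hL, hLu⟩ := hf (mkInfSq h A I hI a b w)
  obtain ⟨L₀, rfl⟩ := (yon S).map_surjective L
  refine ⟨L₀.left, (mkInfSq_lift_iff h A I hI a b w L₀).1 hL, fun l' hl' => ?_⟩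
  have hl'w : l' ≫ U.hom = b ≫ V.hom := by
    rw [← hl'.2, Category.assoc, Over.w h]
  let L' : (mkInfSq h A I hI a b w).ptT' ⟶ U := Over.homMk l' hl'w
  have := hLu ((yon S).map L') ((mkInfSq_lift_iff h A I hI a b w L').2 hl')
  have h3 := (yon S).map_injective this
  exact congrArg (·.left) h3

end Groth.Agent.Lib.Helper78.AlgSpInfBridge
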