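import Groth.Agent.Lib.Helper78.AlgSpInfBridge2
import Groth.Agent.S1489

set_option autoImplicit false
universe u
open CategoryTheory CategoryTheory.Limits AlgebraicGeometry Opposite
open AlgSp

namespace Groth.Agent.Lib.Helper78.AlgSpInfBridge

variable {S : Scheme.{u}}

/-- scheme-level data of a lifting square for `h_h`. -/
theorem exists_scheme_data {U V : Over S} (h : U ⟶ V) (sq : InfSq ((yon S).map h)) :
    ∃ (top₀ : sq.ptT ⟶ U) (bot₀ : sq.ptT' ⟶ V), (yon S).map top₀ = sq.top ∧
      (yon S).map bot₀ = sq.bot ∧ top₀ ≫ h = sq.j ≫ bot₀ := by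
  obtain ⟨top₀, h1⟩ := (yon S).map_surjective sq.top
  obtain ⟨bot₀, h2⟩ := (yon S).map_surjective sq.bot
  refine ⟨top₀, bot₀, h1, h2, ?_⟩
  apply (yon S).map_injective
  rw [Functor.map_comp, Functor.map_comp, h1, h2, sq.comm]

/-- a formally etale morphism of schemes gives a formally etale map of sheaves. -/
theorem isFormallyEtaleMor_yon_of_isFormallyEtaleHom {U V : Over S} (h : U ⟶ V)
    (hf : MoreMor.IsFormallyEtaleHom h.left) : IsFormallyEtaleMor ((yon S).map h) := by
  intro sq
  obtain ⟨top₀, bot₀, h1, h2, hw⟩ := exists_scheme_data h sq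
  have hw' : sq.j.left ≫ bot₀.left = top₀.left ≫ h.left := by
    rw [← Over.comp_left, ← Over.comp_left, hw]
  obtain ⟨l₀, ⟨hl1, hl2⟩, hlu⟩ := hf sq.A sq.I sq.sq_zero top₀.left bot₀.left hw'
  have hl₀w : l₀ ≫ U.hom = sq.ptT'.hom := by
    rw [← Over.w h, ← Category.assoc, hl2, Over.w bot₀]
  let L₀ : sq.ptT' ⟶ U := Over.homMk l₀ hl₀w
  refine ⟨(yon S).map L₀, ⟨?_, ?_⟩, fun L' hL' => ?_⟩
  · rw [← h1, ← Functor.map_comp]
    congr 1
    apply Over.OverMorphism.ext
    exact hl1
  · rw [← h2, ← Functor.map_comp]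
    congr 1
    apply Over.OverMorphism.ext
    exact hl2
  · obtain ⟨L'₀, rfl⟩ := (yon S).map_surjective L'
    congr 1
    apply Over.OverMorphism.ext
    refine hlu L'₀.left ⟨?_, ?_⟩
    · have := hL'.1
      rw [← h1, ← Functor.map_comp] at this
      exact congrArg (·.left) ((yon S).map_injective this)
    · have := hL'.2
      rw [← h2, ← Functor.map_comp] at this
      exact congrArg (·.left) ((yon S).map_injective this)

/-- a formally smooth morphism of schemes gives a formally smooth map of sheaves. -/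
theorem isFormallySmoothMor_yon_of_isFormallySmoothHom {U V : Over S} (h : U ⟶ V)
    (hf : MoreMor.IsFormallySmoothHom h.left) : IsFormallySmoothMor ((yon S).map h) := by
  intro sq
  obtain ⟨top₀, bot₀, h1, h2, hw⟩ := exists_scheme_data h sq
  have hw' : sq.j.left ≫ bot₀.left = top₀.left ≫ h.left := by
    rw [← Over.comp_left, ← Over.comp_left, hw]
  obtain ⟨l₀, hl1, hl2⟩ := hf sq.A sq.I sq.sq_zero top₀.left bot₀.left hw'
  have hl₀w : l₀ ≫ U.hom = sq.ptT'.hom := by
    rw [← Over.w h, ← Category.assoc, hl2, Over.w bot₀]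
  let L₀ : sq.ptT' ⟶ U := Over.homMk l₀ hl₀w
  refine ⟨(yon S).map L₀, ?_, ?_⟩
  · rw [← h1, ← Functor.map_comp]
    congr 1
    apply Over.OverMorphism.ext
    exact hl1
  · rw [← h2, ← Functor.map_comp]
    congr 1
    apply Over.OverMorphism.ext
    exact hl2

/-- a formally smooth map of representable sheaves comes from a formally smooth morphism of
schemes. -/
theorem isFormallySmoothHom_of_isFormallySmoothMor_yon {U V : Over S} (h : U ⟶ V)
    (hf : IsFormallySmoothMor ((yon S).map h)) : MoreMor.IsFormallySmoothHom h.left := by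
  intro A _ I hI a b w
  obtain ⟨L, hL⟩ := hf (mkInfSq h A I hI a b w)
  obtain ⟨L₀, rfl⟩ := (yon S).map_surjective L
  exact ⟨L₀.left, (mkInfSq_lift_iff h A I hI a b w L₀).1 hL⟩

variable {F G : Sp S} {a : F ⟶ G}

/-- the lifting square pulled back along its bottom arrow. -/
noncomputable abbrev pull (sq : InfSq a) {P : Sp S} {fst : P ⟶ F}
    {snd : P ⟶ (yon S).obj sq.ptT'} (hP : IsPullback fst snd a sq.bot) : InfSq snd where
  A := sq.A
  I := sq.I
  sq_zero := sq.sq_zero
  str := sq.str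
  top := hP.lift sq.top ((yon S).map sq.j) sq.comm
  bot := 𝟙 _
  comm := by rw [hP.lift_snd, Category.comp_id]

theorem hasLift_of_pull (sq : InfSq a) {P : Sp S} {fst : P ⟶ F}
    {snd : P ⟶ (yon S).obj sq.ptT'} (hP : IsPullback fst snd a sq.bot)
    (h : (pull sq hP).HasLift) : sq.HasLift := by
  obtain ⟨σ, h1, h2⟩ := h
  refine ⟨σ ≫ fst, ?_, ?_⟩
  · have : (yon S).map sq.j ≫ σ = hP.lift sq.top ((yon S).map sq.j) sq.comm := h1
    rw [← Category.assoc, this, hP.lift_fst]
  · have : σ ≫ snd = 𝟙 _ := h2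
    rw [Category.assoc, hP.w, ← Category.assoc, this, Category.id_comp]

theorem hasUniq_of_pull (sq : InfSq a) {P : Sp S} {fst : P ⟶ F}
    {snd : P ⟶ (yon S).obj sq.ptT'} (hP : IsPullback fst snd a sq.bot)
    (h : (pull sq hP).HasUniq) : sq.HasUniq := by
  intro l l' h1 h2 h1' h2'
  have key : ∀ m : (yon S).obj sq.ptT' ⟶ F, (yon S).map sq.j ≫ m = sq.top → m ≫ a = sq.bot →
      ∃ σ : (yon S).obj sq.ptT' ⟶ P, σ ≫ fst = m ∧
        (yon S).map (pull sq hP).j ≫ σ = (pull sq hP).top ∧ σ ≫ snd = (pull sq hP).bot := by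
    intro m hm1 hm2
    refine ⟨hP.lift m (𝟙 _) (by rw [hm2, Category.id_comp]), hP.lift_fst _ _ _, ?_,
      hP.lift_snd _ _ _⟩
    apply hP.hom_ext
    · rw [Category.assoc, hP.lift_fst]
      exact hm1.trans (hP.lift_fst _ _ _).symm
    · rw [Category.assoc, hP.lift_snd, Category.comp_id]
      exact (hP.lift_snd _ _ _).symm
  obtain ⟨σ, rfl, hσ1, hσ2⟩ := key l h1 h2
  obtain ⟨σ', rfl, hσ'1, hσ'2⟩ := key l' h1' h2'
  rw [h σ σ' hσ1 hσ2 hσ'1 hσ'2]

/-- a representable etale map of sheaves is formally etale. -/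
theorem isFormallyEtaleMor_of_repWith_etale (ha : RepWith @Etale a) : IsFormallyEtaleMor a := by
  intro sq
  have hP := ha.1.isPullback sq.bot
  have het : Etale (ha.1.snd sq.bot).left := ha.2 _ _ _ hP
  have hfe := isFormallyEtaleMor_yon_of_isFormallyEtaleHom (ha.1.snd sq.bot)
    ((Groth.Agent.S1489.result _).1 het).2
  obtain ⟨l, hl⟩ := hasLift_of_pull sq hP (hfe (pull sq hP)).exists
  refine ⟨l, hl, fun l' hl' => ?_⟩
  exact hasUniq_of_pull sq hP (fun m m' h1 h2 h1' h2' =>
    (hfe (pull sq hP)).unique ⟨h1, h2⟩ ⟨h1', h2'⟩) l' l hl'.1 hl'.2 hl.1 hl.2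

/-- a representable formally unramified map of sheaves is formally unramified. -/
theorem isFormallyUnramifiedMor_of_repWith (ha : RepWith @FormallyUnramified a) :
    IsFormallyUnramifiedMor a := by
  intro sq
  have hP := ha.1.isPullback sq.bot
  haveI : FormallyUnramified (ha.1.snd sq.bot).left := ha.2 _ _ _ hP
  exact hasUniq_of_pull sq hP
    (isFormallyUnramifiedMor_yon_of_formallyUnramified (ha.1.snd sq.bot) (pull sq hP))

/-- a representable map of sheaves whose base changes are formally smooth is formally smooth. -/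
theorem isFormallySmoothMor_of_repWith (ha : RepWith @MoreMor.IsFormallySmoothHom a) :
    IsFormallySmoothMor a := by
  intro sq
  have hP := ha.1.isPullback sq.bot
  have : MoreMor.IsFormallySmoothHom (ha.1.snd sq.bot).left := ha.2 _ _ _ hP
  exact hasLift_of_pull sq hP
    (isFormallySmoothMor_yon_of_isFormallySmoothHom (ha.1.snd sq.bot) this (pull sq hP))

end Groth.Agent.Lib.Helper78.AlgSpInfBridge
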