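import Groth.Agent.Lib.Helper78.InfNbhdSch
import Groth.Agent.Lib.Helper78.AlgSpFOBaseChange
import Groth.Agent.Lib.Helper51.AlgSpOpen
import Groth.Agent.Lib.Helper51.AlgSpPoints

set_option autoImplicit false
universe u
open CategoryTheory CategoryTheory.Limits AlgebraicGeometry Opposite
open AlgSp

namespace Groth.Agent.Lib.Helper78.AlgSpInfNbhd

open Groth.Agent.Lib.Helper78.AlgSpZar Groth.Agent.Lib.Helper40.AlgSpBasic
open Groth.Agent.Lib.Helper78.AlgSpLiftGlue Groth.Agent.Lib.Helper51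
open Groth.Agent.Lib.Helper78.InfNbhdSch

variable {S : Scheme.{u}}

section Chart

variable {Z U Z₁ : Sp S} {c : Z ⟶ U} {j : Z ⟶ Z₁} {k : Z₁ ⟶ U}

theorem mono_of_isInfNbhd {n : ℕ} (hN : IsInfNbhd n c j k) : Mono k :=
  mono_of_repWith (fun _ _ g (_ : IsClosedImmersion g) => inferInstanceAs (Mono g)) k hN.2.2.1

/-- The data of the first order infinitesimal neighbourhood on an affine etale chart. -/
theorem chart_data (hN : IsInfNbhd 1 c j k) {V : Over S} (hV : IsAffine V.left)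
    (bV : (yon S).obj V ⟶ U) (hb : RepWith @Etale bV) :
    ∃ (Wc W1 : Over S) (fstC : (yon S).obj Wc ⟶ Z) (γ : Wc ⟶ V) (fstN : (yon S).obj W1 ⟶ Z₁)
      (γ1 : W1 ⟶ V) (ρ : Wc ⟶ W1),
      IsPullback fstC ((yon S).map γ) c bV ∧ IsPullback fstN ((yon S).map γ1) k bV ∧
      ρ ≫ γ1 = γ ∧ IsPullback fstC ((yon S).map ρ) j fstN ∧ IsClosedImmersion γ1.left ∧
      IsClosedImmersion ρ.left ∧ γ1.left.ker = γ.left.ker ^ 2 ∧
      ρ.left.ker * ρ.left.ker = ⊥ := by
  obtain ⟨hjk, hc, hk, hker⟩ := hN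
  have sqC := hc.1.isPullback bV
  have sqK := hk.1.isPullback bV
  obtain ⟨ρ, hρ⟩ := (yon S).map_surjective (sqK.lift (hc.1.fst bV ≫ j) ((yon S).map (hc.1.snd bV))
    (by rw [Category.assoc, hjk, sqC.w]))
  have h1 : (yon S).map ρ ≫ hk.1.fst bV = hc.1.fst bV ≫ j := by rw [hρ]; exact sqK.lift_fst _ _ _
  have h2 : (yon S).map ρ ≫ (yon S).map (hk.1.snd bV) = (yon S).map (hc.1.snd bV) := by
    rw [hρ]; exact sqK.lift_snd _ _ _
  have h3 : ρ ≫ hk.1.snd bV = hc.1.snd bV := by
    apply (yon S).map_injective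
    rw [Functor.map_comp, h2]
  have hγ1 : IsClosedImmersion (hk.1.snd bV).left := hk.2 bV _ _ sqK
  have hγ : IsClosedImmersion (hc.1.snd bV).left := hc.2 bV _ _ sqC
  have h3l : ρ.left ≫ (hk.1.snd bV).left = (hc.1.snd bV).left := by
    rw [← h3]; rfl
  have hρc : IsClosedImmersion ρ.left := by
    haveI : IsClosedImmersion (ρ.left ≫ (hk.1.snd bV).left) := by rw [h3l]; exact hγ
    exact IsClosedImmersion.of_comp ρ.left (hk.1.snd bV).left
  have hkk : (hk.1.snd bV).left.ker = (hc.1.snd bV).left.ker ^ 2 :=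
    hker bV (hc.1.fst bV) (hc.1.snd bV) (hk.1.fst bV) (hk.1.snd bV) hV hb sqC sqK
  refine ⟨_, _, hc.1.fst bV, hc.1.snd bV, hk.1.fst bV, hk.1.snd bV, ρ, sqC, sqK, h3, ?_, hγ1, hρc,
    hkk, ?_⟩
  · refine IsPullback.of_bot ?_ h1.symm sqK
    rw [h2, hjk]
    exact sqC
  · haveI : IsAffine V.left := hV
    refine ker_mul_ker_eq_bot_of_ker_eq_sq ρ.left (hk.1.snd bV).left ?_
    rw [h3l]
    exact hkk

/-- **Local factorisation** through the first order neighbourhood on an affine etale chart. -/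
theorem exists_factor_chart (hN : IsInfNbhd 1 c j k) {V : Over S} (hV : IsAffine V.left)
    (bV : (yon S).obj V ⟶ U) (hb : RepWith @Etale bV) {T' T₀ : Over S} (t : T₀ ⟶ T')
    [IsClosedImmersion t.left] (ht : t.left.ker * t.left.ker = ⊥) (g : T' ⟶ V)
    (a₀ : (yon S).obj T₀ ⟶ Z) (h : a₀ ≫ c = (yon S).map (t ≫ g) ≫ bV) :
    ∃ l : (yon S).obj T' ⟶ Z₁, l ≫ k = (yon S).map g ≫ bV := by
  obtain ⟨Wc, W1, fstC, γ, fstN, γ1, ρ, sqC, sqK, hργ, sqJ, hγ1, hρc, hkk, hρz⟩ :=
    chart_data hN hV bV hb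
  obtain ⟨a₁, ha₁⟩ := (yon S).map_surjective (sqC.lift a₀ ((yon S).map (t ≫ g)) h)
  have e2 : (yon S).map a₁ ≫ (yon S).map γ = (yon S).map (t ≫ g) := by
    rw [ha₁]; exact sqC.lift_snd _ _ _
  have e3 : a₁ ≫ γ = t ≫ g := by
    apply (yon S).map_injective
    rw [Functor.map_comp, e2]
  have e3l : a₁.left ≫ γ.left = t.left ≫ g.left := congrArg (fun m => m.left) e3
  haveI : IsAffine V.left := hV
  have hle : γ1.left.ker ≤ g.left.ker :=
    ker_le_ker_of_sqZero γ1.left γ.left hkk t.left ht g.left a₁.left e3l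
  let m₀ : T'.left ⟶ W1.left := IsClosedImmersion.lift γ1.left g.left hle
  have hm₀ : m₀ ≫ γ1.left = g.left := IsClosedImmersion.lift_fac _ _ _
  let m : T' ⟶ W1 := Over.homMk m₀ (by
    have h1 : γ1.left ≫ V.hom = W1.hom := Over.w γ1
    have h2 : g.left ≫ V.hom = T'.hom := Over.w g
    rw [← h1, ← Category.assoc, hm₀, h2])
  have hm : m ≫ γ1 = g := by
    ext
    exact hm₀
  refine ⟨(yon S).map m ≫ fstN, ?_⟩
  rw [Category.assoc, sqK.w, ← Category.assoc, ← Functor.map_comp, hm]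

end Chart

section Cover

open Groth.Agent.Lib.Helper52 in
/-- Every test object of an algebraic space is covered, etale locally, by pieces mapping to affine
etale charts. -/
theorem exists_chart_cover {U : Sp S} (hU : IsAlgSpace U) {W : Over S}
    (b₁ : (yon S).obj W ⟶ U) :
    ∃ (ι : Type u) (P : ι → Over S) (g : ∀ i, P i ⟶ W), (∀ i, Etale (g i).left) ∧
      (∀ x : W.left, ∃ i, x ∈ Set.range (g i).left) ∧
      ∀ i, ∃ (V : Over S) (bV : (yon S).obj V ⟶ U) (m : P i ⟶ V), IsAffine V.left ∧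
        RepWith @Etale bV ∧ (yon S).map m ≫ bV = (yon S).map (g i) ≫ b₁ := by
  obtain ⟨U₀, p, hp, hps⟩ := hU.atlas
  have he : ∀ V : U₀.left.affineOpens, RepWith @Etale ((yon S).map (opensι U₀ V.1) ≫ p) := by
    intro V
    refine (RepWith (S := S) @Etale).comp_mem _ _ ((repWith_yon_map_iff _ _).2 ?_) hp
    change Etale V.1.ι
    infer_instance
  refine ⟨U₀.left.affineOpens, fun V => (he V).1.pullback b₁, fun V => (he V).1.snd b₁,
    fun V => ?_, fun x => ?_, fun V => ?_⟩
  · exact (he V).2 _ _ _ ((he V).1.isPullback' b₁)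
  · obtain ⟨u, hu⟩ := surjective_ofPt_of_repWith_surjective p hps (Points.ofPt b₁ x)
    obtain ⟨V, ⟨u', hu'⟩⟩ := affineOpens_jointly_surjective U₀ u
    refine ⟨V, (ofPt_mem_range_map_iff ((he V).1.isPullback' b₁) x).1 ⟨Points.ofScheme _ u', ?_⟩⟩
    rw [← Points.ofPt_eq_map_ofScheme, ofPt_yon_map_comp, hu', hu]
  · exact ⟨_, (yon S).map (opensι U₀ V.1) ≫ p, (he V).1.fst' b₁, V.2, he V,
      ((he V).1.isPullback' b₁).w⟩

end Cover

section Global

variable {Z U Z₁ : Sp S} {c : Z ⟶ U} {j : Z ⟶ Z₁} {k : Z₁ ⟶ U}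

/-- A morphism to `U` factors through the monomorphism `k` as soon as it does so on an etale
cover. -/
theorem exists_factor_of_cover_of_mono (k : Z₁ ⟶ U) [Mono k] {W : Over S}
    (b₁ : (yon S).obj W ⟶ U) {ι : Type*} (P : ι → Over S) (g : ∀ i, P i ⟶ W)
    (hfl : ∀ i, Flat (g i).left) (hfp : ∀ i, LocallyOfFinitePresentation (g i).left)
    (hs : ∀ x : W.left, ∃ i, x ∈ Set.range (g i).left)
    (h : ∀ i, ∃ l : (yon S).obj (P i) ⟶ Z₁, l ≫ k = (yon S).map (g i) ≫ b₁) :
    ∃ l : (yon S).obj W ⟶ Z₁, l ≫ k = b₁ := by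
  choose x hx using h
  obtain ⟨t, ht⟩ := exists_glue P g hfl hfp hs x (by
    intro i i' Q gi gj hg
    rw [← cancel_mono k, Category.assoc, Category.assoc, hx, hx, ← Category.assoc,
      ← Category.assoc, ← Functor.map_comp, ← Functor.map_comp, hg])
  refine ⟨t, hom_ext_of_cover _ _ P g hfl hfp hs fun i => ?_⟩
  rw [← Category.assoc, ht, hx]

/-- **Factorisation through the first order neighbourhood**: a test object of `U` whose
restriction to a square-zero closed subscheme lies in `Z` lies in `Z₁`. -/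
theorem exists_factor (hU : IsAlgSpace U) (hN : IsInfNbhd 1 c j k) {W W₀ : Over S} (κ : W₀ ⟶ W)
    [IsClosedImmersion κ.left] (hκ : κ.left.ker * κ.left.ker = ⊥) (b₁ : (yon S).obj W ⟶ U)
    (a₀ : (yon S).obj W₀ ⟶ Z) (h : (yon S).map κ ≫ b₁ = a₀ ≫ c) :
    ∃ l : (yon S).obj W ⟶ Z₁, l ≫ k = b₁ := by
  haveI := mono_of_isInfNbhd hN
  obtain ⟨ι, P, g, hge, hs, hch⟩ := exists_chart_cover hU b₁
  haveI := hge
  refine exists_factor_of_cover_of_mono k b₁ P g (fun i => inferInstance) (fun i => inferInstance)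
    hs fun i => ?_
  obtain ⟨V, bV, m, hV, hb, hm⟩ := hch i
  rw [← hm]
  have sqO := IsPullback.of_hasPullback κ (g i)
  have sqS := sqO.map (Over.forget S)
  haveI : IsClosedImmersion ((Over.forget S).map κ) := ‹IsClosedImmersion κ.left›
  haveI hcl : IsClosedImmersion (pullback.snd κ (g i)).left :=
    MorphismProperty.of_isPullback (P := @IsClosedImmersion) sqS inferInstance
  have hz : (pullback.snd κ (g i)).left.ker * (pullback.snd κ (g i)).left.ker = ⊥ :=
    Groth.Agent.Lib.Helper61.ThickBC.ker_mul_ker_eq_bot_of_isPullback sqS.flip hκ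
  refine exists_factor_chart hN hV bV hb (pullback.snd κ (g i)) hz m
    ((yon S).map (pullback.fst κ (g i)) ≫ a₀) ?_
  rw [Category.assoc, ← h, ← Category.assoc, ← Functor.map_comp, sqO.w, Functor.map_comp,
    Functor.map_comp, Category.assoc, Category.assoc, hm]

/-- **The base change of `j : Z ⟶ Z₁` to any scheme has square-zero kernel.** -/
theorem ker_mul_ker_eq_bot_of_isInfNbhd (hU : IsAlgSpace U) (hN : IsInfNbhd 1 c j k)
    {V W : Over S} (b' : (yon S).obj V ⟶ Z₁) (fst : (yon S).obj W ⟶ Z) (snd : W ⟶ V)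
    (sq : IsPullback fst ((yon S).map snd) j b') [IsClosedImmersion snd.left] :
    snd.left.ker * snd.left.ker = ⊥ := by
  haveI := mono_of_isInfNbhd hN
  obtain ⟨ι, P, g, hge, hs, hch⟩ := exists_chart_cover hU (b' ≫ k)
  have hloc : ∀ i, ∃ (W' : Over S) (k' : W' ⟶ P i) (p : W' ⟶ W),
      IsPullback k'.left p.left (g i).left snd.left ∧ k'.left.ker * k'.left.ker = ⊥ := by
    intro i
    obtain ⟨Vα, bV, m, hV, hb, hm⟩ := hch i
    obtain ⟨Wc, W1, fstC, γ, fstN, γ1, ρ, sqC, sqK, hργ, sqJ, hγ1, hρc, hkk, hρz⟩ :=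
      chart_data hN hV bV hb
    -- the map `P i ⟶ W1`
    obtain ⟨m₁, hm₁⟩ := (yon S).map_surjective (sqK.lift ((yon S).map (g i) ≫ b') ((yon S).map m)
      (by rw [Category.assoc, hm]))
    have e1 : (yon S).map m₁ ≫ fstN = (yon S).map (g i) ≫ b' := by
      rw [hm₁]; exact sqK.lift_fst _ _ _
    have sqO := IsPullback.of_hasPullback ρ m₁
    have sqS := sqO.map (Over.forget S)
    have sqY := sqO.map (yon S)
    have hz : (pullback.snd ρ m₁).left.ker * (pullback.snd ρ m₁).left.ker = ⊥ := by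
      haveI : IsClosedImmersion ((Over.forget S).map ρ) := hρc
      exact Groth.Agent.Lib.Helper61.ThickBC.ker_mul_ker_eq_bot_of_isPullback sqS.flip hρz
    have big : IsPullback ((yon S).map (pullback.fst ρ m₁) ≫ fstC)
        ((yon S).map (pullback.snd ρ m₁)) j ((yon S).map m₁ ≫ fstN) := sqY.paste_horiz sqJ
    rw [e1] at big
    obtain ⟨p, hp⟩ := (yon S).map_surjective (sq.lift ((yon S).map (pullback.fst ρ m₁) ≫ fstC)
      ((yon S).map (pullback.snd ρ m₁ ≫ g i)) (by
        rw [big.w, Functor.map_comp, Category.assoc]))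
    have hp1 : (yon S).map p ≫ fst = (yon S).map (pullback.fst ρ m₁) ≫ fstC := by
      rw [hp]; exact sq.lift_fst _ _ _
    have hp2 : (yon S).map p ≫ (yon S).map snd =
        (yon S).map (pullback.snd ρ m₁) ≫ (yon S).map (g i) := by
      rw [hp]; exact (sq.lift_snd _ _ _).trans (Functor.map_comp _ _ _)
    rw [← hp1] at big
    have left := IsPullback.of_right big hp2 sq
    exact ⟨_, pullback.snd ρ m₁, p, (isPullback_left_of_yon left).flip, hz⟩
  choose W' k' p hp hz using hloc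
  haveI : ∀ i, Flat (g i).left := fun i => by
    haveI := hge i
    infer_instance
  exact Groth.Agent.Lib.Helper78.SqZeroDesc.ker_mul_ker_eq_bot_of_flat_cover snd.left
    (fun i => (P i).left) (fun i => (g i).left) hs (fun i => (W' i).left)
    (fun i => (k' i).left) (fun i => (p i).left) hp hz

/-- The pullback of a monomorphism along a morphism that factors through it. -/
theorem isPullback_of_comp_mono {C : Type*} [Category C] {A B D : C} (j : A ⟶ B) (k : B ⟶ D)
    [Mono k] : IsPullback j (𝟙 A) k (j ≫ k) := by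
  refine ⟨⟨by simp⟩, ⟨PullbackCone.IsLimit.mk _ (fun s => s.snd) ?_ ?_ ?_⟩⟩
  · intro s
    rw [← cancel_mono k, Category.assoc]
    exact s.condition.symm
  · intro s
    exact Category.comp_id _
  · intro s m _ h2
    rw [← h2]
    exact (Category.comp_id _).symm

/-- **The first order infinitesimal neighbourhood is a first order thickening.** -/
theorem isFOThickMor_of_isInfNbhd (hU : IsAlgSpace U) (hN : IsInfNbhd 1 c j k) :
    IsFOThickMor j := by
  haveI := mono_of_isInfNbhd hN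
  have sqj : IsPullback j (𝟙 Z) k c := by
    have := isPullback_of_comp_mono j k
    rwa [hN.1] at this
  have hjc : RepWith @IsClosedImmersion j :=
    MorphismProperty.of_isPullback (P := RepWith @IsClosedImmersion) sqj.flip hN.2.1
  refine ⟨(repWith_iff thick j).2 ⟨hjc.1, fun V W b' fst snd sq => ?_⟩,
    fun V W b' fst snd _ _ sq => ?_⟩
  · haveI hcl : IsClosedImmersion snd.left := hjc.2 b' fst snd sq
    exact ⟨hcl, surjective_of_ker_mul_ker_eq_bot _
      (ker_mul_ker_eq_bot_of_isInfNbhd hU hN b' fst snd sq)⟩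
  · haveI hcl : IsClosedImmersion snd.left := hjc.2 b' fst snd sq
    exact ker_mul_ker_eq_bot_of_isInfNbhd hU hN b' fst snd sq

end Global

section Open

/-- A test object of `X` lies in the open subspace `U` as soon as a surjective scheme over it
does. -/
theorem exists_factor_open {U X : Sp S} (u : U ⟶ X) (hu : RepWith @IsOpenImmersion u)
    {W W₀ : Over S} (κ : W₀ ⟶ W) (hκ : Function.Surjective κ.left)
    (g' : (yon S).obj W ⟶ X) (a₁ : (yon S).obj W₀ ⟶ U) (h : (yon S).map κ ≫ g' = a₁ ≫ u) :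
    ∃ b₁ : (yon S).obj W ⟶ U, b₁ ≫ u = g' := by
  have sq := hu.1.isPullback g'
  have ho : IsOpenImmersion (hu.1.snd g').left := hu.2 g' _ _ sq
  obtain ⟨m, hm⟩ := (yon S).map_surjective (sq.lift a₁ ((yon S).map κ) h.symm)
  have hm2 : (yon S).map m ≫ (yon S).map (hu.1.snd g') = (yon S).map κ := by
    rw [hm]; exact sq.lift_snd _ _ _
  have hm3 : m ≫ hu.1.snd g' = κ := by
    apply (yon S).map_injective
    rw [Functor.map_comp, hm2]
  have hsurj : Function.Surjective (hu.1.snd g').left := by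
    intro x
    obtain ⟨x₀, rfl⟩ := hκ x
    refine ⟨m.left x₀, ?_⟩
    rw [← hm3]
    rfl
  have : Epi (hu.1.snd g').left.base := (TopCat.epi_iff_surjective _).2 hsurj
  have hiso : IsIso (hu.1.snd g').left := IsOpenImmersion.isIso _
  have hiso'' : IsIso ((Over.forget S).map (hu.1.snd g')) := hiso
  have hiso' : IsIso (hu.1.snd g') := isIso_of_reflects_iso _ (Over.forget S)
  refine ⟨(yon S).map (inv (hu.1.snd g')) ≫ hu.1.fst g', ?_⟩
  rw [Category.assoc, sq.w, ← Category.assoc, ← Functor.map_comp, IsIso.inv_hom_id,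
    CategoryTheory.Functor.map_id, Category.id_comp]

end Open

section Main

/-- **The first order infinitesimal neighbourhood of an immersion is the universal first order
thickening.** -/
theorem isUnivFOThick_of_isInfNbhd {Z U X Z₁ : Sp S} (hU : IsAlgSpace U) (c : Z ⟶ U)
    (u : U ⟶ X) (hu : RepWith @IsOpenImmersion u) (j : Z ⟶ Z₁) (k : Z₁ ⟶ U)
    (hN : IsInfNbhd 1 c j k) : IsUnivFOThick (c ≫ u) j (k ≫ u) := by
  haveI := mono_of_isInfNbhd hN
  haveI : Mono u :=
    mono_of_repWith (fun _ _ g (_ : IsOpenImmersion g) => inferInstanceAs (Mono g)) u hu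
  refine ⟨isFOThickMor_of_isInfNbhd hU hN, by rw [← Category.assoc, hN.1], ?_⟩
  intro T T' hT hT' jT a b hjT comm
  refine existsUnique_lift' hT' hjT (fun W _ w _ l l' hl hl' => ?_) ?_
  · rw [← cancel_mono (k ≫ u), hl.1, hl'.1]
  · intro W hWaff w hw
    obtain ⟨W₀, fst, κ, sq, hκc, hκz⟩ := hw
    haveI := hκc
    have hκs : Surjective κ.left := surjective_of_ker_mul_ker_eq_bot κ.left hκz
    have e0 : (yon S).map κ ≫ w ≫ b = (fst ≫ a ≫ c) ≫ u := by
      rw [← Category.assoc, ← sq.w, Category.assoc, comm]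
      simp only [Category.assoc]
    obtain ⟨b₁, hb₁⟩ := exists_factor_open u hu κ hκs.surj (w ≫ b) (fst ≫ a ≫ c) e0
    have hb₁' : (yon S).map κ ≫ b₁ = (fst ≫ a) ≫ c := by
      rw [← cancel_mono u, Category.assoc, hb₁, e0]
      simp only [Category.assoc]
    obtain ⟨l, hl⟩ := exists_factor hU hN κ hκz b₁ (fst ≫ a) hb₁'
    refine ⟨l, (isLiftOn_iff_of_isPullback sq l).2 ⟨?_, ?_⟩⟩
    · rw [← Category.assoc, hl, hb₁]
    · rw [← cancel_mono k, Category.assoc, hl, hb₁']
      simp only [Category.assoc]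
      rw [hN.1]

end Main

end Groth.Agent.Lib.Helper78.AlgSpInfNbhd
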