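import Groth.Agent.Lib.Helper78.AlgSpMisc
import Groth.Agent.Lib.Helper78.AlgSpFibre
import Groth.Agent.Lib.Helper51.AlgSpOpen
import Groth.Agent.Lib.Helper51.AlgSpCharts
import Groth.Agent.Lib.Helper51.AlgSpPoints2
import Groth.Prelude.Def_AlgSpCov
import Groth.Agent.Lib.Helper78.AlgSpLocPFlat
import Groth.Agent.Lib.Helper78.AlgSpLocPLofp
import Groth.Agent.Lib.Helper78.AlgSpLocPSmooth
import Groth.Agent.Lib.Helper78.AlgSpLocP3

/-!
# The largest open over which a morphism has a property local on the base (helper78)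
-/

set_option autoImplicit false
set_option linter.unusedVariables false
universe u
open CategoryTheory CategoryTheory.Limits AlgebraicGeometry
open AlgSp

namespace Groth.Agent.Lib.Helper78.AlgSpLargestOpen

open Groth.Agent.Lib.Helper51 Groth.Agent.Lib.Helper52 Groth.Agent.Lib.Helper78.AlgSpFibre
open Groth.Agent.Lib.Helper78.AlgSpLocP Groth.Agent.Lib.Helper78.AlgSpBasic
open Groth.Agent.Lib.Helper78.AlgSpMisc

/-- if `k ≫ j = g` with `j` a monomorphism then `k` is the base change of `g` along `j`. -/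
theorem isPullback_of_mono_factor {C : Type*} [Category C] {A B D : C} (j : B ⟶ D) [Mono j]
    (k : A ⟶ B) (g : A ⟶ D) (h : k ≫ j = g) : IsPullback k (𝟙 A) j g := by
  refine ⟨⟨by rw [h, Category.id_comp]⟩, ⟨PullbackCone.IsLimit.mk _ (fun s => s.snd) ?_ ?_ ?_⟩⟩
  · intro s
    rw [← cancel_mono j, Category.assoc, h, s.condition]
  · intro s
    exact Category.comp_id _
  · intro s m _ h2
    rw [← h2, Category.comp_id]

variable {S : Scheme.{u}}

/-- A class of morphisms of algebraic spaces suitable for the coverings of a topology. -/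
structure GoodClass (𝒢 : MorphismProperty (Sp S)) : Prop where
  of_openImm : ∀ ⦃A B : Sp S⦄ (j : A ⟶ B), IsAlgSpace A → IsAlgSpace B →
    RepWith @IsOpenImmersion j → 𝒢 j
  comp : ∀ ⦃A B C : Sp S⦄ (f : A ⟶ B) (g : B ⟶ C), IsAlgSpace A → IsAlgSpace B → IsAlgSpace C →
    𝒢 f → 𝒢 g → 𝒢 (f ≫ g)
  baseChange : ∀ ⦃A B A' B' : Sp S⦄ (f : A ⟶ B) (g : B' ⟶ B) (fst : A' ⟶ A) (snd : A' ⟶ B'),
    IsPullback fst snd f g → IsAlgSpace A → IsAlgSpace B → IsAlgSpace A' → IsAlgSpace B' →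
    𝒢 f → 𝒢 snd
  isOpenMap : ∀ ⦃A B : Sp S⦄ (f : A ⟶ B), IsAlgSpace A → IsAlgSpace B → 𝒢 f →
    IsOpenMap (Points.map f)

section

variable {𝒢 P : MorphismProperty (Sp S)}

theorem GoodClass.id_mem (h𝒢 : GoodClass 𝒢) {Z : Sp S} (hZ : IsAlgSpace Z) : 𝒢 (𝟙 Z) :=
  h𝒢.of_openImm _ hZ hZ ((RepWith (S := S) @IsOpenImmersion).id_mem Z)

/-- `P` is stable under base change along morphisms of the class. -/
theorem P_baseChange (h𝒢 : GoodClass 𝒢)
    (hP : AlgSp.IsLocalOnBase (fun _ _ Y g => IsCover 𝒢 Y g) P)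
    {X Z X' Z' : Sp S} (hX : IsAlgSpace X) (hZ : IsAlgSpace Z) (hX' : IsAlgSpace X')
    (hZ' : IsAlgSpace Z') {f : X ⟶ Z} {h : Z' ⟶ Z} {fst : X' ⟶ X} {snd : X' ⟶ Z'}
    (sq : IsPullback fst snd f h) (hh : 𝒢 h) (hf : P f) : P snd := by
  let Yi : Option PUnit.{u + 1} → AlgSp.Sp S := fun o => Option.rec Z (fun _ => Z') o
  let gi : ∀ o, Yi o ⟶ Z := fun o => Option.rec (motive := fun o => Yi o ⟶ Z) (𝟙 Z) (fun _ => h) o
  let Xi : Option PUnit.{u + 1} → AlgSp.Sp S := fun o => Option.rec X (fun _ => X') o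
  let pi : ∀ o, Xi o ⟶ Yi o := fun o =>
    Option.rec (motive := fun o => Xi o ⟶ Yi o) f (fun _ => snd) o
  let qi : ∀ o, Xi o ⟶ X := fun o =>
    Option.rec (motive := fun o => Xi o ⟶ X) (𝟙 X) (fun _ => fst) o
  have hYi : ∀ o, AlgSp.IsAlgSpace (Yi o) := fun o => by
    cases o with
    | none => exact hZ
    | some _ => exact hZ'
  have hXi : ∀ o, AlgSp.IsAlgSpace (Xi o) := fun o => by
    cases o with
    | none => exact hX
    | some _ => exact hX'
  have hcov : IsCover 𝒢 Yi gi := by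
    refine ⟨fun o => ?_, fun y => ⟨none, y, AlgSp.Points.map_id y⟩⟩
    cases o with
    | none => exact h𝒢.id_mem hZ
    | some _ => exact hh
  have hsq : ∀ o, IsPullback (qi o) (pi o) f (gi o) := fun o => by
    cases o with
    | none =>
      have : IsPullback (𝟙 X) f f (𝟙 Z) :=
        IsPullback.of_horiz_isIso ⟨by rw [Category.id_comp, Category.comp_id]⟩
      exact this
    | some _ => exact sq
  exact ((hP Yi gi hZ hYi hcov f hX Xi pi qi hXi hsq).1 hf) (some PUnit.unit)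

/-- `P` descends along a surjective morphism of the class. -/
theorem P_descend (hP : AlgSp.IsLocalOnBase (fun _ _ Y g => IsCover 𝒢 Y g) P)
    {X Z X' Z' : Sp S} (hX : IsAlgSpace X) (hZ : IsAlgSpace Z) (hX' : IsAlgSpace X')
    (hZ' : IsAlgSpace Z') {f : X ⟶ Z} {h : Z' ⟶ Z} {fst : X' ⟶ X} {snd : X' ⟶ Z'}
    (sq : IsPullback fst snd f h) (hh : 𝒢 h) (hs : Function.Surjective (Points.map h))
    (hsnd : P snd) : P f := by
  have hcov : IsCover 𝒢 (fun _ : PUnit.{u + 1} => Z') (fun _ => h) :=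
    ⟨fun _ => hh, fun y => ⟨PUnit.unit, hs y⟩⟩
  exact (hP (fun _ : PUnit.{u + 1} => Z') (fun _ => h) hZ (fun _ => hZ') hcov f hX
    (fun _ => X') (fun _ => snd) (fun _ => fst) (fun _ => hX') (fun _ => sq)).2 (fun _ => hsnd)

/-- pulling back `P` along a morphism of the class over `Y`. -/
theorem P_pull (h𝒢 : GoodClass 𝒢)
    (hP : AlgSp.IsLocalOnBase (fun _ _ Y g => IsCover 𝒢 Y g) P)
    {X Y W₁ X₁ W₃ X₃ : Sp S} (hX₁ : IsAlgSpace X₁) (hW₁ : IsAlgSpace W₁) (hX₃ : IsAlgSpace X₃)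
    (hW₃ : IsAlgSpace W₃) {f : X ⟶ Y} {j₁ : W₁ ⟶ Y} {j₁' : X₁ ⟶ X} {f₁ : X₁ ⟶ W₁}
    (sq₁ : IsPullback j₁' f₁ f j₁) (hPf₁ : P f₁) (k : W₃ ⟶ W₁) (hk : 𝒢 k) {j₃ : W₃ ⟶ Y}
    (hkj : k ≫ j₁ = j₃) {j₃' : X₃ ⟶ X} {f₃ : X₃ ⟶ W₃} (sq₃ : IsPullback j₃' f₃ f j₃) : P f₃ := by
  have w : j₃' ≫ f = (f₃ ≫ k) ≫ j₁ := by rw [sq₃.w, Category.assoc, hkj]
  have t : IsPullback (sq₁.lift j₃' (f₃ ≫ k) w ≫ j₁') f₃ f (k ≫ j₁) := by
    rw [sq₁.lift_fst, hkj]; exact sq₃
  have sq : IsPullback (sq₁.lift j₃' (f₃ ≫ k) w) f₃ f₁ k :=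
    IsPullback.of_right t (sq₁.lift_snd _ _ _) sq₁
  exact P_baseChange h𝒢 hP hX₁ hW₁ hX₃ hW₃ sq hk hPf₁

/-- descending `P` along a surjective morphism of the class over `Y`. -/
theorem P_push (hP : AlgSp.IsLocalOnBase (fun _ _ Y g => IsCover 𝒢 Y g) P)
    {X Y W₁ X₁ W₃ X₃ : Sp S} (hX₁ : IsAlgSpace X₁) (hW₁ : IsAlgSpace W₁) (hX₃ : IsAlgSpace X₃)
    (hW₃ : IsAlgSpace W₃) {f : X ⟶ Y} {j₁ : W₁ ⟶ Y} {j₁' : X₁ ⟶ X} {f₁ : X₁ ⟶ W₁}
    (sq₁ : IsPullback j₁' f₁ f j₁) (k : W₃ ⟶ W₁) (hk : 𝒢 k)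
    (hks : Function.Surjective (Points.map k)) {j₃ : W₃ ⟶ Y}
    (hkj : k ≫ j₁ = j₃) {j₃' : X₃ ⟶ X} {f₃ : X₃ ⟶ W₃} (sq₃ : IsPullback j₃' f₃ f j₃)
    (hPf₃ : P f₃) : P f₁ := by
  have w : j₃' ≫ f = (f₃ ≫ k) ≫ j₁ := by rw [sq₃.w, Category.assoc, hkj]
  have t : IsPullback (sq₁.lift j₃' (f₃ ≫ k) w ≫ j₁') f₃ f (k ≫ j₁) := by
    rw [sq₁.lift_fst, hkj]; exact sq₃
  have sq : IsPullback (sq₁.lift j₃' (f₃ ≫ k) w) f₃ f₁ k :=
    IsPullback.of_right t (sq₁.lift_snd _ _ _) sq₁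
  exact P_descend hP hX₁ hW₁ hX₃ hW₃ sq hk hks hPf₃

/-- `f` has `P` over the open subset `V` of `|Y|`. -/
def HasOver (P : MorphismProperty (Sp S)) {X Y : Sp S} (f : X ⟶ Y) (V : Set (Points Y)) : Prop :=
  ∀ ⦃W₁ X₁ : Sp S⦄ (j₁ : W₁ ⟶ Y) (j₁' : X₁ ⟶ X) (f₁ : X₁ ⟶ W₁), IsAlgSpace W₁ → IsAlgSpace X₁ →
    RepWith @IsOpenImmersion j₁ → Set.range (Points.map j₁) = V → IsPullback j₁' f₁ f j₁ → P f₁

theorem hasOver_sSup (h𝒢 : GoodClass 𝒢)
    (hP : AlgSp.IsLocalOnBase (fun _ _ Y g => IsCover 𝒢 Y g) P)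
    {X Y : Sp S} (hX : IsAlgSpace X) (hY : IsAlgSpace Y) (f : X ⟶ Y)
    (𝒱 : Set (TopologicalSpace.Opens (Points Y))) (h𝒱 : ∀ V ∈ 𝒱, HasOver P f (V : Set (Points Y))) :
    HasOver P f ((sSup 𝒱 : TopologicalSpace.Opens (Points Y)) : Set (Points Y)) := by
  intro W₀ X₀ j₀ j₀' f₀ hW₀ hX₀ hj₀ hrange sq₀
  obtain ⟨U, a, ha, has⟩ := hY.atlas
  let ι : Type u := {u : U.left // Points.ofPt a u ∈ (sSup 𝒱 : TopologicalSpace.Opens (Points Y))}
  have hex : ∀ u : ι, ∃ V ∈ 𝒱, Points.ofPt a u.1 ∈ V := fun u => by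
    have := u.2
    rw [TopologicalSpace.Opens.mem_sSup] at this
    exact this
  choose V hV𝒱 huV using hex
  have hYi : ∀ u, IsAlgSpace (openSp Y (V u : Set (Points Y))) := fun u =>
    isAlgSpace_openSp _ (V u).2 hY
  have hjV : ∀ u, RepWith @IsOpenImmersion (openSpι Y (V u : Set (Points Y))) := fun u =>
    repWith_isOpenImmersion_openSpι _ (V u).2
  have hsub : ∀ u, Set.range (Points.map (openSpι Y (V u : Set (Points Y)))) ⊆
      Set.range (Points.map j₀) := fun u => by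
    rw [range_map_openSpι, hrange]
    intro x hx
    exact TopologicalSpace.Opens.mem_sSup.2 ⟨V u, hV𝒱 u, hx⟩
  choose k hk using fun u => exists_factor_of_range_subset j₀ hj₀ _ (hsub u)
  have : Mono j₀ := mono_of_repWith (fun g (_ : IsOpenImmersion g) => inferInstance) hj₀
  have hk𝒢 : ∀ u, 𝒢 (k u) := fun u =>
    h𝒢.of_openImm _ (hYi u) hW₀ (repWith_of_comp_mono (k u) j₀ (by rw [hk]; exact hjV u))
  have hXi : ∀ u, IsAlgSpace (pullback f (openSpι Y (V u : Set (Points Y)))) := fun u =>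
    isAlgSpace_of_isPullback (IsPullback.of_hasPullback f _) hY.diag hX (hYi u)
  have w : ∀ u, pullback.fst f (openSpι Y (V u : Set (Points Y))) ≫ f =
      (pullback.snd f (openSpι Y (V u : Set (Points Y))) ≫ k u) ≫ j₀ := fun u => by
    rw [pullback.condition, Category.assoc, hk]
  have hsq : ∀ u, IsPullback (sq₀.lift _ _ (w u)) (pullback.snd f (openSpι Y (V u : Set (Points Y))))
      f₀ (k u) := fun u => by
    refine IsPullback.of_right ?_ (sq₀.lift_snd _ _ _) sq₀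
    rw [sq₀.lift_fst, hk]
    exact IsPullback.of_hasPullback f _
  have hcov : IsCover 𝒢 (fun u : ι => openSp Y (V u : Set (Points Y))) k := by
    refine ⟨hk𝒢, fun x => ?_⟩
    have hx : Points.map j₀ x ∈ (sSup 𝒱 : TopologicalSpace.Opens (Points Y)) := by
      have : Points.map j₀ x ∈ Set.range (Points.map j₀) := ⟨x, rfl⟩
      rw [hrange] at this; exact this
    obtain ⟨u₀, hu₀⟩ := surjective_ofPt_of_repWith_surjective a has (Points.map j₀ x)
    let u : ι := ⟨u₀, by rw [hu₀]; exact hx⟩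
    have h1 : Points.map j₀ x ∈ Set.range (Points.map (openSpι Y (V u : Set (Points Y)))) := by
      rw [range_map_openSpι, ← hu₀]; exact huV u
    obtain ⟨y, hy⟩ := h1
    have sqm := isPullback_of_mono_factor j₀ (k u) _ (hk u)
    obtain ⟨w', hw', -⟩ := exists_point_of_isPullback sqm x y hy.symm
    exact ⟨u, w', hw'⟩
  exact (hP _ k hW₀ hYi hcov f₀ hX₀ _ _ _ hXi hsq).2 (fun u =>
    h𝒱 (V u) (hV𝒱 u) _ _ _ (hYi u) (hXi u) (hjV u) (range_map_openSpι _)
      (IsPullback.of_hasPullback f _))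

/-- part (1): if the base change of `f` along `g` of the class has `P`, then `f` has `P` over the
image of `g`. -/
theorem hasOver_range (h𝒢 : GoodClass 𝒢)
    (hP : AlgSp.IsLocalOnBase (fun _ _ Y g => IsCover 𝒢 Y g) P)
    {X Y X' Y' : Sp S} (hY : IsAlgSpace Y) (hX' : IsAlgSpace X')
    (hY' : IsAlgSpace Y') (f : X ⟶ Y) (g : Y' ⟶ Y) (g' : X' ⟶ X) (f' : X' ⟶ Y') (hg : 𝒢 g)
    (sq : IsPullback g' f' f g) (hPf' : P f') : HasOver P f (Set.range (Points.map g)) := by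
  intro W₁ X₁ j₁ j₁' f₁ hW₁ hX₁ hj₁ hrange sq₁
  obtain ⟨g₁, hg₁⟩ := exists_factor_of_range_subset j₁ hj₁ g (by rw [hrange])
  have : Mono j₁ := mono_of_repWith (fun g (_ : IsOpenImmersion g) => inferInstance) hj₁
  have sqm := isPullback_of_mono_factor j₁ g₁ g hg₁
  have hg₁𝒢 : 𝒢 g₁ := h𝒢.baseChange g j₁ (𝟙 Y') g₁ sqm.flip hY' hY hY' hW₁ hg
  have hs : Function.Surjective (Points.map g₁) := by
    intro x
    have h1 : Points.map j₁ x ∈ Set.range (Points.map g) := by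
      rw [← hrange]; exact ⟨x, rfl⟩
    obtain ⟨y, hy⟩ := h1
    obtain ⟨w', hw', -⟩ := exists_point_of_isPullback sqm x y hy.symm
    exact ⟨w', hw'⟩
  exact P_push hP hX₁ hW₁ hX' hY' sq₁ g₁ hg₁𝒢 hs hg₁ sq hPf'

/-- part (2): compatibility of the largest open with base change along morphisms of the class. -/
theorem largest_preimage (h𝒢 : GoodClass 𝒢)
    (hP : AlgSp.IsLocalOnBase (fun _ _ Y g => IsCover 𝒢 Y g) P)
    {X Y X' Y' : Sp S} (hX : IsAlgSpace X) (hY : IsAlgSpace Y) (hX' : IsAlgSpace X')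
    (hY' : IsAlgSpace Y') (f : X ⟶ Y) (g : Y' ⟶ Y) (g' : X' ⟶ X) (f' : X' ⟶ Y') (hg : 𝒢 g)
    (sq : IsPullback g' f' f g)
    (W : TopologicalSpace.Opens (Points Y)) (hW : HasOver P f (W : Set (Points Y)))
    (hWmax : ∀ V : TopologicalSpace.Opens (Points Y), HasOver P f (V : Set (Points Y)) → V ≤ W)
    (W' : TopologicalSpace.Opens (Points Y')) (hW' : HasOver P f' (W' : Set (Points Y')))
    (hW'max : ∀ V : TopologicalSpace.Opens (Points Y'), HasOver P f' (V : Set (Points Y')) → V ≤ W') :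
    (W' : Set (Points Y')) = Points.map g ⁻¹' (W : Set (Points Y)) := by
  apply Set.Subset.antisymm
  · -- `W' ⊆ g⁻¹ W`
    intro x hx
    have hY₂ : IsAlgSpace (openSp Y' (W' : Set (Points Y'))) := isAlgSpace_openSp _ W'.2 hY'
    have hj₂ : RepWith @IsOpenImmersion (openSpι Y' (W' : Set (Points Y'))) :=
      repWith_isOpenImmersion_openSpι _ W'.2
    have hX₂ : IsAlgSpace (pullback f' (openSpι Y' (W' : Set (Points Y')))) :=
      isAlgSpace_of_isPullback (IsPullback.of_hasPullback f' _) hY'.diag hX' hY₂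
    have hP₂ : P (pullback.snd f' (openSpι Y' (W' : Set (Points Y')))) :=
      hW' _ _ _ hY₂ hX₂ hj₂ (range_map_openSpι _) (IsPullback.of_hasPullback f' _)
    have hg₂ : 𝒢 (openSpι Y' (W' : Set (Points Y')) ≫ g) :=
      h𝒢.comp _ _ hY₂ hY' hY (h𝒢.of_openImm _ hY₂ hY' hj₂) hg
    have sq₂ : IsPullback (pullback.fst f' (openSpι Y' (W' : Set (Points Y'))) ≫ g')
        (pullback.snd f' (openSpι Y' (W' : Set (Points Y')))) f
        (openSpι Y' (W' : Set (Points Y')) ≫ g) :=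
      (IsPullback.of_hasPullback f' _).paste_horiz sq
    have hover := hasOver_range h𝒢 hP hY hX₂ hY₂ f _ _ _ hg₂ sq₂ hP₂
    have hopen : IsOpen (Set.range (Points.map (openSpι Y' (W' : Set (Points Y')) ≫ g))) := by
      rw [← Set.image_univ]
      exact h𝒢.isOpenMap _ hY₂ hY hg₂ _ isOpen_univ
    have hle := hWmax ⟨_, hopen⟩ hover
    have hx' : x ∈ Set.range (Points.map (openSpι Y' (W' : Set (Points Y')))) := by
      rw [range_map_openSpι]; exact hx
    obtain ⟨y, rfl⟩ := hx'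
    refine hle ?_
    exact ⟨y, Points.map_comp _ _ _⟩
  · -- `g⁻¹ W ⊆ W'`
    have hopen : IsOpen (Points.map g ⁻¹' (W : Set (Points Y))) :=
      W.2.preimage (Points.continuous_map g)
    refine hW'max ⟨_, hopen⟩ ?_
    intro W₃ X₃ j₃ j₃' f₃ hW₃ hX₃ hj₃ hrange sq₃
    -- the open subspace `W₀` of `Y` and the restriction `f₀`
    have hW₀ : IsAlgSpace (openSp Y (W : Set (Points Y))) := isAlgSpace_openSp _ W.2 hY
    have hj₀ : RepWith @IsOpenImmersion (openSpι Y (W : Set (Points Y))) :=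
      repWith_isOpenImmersion_openSpι _ W.2
    have hX₀ : IsAlgSpace (pullback f (openSpι Y (W : Set (Points Y)))) :=
      isAlgSpace_of_isPullback (IsPullback.of_hasPullback f _) hY.diag hX hW₀
    have hP₀ : P (pullback.snd f (openSpι Y (W : Set (Points Y)))) :=
      hW _ _ _ hW₀ hX₀ hj₀ (range_map_openSpι _) (IsPullback.of_hasPullback f _)
    -- `Y'' = Y' ×_Y W₀`
    have sqY := IsPullback.of_hasPullback g (openSpι Y (W : Set (Points Y)))
    have hY'' : IsAlgSpace (pullback g (openSpι Y (W : Set (Points Y)))) :=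
      isAlgSpace_of_isPullback sqY hY.diag hY' hW₀
    have hpr₁ : RepWith @IsOpenImmersion (pullback.fst g (openSpι Y (W : Set (Points Y)))) :=
      MorphismProperty.of_isPullback sqY.flip hj₀
    have hpr₂ : 𝒢 (pullback.snd g (openSpι Y (W : Set (Points Y)))) :=
      h𝒢.baseChange g _ _ _ sqY hY' hY hY'' hW₀ hg
    have hsub : Set.range (Points.map j₃) ⊆
        Set.range (Points.map (pullback.fst g (openSpι Y (W : Set (Points Y))))) := by
      rw [hrange]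
      intro x hx
      have h1 : Points.map g x ∈ Set.range (Points.map (openSpι Y (W : Set (Points Y)))) := by
        rw [range_map_openSpι]; exact hx
      obtain ⟨y, hy⟩ := h1
      obtain ⟨w', hw', -⟩ := exists_point_of_isPullback sqY x y hy.symm
      exact ⟨w', hw'⟩
    obtain ⟨e, he⟩ := exists_factor_of_range_subset _ hpr₁ j₃ hsub
    have : Mono (pullback.fst g (openSpι Y (W : Set (Points Y)))) :=
      mono_of_repWith (fun g (_ : IsOpenImmersion g) => inferInstance) hpr₁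
    have he𝒢 : 𝒢 e := h𝒢.of_openImm _ hW₃ hY''
      (repWith_of_comp_mono e _ (by rw [he]; exact hj₃))
    have hk𝒢 : 𝒢 (e ≫ pullback.snd g (openSpι Y (W : Set (Points Y)))) :=
      h𝒢.comp _ _ hW₃ hY'' hW₀ he𝒢 hpr₂
    have hkj : (e ≫ pullback.snd g (openSpι Y (W : Set (Points Y)))) ≫
        openSpι Y (W : Set (Points Y)) = j₃ ≫ g := by
      rw [Category.assoc, ← pullback.condition, ← Category.assoc, he]
    exact P_pull h𝒢 hP hX₀ hW₀ hX₃ hW₃ (IsPullback.of_hasPullback f _) hP₀ _ hk𝒢 hkj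
      (sq₃.paste_horiz sq)

end

/-- a morphism of algebraic spaces that is open on every chart diagram is open on points. -/
theorem isOpenMap_map_of_charts' {X Y : Sp S} (hX : IsAlgSpace X) (hY : IsAlgSpace Y) (g : X ⟶ Y)
    (H : ∀ ⦃U V : Over S⦄ (a : (yon S).obj U ⟶ X) (b : (yon S).obj V ⟶ Y) (h : U ⟶ V),
      RepWith @Etale a → RepWith @Etale b → a ≫ g = (yon S).map h ≫ b → IsOpenMap h.left) :
    IsOpenMap (Points.map g) := by
  obtain ⟨U₀, a₀, ha₀, ha₀s⟩ := hX.atlas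
  obtain ⟨V, b, hb, hbs⟩ := hY.atlas
  obtain ⟨U, j, h', sq₀, ha, has⟩ := exists_chart_diagram g a₀ ha₀ b hb
  have has := has ha₀s hbs
  have comm : ((yon S).map j ≫ a₀) ≫ g = (yon S).map h' ≫ b := by
    rw [Category.assoc]; exact sq₀.w.symm
  have hopen := H _ b h' ha hb comm
  intro O hO
  have h1 : Points.map g '' O =
      Points.ofPt b '' (h'.left '' (Points.ofPt ((yon S).map j ≫ a₀) ⁻¹' O)) := by
    ext y
    constructor
    · rintro ⟨x, hx, rfl⟩
      obtain ⟨u, rfl⟩ := surjective_ofPt_of_repWith_surjective _ has x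
      refine ⟨h'.left u, ⟨u, hx, rfl⟩, ?_⟩
      rw [Points.map_ofPt, comm, ofPt_yon_map_comp]
    · rintro ⟨v, ⟨u, hu, rfl⟩, rfl⟩
      refine ⟨Points.ofPt ((yon S).map j ≫ a₀) u, hu, ?_⟩
      rw [Points.map_ofPt, comm, ofPt_yon_map_comp]
  rw [h1]
  exact isOpenMap_ofPt_of_etale b hb _ (hopen _ (hO.preimage (Points.continuous_ofPt _)))

theorem repWith_mono' {P Q : MorphismProperty Scheme.{u}} (hle : P ≤ Q) {F G : Sp S} {f : F ⟶ G}
    (hf : RepWith P f) : RepWith Q f :=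
  ⟨hf.1, fun _ _ g fst snd sq => hle _ (hf.2 g fst snd sq)⟩

theorem goodClass_locP (Q : MorphismProperty Scheme.{u}) (hQ : EtLocalST Q) [Q.IsMultiplicative]
    [Q.IsStableUnderBaseChange] (hle : @IsOpenImmersion ≤ Q)
    (hopen : ∀ {A B : Scheme.{u}} (h : A ⟶ B), Q h → IsOpenMap h) :
    GoodClass (LocP Q (S := S)) where
  of_openImm _ _ j _ hB hj := locP_of_repWith hQ j hB.atlas (repWith_mono' hle hj)
  comp _ _ _ f g _ hB _ hf hg := locP_comp hQ f g hB.atlas hf hg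
  baseChange _ _ _ _ f g fst snd sq hA hB _ _ hf :=
    locP_of_isPullback hQ sq (repAll_of_isAlgSpace hB) hA.atlas hB.atlas hf
  isOpenMap _ _ f hA hB hf := isOpenMap_map_of_charts' hA hB f
    (fun _ _ a b h ha hb comm => hopen _ (hf a b h ha hb comm))

theorem isOpenMap_of_flat_lofp {A B : Scheme.{u}} (h : A ⟶ B) (h1 : Flat h)
    (h2 : LocallyOfFinitePresentation h) : IsOpenMap h := h.isOpenMap

theorem goodClass_smooth : GoodClass (LocP @Smooth (S := S)) :=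
  goodClass_locP @Smooth AlgSpLocPSmooth.etLocalST_smooth
    (fun _ _ f (hf : IsOpenImmersion f) => (inferInstance : Smooth f))
    (fun h (hh : Smooth h) => h.isOpenMap)

theorem goodClass_etale_locP : GoodClass (LocP @Etale (S := S)) :=
  goodClass_locP @Etale AlgSpLocPSmooth.etLocalST_etale
    (fun _ _ f (hf : IsOpenImmersion f) => (inferInstance : Etale f))
    (fun h (hh : Etale h) => h.isOpenMap)

theorem goodClass_isEtaleMor : GoodClass (IsEtaleMor (S := S)) where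
  of_openImm _ _ j hA hB hj := (isEtaleMor_iff_locP hB j).2 (goodClass_etale_locP.of_openImm j hA hB hj)
  comp _ _ _ f g hA hB hC hf hg := (isEtaleMor_iff_locP hC _).2
    (goodClass_etale_locP.comp f g hA hB hC ((isEtaleMor_iff_locP hB f).1 hf)
      ((isEtaleMor_iff_locP hC g).1 hg))
  baseChange _ _ _ _ f g fst snd sq hA hB hA' hB' hf := (isEtaleMor_iff_locP hB' snd).2
    (goodClass_etale_locP.baseChange f g fst snd sq hA hB hA' hB' ((isEtaleMor_iff_locP hB f).1 hf))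
  isOpenMap _ _ f hA hB hf := goodClass_etale_locP.isOpenMap f hA hB ((isEtaleMor_iff_locP hB f).1 hf)

theorem goodClass_fppf :
    GoodClass (fun _ _ f => LocP @Flat f ∧ LocP @LocallyOfFinitePresentation f :
      MorphismProperty (Sp S)) where
  of_openImm _ _ j hA hB hj :=
    ⟨locP_of_repWith AlgSpLocPFlat.etLocalST_flat j hB.atlas
      (repWith_mono' (fun _ _ f (hf : IsOpenImmersion f) => (inferInstance : Flat f)) hj),
     locP_of_repWith AlgSpLocPLofp.etLocalST_lofp j hB.atlas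
      (repWith_mono' (fun _ _ f (hf : IsOpenImmersion f) =>
        (inferInstance : LocallyOfFinitePresentation f)) hj)⟩
  comp _ _ _ f g _ hB _ hf hg :=
    ⟨locP_comp AlgSpLocPFlat.etLocalST_flat f g hB.atlas hf.1 hg.1,
     locP_comp AlgSpLocPLofp.etLocalST_lofp f g hB.atlas hf.2 hg.2⟩
  baseChange _ _ _ _ f g fst snd sq hA hB _ _ hf :=
    ⟨locP_of_isPullback AlgSpLocPFlat.etLocalST_flat sq (repAll_of_isAlgSpace hB) hA.atlas
      hB.atlas hf.1,
     locP_of_isPullback AlgSpLocPLofp.etLocalST_lofp sq (repAll_of_isAlgSpace hB) hA.atlas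
      hB.atlas hf.2⟩
  isOpenMap _ _ f hA hB hf := isOpenMap_map_of_charts' hA hB f
    (fun _ _ a b h ha hb comm =>
      isOpenMap_of_flat_lofp _ (hf.1 a b h ha hb comm) (hf.2 a b h ha hb comm))


/-- `f` has `P` over `V`, for morphisms of the category of algebraic spaces. -/
def HasOverS (P : MorphismProperty (Sp S)) {X Y : AlgSp.Space S} (f : X ⟶ Y)
    (V : Set (Points Y.obj)) : Prop :=
  ∀ (W₁ X₁ : AlgSp.Space S) (j₁ : W₁ ⟶ Y) (j₁' : X₁ ⟶ X) (f₁ : X₁ ⟶ W₁),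
    AlgSp.RepWith @IsOpenImmersion j₁.hom → Set.range (AlgSp.Points.map j₁.hom) = V →
    IsPullback j₁'.hom f₁.hom f.hom j₁.hom → P f₁.hom

theorem hasOverS_iff {P : MorphismProperty (Sp S)} {X Y : AlgSp.Space S} (f : X ⟶ Y)
    (V : Set (Points Y.obj)) : HasOverS P f V ↔ HasOver P f.hom V :=
  ⟨fun h W₁ X₁ j₁ j₁' f₁ hW₁ hX₁ hj hr sq => h ⟨W₁, hW₁⟩ ⟨X₁, hX₁⟩ (ObjectProperty.homMk j₁)
    (ObjectProperty.homMk j₁') (ObjectProperty.homMk f₁) hj hr sq,
   fun h W₁ X₁ j₁ j₁' f₁ hj hr sq => h j₁.hom j₁'.hom f₁.hom W₁.property X₁.property hj hr sq⟩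

/-- **The largest open over which `f` has `P`**, and its compatibility with base change along
morphisms of the class. -/
theorem largestOpen {𝒢 P : MorphismProperty (Sp S)} (h𝒢 : GoodClass 𝒢)
    (hP : AlgSp.IsLocalOnBase (fun _ _ Y g => IsCover 𝒢 Y g) P) {X Y : AlgSp.Space S} (f : X ⟶ Y) :
    ∃ W : TopologicalSpace.Opens (AlgSp.Points Y.obj),
      HasOverS P f (W : Set (Points Y.obj)) ∧
      (∀ V : TopologicalSpace.Opens (AlgSp.Points Y.obj),
        HasOverS P f (V : Set (Points Y.obj)) → V ≤ W) ∧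
      (∀ (Y' X' : AlgSp.Space S) (g : Y' ⟶ Y) (g' : X' ⟶ X) (f' : X' ⟶ Y'),
        𝒢 g.hom → IsPullback g'.hom f'.hom f.hom g.hom → P f'.hom →
        Set.range (AlgSp.Points.map g.hom) ⊆ (W : Set (AlgSp.Points Y.obj))) ∧
      (∀ (Y' X' : AlgSp.Space S) (g : Y' ⟶ Y) (g' : X' ⟶ X) (f' : X' ⟶ Y'),
        𝒢 g.hom → IsPullback g'.hom f'.hom f.hom g.hom →
        ∀ W' : TopologicalSpace.Opens (AlgSp.Points Y'.obj),
          HasOverS P f' (W' : Set (Points Y'.obj)) →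
          (∀ V' : TopologicalSpace.Opens (AlgSp.Points Y'.obj),
            HasOverS P f' (V' : Set (Points Y'.obj)) → V' ≤ W') →
          (W' : Set (AlgSp.Points Y'.obj)) =
            AlgSp.Points.map g.hom ⁻¹' (W : Set (AlgSp.Points Y.obj))) := by
  let 𝒱 : Set (TopologicalSpace.Opens (AlgSp.Points Y.obj)) :=
    {V | HasOver P f.hom (V : Set (Points Y.obj))}
  have hA : HasOver P f.hom ((sSup 𝒱 : TopologicalSpace.Opens (Points Y.obj)) : Set (Points Y.obj)) :=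
    hasOver_sSup h𝒢 hP X.property Y.property f.hom 𝒱 (fun V hV => hV)
  have hB : ∀ V : TopologicalSpace.Opens (AlgSp.Points Y.obj),
      HasOver P f.hom (V : Set (Points Y.obj)) → V ≤ sSup 𝒱 := fun V hV => le_sSup hV
  refine ⟨sSup 𝒱, (hasOverS_iff f _).2 hA, fun V hV => hB V ((hasOverS_iff f _).1 hV), ?_, ?_⟩
  · intro Y' X' g g' f' hg sq hPf'
    have hover := hasOver_range h𝒢 hP Y.property X'.property Y'.property f.hom g.hom g'.hom f'.hom
      hg sq hPf'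
    have hopen : IsOpen (Set.range (Points.map g.hom)) := by
      rw [← Set.image_univ]
      exact h𝒢.isOpenMap _ Y'.property Y.property hg _ isOpen_univ
    exact hB ⟨_, hopen⟩ hover
  · intro Y' X' g g' f' hg sq W' hW' hW'max
    exact largest_preimage h𝒢 hP X.property Y.property X'.property Y'.property f.hom g.hom g'.hom
      f'.hom hg sq (sSup 𝒱) hA hB W' ((hasOverS_iff f' _).1 hW')
      (fun V hV => hW'max V ((hasOverS_iff f' _).2 hV))

end Groth.Agent.Lib.Helper78.AlgSpLargestOpen
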