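import Groth.Agent.Lib.Helper78.AlgSpZar
import Groth.Agent.Lib.Helper78.AlgSpInfSq

/-!
# Gluing infinitesimal lifts (helper78)

For `f : F ⟶ G`, `j : T ⟶ T'`, `a : T ⟶ F`, `b : T' ⟶ G` in `Sp S` with `a ≫ f = j ≫ b`, a *lift on
the test object* `w : h_W ⟶ T'` is `l : h_W ⟶ F` over `w ≫ b` restricting to `a` on `T ×_{T'} h_W`.
Lifts on test objects glue along fppf covers when they are unique, and a compatible choice of
unique lifts on all test objects is a global lift `T' ⟶ F`.
-/

set_option autoImplicit false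
universe u
open CategoryTheory CategoryTheory.Limits AlgebraicGeometry Opposite
open AlgSp

namespace Groth.Agent.Lib.Helper78.AlgSpLiftGlue

open Groth.Agent.Lib.Helper78.AlgSpZar Groth.Agent.Lib.Helper40.AlgSpBasic

variable {S : Scheme.{u}} {F G T T' : Sp S} (f : F ⟶ G) (j : T ⟶ T') (a : T ⟶ F) (b : T' ⟶ G)

/-- `l` is a lift over the test object `w : h_W ⟶ T'`. -/
def IsLiftOn {W : Over S} (w : (yon S).obj W ⟶ T') (l : (yon S).obj W ⟶ F) : Prop :=
  l ≫ f = w ≫ b ∧ ∀ (Q : Over S) (q₀ : (yon S).obj Q ⟶ T) (q : Q ⟶ W),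
    q₀ ≫ j = (yon S).map q ≫ w → (yon S).map q ≫ l = q₀ ≫ a

variable {f j a b}

theorem IsLiftOn.restrict {W W' : Over S} {w : (yon S).obj W ⟶ T'} {l : (yon S).obj W ⟶ F}
    (h : IsLiftOn f j a b w l) (c : W' ⟶ W) :
    IsLiftOn f j a b ((yon S).map c ≫ w) ((yon S).map c ≫ l) := by
  refine ⟨by rw [Category.assoc, h.1, Category.assoc], fun Q q₀ q hq => ?_⟩
  rw [← Category.assoc, ← Functor.map_comp]
  refine h.2 Q q₀ (q ≫ c) ?_
  rw [hq, Functor.map_comp, Category.assoc]

theorem isLiftOn_of_lift (L : T' ⟶ F) (h1 : j ≫ L = a) (h2 : L ≫ f = b) {W : Over S}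
    (w : (yon S).obj W ⟶ T') : IsLiftOn f j a b w (w ≫ L) := by
  refine ⟨by rw [Category.assoc, h2], fun Q q₀ q hq => ?_⟩
  rw [← Category.assoc, ← hq, Category.assoc, h1]

theorem isLiftOn_iff_of_isPullback {W W₀ : Over S} {w : (yon S).obj W ⟶ T'}
    {fst : (yon S).obj W₀ ⟶ T} {k : W₀ ⟶ W} (sq : IsPullback fst ((yon S).map k) j w)
    (l : (yon S).obj W ⟶ F) :
    IsLiftOn f j a b w l ↔ l ≫ f = w ≫ b ∧ (yon S).map k ≫ l = fst ≫ a := by
  constructor
  · intro h
    exact ⟨h.1, h.2 W₀ fst k sq.w⟩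
  · rintro ⟨h1, h2⟩
    refine ⟨h1, fun Q q₀ q hq => ?_⟩
    have e1 : sq.lift q₀ ((yon S).map q) hq ≫ fst = q₀ := sq.lift_fst _ _ _
    have e2 : sq.lift q₀ ((yon S).map q) hq ≫ (yon S).map k = (yon S).map q := sq.lift_snd _ _ _
    rw [← e2, Category.assoc, h2, ← Category.assoc, e1]

/-- **Uniqueness is local**: if lifts are unique on the members of a cover, they are unique. -/
theorem isLiftOn_unique_of_cover {W : Over S} (w : (yon S).obj W ⟶ T') {ι : Type*}
    (V : ι → Over S) (g : ∀ i, V i ⟶ W)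
    (hfl : ∀ i, Flat (g i).left) (hfp : ∀ i, LocallyOfFinitePresentation (g i).left)
    (hs : ∀ x : W.left, ∃ i, x ∈ Set.range (g i).left)
    (huniq : ∀ i (l l' : (yon S).obj (V i) ⟶ F), IsLiftOn f j a b ((yon S).map (g i) ≫ w) l →
      IsLiftOn f j a b ((yon S).map (g i) ≫ w) l' → l = l')
    (l l' : (yon S).obj W ⟶ F) (hl : IsLiftOn f j a b w l) (hl' : IsLiftOn f j a b w l') :
    l = l' :=
  hom_ext_of_cover l l' V g hfl hfp hs fun i =>
    huniq i _ _ (hl.restrict (g i)) (hl'.restrict (g i))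

/-- **Existence is local**, given uniqueness on a restriction-stable class `PP` of test objects
containing the members of the cover. -/
theorem exists_isLiftOn_of_cover
    (PP : ∀ ⦃W : Over S⦄, ((yon S).obj W ⟶ T') → Prop)
    (hPP : ∀ ⦃W W' : Over S⦄ (w : (yon S).obj W ⟶ T') (c : W' ⟶ W), PP w → PP ((yon S).map c ≫ w))
    (huniq : ∀ ⦃W : Over S⦄ (w : (yon S).obj W ⟶ T'), PP w → ∀ l l' : (yon S).obj W ⟶ F,
      IsLiftOn f j a b w l → IsLiftOn f j a b w l' → l = l')
    {W : Over S} (w : (yon S).obj W ⟶ T') {ι : Type*}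
    (V : ι → Over S) (g : ∀ i, V i ⟶ W)
    (hfl : ∀ i, Flat (g i).left) (hfp : ∀ i, LocallyOfFinitePresentation (g i).left)
    (hs : ∀ x : W.left, ∃ i, x ∈ Set.range (g i).left)
    (hV : ∀ i, PP ((yon S).map (g i) ≫ w))
    (hex : ∀ i, ∃ l : (yon S).obj (V i) ⟶ F, IsLiftOn f j a b ((yon S).map (g i) ≫ w) l) :
    ∃ l : (yon S).obj W ⟶ F, IsLiftOn f j a b w l := by
  choose x hx using hex
  obtain ⟨t, ht⟩ := exists_glue V g hfl hfp hs x (by
    intro i i' Z gi gj hij
    have h1 := (hx i).restrict gi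
    have h2 := (hx i').restrict gj
    rw [← Category.assoc, ← Functor.map_comp] at h1 h2
    rw [← hij] at h2
    refine huniq _ ?_ _ _ h1 h2
    rw [Functor.map_comp, Category.assoc]
    exact hPP _ gi (hV i))
  refine ⟨t, ?_, fun Q q₀ q hq => ?_⟩
  · refine hom_ext_of_cover _ _ V g hfl hfp hs fun i => ?_
    rw [← Category.assoc, ht i, (hx i).1, Category.assoc]
  · -- cover `Q` by the pullbacks of the `V i`
    refine hom_ext_of_cover _ _ (fun i => pullback q (g i)) (fun i => pullback.fst q (g i))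
      (fun i => ?_) (fun i => ?_) (fun y => ?_) (fun i => ?_)
    · have sq := (IsPullback.of_hasPullback q (g i)).map (Over.forget S)
      exact MorphismProperty.of_isPullback (P := @Flat) sq.flip (hfl i)
    · have sq := (IsPullback.of_hasPullback q (g i)).map (Over.forget S)
      exact MorphismProperty.of_isPullback (P := @LocallyOfFinitePresentation) sq.flip (hfp i)
    · obtain ⟨i, v, hv⟩ := hs (q.left y)
      have sq := (IsPullback.of_hasPullback q (g i)).map (Over.forget S)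
      obtain ⟨z, hz1, -⟩ := Scheme.exists_preimage_of_isPullback sq y v hv.symm
      exact ⟨i, z, hz1⟩
    · rw [← Category.assoc, ← Functor.map_comp, pullback.condition, Functor.map_comp,
        Category.assoc, ht i]
      refine (hx i).2 _ ((yon S).map (pullback.fst q (g i)) ≫ q₀) (pullback.snd q (g i)) ?_
      rw [Category.assoc, hq, ← Category.assoc, ← Functor.map_comp, pullback.condition,
        Functor.map_comp, Category.assoc]

end Groth.Agent.Lib.Helper78.AlgSpLiftGlue
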