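import Groth.Agent.Lib.Helper78.AlgSpLiftGlue
import Groth.Agent.Lib.Helper61.ThickBC
import Groth.Agent.Lib.Helper51.AlgSpPoints
import Groth.Agent.Lib.Helper52.Points

/-!
# Unique infinitesimal lifts along first order thickenings of algebraic spaces (helper78)
-/

set_option autoImplicit false
universe u
open CategoryTheory CategoryTheory.Limits AlgebraicGeometry Opposite
open AlgSp

namespace Groth.Agent.Lib.Helper78.AlgSpLiftGlue

open Groth.Agent.Lib.Helper78.AlgSpZar Groth.Agent.Lib.Helper40.AlgSpBasic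
open Groth.Agent.Lib.Helper78.AlgSpInfSq

variable {S : Scheme.{u}} {F G T T' : Sp S} {f : F ⟶ G} {j : T ⟶ T'} {a : T ⟶ F} {b : T' ⟶ G}

/-- The base change of `j` to the test object `w` is a square-zero closed immersion of schemes. -/
def IsSqZeroOn (j : T ⟶ T') ⦃W : Over S⦄ (w : (yon S).obj W ⟶ T') : Prop :=
  ∃ (W₀ : Over S) (fst : (yon S).obj W₀ ⟶ T) (k : W₀ ⟶ W), IsPullback fst ((yon S).map k) j w ∧
    IsClosedImmersion k.left ∧ k.left.ker * k.left.ker = ⊥

theorem IsSqZeroOn.restrict ⦃W W' : Over S⦄ (w : (yon S).obj W ⟶ T') (c : W' ⟶ W)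
    (h : IsSqZeroOn j w) : IsSqZeroOn j ((yon S).map c ≫ w) := by
  obtain ⟨W₀, fst, k, sq, hk1, hk2⟩ := h
  have sqO := IsPullback.of_hasPullback k c
  have sqS := sqO.map (Over.forget S)
  have sqY := sqO.map (yon S)
  refine ⟨pullback k c, (yon S).map (pullback.fst k c) ≫ fst, pullback.snd k c, ?_, ?_, ?_⟩
  · exact sqY.paste_horiz sq
  · exact MorphismProperty.of_isPullback (P := @IsClosedImmersion) sqS hk1
  · have : IsClosedImmersion ((Over.forget S).map k) := hk1
    exact Groth.Agent.Lib.Helper61.ThickBC.ker_mul_ker_eq_bot_of_isPullback sqS.flip hk2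

/-! ### Level 0: affine test objects -/

theorem isLiftOn_unique_of_affine (hf : IsFormallyUnramifiedMor f) {W : Over S}
    [IsAffine W.left] (w : (yon S).obj W ⟶ T') (hw : IsSqZeroOn j w)
    (l l' : (yon S).obj W ⟶ F) (hl : IsLiftOn f j a b w l) (hl' : IsLiftOn f j a b w l') :
    l = l' := by
  obtain ⟨W₀, fst, k, sq, hk1, hk2⟩ := hw
  have := hk1
  rw [isLiftOn_iff_of_isPullback sq] at hl hl'
  exact lift_unique_of_affine hf k hk2 (fst ≫ a) (w ≫ b) l l' hl.2 hl.1 hl'.2 hl'.1

theorem exists_isLiftOn_of_affine (hf : IsFormallySmoothMor f) (comm : a ≫ f = j ≫ b)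
    {W : Over S} [IsAffine W.left] (w : (yon S).obj W ⟶ T') (hw : IsSqZeroOn j w) :
    ∃ l : (yon S).obj W ⟶ F, IsLiftOn f j a b w l := by
  obtain ⟨W₀, fst, k, sq, hk1, hk2⟩ := hw
  have := hk1
  obtain ⟨l, h1, h2⟩ := lift_exists_of_affine hf k hk2 (fst ≫ a) (w ≫ b)
    (by rw [Category.assoc, comm, ← Category.assoc, sq.w, Category.assoc])
  exact ⟨l, (isLiftOn_iff_of_isPullback sq l).2 ⟨h2, h1⟩⟩

/-! ### Level 1: test objects over which `j` is a square-zero closed immersion -/

theorem flat_opensι (W : Over S) (V : W.left.Opens) : Flat (opensι W V).left := by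
  change Flat V.ι
  infer_instance

theorem lfp_opensι (W : Over S) (V : W.left.Opens) :
    LocallyOfFinitePresentation (opensι W V).left := by
  change LocallyOfFinitePresentation V.ι
  infer_instance

theorem affineOpens_jointly_surjective (W : Over S) (x : W.left) :
    ∃ V : W.left.affineOpens, x ∈ Set.range (opensι W V.1).left := by
  obtain ⟨_, ⟨V, hV, rfl⟩, hxV, -⟩ :=
    W.left.isBasis_affineOpens.exists_subset_of_mem_open (Set.mem_univ x) isOpen_univ
  exact ⟨⟨V, hV⟩, ⟨x, hxV⟩, rfl⟩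

theorem isLiftOn_unique_of_isSqZeroOn (hf : IsFormallyUnramifiedMor f) ⦃W : Over S⦄
    (w : (yon S).obj W ⟶ T') (hw : IsSqZeroOn j w)
    (l l' : (yon S).obj W ⟶ F) (hl : IsLiftOn f j a b w l) (hl' : IsLiftOn f j a b w l') :
    l = l' := by
  refine isLiftOn_unique_of_cover w (fun V : W.left.affineOpens => Over.mk (V.1.ι ≫ W.hom))
    (fun V => opensι W V.1) (fun V => flat_opensι W V.1) (fun V => lfp_opensι W V.1)
    (affineOpens_jointly_surjective W) (fun V m m' hm hm' => ?_) l l' hl hl'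
  haveI : IsAffine (Over.mk (V.1.ι ≫ W.hom)).left := V.2
  exact isLiftOn_unique_of_affine hf _ (hw.restrict w _) m m' hm hm'

theorem exists_isLiftOn_of_isSqZeroOn (hf : IsFormallyEtaleMor f) (comm : a ≫ f = j ≫ b)
    ⦃W : Over S⦄ (w : (yon S).obj W ⟶ T') (hw : IsSqZeroOn j w) :
    ∃ l : (yon S).obj W ⟶ F, IsLiftOn f j a b w l := by
  refine exists_isLiftOn_of_cover (IsSqZeroOn j) (fun _ _ w c h => h.restrict w c)
    (fun _ w hw l l' => isLiftOn_unique_of_isSqZeroOn
      (isFormallyUnramifiedMor_of_isFormallyEtaleMor hf) w hw l l') w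
    (fun V : W.left.affineOpens => Over.mk (V.1.ι ≫ W.hom))
    (fun V => opensι W V.1) (fun V => flat_opensι W V.1) (fun V => lfp_opensι W V.1)
    (affineOpens_jointly_surjective W) (fun V => hw.restrict w _) (fun V => ?_)
  haveI : IsAffine (Over.mk (V.1.ι ≫ W.hom)).left := V.2
  exact exists_isLiftOn_of_affine (isFormallySmoothMor_of_isFormallyEtaleMor hf) comm _
    (hw.restrict w _)

/-! ### Level 2: all test objects, for a first order thickening of an algebraic space -/

open Groth.Agent.Lib.Helper51 Groth.Agent.Lib.Helper52 in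
theorem exists_sqZero_cover (hT' : IsAlgSpace T') (hj : IsFOThickMor j) {W : Over S}
    (w : (yon S).obj W ⟶ T') :
    ∃ (ι : Type u) (V : ι → Over S) (g : ∀ i, V i ⟶ W), (∀ i, Flat (g i).left) ∧
      (∀ i, LocallyOfFinitePresentation (g i).left) ∧
      (∀ x : W.left, ∃ i, x ∈ Set.range (g i).left) ∧
      ∀ i, IsSqZeroOn j ((yon S).map (g i) ≫ w) := by
  obtain ⟨U, p, hp, hps⟩ := hT'.atlas
  -- the affine etale charts `e V`
  have he : ∀ V : U.left.affineOpens, RepWith @Etale ((yon S).map (opensι U V.1) ≫ p) := by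
    intro V
    refine (RepWith (S := S) @Etale).comp_mem _ _ ((repWith_yon_map_iff _ _).2 ?_) hp
    change Etale V.1.ι
    infer_instance
  have hsqz : ∀ V : U.left.affineOpens, IsSqZeroOn j ((yon S).map (opensι U V.1) ≫ p) := by
    intro V
    have sq := hj.1.1.isPullback ((yon S).map (opensι U V.1) ≫ p)
    have hth : thick (hj.1.1.snd ((yon S).map (opensι U V.1) ≫ p)).left := hj.1.2 _ _ _ sq
    exact ⟨_, _, _, sq, hth.1, hj.2 _ _ _ V.2 (he V) sq⟩
  refine ⟨U.left.affineOpens, fun V => (he V).1.pullback w, fun V => (he V).1.snd w,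
    fun V => ?_, fun V => ?_, fun x => ?_, fun V => ?_⟩
  · have : Etale ((he V).1.snd w).left := (he V).2 _ _ _ ((he V).1.isPullback' w)
    infer_instance
  · have : Etale ((he V).1.snd w).left := (he V).2 _ _ _ ((he V).1.isPullback' w)
    infer_instance
  · obtain ⟨u, hu⟩ := surjective_ofPt_of_repWith_surjective p hps (Points.ofPt w x)
    obtain ⟨V, ⟨u', hu'⟩⟩ := affineOpens_jointly_surjective U u
    refine ⟨V, (ofPt_mem_range_map_iff ((he V).1.isPullback' w) x).1 ⟨Points.ofScheme _ u', ?_⟩⟩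
    rw [← Points.ofPt_eq_map_ofScheme, ofPt_yon_map_comp, hu', hu]
  · have sqP := (he V).1.isPullback' w
    rw [← sqP.w]
    exact (hsqz V).restrict _ _

theorem isLiftOn_unique (hT' : IsAlgSpace T') (hj : IsFOThickMor j)
    (hf : IsFormallyUnramifiedMor f) {W : Over S} (w : (yon S).obj W ⟶ T')
    (l l' : (yon S).obj W ⟶ F) (hl : IsLiftOn f j a b w l) (hl' : IsLiftOn f j a b w l') :
    l = l' := by
  obtain ⟨ι, V, g, hfl, hfp, hs, hsq⟩ := exists_sqZero_cover hT' hj w
  exact isLiftOn_unique_of_cover w V g hfl hfp hs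
    (fun i m m' hm hm' => isLiftOn_unique_of_isSqZeroOn hf _ (hsq i) m m' hm hm') l l' hl hl'

theorem exists_isLiftOn (hT' : IsAlgSpace T') (hj : IsFOThickMor j)
    (hf : IsFormallyEtaleMor f) (comm : a ≫ f = j ≫ b) {W : Over S}
    (w : (yon S).obj W ⟶ T') : ∃ l : (yon S).obj W ⟶ F, IsLiftOn f j a b w l := by
  obtain ⟨ι, V, g, hfl, hfp, hs, hsq⟩ := exists_sqZero_cover hT' hj w
  exact exists_isLiftOn_of_cover (IsSqZeroOn j) (fun _ _ w c h => h.restrict w c)
    (fun _ w hw l l' => isLiftOn_unique_of_isSqZeroOn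
      (isFormallyUnramifiedMor_of_isFormallyEtaleMor hf) w hw l l') w V g hfl hfp hs hsq
    (fun i => exists_isLiftOn_of_isSqZeroOn hf comm _ (hsq i))

end Groth.Agent.Lib.Helper78.AlgSpLiftGlue
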