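import Groth.Agent.Lib.Helper78.AlgSpLiftGlue2

/-!
# Global lifts from unique lifts on all test objects (helper78)
-/

set_option autoImplicit false
universe u
open CategoryTheory CategoryTheory.Limits AlgebraicGeometry Opposite
open AlgSp

namespace Groth.Agent.Lib.Helper78.AlgSpLiftGlue

open Groth.Agent.Lib.Helper78.AlgSpZar Groth.Agent.Lib.Helper40.AlgSpBasic
open Groth.Agent.Lib.Helper78.AlgSpInfSq

variable {S : Scheme.{u}} {F G T T' : Sp S} {f : F ⟶ G} {j : T ⟶ T'} {a : T ⟶ F} {b : T' ⟶ G}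

/-- Uniqueness of global lifts from uniqueness on test objects. -/
theorem lift_unique_of_forall
    (huniq : ∀ ⦃W : Over S⦄ (w : (yon S).obj W ⟶ T') (l l' : (yon S).obj W ⟶ F),
      IsLiftOn f j a b w l → IsLiftOn f j a b w l' → l = l')
    (L L' : T' ⟶ F) (h1 : j ≫ L = a) (h2 : L ≫ f = b) (h1' : j ≫ L' = a) (h2' : L' ≫ f = b) :
    L = L' :=
  hom_ext_yon L L' fun _ w =>
    huniq w _ _ (isLiftOn_of_lift L h1 h2 w) (isLiftOn_of_lift L' h1' h2' w)

/-- Existence of a global lift from existence and uniqueness on test objects. -/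
theorem exists_lift_of_forall
    (hex : ∀ ⦃W : Over S⦄ (w : (yon S).obj W ⟶ T'), ∃ l : (yon S).obj W ⟶ F,
      IsLiftOn f j a b w l)
    (huniq : ∀ ⦃W : Over S⦄ (w : (yon S).obj W ⟶ T') (l l' : (yon S).obj W ⟶ F),
      IsLiftOn f j a b w l → IsLiftOn f j a b w l' → l = l') :
    ∃ L : T' ⟶ F, j ≫ L = a ∧ L ≫ f = b := by
  choose ℓ hℓ using fun (W : Over S) (w : (yon S).obj W ⟶ T') => hex w
  -- compatibility with restriction
  have hres : ∀ {W W' : Over S} (c : W' ⟶ W) (w : (yon S).obj W ⟶ T'),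
      (yon S).map c ≫ ℓ W w = ℓ W' ((yon S).map c ≫ w) := fun c w =>
    huniq _ _ _ ((hℓ _ w).restrict c) (hℓ _ _)
  let η : T'.obj ⟶ F.obj :=
    { app := fun X => ↾fun s => (J S).uliftYonedaEquiv (ℓ X.unop ((J S).uliftYonedaEquiv.symm s))
      naturality := by
        intro X Y c
        ext s
        change (J S).uliftYonedaEquiv (ℓ Y.unop ((J S).uliftYonedaEquiv.symm (T'.obj.map c s))) =
          F.obj.map c ((J S).uliftYonedaEquiv (ℓ X.unop ((J S).uliftYonedaEquiv.symm s)))
        rw [GrothendieckTopology.uliftYonedaEquiv_naturality',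
          GrothendieckTopology.uliftYonedaEquiv_symm_map, hres] }
  let L : T' ⟶ F := ObjectProperty.homMk η
  have hL : ∀ {W : Over S} (w : (yon S).obj W ⟶ T'), w ≫ L = ℓ W w := by
    intro W w
    apply (J S).uliftYonedaEquiv.injective
    rw [GrothendieckTopology.uliftYonedaEquiv_comp]
    change (J S).uliftYonedaEquiv (ℓ W ((J S).uliftYonedaEquiv.symm ((J S).uliftYonedaEquiv w))) = _
    rw [Equiv.symm_apply_apply]
  refine ⟨L, ?_, ?_⟩
  · refine hom_ext_yon _ _ fun Q x => ?_
    rw [← Category.assoc, hL]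
    have := (hℓ Q (x ≫ j)).2 Q x (𝟙 Q) (by rw [CategoryTheory.Functor.map_id, Category.id_comp])
    rwa [CategoryTheory.Functor.map_id, Category.id_comp] at this
  · refine hom_ext_yon _ _ fun W w => ?_
    rw [← Category.assoc, hL]
    exact (hℓ W w).1

/-- **Unique lifts along first order thickenings of algebraic spaces** for formally etale
morphisms of sheaves. -/
theorem existsUnique_lift (hT' : IsAlgSpace T') (hj : IsFOThickMor j)
    (hf : IsFormallyEtaleMor f) (comm : a ≫ f = j ≫ b) :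
    ∃! L : T' ⟶ F, j ≫ L = a ∧ L ≫ f = b := by
  have huniq : ∀ ⦃W : Over S⦄ (w : (yon S).obj W ⟶ T') (l l' : (yon S).obj W ⟶ F),
      IsLiftOn f j a b w l → IsLiftOn f j a b w l' → l = l' := fun _ w l l' hl hl' =>
    isLiftOn_unique hT' hj (isFormallyUnramifiedMor_of_isFormallyEtaleMor hf) w l l' hl hl'
  obtain ⟨L, h1, h2⟩ := exists_lift_of_forall (fun _ w => exists_isLiftOn hT' hj hf comm w) huniq
  exact ⟨L, ⟨h1, h2⟩, fun L' h' => lift_unique_of_forall huniq L' L h'.1 h'.2 h1 h2⟩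

/-- **Uniqueness of lifts along first order thickenings of algebraic spaces** for formally
unramified morphisms of sheaves. -/
theorem lift_unique (hT' : IsAlgSpace T') (hj : IsFOThickMor j)
    (hf : IsFormallyUnramifiedMor f) (L L' : T' ⟶ F) (h1 : j ≫ L = a) (h2 : L ≫ f = b)
    (h1' : j ≫ L' = a) (h2' : L' ≫ f = b) : L = L' :=
  lift_unique_of_forall (fun _ w l l' hl hl' => isLiftOn_unique hT' hj hf w l l' hl hl')
    L L' h1 h2 h1' h2'

end Groth.Agent.Lib.Helper78.AlgSpLiftGlue
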