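import Groth.Agent.Lib.Helper78.AlgSpLocP
import Mathlib.AlgebraicGeometry.Morphisms.Etale

/-!
# Etale source descent: reduction to a ring-level core (helper78)

`descend_of_ringCore`: if `P` is Zariski local at source and target, stable under postcomposition with
open immersions, and satisfies the ring-level statement `RingCore P`, then `P (e ≫ h)` with `e` etale
surjective implies `P h`.
-/

set_option autoImplicit false
universe u

open CategoryTheory CategoryTheory.Limits AlgebraicGeometry MorphismProperty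

namespace Groth.Agent.Lib.Helper78.AlgSpLocPGen

/-- the ring-level core statement for etale source descent of `P`. -/
def RingCore (P : MorphismProperty Scheme.{u}) : Prop :=
  ∀ {R A B : Type u} [CommRing R] [CommRing A] [CommRing B] [Algebra R A] [Algebra A B]
    [Algebra.Etale A B],
    P (Spec.map (CommRingCat.ofHom (algebraMap A B)) ≫ Spec.map (CommRingCat.ofHom (algebraMap R A))) →
    ∀ q : ↥(Spec (CommRingCat.of B)), ∃ V : (Spec (CommRingCat.of A)).Opens,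
      (Spec.map (CommRingCat.ofHom (algebraMap A B))) q ∈ V ∧
      P (V.ι ≫ Spec.map (CommRingCat.ofHom (algebraMap R A)))

theorem core_affine {P : MorphismProperty Scheme.{u}} [P.RespectsIso] (core : RingCore P)
    {A B C : Scheme.{u}} [IsAffine A] [IsAffine B] [IsAffine C] (e : A ⟶ B) (h : B ⟶ C) [Etale e]
    (H : P (e ≫ h)) (q : A) : ∃ V : B.Opens, e q ∈ V ∧ P (V.ι ≫ h) := by
  algebraize [h.appTop.hom, e.appTop.hom]
  have hEt : Algebra.Etale Γ(B, ⊤) Γ(A, ⊤) := by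
    have : (algebraMap Γ(B, ⊤) Γ(A, ⊤)).Etale :=
      (HasRingHomProperty.iff_of_isAffine (P := @Etale)).1 inferInstance
    exact RingHom.etale_algebraMap.1 this
  have n1 : e ≫ B.isoSpec.hom = A.isoSpec.hom ≫ Spec.map e.appTop := (Scheme.isoSpec_hom_naturality e).symm
  have n2 : h ≫ C.isoSpec.hom = B.isoSpec.hom ≫ Spec.map h.appTop := (Scheme.isoSpec_hom_naturality h).symm
  have H' : P (Spec.map e.appTop ≫ Spec.map h.appTop) := by
    have : Spec.map e.appTop ≫ Spec.map h.appTop = A.isoSpec.inv ≫ (e ≫ h) ≫ C.isoSpec.hom := by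
      rw [Category.assoc, n2, ← Category.assoc e, n1, Category.assoc, Iso.inv_hom_id_assoc]
    rw [this, P.cancel_left_of_respectsIso, P.cancel_right_of_respectsIso]
    exact H
  obtain ⟨V', hqV', hV'⟩ := core (R := Γ(C, ⊤)) (A := Γ(B, ⊤)) (B := Γ(A, ⊤)) H' (A.isoSpec.hom q)
  refine ⟨B.isoSpec.hom ⁻¹ᵁ V', ?_, ?_⟩
  · change B.isoSpec.hom (e q) ∈ V'
    rw [← Scheme.Hom.comp_apply, n1, Scheme.Hom.comp_apply]
    exact hqV'
  · have h3 : (B.isoSpec.hom ⁻¹ᵁ V').ι ≫ B.isoSpec.hom = (B.isoSpec.hom ∣_ V') ≫ V'.ι :=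
      (morphismRestrict_ι _ _).symm
    have : ((B.isoSpec.hom ⁻¹ᵁ V').ι ≫ h) ≫ C.isoSpec.hom =
        (B.isoSpec.hom ∣_ V') ≫ V'.ι ≫ Spec.map h.appTop := by
      rw [Category.assoc, n2, ← Category.assoc, h3, Category.assoc]
    rw [← P.cancel_right_of_respectsIso _ C.isoSpec.hom, this, P.cancel_left_of_respectsIso]
    exact hV'

/-- **Etale source descent from the ring-level core.** -/
theorem descend_of_ringCore {P : MorphismProperty Scheme.{u}} [IsZariskiLocalAtSource P]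
    [IsZariskiLocalAtTarget P] [P.RespectsRight @IsOpenImmersion] (core : RingCore P)
    {A B C : Scheme.{u}} (e : A ⟶ B) (h : B ⟶ C) [Etale e] [Surjective e] (H : P (e ≫ h)) : P h := by
  -- for each point of `B` an open neighbourhood on which `h` has `P`
  have key : ∀ x : B, ∃ V : B.Opens, x ∈ V ∧ P (V.ι ≫ h) := by
    intro x
    obtain ⟨x', rfl⟩ := e.surjective x
    -- affine opens
    obtain ⟨Uc, hUc, hxUc, -⟩ : ∃ Uc : C.Opens, IsAffineOpen Uc ∧ h (e x') ∈ Uc ∧ Uc ≤ ⊤ :=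
      (TopologicalSpace.Opens.isBasis_iff_nbhd.mp
      C.isBasis_affineOpens) (show h (e x') ∈ (⊤ : C.Opens) from trivial)
    obtain ⟨Vb, hVb, hxVb, hVbU⟩ : ∃ Vb : B.Opens, IsAffineOpen Vb ∧ e x' ∈ Vb ∧ Vb ≤ h ⁻¹ᵁ Uc :=
      (TopologicalSpace.Opens.isBasis_iff_nbhd.mp
      B.isBasis_affineOpens) (show e x' ∈ h ⁻¹ᵁ Uc from hxUc)
    obtain ⟨Wa, hWa, hxWa, hWaV⟩ : ∃ Wa : A.Opens, IsAffineOpen Wa ∧ x' ∈ Wa ∧ Wa ≤ e ⁻¹ᵁ Vb :=
      (TopologicalSpace.Opens.isBasis_iff_nbhd.mp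
      A.isBasis_affineOpens) (show x' ∈ e ⁻¹ᵁ Vb from hxVb)
    have hVbU' : Vb ≤ h ⁻¹ᵁ Uc := hVbU
    have hWaV' : Wa ≤ e ⁻¹ᵁ Vb := hWaV
    have hWaU : Wa ≤ (e ≫ h) ⁻¹ᵁ Uc := fun y hy => hVbU' (hWaV' hy)
    have : IsAffine Uc.toScheme := hUc
    have : IsAffine Vb.toScheme := hVb
    have : IsAffine Wa.toScheme := hWa
    have hcomp : e.resLE Vb Wa hWaV' ≫ h.resLE Uc Vb hVbU' = (e ≫ h).resLE Uc Wa hWaU :=
      Scheme.Hom.resLE_comp_resLE _ _ _ _
    have H' : P (e.resLE Vb Wa hWaV' ≫ h.resLE Uc Vb hVbU') := by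
      rw [hcomp]
      exact IsZariskiLocalAtSource.resLE _ H
    let y : Wa.toScheme := ⟨x', hxWa⟩
    obtain ⟨V₀, hqV₀, hV₀⟩ := core_affine core (e.resLE Vb Wa hWaV') (h.resLE Uc Vb hVbU') H' y
    have hy : Vb.ι (e.resLE Vb Wa hWaV' y) = e x' := by
      have : Vb.ι (e.resLE Vb Wa hWaV' y) = e (Wa.ι y) := by
        rw [← Scheme.Hom.comp_apply, Scheme.Hom.resLE_comp_ι, Scheme.Hom.comp_apply]
      rw [this]
      rfl
    refine ⟨Vb.ι ''ᵁ V₀, ?_, ?_⟩
    · exact ⟨_, hqV₀, hy⟩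
    · have h1 : (Vb.ι.isoImage V₀).hom ≫ (Vb.ι ''ᵁ V₀).ι = V₀.ι ≫ Vb.ι :=
        Scheme.Hom.isoImage_hom_ι _ _
      have h2 : (Vb.ι.isoImage V₀).hom ≫ (Vb.ι ''ᵁ V₀).ι ≫ h =
          (V₀.ι ≫ h.resLE Uc Vb hVbU') ≫ Uc.ι := by
        rw [← Category.assoc, h1, Category.assoc, Category.assoc, Scheme.Hom.resLE_comp_ι]
      rw [← P.cancel_left_of_respectsIso (Vb.ι.isoImage V₀).hom, h2]
      exact MorphismProperty.RespectsRight.postcomp (Q := @IsOpenImmersion) _ inferInstance _ hV₀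
  choose V hxV hV using key
  refine IsZariskiLocalAtSource.of_iSup_eq_top (P := P) V ?_ hV
  rw [eq_top_iff]
  rintro x -
  simp only [TopologicalSpace.Opens.mem_iSup]
  exact ⟨x, hxV x⟩

/-- the ring-level core statement for etale source descent of `P`, assuming `R → A` of finite type. -/
def RingCoreFT (P : MorphismProperty Scheme.{u}) : Prop :=
  ∀ {R A B : Type u} [CommRing R] [CommRing A] [CommRing B] [Algebra R A] [Algebra A B]
    [Algebra.Etale A B] [Algebra.FiniteType R A],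
    P (Spec.map (CommRingCat.ofHom (algebraMap A B)) ≫ Spec.map (CommRingCat.ofHom (algebraMap R A))) →
    ∀ q : ↥(Spec (CommRingCat.of B)), ∃ V : (Spec (CommRingCat.of A)).Opens,
      (Spec.map (CommRingCat.ofHom (algebraMap A B))) q ∈ V ∧
      P (V.ι ≫ Spec.map (CommRingCat.ofHom (algebraMap R A)))

theorem core_affineFT {P : MorphismProperty Scheme.{u}} [P.RespectsIso] (core : RingCoreFT P)
    {A B C : Scheme.{u}} [IsAffine A] [IsAffine B] [IsAffine C] (e : A ⟶ B) (h : B ⟶ C) [Etale e]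
    (hft : LocallyOfFiniteType h)
    (H : P (e ≫ h)) (q : A) : ∃ V : B.Opens, e q ∈ V ∧ P (V.ι ≫ h) := by
  algebraize [h.appTop.hom, e.appTop.hom]
  have hFT : Algebra.FiniteType Γ(C, ⊤) Γ(B, ⊤) := by
    have : (algebraMap Γ(C, ⊤) Γ(B, ⊤)).FiniteType :=
      (HasRingHomProperty.iff_of_isAffine (P := @LocallyOfFiniteType)).1 hft
    exact RingHom.finiteType_algebraMap.1 this
  have hEt : Algebra.Etale Γ(B, ⊤) Γ(A, ⊤) := by
    have : (algebraMap Γ(B, ⊤) Γ(A, ⊤)).Etale :=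
      (HasRingHomProperty.iff_of_isAffine (P := @Etale)).1 inferInstance
    exact RingHom.etale_algebraMap.1 this
  have n1 : e ≫ B.isoSpec.hom = A.isoSpec.hom ≫ Spec.map e.appTop := (Scheme.isoSpec_hom_naturality e).symm
  have n2 : h ≫ C.isoSpec.hom = B.isoSpec.hom ≫ Spec.map h.appTop := (Scheme.isoSpec_hom_naturality h).symm
  have H' : P (Spec.map e.appTop ≫ Spec.map h.appTop) := by
    have : Spec.map e.appTop ≫ Spec.map h.appTop = A.isoSpec.inv ≫ (e ≫ h) ≫ C.isoSpec.hom := by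
      rw [Category.assoc, n2, ← Category.assoc e, n1, Category.assoc, Iso.inv_hom_id_assoc]
    rw [this, P.cancel_left_of_respectsIso, P.cancel_right_of_respectsIso]
    exact H
  obtain ⟨V', hqV', hV'⟩ := core (R := Γ(C, ⊤)) (A := Γ(B, ⊤)) (B := Γ(A, ⊤)) H' (A.isoSpec.hom q)
  refine ⟨B.isoSpec.hom ⁻¹ᵁ V', ?_, ?_⟩
  · change B.isoSpec.hom (e q) ∈ V'
    rw [← Scheme.Hom.comp_apply, n1, Scheme.Hom.comp_apply]
    exact hqV'
  · have h3 : (B.isoSpec.hom ⁻¹ᵁ V').ι ≫ B.isoSpec.hom = (B.isoSpec.hom ∣_ V') ≫ V'.ι :=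
      (morphismRestrict_ι _ _).symm
    have : ((B.isoSpec.hom ⁻¹ᵁ V').ι ≫ h) ≫ C.isoSpec.hom =
        (B.isoSpec.hom ∣_ V') ≫ V'.ι ≫ Spec.map h.appTop := by
      rw [Category.assoc, n2, ← Category.assoc, h3, Category.assoc]
    rw [← P.cancel_right_of_respectsIso _ C.isoSpec.hom, this, P.cancel_left_of_respectsIso]
    exact hV'

/-- **Etale source descent from the ring-level core, finite type version.** -/
theorem descend_of_ringCoreFT {P : MorphismProperty Scheme.{u}} [IsZariskiLocalAtSource P]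
    [IsZariskiLocalAtTarget P] [P.RespectsRight @IsOpenImmersion] (core : RingCoreFT P)
    {A B C : Scheme.{u}} (e : A ⟶ B) (h : B ⟶ C) [Etale e] [Surjective e]
    (hft : LocallyOfFiniteType h) (H : P (e ≫ h)) : P h := by
  -- for each point of `B` an open neighbourhood on which `h` has `P`
  have key : ∀ x : B, ∃ V : B.Opens, x ∈ V ∧ P (V.ι ≫ h) := by
    intro x
    obtain ⟨x', rfl⟩ := e.surjective x
    -- affine opens
    obtain ⟨Uc, hUc, hxUc, -⟩ : ∃ Uc : C.Opens, IsAffineOpen Uc ∧ h (e x') ∈ Uc ∧ Uc ≤ ⊤ :=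
      (TopologicalSpace.Opens.isBasis_iff_nbhd.mp
      C.isBasis_affineOpens) (show h (e x') ∈ (⊤ : C.Opens) from trivial)
    obtain ⟨Vb, hVb, hxVb, hVbU⟩ : ∃ Vb : B.Opens, IsAffineOpen Vb ∧ e x' ∈ Vb ∧ Vb ≤ h ⁻¹ᵁ Uc :=
      (TopologicalSpace.Opens.isBasis_iff_nbhd.mp
      B.isBasis_affineOpens) (show e x' ∈ h ⁻¹ᵁ Uc from hxUc)
    obtain ⟨Wa, hWa, hxWa, hWaV⟩ : ∃ Wa : A.Opens, IsAffineOpen Wa ∧ x' ∈ Wa ∧ Wa ≤ e ⁻¹ᵁ Vb :=
      (TopologicalSpace.Opens.isBasis_iff_nbhd.mp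
      A.isBasis_affineOpens) (show x' ∈ e ⁻¹ᵁ Vb from hxVb)
    have hVbU' : Vb ≤ h ⁻¹ᵁ Uc := hVbU
    have hWaV' : Wa ≤ e ⁻¹ᵁ Vb := hWaV
    have hWaU : Wa ≤ (e ≫ h) ⁻¹ᵁ Uc := fun y hy => hVbU' (hWaV' hy)
    have : IsAffine Uc.toScheme := hUc
    have : IsAffine Vb.toScheme := hVb
    have : IsAffine Wa.toScheme := hWa
    have hcomp : e.resLE Vb Wa hWaV' ≫ h.resLE Uc Vb hVbU' = (e ≫ h).resLE Uc Wa hWaU :=
      Scheme.Hom.resLE_comp_resLE _ _ _ _
    have H' : P (e.resLE Vb Wa hWaV' ≫ h.resLE Uc Vb hVbU') := by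
      rw [hcomp]
      exact IsZariskiLocalAtSource.resLE _ H
    let y : Wa.toScheme := ⟨x', hxWa⟩
    obtain ⟨V₀, hqV₀, hV₀⟩ := core_affineFT core (e.resLE Vb Wa hWaV') (h.resLE Uc Vb hVbU')
      (IsZariskiLocalAtSource.resLE _ hft) H' y
    have hy : Vb.ι (e.resLE Vb Wa hWaV' y) = e x' := by
      have : Vb.ι (e.resLE Vb Wa hWaV' y) = e (Wa.ι y) := by
        rw [← Scheme.Hom.comp_apply, Scheme.Hom.resLE_comp_ι, Scheme.Hom.comp_apply]
      rw [this]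
      rfl
    refine ⟨Vb.ι ''ᵁ V₀, ?_, ?_⟩
    · exact ⟨_, hqV₀, hy⟩
    · have h1 : (Vb.ι.isoImage V₀).hom ≫ (Vb.ι ''ᵁ V₀).ι = V₀.ι ≫ Vb.ι :=
        Scheme.Hom.isoImage_hom_ι _ _
      have h2 : (Vb.ι.isoImage V₀).hom ≫ (Vb.ι ''ᵁ V₀).ι ≫ h =
          (V₀.ι ≫ h.resLE Uc Vb hVbU') ≫ Uc.ι := by
        rw [← Category.assoc, h1, Category.assoc, Category.assoc, Scheme.Hom.resLE_comp_ι]
      rw [← P.cancel_left_of_respectsIso (Vb.ι.isoImage V₀).hom, h2]
      exact MorphismProperty.RespectsRight.postcomp (Q := @IsOpenImmersion) _ inferInstance _ hV₀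
  choose V hxV hV using key
  refine IsZariskiLocalAtSource.of_iSup_eq_top (P := P) V ?_ hV
  rw [eq_top_iff]
  rintro x -
  simp only [TopologicalSpace.Opens.mem_iSup]
  exact ⟨x, hxV x⟩

end Groth.Agent.Lib.Helper78.AlgSpLocPGen
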