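import Groth.Agent.Lib.Helper78.AlgSpLocPGen
import Mathlib.AlgebraicGeometry.Morphisms.FinitePresentation

/-!
# Etale source descent: reduction to a global ring-level statement (helper78)
-/

set_option autoImplicit false
universe u

open CategoryTheory CategoryTheory.Limits AlgebraicGeometry MorphismProperty

namespace Groth.Agent.Lib.Helper78.AlgSpLocPGen

/-- the ring-level global statement for etale source descent of `P`: `R → A` of finite presentation,
`A → B` etale and surjective on spectra. -/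
def RingGlobalFP (P : MorphismProperty Scheme.{u}) : Prop :=
  ∀ {R A B : Type u} [CommRing R] [CommRing A] [CommRing B] [Algebra R A] [Algebra A B]
    [Algebra.Etale A B] [Algebra.FinitePresentation R A],
    Function.Surjective (PrimeSpectrum.comap (algebraMap A B)) →
    P (Spec.map (CommRingCat.ofHom (algebraMap A B)) ≫ Spec.map (CommRingCat.ofHom (algebraMap R A))) →
    P (Spec.map (CommRingCat.ofHom (algebraMap R A)))

theorem affine_global_of_ringGlobalFP {P : MorphismProperty Scheme.{u}} [P.RespectsIso]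
    (core : RingGlobalFP P)
    {A B C : Scheme.{u}} [IsAffine A] [IsAffine B] [IsAffine C] (e : A ⟶ B) (h : B ⟶ C) [Etale e]
    [Surjective e] (hfp : LocallyOfFinitePresentation h) (H : P (e ≫ h)) : P h := by
  algebraize [h.appTop.hom, e.appTop.hom]
  have hEt : Algebra.Etale Γ(B, ⊤) Γ(A, ⊤) := by
    have : (algebraMap Γ(B, ⊤) Γ(A, ⊤)).Etale :=
      (HasRingHomProperty.iff_of_isAffine (P := @Etale)).1 inferInstance
    exact RingHom.etale_algebraMap.1 this
  have hFP : Algebra.FinitePresentation Γ(C, ⊤) Γ(B, ⊤) := by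
    have : (algebraMap Γ(C, ⊤) Γ(B, ⊤)).FinitePresentation :=
      (HasRingHomProperty.iff_of_isAffine (P := @LocallyOfFinitePresentation)).1 hfp
    exact RingHom.finitePresentation_algebraMap.1 this
  have n1 : e ≫ B.isoSpec.hom = A.isoSpec.hom ≫ Spec.map e.appTop :=
    (Scheme.isoSpec_hom_naturality e).symm
  have n2 : h ≫ C.isoSpec.hom = B.isoSpec.hom ≫ Spec.map h.appTop :=
    (Scheme.isoSpec_hom_naturality h).symm
  have H' : P (Spec.map e.appTop ≫ Spec.map h.appTop) := by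
    have : Spec.map e.appTop ≫ Spec.map h.appTop = A.isoSpec.inv ≫ (e ≫ h) ≫ C.isoSpec.hom := by
      rw [Category.assoc, n2, ← Category.assoc e, n1, Category.assoc, Iso.inv_hom_id_assoc]
    rw [this, P.cancel_left_of_respectsIso, P.cancel_right_of_respectsIso]
    exact H
  have hsurj : Function.Surjective (PrimeSpectrum.comap (algebraMap Γ(B, ⊤) Γ(A, ⊤))) := by
    have h1 : Spec.map e.appTop = A.isoSpec.inv ≫ e ≫ B.isoSpec.hom := by
      rw [n1, Iso.inv_hom_id_assoc]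
    have h2 : Surjective (Spec.map e.appTop) := by
      rw [h1]; infer_instance
    exact h2.surj
  have key := core (R := Γ(C, ⊤)) (A := Γ(B, ⊤)) (B := Γ(A, ⊤)) hsurj H'
  have : h = B.isoSpec.hom ≫ Spec.map h.appTop ≫ C.isoSpec.inv := by
    rw [← Category.assoc, ← n2, Category.assoc, Iso.hom_inv_id, Category.comp_id]
  rw [this, P.cancel_left_of_respectsIso, P.cancel_right_of_respectsIso]
  exact key

theorem core_affine_of_ringGlobalFP {P : MorphismProperty Scheme.{u}} [IsZariskiLocalAtSource P]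
    (core : RingGlobalFP P)
    {A B C : Scheme.{u}} [IsAffine A] [IsAffine B] [IsAffine C] (e : A ⟶ B) (h : B ⟶ C) [Etale e]
    (hfp : LocallyOfFinitePresentation h) (H : P (e ≫ h)) (q : A) :
    ∃ V : B.Opens, e q ∈ V ∧ P (V.ι ≫ h) := by
  let U : B.Opens := ⟨Set.range e.base, e.isOpenMap.isOpen_range⟩
  obtain ⟨_, ⟨f, rfl⟩, hqf, hfU⟩ := (TopologicalSpace.Opens.isBasis_iff_nbhd.mp
    (isBasis_basicOpen B)) (show e q ∈ U from ⟨q, rfl⟩)
  refine ⟨B.basicOpen f, hqf, ?_⟩
  have hY' : IsAffine (B.basicOpen f).toScheme := (isAffineOpen_top B).basicOpen f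
  have hX' : IsAffine (e ⁻¹ᵁ B.basicOpen f).toScheme := by
    rw [Scheme.preimage_basicOpen_top]
    exact (isAffineOpen_top A).basicOpen _
  have hsurj : Surjective (e ∣_ B.basicOpen f) := ⟨fun y => by
    obtain ⟨x, hx⟩ := hfU y.2
    refine ⟨⟨x, ?_⟩, ?_⟩
    · change e x ∈ B.basicOpen f
      rw [hx]; exact y.2
    · apply (B.basicOpen f).ι.isOpenEmbedding.injective
      rw [← Scheme.Hom.comp_apply, morphismRestrict_ι, Scheme.Hom.comp_apply]
      exact hx⟩
  have hfp' : LocallyOfFinitePresentation ((B.basicOpen f).ι ≫ h) := inferInstance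
  refine affine_global_of_ringGlobalFP core (e ∣_ B.basicOpen f) ((B.basicOpen f).ι ≫ h) hfp' ?_
  rw [← Category.assoc, morphismRestrict_ι, Category.assoc]
  exact IsZariskiLocalAtSource.comp H _

/-- **Etale source descent from the ring-level core, finite presentation global version.** -/
theorem descend_of_ringGlobalFP {P : MorphismProperty Scheme.{u}} [IsZariskiLocalAtSource P]
    [IsZariskiLocalAtTarget P] [P.RespectsRight @IsOpenImmersion] (core : RingGlobalFP P)
    {A B C : Scheme.{u}} (e : A ⟶ B) (h : B ⟶ C) [Etale e] [Surjective e]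
    (hfp : LocallyOfFinitePresentation h) (H : P (e ≫ h)) : P h := by
  -- for each point of `B` an open neighbourhood on which `h` has `P`
  have key : ∀ x : B, ∃ V : B.Opens, x ∈ V ∧ P (V.ι ≫ h) := by
    intro x
    obtain ⟨x', rfl⟩ := e.surjective x
    -- affine opens
    obtain ⟨Uc, hUc, hxUc, -⟩ : ∃ Uc : C.Opens, IsAffineOpen Uc ∧ h (e x') ∈ Uc ∧ Uc ≤ ⊤ :=
      (TopologicalSpace.Opens.isBasis_iff_nbhd.mp
      C.isBasis_affineOpens) (show h (e x') ∈ (⊤ : C.Opens) from trivial)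
    obtain ⟨Vb, hVb, hxVb, hVbU⟩ : ∃ Vb : B.Opens, IsAffineOpen Vb ∧ e x' ∈ Vb ∧ Vb ≤ h ⁻¹ᵁ Uc :=
      (TopologicalSpace.Opens.isBasis_iff_nbhd.mp
      B.isBasis_affineOpens) (show e x' ∈ h ⁻¹ᵁ Uc from hxUc)
    obtain ⟨Wa, hWa, hxWa, hWaV⟩ : ∃ Wa : A.Opens, IsAffineOpen Wa ∧ x' ∈ Wa ∧ Wa ≤ e ⁻¹ᵁ Vb :=
      (TopologicalSpace.Opens.isBasis_iff_nbhd.mp
      A.isBasis_affineOpens) (show x' ∈ e ⁻¹ᵁ Vb from hxVb)
    have hVbU' : Vb ≤ h ⁻¹ᵁ Uc := hVbU
    have hWaV' : Wa ≤ e ⁻¹ᵁ Vb := hWaV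
    have hWaU : Wa ≤ (e ≫ h) ⁻¹ᵁ Uc := fun y hy => hVbU' (hWaV' hy)
    have : IsAffine Uc.toScheme := hUc
    have : IsAffine Vb.toScheme := hVb
    have : IsAffine Wa.toScheme := hWa
    have hcomp : e.resLE Vb Wa hWaV' ≫ h.resLE Uc Vb hVbU' = (e ≫ h).resLE Uc Wa hWaU :=
      Scheme.Hom.resLE_comp_resLE _ _ _ _
    have H' : P (e.resLE Vb Wa hWaV' ≫ h.resLE Uc Vb hVbU') := by
      rw [hcomp]
      exact IsZariskiLocalAtSource.resLE _ H
    let y : Wa.toScheme := ⟨x', hxWa⟩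
    obtain ⟨V₀, hqV₀, hV₀⟩ := core_affine_of_ringGlobalFP core (e.resLE Vb Wa hWaV')
      (h.resLE Uc Vb hVbU') inferInstance H' y
    have hy : Vb.ι (e.resLE Vb Wa hWaV' y) = e x' := by
      have : Vb.ι (e.resLE Vb Wa hWaV' y) = e (Wa.ι y) := by
        rw [← Scheme.Hom.comp_apply, Scheme.Hom.resLE_comp_ι, Scheme.Hom.comp_apply]
      rw [this]
      rfl
    refine ⟨Vb.ι ''ᵁ V₀, ?_, ?_⟩
    · exact ⟨_, hqV₀, hy⟩
    · have h1 : (Vb.ι.isoImage V₀).hom ≫ (Vb.ι ''ᵁ V₀).ι = V₀.ι ≫ Vb.ι :=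
        Scheme.Hom.isoImage_hom_ι _ _
      have h2 : (Vb.ι.isoImage V₀).hom ≫ (Vb.ι ''ᵁ V₀).ι ≫ h =
          (V₀.ι ≫ h.resLE Uc Vb hVbU') ≫ Uc.ι := by
        rw [← Category.assoc, h1, Category.assoc, Category.assoc, Scheme.Hom.resLE_comp_ι]
      rw [← P.cancel_left_of_respectsIso (Vb.ι.isoImage V₀).hom, h2]
      exact MorphismProperty.RespectsRight.postcomp (Q := @IsOpenImmersion) _ inferInstance _ hV₀
  choose V hxV hV using key
  refine IsZariskiLocalAtSource.of_iSup_eq_top (P := P) V ?_ hV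
  rw [eq_top_iff]
  rintro x -
  simp only [TopologicalSpace.Opens.mem_iSup]
  exact ⟨x, hxV x⟩

end Groth.Agent.Lib.Helper78.AlgSpLocPGen
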