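import Groth.Agent.Lib.Helper78.AlgSpLocPSmooth
import Groth.Agent.Lib.Helper78.AlgSpLocPLqf

/-!
# The seven classes of morphisms that are etale local on the source-and-target (helper78)

locally of finite type, locally of finite presentation, flat, smooth, etale, locally quasi-finite
(and locally of finite type), unramified (locally of finite type and formally unramified).
-/

set_option autoImplicit false
universe u

open CategoryTheory CategoryTheory.Limits AlgebraicGeometry MorphismProperty

namespace Groth.Agent.Lib.Helper78.AlgSpLocPSeven

open Groth.Agent.Lib.Helper78.AlgSpLocP Groth.Agent.Lib.Helper78.AlgSpLocPLoft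
  Groth.Agent.Lib.Helper78.AlgSpLocPLofp Groth.Agent.Lib.Helper78.AlgSpLocPFlat
  Groth.Agent.Lib.Helper78.AlgSpLocPSmooth Groth.Agent.Lib.Helper78.AlgSpLocPLqf
  Groth.Agent.Lib.Helper78.AlgSpLocPUnram

/-- locally quasi-finite and locally of finite type. -/
abbrev LqfLoft : MorphismProperty Scheme.{u} := @LocallyQuasiFinite ⊓ @LocallyOfFiniteType

/-- locally of finite type and formally unramified. -/
abbrev Unram : MorphismProperty Scheme.{u} := @LocallyOfFiniteType ⊓ @FormallyUnramified

/-- the hypothesis on `P` shared by the statements on the seven classes. -/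
def Seven (P : MorphismProperty Scheme.{u}) : Prop :=
  P = @LocallyOfFiniteType ∨ P = @LocallyOfFinitePresentation ∨ P = @Flat ∨ P = @Smooth ∨
    P = @Etale ∨
    (∀ ⦃A B : Scheme.{u}⦄ (g : A ⟶ B), P g ↔ (LocallyQuasiFinite g ∧ LocallyOfFiniteType g)) ∨
    (∀ ⦃A B : Scheme.{u}⦄ (g : A ⟶ B), P g ↔ (LocallyOfFiniteType g ∧ FormallyUnramified g))

/-- induction principle for the seven classes. -/
theorem Seven.rec' {P : MorphismProperty Scheme.{u}} (hP : Seven P)
    (motive : MorphismProperty Scheme.{u} → Prop)
    (h1 : motive @LocallyOfFiniteType) (h2 : motive @LocallyOfFinitePresentation)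
    (h3 : motive @Flat) (h4 : motive @Smooth) (h5 : motive @Etale)
    (h6 : motive ((@LocallyQuasiFinite : MorphismProperty Scheme.{u}) ⊓ @LocallyOfFiniteType))
    (h7 : motive ((@LocallyOfFiniteType : MorphismProperty Scheme.{u}) ⊓ @FormallyUnramified)) :
    motive P := by
  rcases hP with rfl | rfl | rfl | rfl | rfl | h | h
  · exact h1
  · exact h2
  · exact h3
  · exact h4
  · exact h5
  · have : P = LqfLoft.{u} := by
      ext A B g; exact h g
    rw [this]; exact h6
  · have : P = Unram.{u} := by
      ext A B g; exact h g
    rw [this]; exact h7

theorem etLocalST_of_seven {P : MorphismProperty Scheme.{u}} (hP : Seven P) : EtLocalST P :=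
  hP.rec' EtLocalST etLocalST_loft etLocalST_lofp etLocalST_flat etLocalST_smooth etLocalST_etale
    etLocalST_lqf (etLocalST_inf etLocalST_loft etLocalST_fu)

theorem isStableUnderBaseChange_of_seven {P : MorphismProperty Scheme.{u}} (hP : Seven P) :
    P.IsStableUnderBaseChange :=
  hP.rec' (fun P => P.IsStableUnderBaseChange) inferInstance inferInstance inferInstance
    inferInstance inferInstance inferInstance inferInstance

theorem isStableUnderComposition_of_seven {P : MorphismProperty Scheme.{u}} (hP : Seven P) :
    P.IsStableUnderComposition :=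
  hP.rec' (fun P => P.IsStableUnderComposition) inferInstance inferInstance inferInstance
    inferInstance inferInstance inferInstance inferInstance

theorem isZariskiLocalAtSource_of_seven {P : MorphismProperty Scheme.{u}} (hP : Seven P) :
    IsZariskiLocalAtSource P :=
  hP.rec' (fun P => IsZariskiLocalAtSource P) inferInstance inferInstance inferInstance
    inferInstance inferInstance inferInstance inferInstance

theorem isZariskiLocalAtTarget_of_seven {P : MorphismProperty Scheme.{u}} (hP : Seven P) :
    IsZariskiLocalAtTarget P :=
  hP.rec' (fun P => IsZariskiLocalAtTarget P) inferInstance inferInstance inferInstance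
    inferInstance inferInstance inferInstance inferInstance

end Groth.Agent.Lib.Helper78.AlgSpLocPSeven
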