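import Groth.Agent.Lib.Helper78.AlgSpLocP2
import Groth.Agent.Lib.Helper51.AlgSpCharts
import Groth.Prelude.Def_AlgSpCov

/-!
# `LocP P` is etale local on the source (helper78)
-/

set_option autoImplicit false
universe u
open CategoryTheory CategoryTheory.Limits AlgebraicGeometry
open AlgSp

namespace Groth.Agent.Lib.Helper78.AlgSpLocPSrc

open Groth.Agent.Lib.Helper52 Groth.Agent.Lib.Helper51 Groth.Agent.Lib.Helper78.AlgSpLocP

/-- source descent along a jointly surjective family of etale morphisms. -/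
theorem descend_family {P : MorphismProperty Scheme.{u}} (hP : EtLocalST P)
    [IsZariskiLocalAtSource P] {ι : Type u} {B C : Scheme.{u}} (A : ι → Scheme.{u})
    (e : ∀ i, A i ⟶ B) (he : ∀ i, Etale (e i)) (hsurj : ∀ x : B, ∃ i, x ∈ Set.range (e i))
    (h : B ⟶ C) (H : ∀ i, P (e i ≫ h)) : P h := by
  let E : ∐ A ⟶ B := Sigma.desc e
  have hE : Etale E := IsZariskiLocalAtSource.sigmaDesc (P := @Etale) he
  have hEs : Surjective E := ⟨fun x => by
    obtain ⟨i, w, hw⟩ := hsurj x
    refine ⟨Sigma.ι A i w, ?_⟩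
    rw [← Scheme.Hom.comp_apply, Sigma.ι_desc]
    exact hw⟩
  have hEh : E ≫ h = Sigma.desc (fun i => e i ≫ h) := by
    apply Sigma.hom_ext
    intro i
    rw [Sigma.ι_desc_assoc, Sigma.ι_desc]
  refine hP.descend E h hE hEs ?_
  rw [hEh]
  exact IsZariskiLocalAtSource.sigmaDesc (P := P) H

variable {S : Scheme.{u}}

/-- **Source covers by a family of etale charts.** -/
theorem locP_of_precomp_chart_family {P : MorphismProperty Scheme.{u}} (hP : EtLocalST P)
    [IsZariskiLocalAtSource P] {X Y : Sp S} (f : X ⟶ Y) {ι : Type u} (U : ι → Over S)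
    (φ : ∀ i, (yon S).obj (U i) ⟶ X) (hφ : ∀ i, RepWith @Etale (φ i))
    (hφs : ∀ x : Points X, ∃ i, x ∈ Set.range (Points.ofPt (φ i)))
    (hf : ∀ i, LocP P (φ i ≫ f)) : LocP P f := by
  intro U' V' a' b' h' ha' hb' comm'
  have sqU := fun i => (hφ i).rep.isPullback' a'
  let p₁ : ∀ i, (hφ i).rep.pullback a' ⟶ U i := fun i => (hφ i).rep.fst' a'
  let p₂ : ∀ i, (hφ i).rep.pullback a' ⟶ U' := fun i => (hφ i).rep.snd a'
  have hp₂e : ∀ i, Etale (p₂ i).left := fun i => (hφ i).property _ _ _ (sqU i)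
  have hp₁e : ∀ i, Etale (p₁ i).left := fun i => ha'.property _ _ _ (sqU i).flip
  have h1 : ∀ i, P ((p₂ i).left ≫ h'.left) := by
    intro i
    refine hf i ((yon S).map (p₁ i)) b' (p₂ i ≫ h') ((repWith_yon_map_iff _ _).2 (hp₁e i)) hb' ?_
    rw [← Category.assoc, (sqU i).w, Category.assoc, comm', Functor.map_comp, Category.assoc]
  refine descend_family hP (fun i => ((hφ i).rep.pullback a').left) (fun i => (p₂ i).left) hp₂e ?_
    h'.left h1
  intro x
  obtain ⟨i, t, ht⟩ := hφs (Points.ofPt a' x)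
  refine ⟨i, ?_⟩
  exact (ofPt_mem_range_map_iff (sqU i) x).1 ⟨Points.ofScheme (U i) t, by
    rw [← Points.ofPt_eq_map_ofScheme]; exact ht⟩

/-- `LocP P` is etale local on the source. -/
theorem isLocalOnSource_et_locP {P : MorphismProperty Scheme.{u}} (hP : EtLocalST P)
    [IsZariskiLocalAtSource P] (S : Scheme.{u}) :
    AlgSp.IsLocalOnSource (AlgSp.IsEtCover (S := S)) (AlgSp.LocP P) := by
  intro ι X Xi g hX hXi hcov Y f hY
  constructor
  · intro hf i U W a c h ha hc comm
    refine hf (a ≫ g i) c h (hcov.1 i a ha) hc ?_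
    rw [Category.assoc]; exact comm
  · intro H
    choose T aT haT haTs using fun i => (hXi i).atlas
    refine locP_of_precomp_chart_family hP f T (fun i => aT i ≫ g i)
      (fun i => hcov.1 i (aT i) (haT i)) ?_ ?_
    · intro x
      obtain ⟨i, ξ, hξ⟩ := hcov.2 x
      obtain ⟨t, ht⟩ := surjective_ofPt_of_repWith_surjective (aT i) (haTs i) ξ
      refine ⟨i, t, ?_⟩
      rw [← hξ, ← ht, Points.ofPt_eq_map_ofScheme, Points.ofPt_eq_map_ofScheme, Points.map_comp]
    · intro i
      have := locP_precomp_chart (g i ≫ f) (aT i) (haT i) (H i)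
      rwa [← Category.assoc] at this

end Groth.Agent.Lib.Helper78.AlgSpLocPSrc
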