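import Groth.Agent.Lib.Helper78.AlgSpLocP5
import Groth.Agent.Lib.Helper78.AlgSpLocPLofp

/-!
# Cancellation for locally of finite presentation (helper78)
-/

set_option autoImplicit false
universe u

open CategoryTheory CategoryTheory.Limits AlgebraicGeometry MorphismProperty

namespace Groth.Agent.Lib.Helper78.AlgSpMisc

open AlgSp

/-- if `f ≫ g` is locally of finite presentation and `g` is locally of finite type then `f` is
locally of finite presentation (schemes). -/
theorem lofp_of_comp {X Y Z : Scheme.{u}} (f : X ⟶ Y) (g : Y ⟶ Z)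
    (hg : LocallyOfFiniteType g) (hfg : LocallyOfFinitePresentation (f ≫ g)) :
    LocallyOfFinitePresentation f := by
  rw [HasRingHomProperty.iff_exists_appLE (P := @LocallyOfFinitePresentation)
    (RingHom.finitePresentation_stableUnderComposition.stableUnderCompositionWithLocalizationAway
      RingHom.finitePresentation_holdsForLocalizationAway).left]
  intro x
  obtain ⟨W, hW, hxW, -⟩ := TopologicalSpace.Opens.isBasis_iff_nbhd.mp Z.isBasis_affineOpens
    (TopologicalSpace.Opens.mem_top (g (f x)))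
  obtain ⟨U, hU, hxU, eU⟩ := TopologicalSpace.Opens.isBasis_iff_nbhd.mp Y.isBasis_affineOpens
    (show f x ∈ g ⁻¹ᵁ W from hxW)
  obtain ⟨V, hV, hxV, eV⟩ := TopologicalSpace.Opens.isBasis_iff_nbhd.mp X.isBasis_affineOpens
    (show x ∈ f ⁻¹ᵁ U from hxU)
  refine ⟨⟨U, hU⟩, ⟨V, hV⟩, hxV, eV, ?_⟩
  have h1 : RingHom.FiniteType (g.appLE W U eU).hom :=
    HasRingHomProperty.appLE (P := @LocallyOfFiniteType) g hg ⟨W, hW⟩ ⟨U, hU⟩ eU
  have h2 : RingHom.FinitePresentation ((f ≫ g).appLE W V
      (eV.trans ((TopologicalSpace.Opens.map f.base).map (homOfLE eU)).le)).hom :=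
    HasRingHomProperty.appLE (P := @LocallyOfFinitePresentation) (f ≫ g) hfg ⟨W, hW⟩ ⟨V, hV⟩ _
  rw [← Scheme.Hom.appLE_comp_appLE f g W U V eU eV, CommRingCat.hom_comp] at h2
  exact RingHom.FinitePresentation.of_comp_finiteType _ h2 h1

variable {S : Scheme.{u}}

/-- for morphisms of algebraic spaces: `X ⟶ Z` locally of finite presentation and `Y ⟶ Z` locally
of finite type imply `X ⟶ Y` locally of finite presentation. -/
theorem locP_lofp_of_comp {X Y Z : Sp S} (hX : IsAlgSpace X) (hY : IsAlgSpace Y)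
    (hZ : IsAlgSpace Z) (f : X ⟶ Y) (g : Y ⟶ Z)
    (hfg : LocP @LocallyOfFinitePresentation (f ≫ g)) (hg : LocP @LocallyOfFiniteType g) :
    LocP @LocallyOfFinitePresentation f :=
  AlgSpLocP.locP_of_comp_cancel' (Q := @LocallyOfFiniteType) AlgSpLocPLofp.etLocalST_lofp
    (fun u v hv huv => lofp_of_comp u v hv huv) f g hX.atlas hY.atlas hZ.atlas hg hfg

end Groth.Agent.Lib.Helper78.AlgSpMisc
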