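import Groth.Agent.Lib.Helper78.AlgSpMisc
import Groth.Agent.Lib.Helper78.AlgSpLocPSrc
import Groth.Agent.Lib.Helper52.Points
import Groth.Prelude.Def_AlgSpCov

/-!
# Smooth-local-on-source-and-target properties of morphisms of algebraic spaces (helper78)
-/

set_option autoImplicit false
universe u

open CategoryTheory CategoryTheory.Limits AlgebraicGeometry MorphismProperty

namespace Groth.Agent.Lib.Helper78.AlgSpSmLocal

open AlgSp Groth.Agent.Lib.Helper78.AlgSpLocP Groth.Agent.Lib.Helper78.AlgSpFibre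
  Groth.Agent.Lib.Helper78.AlgSpMisc Groth.Agent.Lib.Helper78.AlgSpLocPSmooth

variable {S : Scheme.{u}}

theorem locP_etale_id {Y : Sp S} (hY : IsAlgSpace Y) : LocP @Etale (𝟙 Y) :=
  (isEtaleMor_iff_locP hY (𝟙 Y)).1 (fun U φ hφ => by rwa [Category.comp_id])

theorem etale_le_smooth : (@Etale : MorphismProperty Scheme.{u}) ≤ @Smooth :=
  fun _ _ g hg => by
    have : Etale g := hg
    exact (inferInstance : Smooth g)

theorem locP_smooth_id {Y : Sp S} (hY : IsAlgSpace Y) : LocP @Smooth (𝟙 Y) :=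
  locP_mono etale_le_smooth (locP_etale_id hY)

theorem locP_smooth_of_isEtaleMor {X Y : Sp S} (hY : IsAlgSpace Y) {f : X ⟶ Y}
    (hf : IsEtaleMor f) : LocP @Smooth f :=
  locP_mono etale_le_smooth ((isEtaleMor_iff_locP hY f).1 hf)

/-- base change of a smooth morphism of algebraic spaces. -/
theorem locP_smooth_baseChange {X Y X' Y' : Sp S} (hX : IsAlgSpace X) (hY : IsAlgSpace Y)
    {f : X ⟶ Y} {g : Y' ⟶ Y} {fst : X' ⟶ X} {f' : X' ⟶ Y'} (sq : IsPullback fst f' f g)
    (hf : LocP @Smooth f) : LocP @Smooth f' :=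
  locP_of_isPullback etLocalST_smooth sq (repAll_of_isAlgSpace hY) hX.atlas hY.atlas hf

/-- composition of smooth morphisms of algebraic spaces. -/
theorem locP_smooth_comp {X Y Z : Sp S} (hY : IsAlgSpace Y) (f : X ⟶ Y) (g : Y ⟶ Z)
    (hf : LocP @Smooth f) (hg : LocP @Smooth g) : LocP @Smooth (f ≫ g) :=
  locP_comp etLocalST_smooth f g hY.atlas hf hg

end Groth.Agent.Lib.Helper78.AlgSpSmLocal
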