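import Groth.Agent.Lib.Helper78.EtLiftNil
import Groth.Agent.Lib.Helper78.AlgSpInfSq

set_option autoImplicit false
universe u
open CategoryTheory CategoryTheory.Limits AlgebraicGeometry Opposite
open AlgSp

namespace Groth.Agent.Lib.Helper78.EtLiftNilOver

variable {S : Scheme.{u}}

/-- The data of an affine thickening (surjective closed immersion) in standard form. -/
theorem exists_standard_form {W₀ W : Over S} (k : W₀ ⟶ W) [IsAffine W.left]
    [IsClosedImmersion k.left] (hs : Function.Surjective k.left) :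
    ∃ (A : Type u) (_ : CommRing A) (I : Ideal A) (_ : ∀ x ∈ I, IsNilpotent x)
      (str : Spec (.of A) ⟶ S) (ΨW : W ≅ Over.mk str)
      (ΨW₀ : W₀ ≅ Over.mk (Spec.map (CommRingCat.ofHom (Ideal.Quotient.mk I)) ≫ str)),
      ΨW₀.hom ≫ (Over.homMk (Spec.map (CommRingCat.ofHom (Ideal.Quotient.mk I))) rfl :
        Over.mk (Spec.map (CommRingCat.ofHom (Ideal.Quotient.mk I)) ≫ str) ⟶ Over.mk str) =
        k ≫ ΨW.hom := by
  obtain ⟨hW₀, hsurj⟩ := IsClosedImmersion.isAffine_surjective_of_isAffine k.left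
  let A : Type u := Γ(W.left, ⊤)
  let I : Ideal A := RingHom.ker k.left.appTop.hom
  let e : (A ⧸ I) ≃+* Γ(W₀.left, ⊤) := RingHom.quotientKerEquivOfSurjective hsurj
  let φ : W.left ≅ Spec (.of A) := W.left.isoSpec
  let ψ₀ : W₀.left ≅ Spec (.of (A ⧸ I)) :=
    W₀.left.isoSpec ≪≫ Scheme.Spec.mapIso e.toCommRingCatIso.op
  have hcomp : ψ₀.hom ≫ Spec.map (CommRingCat.ofHom (Ideal.Quotient.mk I)) = k.left ≫ φ.hom := by
    have h2 : CommRingCat.ofHom (Ideal.Quotient.mk I) ≫ e.toCommRingCatIso.hom =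
        k.left.appTop := by
      ext x
      rfl
    simp only [ψ₀, φ, Iso.trans_hom, Functor.mapIso_hom, Iso.op_hom, Scheme.Spec_map,
      Quiver.Hom.unop_op, Category.assoc, ← Spec.map_comp, h2]
    exact Scheme.isoSpec_hom_naturality k.left
  have hI : ∀ x ∈ I, IsNilpotent x := by
    intro x hx
    -- the quotient map is surjective on spectra
    have hsp : Function.Surjective (Spec.map (CommRingCat.ofHom (Ideal.Quotient.mk I))) := by
      intro p
      obtain ⟨w, hw⟩ := hs (φ.inv p)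
      refine ⟨ψ₀.hom w, ?_⟩
      have h1 := congrArg (fun m => m w) hcomp
      change (Spec.map (CommRingCat.ofHom (Ideal.Quotient.mk I))) (ψ₀.hom w) = φ.hom (k.left w) at h1
      rw [h1, hw]
      have h2 : φ.hom (φ.inv p) = (φ.inv ≫ φ.hom) p := rfl
      rw [h2, Iso.inv_hom_id]
      rfl
    rw [← mem_nilradical, nilradical_eq_sInf, Ideal.mem_sInf]
    intro P hP
    obtain ⟨q, hq⟩ := hsp ⟨P, hP⟩
    have hq' : (PrimeSpectrum.comap (Ideal.Quotient.mk I) q).asIdeal = P := by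
      have := congrArg PrimeSpectrum.asIdeal hq
      exact this
    rw [← hq']
    change Ideal.Quotient.mk I x ∈ q.asIdeal
    rw [Ideal.Quotient.eq_zero_iff_mem.2 hx]
    exact Ideal.zero_mem _
  refine ⟨A, inferInstance, I, hI, φ.inv ≫ W.hom, Over.isoMk φ (by simp), Over.isoMk ψ₀ ?_, ?_⟩
  · change ψ₀.hom ≫ Spec.map (CommRingCat.ofHom (Ideal.Quotient.mk I)) ≫ φ.inv ≫ W.hom = W₀.hom
    rw [← Category.assoc, hcomp, Category.assoc, Iso.hom_inv_id_assoc]
    exact Over.w k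
  · apply Over.OverMorphism.ext
    exact hcomp

/-- **Local lifting of etale schemes along an affine thickening over `S`.** -/
theorem exists_etale_lift_over {W₀ W : Over S} (k : W₀ ⟶ W) [IsAffine W.left]
    [IsClosedImmersion k.left] (hks : Function.Surjective k.left)
    {E : Over S} (s : E ⟶ W₀) (hs : Etale s.left) (e : E.left) :
    ∃ (W' Wₑ : Over S) (π : W' ⟶ W) (ι : Wₑ ⟶ E) (κ : Wₑ ⟶ W'), IsAffine W'.left ∧
      Etale π.left ∧ IsOpenImmersion ι.left ∧ e ∈ Set.range ι.left ∧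
      IsPullback κ (ι ≫ s) π k := by
  obtain ⟨A, _, I, hI, str, ΨW, ΨW₀, h⟩ := exists_standard_form k hks
  have hl : ΨW₀.hom.left ≫ Spec.map (CommRingCat.ofHom (Ideal.Quotient.mk I)) =
      k.left ≫ ΨW.hom.left := congrArg (·.left) h
  haveI : Etale (s.left ≫ ΨW₀.hom.left) := by
    haveI := hs
    infer_instance
  obtain ⟨W's, Ws, π₀, ι₀, κ₀, hW'aff, hπ, hι, he, sqW⟩ :=
    Groth.Agent.Lib.Helper78.EtLiftNil.exists_etale_lift_scheme I hI (s.left ≫ ΨW₀.hom.left) e
  have hinv1 : ΨW₀.hom.left ≫ ΨW₀.inv.left = 𝟙 _ := by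
    rw [← Over.comp_left, Iso.hom_inv_id]; rfl
  have hinv2 : ΨW.hom.left ≫ ΨW.inv.left = 𝟙 _ := by
    rw [← Over.comp_left, Iso.hom_inv_id]; rfl
  have sqW' : IsPullback κ₀ (ι₀ ≫ s.left) (π₀ ≫ ΨW.inv.left) k.left := by
    refine IsPullback.of_iso sqW (Iso.refl _) (Iso.refl _)
      ((Over.forget S).mapIso ΨW₀.symm) ((Over.forget S).mapIso ΨW.symm) ?_ ?_ ?_ ?_
    · simp
    · simp only [Iso.refl_hom, Category.id_comp, Functor.mapIso_hom, Iso.symm_hom,
        Over.forget_map, Category.assoc, hinv1, Category.comp_id]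
    · simp
    · simp only [Functor.mapIso_hom, Iso.symm_hom, Over.forget_map]
      rw [← cancel_epi ΨW₀.hom.left, ← Category.assoc, hl, Category.assoc, hinv2,
        ← Category.assoc, hinv1, Category.id_comp, Category.comp_id]
  let W'o : Over S := Over.mk ((π₀ ≫ ΨW.inv.left) ≫ W.hom)
  let πo : W'o ⟶ W := Over.homMk (π₀ ≫ ΨW.inv.left) rfl
  let Wo : Over S := Over.mk (ι₀ ≫ E.hom)
  let ιo : Wo ⟶ E := Over.homMk ι₀ rfl
  have hkw : κ₀ ≫ (π₀ ≫ ΨW.inv.left) ≫ W.hom = ι₀ ≫ E.hom := by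
    rw [← Category.assoc, sqW'.w, Category.assoc, Category.assoc, Over.w k, Over.w s]
  let κo : Wo ⟶ W'o := Over.homMk κ₀ hkw
  have sqo : IsPullback κo (ιo ≫ s) πo k :=
    IsPullback.of_map_of_faithful (Over.forget S) sqW'
  exact ⟨W'o, Wo, πo, ιo, κo, hW'aff, inferInstanceAs (Etale (π₀ ≫ ΨW.inv.left)), hι, he, sqo⟩

end Groth.Agent.Lib.Helper78.EtLiftNilOver
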