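import Groth.Agent.Lib.Helper78.SmLocalLift
import Groth.Agent.Lib.Helper78.EtLiftNilOver
import Groth.Agent.Lib.Helper78.AlgSpSmLocal
import Groth.Agent.Lib.Helper78.AlgSpFibre
import Groth.Agent.Lib.Helper78.AlgSpLiftGlue2
import Groth.Agent.Lib.Helper51.AlgSpPoints
import Groth.Agent.Lib.Helper52.Points

set_option autoImplicit false
universe u
open CategoryTheory CategoryTheory.Limits AlgebraicGeometry Opposite
open AlgSp

namespace Groth.Agent.Lib.Helper78.AlgSpSmLift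

open Groth.Agent.Lib.Helper78.AlgSpZar Groth.Agent.Lib.Helper40.AlgSpBasic
open Groth.Agent.Lib.Helper78.AlgSpLiftGlue Groth.Agent.Lib.Helper51 Groth.Agent.Lib.Helper52
open Groth.Agent.Lib.Helper78.SmLocalLift Groth.Agent.Lib.Helper78.EtLiftNilOver
open Groth.Agent.Lib.Helper78.AlgSpSmLocal Groth.Agent.Lib.Helper78.AlgSpFibre

variable {S : Scheme.{u}}

/-- Local lifting on an affine test object. -/
theorem exists_lift_on_affine {X Y : Sp S} (hX : IsAlgSpace X) (hY : IsAlgSpace Y)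
    (f : X ⟶ Y) (hf : LocP @Smooth f) {V V₀ : Over S} (hV : IsAffine V.left)
    (b' : (yon S).obj V ⟶ Y) (κ : V₀ ⟶ V) (hκc : IsClosedImmersion κ.left)
    (hκs : Function.Surjective κ.left) (a₀ : (yon S).obj V₀ ⟶ X)
    (w : a₀ ≫ f = (yon S).map κ ≫ b') (v₀ : V₀.left) :
    ∃ (N N₀ : Over S) (j : N ⟶ V) (κN : N₀ ⟶ N) (j₀ : N₀ ⟶ V₀) (ℓ : (yon S).obj N ⟶ X),
      Etale j.left ∧ κ.left v₀ ∈ Set.range j.left ∧ IsPullback κN j₀ j κ ∧
      ℓ ≫ f = (yon S).map j ≫ b' ∧ (yon S).map κN ≫ ℓ = (yon S).map j₀ ≫ a₀ := by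
  -- C3: the base change of `f` to `V`
  have sqX := IsPullback.of_hasPullback f b'
  have hXV : IsAlgSpace (pullback f b') :=
    isAlgSpace_of_isPullback sqX hY.diag hX (IsAlgSpace.yon_obj V)
  have hsm : LocP @Smooth (pullback.snd f b') := locP_smooth_baseChange hX hY sqX hf
  have hpr1 : pullback.lift a₀ ((yon S).map κ) w ≫ pullback.fst f b' = a₀ :=
    pullback.lift_fst _ _ _
  have hpr2 : pullback.lift a₀ ((yon S).map κ) w ≫ pullback.snd f b' = (yon S).map κ :=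
    pullback.lift_snd _ _ _
  obtain ⟨a', ha'⟩ : ∃ a' : (yon S).obj V₀ ⟶ pullback f b',
    a' = pullback.lift a₀ ((yon S).map κ) w := ⟨_, rfl⟩
  rw [← ha'] at hpr1 hpr2
  -- C4: an atlas of the base change
  obtain ⟨U', q, hq, hqs⟩ := hXV.atlas
  obtain ⟨h, hh⟩ := (yon S).map_surjective (q ≫ pullback.snd f b')
  have hhs : Smooth h.left := hsm q (𝟙 _) h hq (repWith_id _ V) (by rw [hh, Category.comp_id])
  -- C5: the pullback of the atlas along `a'`
  have sqE := hq.1.isPullback' a'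
  have hsE : Etale (hq.1.snd a').left := hq.2 _ _ _ sqE
  have hsS : Surjective (hq.1.snd a').left := hqs.2 _ _ _ sqE
  obtain ⟨ε, hε⟩ := (hq.1.snd a').left.surjective v₀
  have hcomm : hq.1.fst' a' ≫ h = hq.1.snd a' ≫ κ := by
    apply (yon S).map_injective
    rw [Functor.map_comp, Functor.map_comp, hh, ← Category.assoc, sqE.w, Category.assoc, hpr2]
  -- C6: lift the etale neighbourhood
  haveI := hV
  haveI := hκc
  obtain ⟨W'', Wε, π, ι, κ'', hW''aff, hπ, hι, ⟨w₀, hw₀⟩, sqW⟩ :=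
    exists_etale_lift_over κ hκs (hq.1.snd a') hsE ε
  have sqWl := sqW.map (Over.forget S)
  haveI hκ''c : IsClosedImmersion κ''.left :=
    MorphismProperty.of_isPullback (P := @IsClosedImmersion) sqWl.flip hκc
  have hκ''s : Function.Surjective κ''.left := by
    have : Surjective κ.left := ⟨hκs⟩
    have h1 : Surjective κ''.left :=
      MorphismProperty.of_isPullback (P := @Surjective) sqWl.flip this
    exact h1.surj
  -- C7: local lifting for the smooth morphism of schemes `h`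
  have hc7 : (ι ≫ hq.1.fst' a').left ≫ h.left = κ''.left ≫ π.left := by
    have h1 : (ι ≫ hq.1.fst' a') ≫ h = κ'' ≫ π := by
      rw [Category.assoc, hcomm, sqW.w, Category.assoc]
    exact congrArg (fun m => m.left) h1
  obtain ⟨N', hxN', hN'aff, ℓ₀, eq1, eq2⟩ :=
    exists_local_lift h.left κ''.left hκ''s (ι ≫ hq.1.fst' a').left π.left hc7 w₀
  -- C8: assemble
  let N : Over S := Over.mk (N'.ι ≫ W''.hom)
  let jN : N ⟶ W'' := opensι W'' N'
  let N₀ : Over S := Over.mk ((κ''.left ⁻¹ᵁ N').ι ≫ Wε.hom)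
  let jN₀ : N₀ ⟶ Wε := opensι Wε (κ''.left ⁻¹ᵁ N')
  have hκN : (κ''.left ∣_ N') ≫ N'.ι ≫ W''.hom = (κ''.left ⁻¹ᵁ N').ι ≫ Wε.hom := by
    rw [← Category.assoc, morphismRestrict_ι, Category.assoc, Over.w κ'']
  let κN : N₀ ⟶ N := Over.homMk (κ''.left ∣_ N') hκN
  have sqN : IsPullback κN jN₀ jN κ'' :=
    IsPullback.of_map_of_faithful (Over.forget S) (isPullback_morphismRestrict κ''.left N')
  have hℓo : ℓ₀ ≫ U'.hom = N'.ι ≫ W''.hom := by
    have h1 : h.left ≫ V.hom = U'.hom := Over.w h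
    have h2 : π.left ≫ V.hom = W''.hom := Over.w π
    rw [← h1, ← Category.assoc, eq1, Category.assoc, h2]
  let ℓo : N ⟶ U' := Over.homMk ℓ₀ hℓo
  have e1 : ℓo ≫ h = jN ≫ π := by
    apply Over.OverMorphism.ext
    exact eq1
  have e2 : κN ≫ ℓo = jN₀ ≫ ι ≫ hq.1.fst' a' := by
    apply Over.OverMorphism.ext
    exact eq2
  refine ⟨N, N₀, jN ≫ π, κN, jN₀ ≫ ι ≫ hq.1.snd a', (yon S).map ℓo ≫ q ≫ pullback.fst f b',
    ?_, ?_, ?_, ?_, ?_⟩
  · change Etale (N'.ι ≫ π.left)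
    infer_instance
  · refine ⟨⟨κ''.left w₀, hxN'⟩, ?_⟩
    have h1 := congrArg (fun m => m.left w₀) sqW.w
    change π.left (κ''.left w₀) = κ.left ((hq.1.snd a').left (ι.left w₀)) at h1
    change π.left (κ''.left w₀) = κ.left v₀
    rw [h1, hw₀, hε]
  · exact sqN.paste_vert sqW
  · rw [Category.assoc, Category.assoc, sqX.w, ← Category.assoc q, ← hh, ← Category.assoc,
      ← Functor.map_comp, e1]
  · rw [← Category.assoc, ← Functor.map_comp, e2, Functor.map_comp, Functor.map_comp,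
      Category.assoc, Category.assoc, ← Category.assoc ((yon S).map (hq.1.fst' a')), sqE.w,
      Category.assoc, hpr1, Functor.map_comp, Functor.map_comp, Category.assoc, Category.assoc]

/-- **Smooth morphisms of algebraic spaces lift etale locally along thickenings.** -/
theorem smooth_lift_etale_locally {X Y T T' : Sp S} (hX : IsAlgSpace X) (hY : IsAlgSpace Y)
    (hT' : IsAlgSpace T') (f : X ⟶ Y) (hf : LocP @Smooth f) (i : T ⟶ T') (hi : IsThickMor i)
    (a : T ⟶ X) (b : T' ⟶ Y) (w : a ≫ f = i ≫ b) (t' : Points T') :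
    ∃ (V : Over S) (e : (yon S).obj V ⟶ T') (ℓ : (yon S).obj V ⟶ X),
      RepWith @Etale e ∧ t' ∈ Set.range (Points.ofPt e) ∧ ℓ ≫ f = e ≫ b ∧
      ∀ (P : Sp S) (p₁ : P ⟶ T) (p₂ : P ⟶ (yon S).obj V),
        IsPullback p₁ p₂ i e → p₂ ≫ ℓ = p₁ ≫ a := by
  -- C1: an affine etale chart of `T'` through `t'`
  obtain ⟨T'₀, p, hp, hps⟩ := hT'.atlas
  obtain ⟨t'₀, ht'₀⟩ := surjective_ofPt_of_repWith_surjective p hps t'
  obtain ⟨V', ⟨v', hv'⟩⟩ := affineOpens_jointly_surjective T'₀ t'₀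
  have he' : RepWith @Etale ((yon S).map (opensι T'₀ V'.1) ≫ p) := by
    refine (RepWith (S := S) @Etale).comp_mem _ _ ((repWith_yon_map_iff _ _).2 ?_) hp
    change Etale V'.1.ι
    infer_instance
  obtain ⟨e', he'def⟩ : ∃ e' : (yon S).obj (Over.mk (V'.1.ι ≫ T'₀.hom)) ⟶ T',
    e' = (yon S).map (opensι T'₀ V'.1) ≫ p := ⟨_, rfl⟩
  rw [← he'def] at he'
  have hpt : Points.ofPt e' v' = t' := by
    rw [he'def, ofPt_yon_map_comp, hv', ht'₀]
  -- C2: the base change of `i`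
  have sqi := hi.1.isPullback e'
  have hth : thick (hi.1.snd e').left := hi.2 _ _ _ sqi
  obtain ⟨v₀, hv₀⟩ := hth.2.surj v'
  have hw' : (hi.1.fst e' ≫ a) ≫ f = (yon S).map (hi.1.snd e') ≫ e' ≫ b := by
    rw [Category.assoc, w, ← Category.assoc, sqi.w, Category.assoc]
  obtain ⟨N, N₀, j, κN, j₀, ℓ, hj, hjr, sqN, hℓ1, hℓ2⟩ :=
    exists_lift_on_affine hX hY f hf (V := Over.mk (V'.1.ι ≫ T'₀.hom)) V'.2 (e' ≫ b)
      (hi.1.snd e') hth.1 hth.2.surj (hi.1.fst e' ≫ a) hw' v₀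
  refine ⟨N, (yon S).map j ≫ e', ℓ, ?_, ?_, ?_, ?_⟩
  · exact (RepWith (S := S) @Etale).comp_mem _ _ ((repWith_yon_map_iff _ _).2 hj) he'
  · obtain ⟨n, hn⟩ := hjr
    refine ⟨n, ?_⟩
    rw [ofPt_yon_map_comp, hn, hv₀, hpt]
  · rw [hℓ1, Category.assoc]
  · intro P p₁ p₂ sqP
    have big : IsPullback ((yon S).map j₀ ≫ hi.1.fst e') ((yon S).map κN) i
        ((yon S).map j ≫ e') := ((sqN.map (yon S)).flip.paste_horiz sqi)
    have hφ1 : big.lift p₁ p₂ sqP.w ≫ ((yon S).map j₀ ≫ hi.1.fst e') = p₁ := big.lift_fst _ _ _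
    have hφ2 : big.lift p₁ p₂ sqP.w ≫ (yon S).map κN = p₂ := big.lift_snd _ _ _
    obtain ⟨φ, hφ⟩ : ∃ φ, φ = big.lift p₁ p₂ sqP.w := ⟨_, rfl⟩
    rw [← hφ] at hφ1 hφ2
    rw [← hφ2, Category.assoc, hℓ2, ← hφ1]
    simp only [Category.assoc]

end Groth.Agent.Lib.Helper78.AlgSpSmLift
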