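import Groth.Agent.Lib.Helper78.AlgSpLocPSrc
import Mathlib.AlgebraicGeometry.Sites.Fpqc
import Mathlib.AlgebraicGeometry.Sites.Proetale

/-!
# `LocP P` is τ-local on the source when `P` is τ-local at the source for schemes (helper78)
-/

set_option autoImplicit false
universe u
open CategoryTheory CategoryTheory.Limits AlgebraicGeometry
open AlgSp

namespace Groth.Agent.Lib.Helper78.AlgSpSrcTau


/-- the two-member family `{𝟙 B, p}`. -/
def pairX {A B : Scheme.{u}} (_p : A ⟶ B) : Bool → Scheme.{u} := fun b => Bool.rec B A b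

def pairF {A B : Scheme.{u}} (p : A ⟶ B) : ∀ b, pairX p b ⟶ B :=
  fun b => Bool.rec (motive := fun b => pairX p b ⟶ B) (𝟙 B) p b

theorem pair_mem {A B : Scheme.{u}} (p : A ⟶ B) :
    Presieve.ofArrows (pairX p) (pairF p) p := Presieve.ofArrows.mk (ι := Bool) true

theorem pair_mem_precoverage (Q : MorphismProperty Scheme.{u}) [Q.ContainsIdentities]
    {A B : Scheme.{u}} (p : A ⟶ B) (hp : Q p) :
    Presieve.ofArrows (pairX p) (pairF p) ∈ Scheme.precoverage Q B := by
  rw [Scheme.ofArrows_mem_precoverage_iff]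
  refine ⟨fun x => ⟨false, x, rfl⟩, ?_⟩
  intro b
  cases b
  · exact Q.id_mem B
  · exact hp

theorem pair_mem_fpqc {A B : Scheme.{u}} (p : A ⟶ B) (hp : Flat p) :
    Presieve.ofArrows (pairX p) (pairF p) ∈ Scheme.fpqcPrecoverage B := by
  refine ⟨?_, pair_mem_precoverage @Flat p hp⟩
  let E : PreZeroHypercover.{0} B := { I₀ := Bool, X := pairX p, f := pairF p }
  have : E.presieve₀ ∈ Scheme.qcPrecoverage B := by
    rw [Scheme.presieve₀_mem_qcPrecoverage_iff]
    refine ⟨fun {U} hU => ?_⟩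
    refine IsCompactOpenCovered.of_finite (κ := Unit) (fun _ => false) (fun _ => U)
      (fun _ => hU.isCompact) ?_
    ext x
    simp only [Set.mem_iUnion, Set.mem_image, exists_const]
    constructor
    · rintro ⟨y, hy, rfl⟩; exact hy
    · intro hx; exact ⟨x, hx, rfl⟩
  exact this

theorem etale_le_fpqc : Scheme.etalePrecoverage.{u} ≤ Scheme.fpqcPrecoverage :=
  Scheme.etalePrecoverage_le_proetalePrecoverage.trans Scheme.proetalePrecoverage_le_fpqcPrecoverage

theorem etale_le_precoverage {Q : MorphismProperty Scheme.{u}} (hle : @Etale ≤ Q) :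
    Scheme.etalePrecoverage.{u} ≤ Scheme.precoverage Q := Scheme.precoverage_mono hle


open Groth.Agent.Lib.Helper52 Groth.Agent.Lib.Helper51 Groth.Agent.Lib.Helper78.AlgSpLocP
open Groth.Agent.Lib.Helper78.AlgSpBasic

variable {S : Scheme.{u}}



theorem fwd_core {P Q : MorphismProperty Scheme.{u}} {K : Precoverage Scheme.{u}}
    [P.IsLocalAtSource K] [Q.HasOfPostcompProperty @Etale]
    (hK1 : ∀ {A B : Scheme.{u}} (p : A ⟶ B), Q p → ∃ R ∈ K B, R p)
    (hK2 : Scheme.etalePrecoverage ≤ K)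
    {X X' Y : Sp S} (hX : IsAlgSpace X) (g : X' ⟶ X) (hg : LocP Q g) (f : X ⟶ Y)
    (hf : LocP P f) : LocP P (g ≫ f) := by
  intro U V a b h ha hb comm
  obtain ⟨U₀, a₀, ha₀, ha₀s⟩ := hX.atlas
  obtain ⟨U₁, j, h₁, sq₀, ha₁, -⟩ := exists_chart_diagram f a₀ ha₀ b hb
  have hPh₁ : P h₁.left :=
    hf ((yon S).map j ≫ a₀) b h₁ ha₁ hb (by rw [Category.assoc]; exact sq₀.w.symm)
  have sqU := ha₀.rep.isPullback' (a ≫ g)
  obtain ⟨p₀, hp₀⟩ : ∃ p₀, p₀ = ha₀.rep.fst' (a ≫ g) := ⟨_, rfl⟩
  obtain ⟨p₁, hp₁⟩ : ∃ p₁, p₁ = ha₀.rep.snd (a ≫ g) := ⟨_, rfl⟩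
  rw [← hp₀, ← hp₁] at sqU
  have hp₁e : Etale p₁.left := ha₀.property _ _ _ sqU
  have hp₁s : Surjective p₁.left := ha₀s.property _ _ _ sqU
  have hQp₀ : Q p₀.left := by
    refine hg ((yon S).map p₁ ≫ a) a₀ p₀
      ((RepWith (S := S) @Etale).comp_mem _ _ ((repWith_yon_map_iff _ _).2 hp₁e) ha) ha₀ ?_
    rw [Category.assoc]; exact sqU.w.symm
  have comm2 : (yon S).map (p₁ ≫ h) ≫ b = (yon S).map p₀ ≫ (a₀ ≫ f) := by
    rw [Functor.map_comp, Category.assoc, ← comm, ← Category.assoc ((yon S).map p₀), sqU.w]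
    simp only [Category.assoc]
  obtain ⟨p₂, hp₂⟩ := (yon S).map_surjective (sq₀.lift _ _ comm2)
  have hp₂h : p₂ ≫ h₁ = p₁ ≫ h :=
    (yon S).map_injective (by rw [Functor.map_comp, hp₂, sq₀.lift_fst])
  have hp₂j : p₂ ≫ j = p₀ :=
    (yon S).map_injective (by rw [Functor.map_comp, hp₂, sq₀.lift_snd])
  have hje : Etale j.left := hb.property _ _ _ sq₀
  have hQp₂ : Q p₂.left := by
    refine MorphismProperty.of_postcomp (W := Q) (W' := @Etale) p₂.left j.left hje ?_
    rw [← Over.comp_left, hp₂j]; exact hQp₀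
  obtain ⟨R, hR, hRp⟩ := hK1 p₂.left hQp₂
  have h3 : P (p₂.left ≫ h₁.left) := MorphismProperty.IsLocalAtSource.comp hR _ hRp hPh₁
  have h4 : P (p₁.left ≫ h.left) := by
    rw [← Over.comp_left, ← hp₂h]; exact h3
  refine MorphismProperty.IsLocalAtSource.of_forall_comp (K := K)
    (R := Presieve.singleton p₁.left) (hK2 _ ?_) ?_
  · rw [Scheme.etalePrecoverage, Scheme.singleton_mem_precoverage_iff]
    exact ⟨hp₁s.surj, hp₁e⟩
  · rintro _ _ ⟨⟩; exact h4




/-- the family of charts `W i = T i ×_X U ⟶ U` obtained from a family `g i : X i ⟶ X` of algebraic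
spaces (with atlases `T i`) and an etale chart `a : h_U ⟶ X`. -/
theorem exists_family {ι : Type u} {X : Sp S} (Xi : ι → Sp S) (g : ∀ i, Xi i ⟶ X)
    (hXi : ∀ i, IsAlgSpace (Xi i)) {U : Over S} (a : (yon S).obj U ⟶ X) (ha : RepWith @Etale a) :
    ∃ (W : ι → Over S) (w : ∀ i, W i ⟶ U) (l : ∀ i, (yon S).obj (W i) ⟶ Xi i),
      (∀ i, RepWith @Etale (l i)) ∧ (∀ i, l i ≫ g i = (yon S).map (w i) ≫ a) ∧
      (∀ (Q : MorphismProperty Scheme.{u}) (i : ι), LocP Q (g i) → Q (w i).left) ∧
      (∀ (i : ι) (x : U.left), (∃ ξ : Points (Xi i), Points.map (g i) ξ = Points.ofPt a x) →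
        x ∈ Set.range (w i).left) ∧
      (∀ (i : ι) (Z : Over S) (c : Z ⟶ U) (lZ : (yon S).obj Z ⟶ Xi i),
        lZ ≫ g i = (yon S).map c ≫ a →
        ∃ (Z' : Over S) (e : Z' ⟶ Z) (t : Z' ⟶ W i), Etale e.left ∧ Surjective e.left ∧
          t ≫ w i = e ≫ c) := by
  choose T aT haT haTs using fun i => (hXi i).atlas
  have sq := fun i => ha.rep.isPullback' (aT i ≫ g i)
  have hje : ∀ i, Etale (ha.rep.snd (aT i ≫ g i)).left := fun i => ha.property _ _ _ (sq i)
  have hl : ∀ i, RepWith @Etale ((yon S).map (ha.rep.snd (aT i ≫ g i)) ≫ aT i) := fun i =>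
    (RepWith (S := S) @Etale).comp_mem _ _ ((repWith_yon_map_iff _ _).2 (hje i)) (haT i)
  have hcomm : ∀ i, ((yon S).map (ha.rep.snd (aT i ≫ g i)) ≫ aT i) ≫ g i =
      (yon S).map (ha.rep.fst' (aT i ≫ g i)) ≫ a := fun i => by
    rw [Category.assoc]; exact (sq i).w.symm
  refine ⟨fun i => ha.rep.pullback (aT i ≫ g i), fun i => ha.rep.fst' (aT i ≫ g i),
    fun i => (yon S).map (ha.rep.snd (aT i ≫ g i)) ≫ aT i, hl, hcomm, ?_, ?_, ?_⟩
  · intro Q i hQ
    exact hQ _ a _ (hl i) ha (hcomm i)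
  · rintro i x ⟨ξ, hξ⟩
    obtain ⟨t, ht⟩ := surjective_ofPt_of_repWith_surjective (aT i) (haTs i) ξ
    refine (ofPt_mem_range_map_iff (sq i).flip x).1 ⟨Points.ofScheme (T i) t, ?_⟩
    rw [Points.map_comp, ← Points.ofPt_eq_map_ofScheme, ht, hξ]
  · intro i Z c lZ hlZ
    have sqZ := (haT i).rep.isPullback' lZ
    have he : Etale ((haT i).rep.snd lZ).left := (haT i).property _ _ _ sqZ
    have hs : Surjective ((haT i).rep.snd lZ).left := (haTs i).property _ _ _ sqZ
    have comm2 : (yon S).map ((haT i).rep.snd lZ ≫ c) ≫ a =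
        (yon S).map ((haT i).rep.fst' lZ) ≫ (aT i ≫ g i) := by
      rw [Functor.map_comp, Category.assoc, ← hlZ, ← Category.assoc, ← sqZ.w, Category.assoc]
    obtain ⟨t, ht⟩ := (yon S).map_surjective ((sq i).lift _ _ comm2)
    refine ⟨_, (haT i).rep.snd lZ, t, he, hs, ?_⟩
    exact (yon S).map_injective (by rw [Functor.map_comp, ht, (sq i).lift_fst])




theorem bwd_core {P : MorphismProperty Scheme.{u}} {K : Precoverage Scheme.{u}}
    [P.IsLocalAtSource K] {ι : Type u} {X Y : Sp S} (Xi : ι → Sp S) (g : ∀ i, Xi i ⟶ X)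
    (f : X ⟶ Y) (H : ∀ i, LocP P (g i ≫ f))
    {U V : Over S} (a : (yon S).obj U ⟶ X) (b : (yon S).obj V ⟶ Y) (h : U ⟶ V)
    (hb : RepWith @Etale b) (comm : a ≫ f = (yon S).map h ≫ b)
    (W : ι → Over S) (w : ∀ i, W i ⟶ U) (l : ∀ i, (yon S).obj (W i) ⟶ Xi i)
    (hl : ∀ i, RepWith @Etale (l i)) (hcomm : ∀ i, l i ≫ g i = (yon S).map (w i) ≫ a)
    (hK : Presieve.ofArrows (fun i => (W i).left) (fun i => (w i).left) ∈ K U.left) :
    P h.left := by
  refine MorphismProperty.IsLocalAtSource.of_forall_comp hK ?_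
  rintro _ _ ⟨i⟩
  exact H i (l i) b (w i ≫ h) (hl i) hb (by
    rw [← Category.assoc, hcomm, Category.assoc, comm, Functor.map_comp, Category.assoc])

theorem hasOfPostcomp_etale (Q : MorphismProperty Scheme.{u}) [Q.IsMultiplicative]
    [Q.IsStableUnderBaseChange] (hle : @Etale ≤ Q) : Q.HasOfPostcompProperty @Etale := by
  rw [MorphismProperty.hasOfPostcompProperty_iff_le_diagonal]
  intro X Y f hf
  have : Etale f := hf
  have h2 : Etale (pullback.diagonal f) := inferInstance
  exact hle _ _ _ h2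


/-- **`LocP P` is local on the source** for coverings by jointly surjective families of morphisms
with `LocP Q`, when `P` is local at the source for the precoverage of `Q`-morphisms of schemes. -/
theorem isLocalOnSource_of_precoverage (Q : MorphismProperty Scheme.{u}) [Q.IsMultiplicative]
    [Q.IsStableUnderBaseChange] (hle : @Etale ≤ Q) (P : MorphismProperty Scheme.{u})
    [P.IsLocalAtSource (Scheme.precoverage Q)] (C : MorphismProperty (Sp S))
    (hC : ∀ ⦃X' X : Sp S⦄ (f : X' ⟶ X), IsAlgSpace X → C f → LocP Q f) :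
    AlgSp.IsLocalOnSource (fun _ _ Y g => IsCover C Y g) (LocP P) := by
  intro ι X Xi g hX hXi hcov Y f hY
  have := hasOfPostcomp_etale Q hle
  constructor
  · intro hf i
    exact fwd_core (K := Scheme.precoverage Q)
      (fun p hp => ⟨_, pair_mem_precoverage Q p hp, pair_mem p⟩) (etale_le_precoverage hle) hX
      (g i) (hC _ hX (hcov.1 i)) f hf
  · intro H U V a b h ha hb comm
    obtain ⟨W, w, l, hl, hcomm, hQ, hsurj, -⟩ := exists_family Xi g hXi a ha
    refine bwd_core (K := Scheme.precoverage Q) Xi g f H a b h hb comm W w l hl hcomm ?_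
    rw [Scheme.ofArrows_mem_precoverage_iff]
    refine ⟨fun x => ?_, fun i => hQ Q i (hC _ hX (hcov.1 i))⟩
    obtain ⟨i, hi⟩ := hcov.2 (Points.ofPt a x)
    exact ⟨i, hsurj i x hi⟩

/-- **`LocP P` is fpqc local on the source** when `P` is fpqc local at the source for schemes. -/
theorem isLocalOnSource_fpqc (P : MorphismProperty Scheme.{u})
    [P.IsLocalAtSource Scheme.fpqcPrecoverage] :
    AlgSp.IsLocalOnSource (AlgSp.IsFpqcCover (S := S)) (LocP P) := by
  intro ι X Xi g hX hXi hcov Y f hY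
  have := hasOfPostcomp_etale (@Flat : MorphismProperty Scheme.{u})
    (fun _ _ f (hf : Etale f) => (inferInstance : Flat f))
  constructor
  · intro hf i
    exact fwd_core (K := Scheme.fpqcPrecoverage) (Q := @Flat)
      (fun p hp => ⟨_, pair_mem_fpqc p hp, pair_mem p⟩) etale_le_fpqc hX (g i) (hcov.1 i) f hf
  · intro H U V a b h ha hb comm
    obtain ⟨W, w, l, hl, hcomm, hQ, hsurj, hlift⟩ := exists_family Xi g hXi a ha
    refine bwd_core (K := Scheme.fpqcPrecoverage) Xi g f H a b h hb comm W w l hl hcomm ?_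
    let E : PreZeroHypercover.{u} U.left :=
      { I₀ := ι, X := fun i => (W i).left, f := fun i => (w i).left }
    have hqc : QuasiCompactCover E := by
      refine ⟨fun {Z} hZ => ?_⟩
      let ZO : Over S := Over.mk (Z.ι ≫ U.hom)
      let c₀ : ZO ⟶ U := Over.homMk Z.ι rfl
      have hZaff : IsAffine ZO.left := hZ
      obtain ⟨m, Wj, cj, hWa, hcf, hcs, hlj⟩ := hcov.2 ZO hZaff ((yon S).map c₀ ≫ a)
      choose ij lj hlj using hlj
      have key := fun j => hlift (ij j) (Wj j) (cj j ≫ c₀) (lj j) (by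
        rw [hlj j, Functor.map_comp, Category.assoc])
      choose Z' e t he hs ht using key
      have hV : ∀ j, ∃ (Vj : TopologicalSpace.Opens (Z' j).left), IsCompact Vj.1 ∧
          (e j).left '' Vj = Set.univ := by
        intro j
        have := hWa j
        have := he j
        refine IsOpenMap.exists_opens_image_eq_of_prespectralSpace (e j).left.continuous
          (e j).left.isOpenMap ?_ isOpen_univ isCompact_univ
        intro x _
        exact (hs j).surj x
      choose Vj hVc hVim using hV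
      have hpt : ∀ j (x : (Z' j).left), (w (ij j)).left ((t j).left x) =
          Z.ι ((cj j).left ((e j).left x)) := by
        intro j x
        have h1 := congrArg (fun φ => φ.left) (ht j)
        simp only [Over.comp_left] at h1
        have h2 := congrArg (fun φ : (Z' j).left ⟶ U.left => φ x) h1
        simp only [Scheme.Hom.comp_apply] at h2
        exact h2
      refine IsCompactOpenCovered.of_comp (σ := Fin m) (Y := fun j => (Z' j).left)
        (fun j => ⇑(w (ij j)).left ∘ ⇑(t j).left) (a := ij) (fun j => ⇑(t j).left)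
        (fun j => (t j).left.continuous) (fun j => rfl) (fun i => (w i).left.continuous) Z.2 ?_
      refine IsCompactOpenCovered.of_finite (κ := Fin m) id Vj hVc ?_
      ext y
      simp only [Set.mem_iUnion, Set.mem_image, Function.comp_apply, id]
      constructor
      · rintro ⟨j, x, hx, rfl⟩
        rw [hpt, Scheme.Opens.ι_apply]
        exact ((cj j).left ((e j).left x)).2
      · intro hy
        obtain ⟨j, v, hv⟩ := hcs ⟨y, hy⟩
        have hv' : v ∈ (e j).left '' (Vj j) := by rw [hVim]; trivial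
        obtain ⟨x, hx, rfl⟩ := hv'
        refine ⟨j, x, hx, ?_⟩
        rw [hpt, hv]
        rfl
    refine ⟨?_, ?_⟩
    · have : E.presieve₀ ∈ Scheme.qcPrecoverage U.left := by
        rw [Scheme.presieve₀_mem_qcPrecoverage_iff]; exact hqc
      exact this
    · rw [Scheme.ofArrows_mem_precoverage_iff]
      refine ⟨fun x => ?_, fun i => hQ @Flat i (hcov.1 i)⟩
      obtain ⟨Z, hZ, hxZ, -⟩ := TopologicalSpace.Opens.isBasis_iff_nbhd.mp
        U.left.isBasis_affineOpens (TopologicalSpace.Opens.mem_top x)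
      obtain ⟨s, hs, Vs, hc, hUn⟩ := hqc.isCompactOpenCovered_of_isAffineOpen hZ
      have : x ∈ ⋃ (i : ι) (h : i ∈ s), (E.f i) '' (Vs i h) := by rw [hUn]; exact hxZ
      simp only [Set.mem_iUnion] at this
      obtain ⟨i, hi, v, -, hv⟩ := this
      exact ⟨i, v, hv⟩

end Groth.Agent.Lib.Helper78.AlgSpSrcTau
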