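import Groth.Agent.Lib.Helper78.EtLift
import Groth.Agent.Lib.Helper78.AlgSpInfSq

set_option autoImplicit false
universe u
open CategoryTheory CategoryTheory.Limits AlgebraicGeometry Opposite
open AlgSp

namespace Groth.Agent.Lib.Helper78.EtLiftOver

open Groth.Agent.Lib.Helper78.AlgSpInfSq

variable {S : Scheme.{u}}

/-- **Local lifting of etale schemes along an affine square-zero closed immersion over `S`.** -/
theorem exists_etale_lift_over {W₀ W : Over S} (k : W₀ ⟶ W) [IsAffine W.left]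
    [IsClosedImmersion k.left] (hsq : k.left.ker * k.left.ker = ⊥)
    {E : Over S} (s : E ⟶ W₀) (hs : Etale s.left) (e : E.left) :
    ∃ (W' Wₑ : Over S) (π : W' ⟶ W) (ι : Wₑ ⟶ E) (κ : Wₑ ⟶ W'), IsAffine W'.left ∧
      Etale π.left ∧ IsOpenImmersion ι.left ∧ e ∈ Set.range ι.left ∧
      IsPullback κ (ι ≫ s) π k := by
  obtain ⟨A, _, I, hI, str, ΨW, ΨW₀, h⟩ := exists_standard_form k hsq
  have hl : ΨW₀.hom.left ≫ Spec.map (CommRingCat.ofHom (Ideal.Quotient.mk I)) =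
      k.left ≫ ΨW.hom.left := congrArg (·.left) h
  haveI : Etale (s.left ≫ ΨW₀.hom.left) := by
    haveI := hs
    infer_instance
  obtain ⟨W's, Ws, π₀, ι₀, κ₀, hW'aff, hπ, hι, he, sqW⟩ :=
    Groth.Agent.Lib.Helper78.EtLift.exists_etale_lift_scheme I hI (s.left ≫ ΨW₀.hom.left) e
  have hinv1 : ΨW₀.hom.left ≫ ΨW₀.inv.left = 𝟙 _ := by
    rw [← Over.comp_left, Iso.hom_inv_id]; rfl
  have hinv2 : ΨW.hom.left ≫ ΨW.inv.left = 𝟙 _ := by
    rw [← Over.comp_left, Iso.hom_inv_id]; rfl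
  have sqW' : IsPullback κ₀ (ι₀ ≫ s.left) (π₀ ≫ ΨW.inv.left) k.left := by
    refine IsPullback.of_iso sqW (Iso.refl _) (Iso.refl _)
      ((Over.forget S).mapIso ΨW₀.symm) ((Over.forget S).mapIso ΨW.symm) ?_ ?_ ?_ ?_
    · simp
    · simp only [Iso.refl_hom, Category.id_comp, Functor.mapIso_hom, Iso.symm_hom,
        Over.forget_map, Category.assoc, hinv1, Category.comp_id]
    · simp
    · simp only [Functor.mapIso_hom, Iso.symm_hom, Over.forget_map]
      rw [← cancel_epi ΨW₀.hom.left, ← Category.assoc, hl, Category.assoc, hinv2,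
        ← Category.assoc, hinv1, Category.id_comp, Category.comp_id]
  let W'o : Over S := Over.mk ((π₀ ≫ ΨW.inv.left) ≫ W.hom)
  let πo : W'o ⟶ W := Over.homMk (π₀ ≫ ΨW.inv.left) rfl
  let Wo : Over S := Over.mk (ι₀ ≫ E.hom)
  let ιo : Wo ⟶ E := Over.homMk ι₀ rfl
  have hkw : κ₀ ≫ (π₀ ≫ ΨW.inv.left) ≫ W.hom = ι₀ ≫ E.hom := by
    rw [← Category.assoc, sqW'.w, Category.assoc, Category.assoc, Over.w k, Over.w s]
  let κo : Wo ⟶ W'o := Over.homMk κ₀ hkw
  have sqo : IsPullback κo (ιo ≫ s) πo k :=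
    IsPullback.of_map_of_faithful (Over.forget S) sqW'
  exact ⟨W'o, Wo, πo, ιo, κo, hW'aff, inferInstanceAs (Etale (π₀ ≫ ΨW.inv.left)), hι, he, sqo⟩

end Groth.Agent.Lib.Helper78.EtLiftOver
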