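import Groth.Agent.Lib.Helper78.AlgSpUnivThick
import Groth.Agent.Lib.Helper78.EtLiftOver
import Groth.Agent.Lib.Helper78.AlgSpFDesc
import Groth.Agent.Lib.Helper78.AlgSpInfBridge3
import Groth.Agent.Lib.Helper78.AlgSpThick
import Groth.Agent.Lib.Helper51.AlgSpPoints

set_option autoImplicit false
universe u
open CategoryTheory CategoryTheory.Limits AlgebraicGeometry Opposite
open AlgSp

namespace Groth.Agent.Lib.Helper78.AlgSpUnivDesc

open Groth.Agent.Lib.Helper78.AlgSpZar Groth.Agent.Lib.Helper40.AlgSpBasic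
open Groth.Agent.Lib.Helper78.AlgSpInfSq Groth.Agent.Lib.Helper78.AlgSpLiftGlue
open Groth.Agent.Lib.Helper78.AlgSpInfBridge Groth.Agent.Lib.Helper78.AlgSpFDesc
open Groth.Agent.Lib.Helper78.AlgSpUnivThick Groth.Agent.Lib.Helper78.EtLiftOver
open Groth.Agent.Lib.Helper51

variable {S : Scheme.{u}}

/-- composite of an atlas with an etale surjective morphism: representable etale surjective. -/
theorem exists_etale_surjective_chart {Z Y : Sp S} (hZ : IsAlgSpace Z) (e : Z ⟶ Y)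
    (he : IsEtaleMor e) (hes : Function.Surjective (Points.map e)) :
    ∃ (Z₀ : Over S) (p : (yon S).obj Z₀ ⟶ Z), RepWith @Etale p ∧ RepWith @Etale (p ≫ e) ∧
      RepWith @Surjective (p ≫ e) := by
  obtain ⟨Z₀, p, hp, hps⟩ := hZ.atlas
  have hq : RepWith @Etale (p ≫ e) := he p hp
  refine ⟨Z₀, p, hp, hq, repWith_surjective_of_surjective_map hq.1 ?_⟩
  intro y
  obtain ⟨z, rfl⟩ := hes y
  obtain ⟨z₀, rfl⟩ := surjective_map_of_repWith_surjective hps z
  exact ⟨z₀, Points.map_comp p e z₀⟩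

/-- **Descent of universal first order thickenings along an etale surjective morphism of
first order thickenings.** -/
theorem isUnivFOThick_of_etale_cover {Z Y Z' Y' X : Sp S} (hZ : IsAlgSpace Z)
    (hZ' : IsAlgSpace Z') (e : Z ⟶ Y) (he : IsEtaleMor e)
    (hes : Function.Surjective (Points.map e)) (hY : Y ⟶ X) (iZ : Z ⟶ Z') (iY : Y ⟶ Y')
    (hiY : IsFOThickMor iY) (f' : Z' ⟶ Y') (hf' : IsEtaleMor f') (w : iZ ≫ f' = e ≫ iY)
    (hY' : Y' ⟶ X) (w' : iY ≫ hY' = hY) (HU : IsUnivFOThick (e ≫ hY) iZ (f' ≫ hY')) :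
    IsUnivFOThick hY iY hY' := by
  -- `hY'` is formally unramified
  have hfs : Function.Surjective (Points.map f') := by
    intro y'
    obtain ⟨y, rfl⟩ := Groth.Agent.Lib.Helper78.AlgSpThick.surjective_map_of_isThickMor hiY.1 y'
    obtain ⟨z, rfl⟩ := hes y
    refine ⟨Points.map iZ z, ?_⟩
    rw [← Points.map_comp, ← Points.map_comp, w]
  obtain ⟨Z'₀, p', hp', hq', hq's⟩ := exists_etale_surjective_chart hZ' f' hf' hfs
  have hfu : IsFormallyUnramifiedMor hY' := by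
    refine isFormallyUnramifiedMor_of_etale_cover (p' ≫ f') hq' hq's hY' ?_
    rw [Category.assoc]
    exact (Groth.Agent.S10619.result p' (f' ≫ hY')).2.2
      (isFormallyUnramifiedMor_of_isFormallyEtaleMor (isFormallyEtaleMor_of_repWith_etale hp'))
      (isFormallyUnramifiedMor_of_isUnivFOThick hZ' HU)
  obtain ⟨Z₀, p, hp, hq, hqs⟩ := exists_etale_surjective_chart hZ e he hes
  refine ⟨hiY, w', ?_⟩
  intro T T' hT hT' jT a b hjT comm
  have huniq : ∀ ⦃W : Over S⦄ (w : (yon S).obj W ⟶ T') (l l' : (yon S).obj W ⟶ Y'),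
      IsLiftOn hY' jT (a ≫ iY) b w l → IsLiftOn hY' jT (a ≫ iY) b w l' → l = l' :=
    fun W w l l' hl hl' => isLiftOn_unique hT' hjT hfu w l l' hl hl'
  refine existsUnique_lift' hT' hjT (fun W _ w _ l l' hl hl' => huniq w l l' hl hl') ?_
  intro W hWaff wW hw
  obtain ⟨W₀, fst, k, sq, hkc, hkz⟩ := hw
  haveI := hkc
  haveI : Surjective k.left := surjective_of_ker_mul_ker_eq_bot k.left hkz
  have hkfo : MoreMor.IsFirstOrderThickening k.left := ⟨⟨hkc, inferInstance⟩, hkz⟩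
  have sqE := hq.1.isPullback (fst ≫ a)
  have hsE : Etale (hq.1.snd (fst ≫ a)).left := hq.2 _ _ _ sqE
  have hsS : Surjective (hq.1.snd (fst ≫ a)).left := hqs.2 _ _ _ sqE
  have hloc : ∀ ε : (hq.1.pullback (fst ≫ a)).left, ∃ (W' : Over S) (π : W' ⟶ W),
      Etale π.left ∧ k.left ((hq.1.snd (fst ≫ a)).left ε) ∈ Set.range π.left ∧
      ∃ l : (yon S).obj W' ⟶ Y', IsLiftOn hY' jT (a ≫ iY) b ((yon S).map π ≫ wW) l := by
    intro ε
    obtain ⟨W', Wₑ, π, ι, κ, hW'aff, hπ, hι, hε, sqW⟩ :=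
      exists_etale_lift_over k hkz (hq.1.snd (fst ≫ a)) hsE ε
    have sqWl := sqW.map (Over.forget S)
    have hκfo : MoreMor.IsFirstOrderThickening κ.left :=
      Groth.Agent.Lib.Helper61.ThickBC.isFirstOrderThickening_of_isPullback sqWl hkfo
    haveI : IsClosedImmersion κ.left := hκfo.1.1
    have hFO : IsFOThickMor ((yon S).map κ) := isFOThickMor_yon_map κ hκfo.2
    have sqy := (sqW.map (yon S)).flip
    have sqbig := sqy.paste_horiz sq
    have commZ : (yon S).map κ ≫ ((yon S).map π ≫ wW ≫ b) =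
        ((yon S).map ι ≫ hq.1.fst (fst ≫ a) ≫ p) ≫ (e ≫ hY) := by
      have e1 : hq.1.fst (fst ≫ a) ≫ p ≫ e = (yon S).map (hq.1.snd (fst ≫ a)) ≫ fst ≫ a := sqE.w
      have e2 : (yon S).map κ ≫ (yon S).map π ≫ wW =
          ((yon S).map (ι ≫ hq.1.snd (fst ≫ a)) ≫ fst) ≫ jT := sqbig.w.symm
      rw [← Category.assoc ((yon S).map π), ← Category.assoc ((yon S).map κ), e2, Category.assoc,
        comm, Functor.map_comp]
      simp only [Category.assoc]
      rw [reassoc_of% e1]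
    obtain ⟨m, ⟨hm1, hm2⟩, -⟩ := HU.2.2 (IsAlgSpace.yon_obj Wₑ) (IsAlgSpace.yon_obj W')
      ((yon S).map κ) ((yon S).map ι ≫ hq.1.fst (fst ≫ a) ≫ p) ((yon S).map π ≫ wW ≫ b) hFO commZ
    refine ⟨W', π, hπ, ?_, m ≫ f', ?_⟩
    · obtain ⟨w₁, rfl⟩ := hε
      refine ⟨κ.left w₁, ?_⟩
      have := congrArg (fun m => m w₁) sqWl.w
      exact this
    · rw [isLiftOn_iff_of_isPullback sqbig]
      refine ⟨by rw [Category.assoc, hm2, Category.assoc], ?_⟩
      have e1 : hq.1.fst (fst ≫ a) ≫ p ≫ e = (yon S).map (hq.1.snd (fst ≫ a)) ≫ fst ≫ a := sqE.w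
      rw [← Category.assoc, hm1, Category.assoc, w, Functor.map_comp]
      simp only [Category.assoc]
      rw [reassoc_of% e1]
  choose V g hge hgr hgl using hloc
  exact exists_isLiftOn_of_cover (f := hY') (j := jT) (a := a ≫ iY) (b := b) (fun _ _ => True)
    (fun _ _ _ _ _ => trivial) (fun _ w _ l l' hl hl' => huniq w l l' hl hl') wW V g
    (fun _ => inferInstance) (fun _ => inferInstance) (fun x => by
      obtain ⟨x₀, rfl⟩ := k.left.surjective x
      obtain ⟨ε, rfl⟩ := (hq.1.snd (fst ≫ a)).left.surjective x₀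
      exact ⟨ε, hgr ε⟩)
    (fun _ => trivial) hgl

end Groth.Agent.Lib.Helper78.AlgSpUnivDesc
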