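import Groth.Agent.Lib.Helper78.AffClosed
import Groth.Agent.Lib.Helper78.AlgSpFOBaseChange

/-!
# The structure morphism of a universal first order thickening is formally unramified (helper78)
-/

set_option autoImplicit false
universe u
open CategoryTheory CategoryTheory.Limits AlgebraicGeometry Opposite
open AlgSp

namespace Groth.Agent.Lib.Helper78.AlgSpUnivThick

variable {S : Scheme.{u}}

/-- for a universal first order thickening `(i, h')` of `Z` over `X`, the morphism `h'` is formally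
unramified. -/
theorem isFormallyUnramifiedMor_of_isUnivFOThick {Z Z' X : Sp S} (hZ' : IsAlgSpace Z')
    {h : Z ⟶ X} {i : Z ⟶ Z'} {h' : Z' ⟶ X} (HU : IsUnivFOThick h i h') :
    IsFormallyUnramifiedMor h' := by
  open Groth.Agent.Lib.Helper78.AffClosed Groth.Agent.Lib.Helper78.AlgSpLiftGlue
    Groth.Agent.Lib.Helper78.AlgSpFOBaseChange in
  intro sq l₁ l₂ h1 h2 h1' h2'
  have hI2 : sq.I ^ 2 = ⊥ := sq.sq_zero
  -- the closed subscheme of T' on which l₁ factors through Z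
  have sqk := HU.1.1.1.isPullback l₁
  haveI : IsClosedImmersion (HU.1.1.1.snd l₁).left := (HU.1.1.2 l₁ _ _ sqk).1
  obtain ⟨J, Ψ, hΨ, hJz⟩ := exists_ideal_of_closedImmersion sq.str (HU.1.1.1.snd l₁)
  have hJ2 : J ^ 2 = ⊥ := hJz (ker_mul_ker_eq_bot_of_isFOThickMor hZ' HU.1 l₁ _ _ sqk)
  let a₁ : (yon S).obj (TK sq.str J) ⟶ Z := (yon S).map Ψ.inv ≫ HU.1.1.1.fst l₁
  have ha₁ : a₁ ≫ i = (yon S).map (ιK sq.str J) ≫ l₁ := by
    rw [Category.assoc, sqk.w, ← Category.assoc, ← Functor.map_comp, ← hΨ, ← Category.assoc,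
      Iso.inv_hom_id, Category.id_comp]
  -- the ideals
  have hIJ₀ : sq.I ≤ sq.I ⊔ J := le_sup_left
  have hJJ₀ : J ≤ sq.I ⊔ J := le_sup_right
  have hK₀ : (sq.I ⊔ J) ^ 2 ≤ sq.I ⊔ J := Ideal.pow_le_self (by norm_num)
  have hKJ : (sq.I ⊔ J) ^ 2 ≤ J := by
    rw [pow_two, Ideal.sup_mul, Ideal.mul_sup, Ideal.mul_sup, ← pow_two, ← pow_two, hI2, hJ2]
    simp only [bot_sup_eq, sup_bot_eq, sup_le_iff]
    refine ⟨?_, ?_⟩
    · exact Ideal.mul_le_right
    · exact Ideal.mul_le_left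
  -- restrictions agree on T, hence on T₀
  have hres : (yon S).map (ιK sq.str (sq.I ⊔ J)) ≫ l₂ =
      (yon S).map (ιK sq.str (sq.I ⊔ J)) ≫ l₁ := by
    rw [← fac_ι sq.str hIJ₀, Functor.map_comp, Category.assoc, Category.assoc]
    congr 1
    exact h1'.trans h1.symm
  have hcomp : i ≫ h' = h := HU.2.1
  -- the universal property on T₀ ⊂ T''
  have hFO := isFOThickMor_fac sq.str hK₀ le_rfl
  let a₀ : (yon S).obj (TK sq.str (sq.I ⊔ J)) ⟶ Z := (yon S).map (fac sq.str hJJ₀) ≫ a₁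
  have ha₀ : a₀ ≫ i = (yon S).map (ιK sq.str (sq.I ⊔ J)) ≫ l₁ := by
    rw [Category.assoc, ha₁, ← Category.assoc, ← Functor.map_comp, fac_ι]
  have comm0 : (yon S).map (fac sq.str hK₀) ≫ ((yon S).map (ιK sq.str ((sq.I ⊔ J) ^ 2)) ≫ sq.bot) =
      a₀ ≫ h := by
    rw [← hcomp, ← Category.assoc a₀, ha₀, Category.assoc, h2, ← Category.assoc, ← Functor.map_comp,
      fac_ι]
  obtain ⟨m, -, hmu⟩ := HU.2.2 (IsAlgSpace.yon_obj _) (IsAlgSpace.yon_obj _) _ a₀ _ hFO comm0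
  have e1 : (yon S).map (ιK sq.str ((sq.I ⊔ J) ^ 2)) ≫ l₁ = m := by
    refine hmu _ ⟨?_, by rw [Category.assoc, h2]⟩
    rw [← Category.assoc, ← Functor.map_comp, fac_ι, ha₀]
  have e2 : (yon S).map (ιK sq.str ((sq.I ⊔ J) ^ 2)) ≫ l₂ = m := by
    refine hmu _ ⟨?_, by rw [Category.assoc, h2']⟩
    rw [← Category.assoc, ← Functor.map_comp, fac_ι, ha₀, hres]
  -- hence l₂ restricted to T₁ factors through Z in the same way as l₁
  have hres₁ : (yon S).map (ιK sq.str J) ≫ l₂ = a₁ ≫ i := by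
    rw [ha₁, ← fac_ι sq.str hKJ, Functor.map_comp, Category.assoc, Category.assoc, e1, e2]
  -- the universal property on T₁ ⊂ T'
  have hFO₁ : IsFOThickMor ((yon S).map (ιK sq.str J)) :=
    isFOThickMor_yon_map _
      (Groth.Agent.Lib.Helper61.ThickBC.isFirstOrderThickening_SpecMap_mk J hJ2).2
  have comm1 : (yon S).map (ιK sq.str J) ≫ sq.bot = a₁ ≫ h := by
    rw [← hcomp, ← Category.assoc a₁, ha₁, Category.assoc, h2]
  obtain ⟨L, -, hLu⟩ := HU.2.2 (IsAlgSpace.yon_obj _) (IsAlgSpace.yon_obj _) _ a₁ _ hFO₁ comm1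
  rw [hLu l₁ ⟨ha₁.symm, h2⟩, hLu l₂ ⟨hres₁, h2'⟩]

end Groth.Agent.Lib.Helper78.AlgSpUnivThick
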