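import Mathlib
import Groth.Agent.Lib.Helper30.AlgSpDesc
import Groth.Agent.Lib.Helper78.AlgSpEtDesc

set_option autoImplicit false
set_option linter.style.haveILetI false
universe u
open CategoryTheory CategoryTheory.Limits AlgebraicGeometry

namespace Groth.Agent.Lib.Helper78.ClosedImmFamily

/-- Closed immersions descend along jointly surjective families of flat, locally finitely
presented morphisms of schemes. -/
theorem isClosedImmersion_of_fppf_family {A T : Scheme.{u}} (m : A ⟶ T)
    (h : ∀ t : T, ∃ (T' : Scheme.{u}) (q : T' ⟶ T), Flat q ∧ LocallyOfFinitePresentation q ∧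
      t ∈ Set.range q ∧ IsClosedImmersion (pullback.fst q m)) : IsClosedImmersion m := by
  choose T' q hfl hfp hmem hcl using h
  let Q : (∐ T') ⟶ T := Sigma.desc q
  have hι : ∀ t, Sigma.ι T' t ≫ Q = q t := fun t => Sigma.ι_desc _ _
  haveI : Surjective Q := ⟨fun t => by
    obtain ⟨x, hx⟩ := hmem t
    refine ⟨(Sigma.ι T' t) x, ?_⟩
    rw [← Scheme.Hom.comp_apply, hι, hx]⟩
  haveI : Flat Q := by
    rw [IsZariskiLocalAtSource.iff_of_openCover (P := @Flat) (sigmaOpenCover T')]
    intro t
    change Flat (Sigma.ι T' t ≫ Q)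
    rw [hι]; exact hfl t
  haveI : LocallyOfFinitePresentation Q := by
    rw [IsZariskiLocalAtSource.iff_of_openCover (P := @LocallyOfFinitePresentation)
      (sigmaOpenCover T')]
    intro t
    change LocallyOfFinitePresentation (Sigma.ι T' t ≫ Q)
    rw [hι]; exact hfp t
  have hQm : IsClosedImmersion (pullback.fst Q m) := by
    rw [IsZariskiLocalAtTarget.iff_of_openCover (P := @IsClosedImmersion) (sigmaOpenCover T')]
    intro t
    change IsClosedImmersion (pullback.snd (pullback.fst Q m) (Sigma.ι T' t))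
    have sq1 : IsPullback (pullback.snd (pullback.fst Q m) (Sigma.ι T' t))
        (pullback.fst (pullback.fst Q m) (Sigma.ι T' t) ≫ pullback.snd Q m) (q t) m := by
      have := (IsPullback.of_hasPullback (pullback.fst Q m) (Sigma.ι T' t)).flip.paste_vert
        (IsPullback.of_hasPullback Q m)
      rwa [hι] at this
    have sq2 : IsPullback (pullback.fst (q t) m) (pullback.snd (q t) m) (q t) m :=
      IsPullback.of_hasPullback _ _
    let e := sq1.isoIsPullback _ _ sq2
    have he : e.hom ≫ pullback.fst (q t) m =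
        pullback.snd (pullback.fst Q m) (Sigma.ι T' t) := IsPullback.isoIsPullback_hom_fst _ _ _ _
    rw [← he]
    haveI := hcl t
    infer_instance
  exact MorphismProperty.of_pullback_fst_of_descendsAlong (P := @IsClosedImmersion)
    (Q := @Surjective ⊓ @Flat ⊓ @LocallyOfFinitePresentation) (f := Q) (g := m)
    ⟨⟨inferInstance, inferInstance⟩, inferInstance⟩ hQm

/-- Variant with arbitrary pullback squares. -/
theorem isClosedImmersion_of_fppf_family' {A T : Scheme.{u}} (m : A ⟶ T)
    (h : ∀ t : T, ∃ (T' A' : Scheme.{u}) (q : T' ⟶ T) (a' : A' ⟶ T') (b' : A' ⟶ A), Flat q ∧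
      LocallyOfFinitePresentation q ∧ t ∈ Set.range q ∧ IsPullback a' b' q m ∧
      IsClosedImmersion a') : IsClosedImmersion m := by
  refine isClosedImmersion_of_fppf_family m fun t => ?_
  obtain ⟨T', A', q, a', b', hfl, hfp, hmem, sq, hcl⟩ := h t
  refine ⟨T', q, hfl, hfp, hmem, ?_⟩
  have sq2 : IsPullback (pullback.fst q m) (pullback.snd q m) q m := IsPullback.of_hasPullback _ _
  let e := sq2.isoIsPullback _ _ sq
  have he : e.hom ≫ a' = pullback.fst q m := IsPullback.isoIsPullback_hom_fst _ _ _ _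
  rw [← he]
  infer_instance

open AlgSp Groth.Agent.Lib.Helper78.AlgSpEtDesc

variable {S : Scheme.{u}}

/-- **Closed immersions descend along jointly surjective etale families of algebraic spaces.** -/
theorem repWith_isClosedImmersion_of_etale_family {F G : Sp S} (hG : IsAlgSpace G) (f : F ⟶ G)
    (hf : Representable f) {ι : Type*} (A : ι → Sp S) (hA : ∀ i, IsAlgSpace (A i))
    (p : ∀ i, A i ⟶ G) (hp : ∀ i, IsEtaleMor (p i))
    (hsurj : ∀ x : Points G, ∃ i, x ∈ Set.range (Points.map (p i)))
    (P : ι → Sp S) (fst : ∀ i, P i ⟶ F) (snd : ∀ i, P i ⟶ A i)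
    (sq : ∀ i, IsPullback (fst i) (snd i) f (p i))
    (h : ∀ i, RepWith @IsClosedImmersion (snd i)) : RepWith @IsClosedImmersion f := by
  refine ⟨hf, fun T A₀ g fst₀ snd₀ sq₀ => ?_⟩
  obtain ⟨Zi, gi, ui, hge, hgs, hu⟩ := exists_cover_of_etale_family hG A hA p hp hsurj g
  refine isClosedImmersion_of_fppf_family' snd₀.left fun t => ?_
  obtain ⟨i, hz⟩ := hgs t
  obtain ⟨W, w1, w2, sqW, sqWl⟩ := Groth.Agent.Lib.Helper30.isPullback_over' (gi i) snd₀
  haveI := hge i
  refine ⟨(Zi i).left, W.left, (gi i).left, w1.left, w2.left, inferInstance, inferInstance, hz,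
    sqWl, ?_⟩
  have big : IsPullback ((yon S).map w2 ≫ fst₀) ((yon S).map w1) f (ui i ≫ p i) := by
    rw [hu i]
    exact (sqW.map (yon S)).flip.paste_horiz sq₀
  have key : IsPullback ((sq i).lift ((yon S).map w2 ≫ fst₀) ((yon S).map w1 ≫ ui i) big.w)
      ((yon S).map w1) (snd i) (ui i) := by
    refine IsPullback.of_right ?_ (IsPullback.lift_snd _ _ _ _) (sq i)
    rw [IsPullback.lift_fst]
    exact big
  exact (h i).2 (ui i) _ w1 key

/-- Pointwise variant. -/
theorem repWith_isClosedImmersion_of_etale_nhds {F G : Sp S} (hG : IsAlgSpace G) (f : F ⟶ G)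
    (hf : Representable f)
    (h : ∀ x : Points G, ∃ (A : Sp S) (_ : IsAlgSpace A) (p : A ⟶ G) (_ : IsEtaleMor p)
      (P : Sp S) (fst : P ⟶ F) (snd : P ⟶ A), x ∈ Set.range (Points.map p) ∧
        IsPullback fst snd f p ∧ RepWith @IsClosedImmersion snd) :
    RepWith @IsClosedImmersion f := by
  choose A hA p hp P fst snd hx sq hcl using h
  exact repWith_isClosedImmersion_of_etale_family hG f hf A hA p hp (fun x => ⟨x, hx x⟩) P fst snd
    sq hcl

end Groth.Agent.Lib.Helper78.ClosedImmFamily
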