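import Groth.Agent.Lib.Helper78.EffCartierSp
import Groth.Agent.Lib.Helper20.IdealComap
import Groth.Agent.Lib.Helper52.Points

set_option autoImplicit false
set_option linter.style.haveILetI false
universe u
open CategoryTheory CategoryTheory.Limits AlgebraicGeometry Opposite TopologicalSpace
open AlgSp

namespace Groth.Agent.Lib.Helper78.EffCartierDesc

/-- if `J B = (g)` with `g` a nonzerodivisor, then near any prime `q` of `B` some element of `J`
generates `J B`. -/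
theorem exists_generator_near {A B : Type*} [CommRing A] [CommRing B] (φ : A →+* B) (J : Ideal A)
    (g : B) (hg : g ∈ nonZeroDivisors B) (hJ : J.map φ = Ideal.span {g}) (q : Ideal B)
    [q.IsPrime] : ∃ a ∈ J, ∃ c : B, c ∉ q ∧ φ a = c * g := by
  by_contra hcon
  push Not at hcon
  have h1 : J.map φ ≤ Ideal.span {g} * q := by
    rw [Ideal.map_le_iff_le_comap]
    intro a ha
    have h2 : φ a ∈ Ideal.span {g} := hJ ▸ Ideal.mem_map_of_mem φ ha
    obtain ⟨c, hc⟩ := Ideal.mem_span_singleton'.1 h2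
    rw [Ideal.mem_comap, Ideal.mem_span_singleton_mul]
    exact ⟨c, by_contra (fun hcq => hcon a ha c hcq hc.symm), by rw [mul_comm, hc]⟩
  have h3 : g ∈ Ideal.span {g} * q := h1 (hJ ▸ Ideal.mem_span_singleton_self g)
  obtain ⟨c, hcq, hc⟩ := Ideal.mem_span_singleton_mul.1 h3
  have h4 : (c - 1) * g = 0 := by rw [sub_mul, one_mul, mul_comm, hc, sub_self]
  have h5 : c - 1 = 0 := (mem_nonZeroDivisors_iff_right.1 hg) _ h4
  have h6 : c = 1 := sub_eq_zero.1 h5
  exact (Ideal.IsPrime.ne_top ‹_›) ((Ideal.eq_top_iff_one _).2 (h6 ▸ hcq))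

theorem eq_span_of_faithfullyFlat {A B : Type*} [CommRing A] [CommRing B] (ψ : A →+* B)
    (hψ : ψ.FaithfullyFlat) (J : Ideal A) (a : A)
    (h : J.map ψ = Ideal.span {ψ a}) (hnzd : ψ a ∈ nonZeroDivisors B) :
    J = Ideal.span {a} ∧ a ∈ nonZeroDivisors A := by
  have hinj := hψ.injective
  constructor
  · algebraize [ψ]
    have : Module.FaithfullyFlat A B := hψ
    apply Ideal.map_injective_of_faithfullyFlat (A := A) (B := B)
    show J.map ψ = (Ideal.span {a}).map ψ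
    rw [h, Ideal.map_span, Set.image_singleton]
  · rw [mem_nonZeroDivisors_iff_right]
    intro z hz
    apply hinj
    rw [map_zero]
    apply (mem_nonZeroDivisors_iff_right.1 hnzd)
    rw [← map_mul, hz, map_zero]

open Groth.Agent.Lib.BlowUp

theorem primeIdealOf_fromSpec {X : Scheme.{u}} {U : X.Opens} (hU : IsAffineOpen U)
    (y : PrimeSpectrum Γ(X, U)) (h : hU.fromSpec y ∈ U) :
    hU.primeIdealOf ⟨hU.fromSpec y, h⟩ = y := by
  apply hU.fromSpec.isOpenEmbedding.injective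
  exact hU.fromSpec_primeIdealOf ⟨hU.fromSpec y, h⟩

theorem mem_basicOpen_iff_notMem_primeIdealOf {X : Scheme.{u}} {U : X.Opens} (hU : IsAffineOpen U)
    (c : Γ(X, U)) (x : X) (hx : x ∈ U) :
    x ∈ X.basicOpen c ↔ c ∉ (hU.primeIdealOf ⟨x, hx⟩).asIdeal := by
  rw [Scheme.mem_basicOpen X c x hx, hU.primeIdealOf_eq_map_closedPoint]
  show _ ↔ c ∉ Ideal.comap _ (IsLocalRing.maximalIdeal _)
  rw [Ideal.mem_comap, IsLocalRing.mem_maximalIdeal, mem_nonunits_iff, not_not]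

/-- **Local descent of effective Cartier ideals along flat open maps.** -/
theorem exists_affine_principal_of_comap {W U : Scheme.{u}} (f : W ⟶ U) [Flat f]
    (hopen : IsOpenMap f) (I : U.IdealSheafData)
    (hI : BlowUp.IsEffCartierIdeal (I.comap f)) (w : W) :
    ∃ U' : U.affineOpens, f w ∈ U'.1 ∧ ∃ a : Γ(U, U'.1), a ∈ nonZeroDivisors Γ(U, U'.1) ∧
      I.ideal U' = Ideal.span {a} := by
  obtain ⟨U₁, hU₁, hxU₁, -⟩ := Opens.isBasis_iff_nbhd.1 (U.isBasis_affineOpens)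
    (show f w ∈ (⊤ : U.Opens) from trivial)
  have hU₁ : IsAffineOpen U₁ := hU₁
  obtain ⟨W₁, hwW₁, hW₁U₁, g, hg, hIg⟩ :=
    exists_le_of_isEffCartierIdeal hI w (f ⁻¹ᵁ U₁) hxU₁
  have hIφ : (I.comap f).ideal W₁ = (I.ideal ⟨U₁, hU₁⟩).map (f.appLE U₁ W₁.1 hW₁U₁).hom :=
    Groth.Agent.Lib.Helper20.ideal_comap f I W₁ ⟨U₁, hU₁⟩ hW₁U₁
  obtain ⟨a, -, c, hcq, hac⟩ := exists_generator_near (f.appLE U₁ W₁.1 hW₁U₁).hom
    (I.ideal ⟨U₁, hU₁⟩) g hg (hIφ ▸ hIg) (W₁.2.primeIdealOf ⟨w, hwW₁⟩).asIdeal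
  have hwc : w ∈ W.basicOpen c := (mem_basicOpen_iff_notMem_primeIdealOf W₁.2 c w hwW₁).2 hcq
  -- the open image
  let V : U.Opens := ⟨f '' (W.basicOpen c : Set W), hopen _ (W.basicOpen c).isOpen⟩
  have hxV : f w ∈ V := ⟨w, hwc, rfl⟩
  obtain ⟨s, hsV, hxs⟩ := hU₁.exists_basicOpen_le (V := V) ⟨f w, hxV⟩ hxU₁
  have hU₃ : IsAffineOpen (U.basicOpen s) := hU₁.basicOpen s
  have hU₃₁ : U.basicOpen s ≤ U₁ := U.basicOpen_le s
  set φs := (f.appLE U₁ W₁.1 hW₁U₁).hom s with hφs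
  have hW₃ : IsAffineOpen (W.basicOpen (c * φs)) := W₁.2.basicOpen _
  have hW₃₁ : W.basicOpen (c * φs) ≤ W₁.1 := W.basicOpen_le _
  have hW₃eq : W.basicOpen (c * φs) = W.basicOpen c ⊓ (W₁.1 ⊓ f ⁻¹ᵁ (U.basicOpen s)) := by
    rw [Scheme.basicOpen_mul, hφs, Scheme.basicOpen_appLE]
  have hW₃U₃ : W.basicOpen (c * φs) ≤ f ⁻¹ᵁ (U.basicOpen s) := by
    rw [hW₃eq]; exact inf_le_right.trans inf_le_right
  have hW₃c : W.basicOpen (c * φs) ≤ W.basicOpen c := by
    rw [hW₃eq]; exact inf_le_left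
  have hsurj : ∀ x' ∈ U.basicOpen s, ∃ w' ∈ W.basicOpen (c * φs), f w' = x' := by
    intro x' hx'
    obtain ⟨w', hw'c, rfl⟩ := hsV hx'
    refine ⟨w', ?_, rfl⟩
    rw [hW₃eq]
    exact ⟨hw'c, W.basicOpen_le c hw'c, hx'⟩
  -- the ring map
  have hflat : (f.appLE (U.basicOpen s) (W.basicOpen (c * φs)) hW₃U₃).hom.Flat :=
    Flat.flat_appLE f hU₃ hW₃ hW₃U₃
  have hff : (f.appLE (U.basicOpen s) (W.basicOpen (c * φs)) hW₃U₃).hom.FaithfullyFlat := by
    rw [RingHom.FaithfullyFlat.iff_flat_and_comap_surjective]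
    refine ⟨hflat, fun p' => ?_⟩
    have hp' : hU₃.fromSpec p' ∈ U.basicOpen s := by
      show hU₃.fromSpec p' ∈ (U.basicOpen s : Set U)
      rw [← hU₃.range_fromSpec]
      exact Set.mem_range_self p'
    obtain ⟨w', hw', hfw'⟩ := hsurj _ hp'
    refine ⟨hW₃.primeIdealOf ⟨w', hw'⟩, ?_⟩
    have h1 := IsAffineOpen.comap_primeIdealOf_appLE (f := f) (x := w') (U.basicOpen s) hU₃
      (W.basicOpen (c * φs)) hW₃ hW₃U₃ hw'
    rw [h1]
    have h2 : (⟨f w', hW₃U₃ hw'⟩ : ↥(U.basicOpen s)) = ⟨hU₃.fromSpec p', hp'⟩ :=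
      Subtype.ext hfw'
    rw [h2, primeIdealOf_fromSpec hU₃ p' hp']
  -- ideals
  set resU := (U.presheaf.map (homOfLE hU₃₁).op).hom with hresU
  set resW := (W.presheaf.map (homOfLE hW₃₁).op).hom with hresW
  have hJ₃ : (I.ideal ⟨U₁, hU₁⟩).map resU = I.ideal ⟨U.basicOpen s, hU₃⟩ :=
    I.map_ideal (U := ⟨U.basicOpen s, hU₃⟩) (V := ⟨U₁, hU₁⟩) hU₃₁
  have hI₃ : (I.comap f).ideal ⟨W.basicOpen (c * φs), hW₃⟩ =
      (I.ideal ⟨U.basicOpen s, hU₃⟩).map
        (f.appLE (U.basicOpen s) (W.basicOpen (c * φs)) hW₃U₃).hom :=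
    Groth.Agent.Lib.Helper20.ideal_comap f I ⟨_, hW₃⟩ ⟨_, hU₃⟩ hW₃U₃
  have hI₃' : ((I.comap f).ideal W₁).map resW = (I.comap f).ideal ⟨W.basicOpen (c * φs), hW₃⟩ :=
    (I.comap f).map_ideal (U := ⟨W.basicOpen (c * φs), hW₃⟩) (V := W₁) hW₃₁
  have hcomm : (f.appLE (U.basicOpen s) (W.basicOpen (c * φs)) hW₃U₃).hom (resU a) =
      resW ((f.appLE U₁ W₁.1 hW₁U₁).hom a) := by
    have e1 := f.map_appLE (U := U.basicOpen s) (V := W.basicOpen (c * φs)) hW₃U₃
      (homOfLE hU₃₁).op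
    have e2 := f.appLE_map (U := U₁) (V := W₁.1) hW₁U₁ (homOfLE hW₃₁).op
    exact congrArg (fun k => k.hom a) (e1.trans e2.symm)
  have hunit : IsUnit (resW c) := by
    have h1 := RingedSpace.isUnit_res_basicOpen W.toRingedSpace c
    have h2 : resW c = (W.presheaf.map (homOfLE hW₃c).op).hom
        ((W.presheaf.map (homOfLE (W.basicOpen_le c)).op).hom c) := by
      rw [hresW, ← CommRingCat.comp_apply, ← Functor.map_comp]
      rfl
    rw [h2]
    exact h1.map _
  have hgn : resW g ∈ nonZeroDivisors Γ(W, W.basicOpen (c * φs)) :=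
    res_mem_nonZeroDivisors W₁.2 hW₃₁ g hg
  have hψa : (f.appLE (U.basicOpen s) (W.basicOpen (c * φs)) hW₃U₃).hom (resU a) =
      resW c * resW g := by
    rw [hcomm, hac, map_mul]
  obtain ⟨hspan, hnzd⟩ := eq_span_of_faithfullyFlat
    (f.appLE (U.basicOpen s) (W.basicOpen (c * φs)) hW₃U₃).hom hff
    (I.ideal ⟨U.basicOpen s, hU₃⟩) (resU a) (by
      rw [← hI₃, ← hI₃', hIg, Ideal.map_span, Set.image_singleton, hψa,
        Ideal.span_singleton_mul_left_unit hunit]) (by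
      rw [hψa]
      exact mul_mem (IsUnit.mem_nonZeroDivisors hunit) hgn)
  exact ⟨⟨U.basicOpen s, hU₃⟩, hxs, resU a, hnzd, hspan⟩

/-- **Descent of effective Cartier ideals along flat open surjective maps.** -/
theorem isEffCartierIdeal_of_comap {W U : Scheme.{u}} (f : W ⟶ U) [Flat f] [Surjective f]
    (hopen : IsOpenMap f) (I : U.IdealSheafData)
    (hI : BlowUp.IsEffCartierIdeal (I.comap f)) : BlowUp.IsEffCartierIdeal I := by
  intro x
  obtain ⟨w, rfl⟩ := f.surjective x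
  exact exists_affine_principal_of_comap f hopen I hI w

theorem ideal_eq_of_iso {W : Scheme.{u}} (I₁ I₂ : W.IdealSheafData)
    (e : I₁.subscheme ⟶ I₂.subscheme) [IsIso e] (h : e ≫ I₂.subschemeι = I₁.subschemeι) :
    I₁ = I₂ := by
  rw [← I₁.ker_subschemeι, ← h, Scheme.Hom.ker_comp_of_isIso, I₂.ker_subschemeι]

variable {S : Scheme.{u}}

open Groth.Agent.Lib.Helper78.EffCartierSp Groth.Agent.Lib.Helper51 Groth.Agent.Lib.Helper52

/-- two ideal sheaves on `W` whose closed subschemes are both pullbacks of `i` along the same map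
agree. -/
theorem ideal_eq_of_isPullback {X D : Sp S} (i : D ⟶ X) {W : Over S}
    (a : (yon S).obj W ⟶ X) (I₁ I₂ : W.left.IdealSheafData)
    (fst₁ : (yon S).obj (sub W I₁) ⟶ D) (fst₂ : (yon S).obj (sub W I₂) ⟶ D)
    (sq₁ : IsPullback fst₁ ((yon S).map (subι W I₁)) i a)
    (sq₂ : IsPullback fst₂ ((yon S).map (subι W I₂)) i a) : I₁ = I₂ := by
  have h1 : (sq₁.isoIsPullback _ _ sq₂).hom ≫ (yon S).map (subι W I₂) = (yon S).map (subι W I₁) :=
    IsPullback.isoIsPullback_hom_snd _ _ sq₁ sq₂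
  let e : sub W I₁ ≅ sub W I₂ := (yon S).preimageIso (sq₁.isoIsPullback _ _ sq₂)
  have h2 : e.hom ≫ subι W I₂ = subι W I₁ := by
    apply (yon S).map_injective
    rw [(yon S).map_comp, Functor.preimageIso_hom, (yon S).map_preimage, h1]
  haveI : IsIso e.hom.left := (Over.forget S).map_isIso e.hom
  exact ideal_eq_of_iso I₁ I₂ e.hom.left (congrArg CommaMorphism.left h2)

/-- **Chart independence of effective Cartier-ness, pointwise.** -/
theorem exists_principal_of_chart {X D : Sp S} (i : D ⟶ X)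
    {U : Over S} (a : (yon S).obj U ⟶ X) (ha : RepWith @Etale a) (IU : U.left.IdealSheafData)
    (fstU : (yon S).obj (sub U IU) ⟶ D)
    (sqU : IsPullback fstU ((yon S).map (subι U IU)) i a) (hIU : BlowUp.IsEffCartierIdeal IU)
    {V : Over S} (φ : (yon S).obj V ⟶ X) (hφ : RepWith @Etale φ) (IV : V.left.IdealSheafData)
    (fstV : (yon S).obj (sub V IV) ⟶ D)
    (sqV : IsPullback fstV ((yon S).map (subι V IV)) i φ)
    (u : U.left) (v : V.left) (huv : Points.ofPt a u = Points.ofPt φ v) :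
    ∃ V' : V.left.affineOpens, v ∈ V'.1 ∧ ∃ t : Γ(V.left, V'.1),
      t ∈ nonZeroDivisors Γ(V.left, V'.1) ∧ IV.ideal V' = Ideal.span {t} := by
  obtain ⟨W, w1, w2, sqW⟩ := exists_isPullback_of_representable ha.1 φ
  haveI : Etale w2.left := ha.2 φ _ w2 sqW
  haveI : Etale w1.left := hφ.2 a _ w1 sqW.flip
  obtain ⟨w, hw1, hw2⟩ := exists_of_ofPt_eq_ofPt sqW huv
  have big₁ := (isPullback_yon_subMap w1 IU).paste_horiz sqU
  have big₂ := (isPullback_yon_subMap w2 IV).paste_horiz sqV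
  rw [sqW.w] at big₁
  have heq : IU.comap w1.left = IV.comap w2.left := ideal_eq_of_isPullback i _ _ _ _ _ big₁ big₂
  have hI : BlowUp.IsEffCartierIdeal (IV.comap w2.left) :=
    heq ▸ isEffCartierIdeal_comap_of_flat w1.left IU hIU
  have := exists_affine_principal_of_comap w2.left w2.left.isOpenMap IV hI w
  rwa [hw2] at this

/-- **Chart independence of effective Cartier-ness.** -/
theorem isEffCartierIdeal_of_isEffCartierSub {X D : Sp S} (i : D ⟶ X) (hD : IsEffCartierSub i)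
    {V : Over S} (φ : (yon S).obj V ⟶ X) (hφ : RepWith @Etale φ) (IV : V.left.IdealSheafData)
    (fstV : (yon S).obj (sub V IV) ⟶ D)
    (sqV : IsPullback fstV ((yon S).map (subι V IV)) i φ) : BlowUp.IsEffCartierIdeal IV := by
  obtain ⟨-, U, a, IU, fstU, ha, has, sqU, hIU⟩ := hD
  intro v
  obtain ⟨u, hu⟩ := surjective_ofPt_of_repWith_surjective a has (Points.ofPt φ v)
  exact exists_principal_of_chart i a ha IU fstU sqU hIU φ hφ IV fstV sqV u v hu

/-- a closed immersion into `V` is the closed subscheme of an ideal sheaf -/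
theorem exists_ideal_of_isClosedImmersion {Z V : Over S} (z : Z ⟶ V) [IsClosedImmersion z.left] :
    ∃ (I : V.left.IdealSheafData) (e : sub V I ≅ Z), e.hom ≫ z = subι V I := by
  refine ⟨z.left.ker, (Over.isoMk (asIso z.left.toImage) ?_).symm, ?_⟩
  · show z.left.toImage ≫ (z.left.ker.subschemeι ≫ V.hom) = Z.hom
    rw [← Category.assoc]
    erw [z.left.toImage_imageι]
    exact Over.w z
  · apply Over.OverMorphism.ext
    show inv z.left.toImage ≫ z.left = z.left.ker.subschemeι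
    rw [IsIso.inv_comp_eq]
    exact z.left.toImage_imageι.symm

/-- the pullback of a representable closed immersion along a chart is the closed subscheme of
an ideal sheaf -/
theorem exists_ideal_of_repWith {X D : Sp S} (i : D ⟶ X) (hi : RepWith @IsClosedImmersion i)
    {V : Over S} (φ : (yon S).obj V ⟶ X) :
    ∃ (I : V.left.IdealSheafData) (fst : (yon S).obj (sub V I) ⟶ D),
      IsPullback fst ((yon S).map (subι V I)) i φ := by
  have sq := hi.1.isPullback φ
  haveI : IsClosedImmersion (hi.1.snd φ).left := hi.2 φ _ _ sq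
  obtain ⟨I, e, he⟩ := exists_ideal_of_isClosedImmersion (hi.1.snd φ)
  refine ⟨I, (yon S).map e.hom ≫ hi.1.fst φ, ?_⟩
  refine IsPullback.of_iso sq ((yon S).mapIso e.symm) (Iso.refl _) (Iso.refl _) (Iso.refl _)
    ?_ ?_ (by simp) (by simp)
  · rw [Iso.refl_hom, Category.comp_id, Functor.mapIso_hom, Iso.symm_hom, ← Category.assoc,
      ← (yon S).map_comp, e.inv_hom_id, (yon S).map_id, Category.id_comp]
  · rw [Iso.refl_hom, Category.comp_id, Functor.mapIso_hom, Iso.symm_hom, ← he, (yon S).map_comp,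
      ← Category.assoc, ← (yon S).map_comp, e.inv_hom_id, (yon S).map_id, Category.id_comp]

theorem ideal_eq_top_of_disjoint {X : Scheme.{u}} (I : X.IdealSheafData) (V' : X.affineOpens)
    (h : (I.support : Set X) ∩ V'.1 = ∅) : I.ideal V' = ⊤ := by
  have h1 := V'.2.fromSpec_image_zeroLocus (I.ideal V')
  rw [← I.coe_support_inter V', h] at h1
  simp only [Set.image_eq_empty] at h1
  exact PrimeSpectrum.zeroLocus_empty_iff_eq_top.mp h1

theorem map_mem_nonZeroDivisors_of_flat {A B : Type*} [CommRing A] [CommRing B] (ψ : A →+* B)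
    (hψ : ψ.Flat) (t : A) (ht : t ∈ nonZeroDivisors A) : ψ t ∈ nonZeroDivisors B := by
  algebraize [ψ]
  have hreg : IsSMulRegular B t := Module.Flat.isSMulRegular_of_nonZeroDivisors ht
  rw [mem_nonZeroDivisors_iff_right]
  intro z hz
  apply hreg
  change t • z = t • 0
  rw [smul_zero, Algebra.smul_def, mul_comm]
  exact hz

/-- **(2) ⇔ (3)** -/
theorem isEffCartierSub_iff_forall_etale_chart {X D : Sp S} (hX : IsAlgSpace X) (i : D ⟶ X)
    (hi : RepWith @IsClosedImmersion i) :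
    IsEffCartierSub i ↔
      ∀ (U : Over S) (φ : (yon S).obj U ⟶ X), RepWith @Etale φ →
        ∀ (I : U.left.IdealSheafData) (fst : (yon S).obj (sub U I) ⟶ D),
          IsPullback fst ((yon S).map (subι U I)) i φ → BlowUp.IsEffCartierIdeal I := by
  constructor
  · intro hD U φ hφ I fst sq
    exact isEffCartierIdeal_of_isEffCartierSub i hD φ hφ I fst sq
  · intro h
    obtain ⟨V, φ, hφe, hφs⟩ := hX.atlas
    obtain ⟨I, fst, sq⟩ := exists_ideal_of_repWith i hi φ
    exact ⟨hi, V, φ, I, fst, hφe, hφs, sq, h V φ hφe I fst sq⟩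

/-- **(2) ⇒ (4)** -/
theorem exists_affine_chart_of_isEffCartierSub {X D : Sp S} (i : D ⟶ X) (hD : IsEffCartierSub i)
    (x : Points D) :
    ∃ (U : Over S) (_ : IsAffine U.left) (a : (yon S).obj U ⟶ X) (u : ↥U.left)
      (f : Γ(U.left, ⊤)) (I : U.left.IdealSheafData) (fst : (yon S).obj (sub U I) ⟶ D),
      RepWith @Etale a ∧ Points.ofPt a u = Points.map i x ∧
        f ∈ nonZeroDivisors Γ(U.left, ⊤) ∧
        I.ideal ⟨⊤, isAffineOpen_top U.left⟩ = Ideal.span {f} ∧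
        IsPullback fst ((yon S).map (subι U I)) i a := by
  obtain ⟨-, V, φ, IV, fstV, hφe, hφs, sqV, hIV⟩ := hD
  obtain ⟨v, hv⟩ := surjective_ofPt_of_repWith_surjective φ hφs (Points.map i x)
  obtain ⟨V', hvV', t, ht, hIt⟩ := hIV v
  let U : Over S := Over.mk (V'.1.ι ≫ V.hom)
  let j : U ⟶ V := Over.homMk V'.1.ι rfl
  haveI : IsAffine U.left := V'.2
  haveI : IsOpenImmersion j.left := inferInstanceAs (IsOpenImmersion V'.1.ι)
  have e : (⊤ : U.left.Opens) ≤ j.left ⁻¹ᵁ V'.1 := by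
    intro z _
    exact z.2
  have hflat : (j.left.appLE V'.1 ⊤ e).hom.Flat :=
    Flat.flat_appLE j.left V'.2 (isAffineOpen_top U.left) e
  refine ⟨U, V'.2, (yon S).map j ≫ φ, ⟨v, hvV'⟩, (j.left.appLE V'.1 ⊤ e).hom t, IV.comap j.left,
    (yon S).map (subMap j IV) ≫ fstV, ?_, ?_, ?_, ?_, ?_⟩
  · exact (RepWith @Etale).comp_mem _ _ ((repWith_yon_map_iff @Etale j).2 inferInstance) hφe
  · rw [ofPt_yon_map_comp]
    exact hv
  · exact map_mem_nonZeroDivisors_of_flat _ hflat t ht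
  · rw [Groth.Agent.Lib.Helper20.ideal_comap j.left IV ⟨⊤, isAffineOpen_top U.left⟩ V' e, hIt,
      Ideal.map_span, Set.image_singleton]
  · exact (isPullback_yon_subMap j IV).paste_horiz sqV

/-- **(4) ⇒ (2)** -/
theorem isEffCartierSub_of_forall_exists_affine_chart {X D : Sp S} (hX : IsAlgSpace X) (i : D ⟶ X)
    (hi : RepWith @IsClosedImmersion i)
    (h : ∀ x : Points D,
      ∃ (U : Over S) (_ : IsAffine U.left) (a : (yon S).obj U ⟶ X) (u : ↥U.left)
        (f : Γ(U.left, ⊤)) (I : U.left.IdealSheafData) (fst : (yon S).obj (sub U I) ⟶ D),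
        RepWith @Etale a ∧ Points.ofPt a u = Points.map i x ∧
          f ∈ nonZeroDivisors Γ(U.left, ⊤) ∧
          I.ideal ⟨⊤, isAffineOpen_top U.left⟩ = Ideal.span {f} ∧
          IsPullback fst ((yon S).map (subι U I)) i a) : IsEffCartierSub i := by
  obtain ⟨V, φ, hφe, hφs⟩ := hX.atlas
  obtain ⟨I, fst, sq⟩ := exists_ideal_of_repWith i hi φ
  refine ⟨hi, V, φ, I, fst, hφe, hφs, sq, ?_⟩
  intro v
  by_cases hv : v ∈ (I.support : Set V.left)
  · rw [← I.range_subschemeι] at hv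
    obtain ⟨z, rfl⟩ := hv
    obtain ⟨U, hUa, a, u, f, IU, fstU, ha, hu, hf, hIf, sqU⟩ := h (Points.ofPt fst z)
    haveI : IsAffine U.left := hUa
    have hIU : BlowUp.IsEffCartierIdeal IU :=
      fun u' => ⟨⟨⊤, isAffineOpen_top U.left⟩, trivial, f, hf, hIf⟩
    refine exists_principal_of_chart i a ha IU fstU sqU hIU φ hφe I fst sq u _ ?_
    rw [hu, Points.map_ofPt, sq.w]
    exact ofPt_yon_map_comp (subι V I) φ z
  · have hopen : IsOpen ((I.support : Set V.left)ᶜ) := I.support.isClosed.isOpen_compl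
    obtain ⟨V', hV'0, hvV', hV'⟩ := Opens.isBasis_iff_nbhd.1 (V.left.isBasis_affineOpens)
      (show v ∈ (⟨_, hopen⟩ : V.left.Opens) from hv)
    have hV'a : IsAffineOpen V' := hV'0
    refine ⟨⟨V', hV'a⟩, hvV', 1, one_mem _, ?_⟩
    rw [Ideal.span_singleton_one]
    apply ideal_eq_top_of_disjoint
    rw [Set.eq_empty_iff_forall_notMem]
    rintro y ⟨hy1, hy2⟩
    exact hV' hy2 hy1

end Groth.Agent.Lib.Helper78.EffCartierDesc
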