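import Groth.Agent.Lib.Helper78.AlgSpBasic
import Groth.Agent.Lib.Helper78.AlgSpMisc
import Groth.Agent.Lib.Helper51.AlgSpPoints
import Groth.Agent.Lib.Helper30.AlgSpDesc
import Groth.Agent.Lib.BlowUp.Helper18_EffCartier
import Groth.Agent.Lib.BlowUp.CartierCompl
import Groth.Prelude.Def_AlgSpSub

set_option autoImplicit false
set_option linter.style.haveILetI false
universe u
open CategoryTheory CategoryTheory.Limits AlgebraicGeometry Opposite
open AlgSp

namespace Groth.Agent.Lib.Helper78.EffCartierSp

open Groth.Agent.Lib.Helper78.AlgSpBasic Groth.Agent.Lib.Helper51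

/-- scheme level: the closed subscheme of the pulled back ideal is the pullback -/
theorem isPullback_comap {W V : Scheme.{u}} (h : W ⟶ V) (I : V.IdealSheafData) :
    IsPullback (Scheme.IdealSheafData.subschemeMap (I.comap h) I h (I.le_map_comap h))
      (I.comap h).subschemeι I.subschemeι h := by
  have h0 : IsPullback (pullback.snd h I.subschemeι) (pullback.fst h I.subschemeι) I.subschemeι h :=
    (IsPullback.of_hasPullback h I.subschemeι).flip
  refine IsPullback.of_iso h0 (I.comapIso h).symm (Iso.refl _) (Iso.refl _) (Iso.refl _) ?_ ?_ ?_ ?_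
  · rw [Iso.refl_hom, Category.comp_id, Iso.symm_hom, ← Scheme.IdealSheafData.comapIso_hom_snd,
      Iso.inv_hom_id_assoc]
  · rw [Iso.refl_hom, Category.comp_id, Iso.symm_hom,
      Scheme.IdealSheafData.comapIso_inv_subschemeι]
  · simp
  · simp

variable {S : Scheme.{u}}

/-- the structure morphism making the closed subscheme of an ideal sheaf an object over `S` -/
noncomputable abbrev sub (V : Over S) (I : V.left.IdealSheafData) : Over S := Over.mk (I.subschemeι ≫ V.hom)

/-- the inclusion of the closed subscheme, over `S` -/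
noncomputable abbrev subι (V : Over S) (I : V.left.IdealSheafData) : sub V I ⟶ V := Over.homMk I.subschemeι rfl

/-- the map between the closed subschemes, over `S` -/
noncomputable def subMap {W V : Over S} (h : W ⟶ V) (I : V.left.IdealSheafData) :
    sub W (I.comap h.left) ⟶ sub V I :=
  Over.homMk (Scheme.IdealSheafData.subschemeMap (I.comap h.left) I h.left (I.le_map_comap h.left))
    (by
      show _ ≫ I.subschemeι ≫ V.hom = (I.comap h.left).subschemeι ≫ W.hom
      rw [← Category.assoc, Scheme.IdealSheafData.subschemeMap_subschemeι, Category.assoc,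
        Over.w h])

theorem isPullback_subMap {W V : Over S} (h : W ⟶ V) (I : V.left.IdealSheafData) :
    IsPullback (subMap h I) (subι W (I.comap h.left)) (subι V I) h :=
  IsPullback.of_map_of_faithful (Over.forget S) (isPullback_comap h.left I)

theorem isPullback_yon_subMap {W V : Over S} (h : W ⟶ V) (I : V.left.IdealSheafData) :
    IsPullback ((yon S).map (subMap h I)) ((yon S).map (subι W (I.comap h.left)))
      ((yon S).map (subι V I)) ((yon S).map h) :=
  (isPullback_subMap h I).map (yon S)

/-- **Flat pullback of effective Cartier divisors on algebraic spaces.** -/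
theorem isEffCartierSub_pullback_of_flat {X Y D P : Sp S} (hX : IsAlgSpace X) (f : X ⟶ Y)
    (hf : LocP @Flat f) (i : D ⟶ Y) (hD : IsEffCartierSub i) (fst : P ⟶ D) (snd : P ⟶ X)
    (hP : IsPullback fst snd i f) : IsEffCartierSub snd := by
  obtain ⟨hi, V, φ, I, fstV, hφe, hφs, sq, hI⟩ := hD
  obtain ⟨U₀, a₀, ha₀, ha₀s⟩ := hX.atlas
  obtain ⟨W, w1, w2, sqW⟩ := exists_isPullback_of_representable hφe.1 (a₀ ≫ f)
  have hw2e : RepWith @Etale ((yon S).map w2) := MorphismProperty.of_isPullback sqW hφe
  have hw2s : RepWith @Surjective ((yon S).map w2) := MorphismProperty.of_isPullback sqW hφs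
  have ha : RepWith @Etale ((yon S).map w2 ≫ a₀) := (RepWith @Etale).comp_mem _ _ hw2e ha₀
  have has : RepWith @Surjective ((yon S).map w2 ≫ a₀) :=
    (RepWith @Surjective).comp_mem _ _ hw2s ha₀s
  have comm : ((yon S).map w2 ≫ a₀) ≫ f = (yon S).map w1 ≫ φ := by
    rw [Category.assoc]; exact sqW.w.symm
  haveI hflat : Flat w1.left := hf _ φ w1 ha hφe comm
  have big : IsPullback ((yon S).map (subMap w1 I) ≫ fstV)
      ((yon S).map (subι W (I.comap w1.left))) i ((yon S).map w1 ≫ φ) :=
    (isPullback_yon_subMap w1 I).paste_horiz sq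
  have hcond : ((yon S).map (subMap w1 I) ≫ fstV) ≫ i =
      ((yon S).map (subι W (I.comap w1.left)) ≫ ((yon S).map w2 ≫ a₀)) ≫ f := by
    rw [Category.assoc _ _ f, comm]; exact big.w
  refine ⟨MorphismProperty.of_isPullback hP hi, W, (yon S).map w2 ≫ a₀, I.comap w1.left,
    hP.lift _ _ hcond, ha, has, ?_,
    Groth.Agent.Lib.BlowUp.isEffCartierIdeal_comap_of_flat w1.left I hI⟩
  refine IsPullback.of_right ?_ (hP.lift_snd _ _ hcond) hP
  rw [hP.lift_fst, comm]
  exact big

end Groth.Agent.Lib.Helper78.EffCartierSp
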