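import Groth.Agent.Lib.Helper78.EffCartierDesc
import Groth.Agent.Lib.BlowUp.Helper18_Factor
import Groth.Prelude.Def_AlgSpModX

set_option autoImplicit false
set_option linter.style.haveILetI false
set_option backward.isDefEq.respectTransparency false
universe u
open CategoryTheory CategoryTheory.Limits AlgebraicGeometry Opposite TopologicalSpace
open AlgSp

namespace Groth.Agent.Lib.Helper78.EffCartierSum

open Groth.Agent.Lib.Helper78.EffCartierDesc Groth.Agent.Lib.BlowUp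
open Groth.Agent.Lib.Helper78.EffCartierSp Groth.Agent.Lib.Helper51 Groth.Agent.Lib.Helper52

variable {S : Scheme.{u}}

theorem exists_iso_ker {Z V : Over S} (z : Z ⟶ V) [IsClosedImmersion z.left] :
    ∃ (e : sub V z.left.ker ≅ Z), e.hom ≫ z = subι V z.left.ker := by
  refine ⟨(Over.isoMk (asIso z.left.toImage) ?_).symm, ?_⟩
  · show z.left.toImage ≫ (z.left.ker.subschemeι ≫ V.hom) = Z.hom
    rw [← Category.assoc]
    erw [z.left.toImage_imageι]
    exact Over.w z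
  · apply Over.OverMorphism.ext
    show inv z.left.toImage ≫ z.left = z.left.ker.subschemeι
    rw [IsIso.inv_comp_eq]
    exact z.left.toImage_imageι.symm

theorem isPullback_ker {X D : Sp S} (i : D ⟶ X) (hi : RepWith @IsClosedImmersion i)
    {V : Over S} (φ : (yon S).obj V ⟶ X) :
    ∃ (fst : (yon S).obj (sub V (hi.1.snd φ).left.ker) ⟶ D),
      IsPullback fst ((yon S).map (subι V (hi.1.snd φ).left.ker)) i φ := by
  have sq := hi.1.isPullback φ
  haveI : IsClosedImmersion (hi.1.snd φ).left := hi.2 φ _ _ sq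
  obtain ⟨e, he⟩ := exists_iso_ker (hi.1.snd φ)
  refine ⟨(yon S).map e.hom ≫ hi.1.fst φ, ?_⟩
  refine IsPullback.of_iso sq ((yon S).mapIso e.symm) (Iso.refl _) (Iso.refl _) (Iso.refl _)
    ?_ ?_ (by simp) (by simp)
  · rw [Iso.refl_hom, Category.comp_id, Functor.mapIso_hom, Iso.symm_hom, ← Category.assoc,
      ← (yon S).map_comp, e.inv_hom_id, (yon S).map_id, Category.id_comp]
  · rw [Iso.refl_hom, Category.comp_id, Functor.mapIso_hom, Iso.symm_hom, ← he, (yon S).map_comp,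
      ← Category.assoc, ← (yon S).map_comp, e.inv_hom_id, (yon S).map_id, Category.id_comp]

/-- the kernel ideal of a closed subspace on an affine etale object is the ideal of global sections
of the ideal sheaf of the inverse image. -/
theorem idealOfRep_ideal_eq {X Z : Sp S} (i : Z ⟶ X) (hi : RepWith @IsClosedImmersion i)
    (E : EtOver X) (hE : IsAffine E.obj.left.left) (K : E.obj.left.left.IdealSheafData)
    (fst : (yon S).obj (sub E.obj.left K) ⟶ Z)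
    (sq : IsPullback fst ((yon S).map (subι E.obj.left K)) i E.obj.hom) :
    (idealOfRep hi.1).ideal E hE = K.ideal ⟨⊤, isAffineOpen_top _⟩ := by
  obtain ⟨fst', sq'⟩ := isPullback_ker i hi E.obj.hom
  have hK : K = (hi.1.snd E.obj.hom).left.ker := ideal_eq_of_isPullback i _ _ _ _ _ sq sq'
  have sqP := hi.1.isPullback E.obj.hom
  haveI : IsClosedImmersion (hi.1.snd E.obj.hom).left := hi.2 E.obj.hom _ _ sqP
  rw [hK, Scheme.Hom.ker_apply]
  rfl

/-- the chart object attached to an affine open of an etale chart -/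
noncomputable abbrev chartOpen {X : Sp S} {V : Over S} (φ : (yon S).obj V ⟶ X)
    (hφ : RepWith @Etale φ) (V' : V.left.affineOpens) : EtOver X :=
  EtOver.mk (U := Over.mk (V'.1.ι ≫ V.hom))
    ((yon S).map (Over.homMk V'.1.ι rfl : Over.mk (V'.1.ι ≫ V.hom) ⟶ V) ≫ φ)
    ((RepWith @Etale).comp_mem _ _ ((repWith_yon_map_iff @Etale _).2
      (inferInstanceAs (Etale V'.1.ι))) hφ)

theorem top_le_preimage {V : Scheme.{u}} (V' : V.Opens) :
    (⊤ : V'.toScheme.Opens) ≤ V'.ι ⁻¹ᵁ V' := fun z _ => z.2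

theorem bijective_ι_appLE {V : Scheme.{u}} (V' : V.Opens) :
    Function.Bijective (V'.ι.appLE V' ⊤ (top_le_preimage V')).hom := by
  rw [Scheme.Opens.ι_appLE]
  have h1 : V'.ι ''ᵁ ⊤ = V' := V'.ι_image_top
  have : IsIso (homOfLE (le_of_eq h1) : V'.ι ''ᵁ ⊤ ⟶ V') :=
    ⟨homOfLE (le_of_eq h1.symm), Subsingleton.elim _ _, Subsingleton.elim _ _⟩
  have : IsIso (V.presheaf.map (homOfLE (le_of_eq h1) : V'.ι ''ᵁ ⊤ ⟶ V').op) := inferInstance
  exact ConcreteCategory.bijective_of_isIso _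

/-- the kernel ideal on the affine open `V'` of an etale chart `V`. -/
theorem idealOfRep_chartOpen {X Z : Sp S} (i : Z ⟶ X) (hi : RepWith @IsClosedImmersion i)
    {V : Over S} (φ : (yon S).obj V ⟶ X) (hφ : RepWith @Etale φ) (K : V.left.IdealSheafData)
    (fst : (yon S).obj (sub V K) ⟶ Z) (sq : IsPullback fst ((yon S).map (subι V K)) i φ)
    (V' : V.left.affineOpens) :
    (idealOfRep hi.1).ideal (chartOpen φ hφ V') V'.2 =
      (K.ideal V').map (V'.1.ι.appLE V'.1 ⊤ (top_le_preimage V'.1)).hom := by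
  let j : Over.mk (V'.1.ι ≫ V.hom) ⟶ V := Over.homMk V'.1.ι rfl
  have big := (isPullback_yon_subMap j K).paste_horiz sq
  haveI : IsAffine V'.1.toScheme := V'.2
  rw [idealOfRep_ideal_eq i hi (chartOpen φ hφ V') V'.2 (K.comap j.left) _ big]
  exact Groth.Agent.Lib.Helper20.ideal_comap V'.1.ι K ⟨⊤, isAffineOpen_top _⟩ V'
    (top_le_preimage V'.1)

/-- if the kernel ideals multiply, so do the ideal sheaves on every etale chart -/
theorem ideal_eq_mul_of_idealOfRep {X Z₁ Z₂ Z : Sp S} (i₁ : Z₁ ⟶ X) (i₂ : Z₂ ⟶ X) (i : Z ⟶ X)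
    (hi₁ : RepWith @IsClosedImmersion i₁) (hi₂ : RepWith @IsClosedImmersion i₂)
    (hi : RepWith @IsClosedImmersion i)
    (h : idealOfRep hi.1 = idealOfRep hi₁.1 * idealOfRep hi₂.1)
    {V : Over S} (φ : (yon S).obj V ⟶ X) (hφ : RepWith @Etale φ)
    (K₁ K₂ K : V.left.IdealSheafData)
    (fst₁ : (yon S).obj (sub V K₁) ⟶ Z₁) (sq₁ : IsPullback fst₁ ((yon S).map (subι V K₁)) i₁ φ)
    (fst₂ : (yon S).obj (sub V K₂) ⟶ Z₂) (sq₂ : IsPullback fst₂ ((yon S).map (subι V K₂)) i₂ φ)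
    (fst : (yon S).obj (sub V K) ⟶ Z) (sq : IsPullback fst ((yon S).map (subι V K)) i φ) :
    K = K₁ * K₂ := by
  apply Scheme.IdealSheafData.ext
  funext V'
  rw [Scheme.IdealSheafData.ideal_mul]
  show K.ideal V' = K₁.ideal V' * K₂.ideal V'
  have e := idealOfRep_chartOpen i hi φ hφ K fst sq V'
  have e₁ := idealOfRep_chartOpen i₁ hi₁ φ hφ K₁ fst₁ sq₁ V'
  have e₂ := idealOfRep_chartOpen i₂ hi₂ φ hφ K₂ fst₂ sq₂ V'
  rw [h, IdealEt.mul_ideal, e₁, e₂, ← Ideal.map_mul] at e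
  have hbij := bijective_ι_appLE V'.1
  have := congrArg (Ideal.comap (V'.1.ι.appLE V'.1 ⊤ (top_le_preimage V'.1)).hom) e
  rwa [Ideal.comap_map_of_bijective _ hbij, Ideal.comap_map_of_bijective _ hbij, eq_comm] at this

/-- **Sum of effective Cartier divisors.** -/
theorem isEffCartierSub_sum {X D₁ D₂ D : Sp S} (hX : IsAlgSpace X) (i₁ : D₁ ⟶ X) (i₂ : D₂ ⟶ X)
    (i : D ⟶ X) (I₁ I₂ : IdealEt X) (h₁ : IsCutOutBy I₁ i₁) (h₂ : IsCutOutBy I₂ i₂)
    (hD : IsCutOutBy (I₁ * I₂) i) (e₁ : IsEffCartierSub i₁) (e₂ : IsEffCartierSub i₂) :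
    IsEffCartierSub i := by
  obtain ⟨hi₁, rfl⟩ := h₁
  obtain ⟨hi₂, rfl⟩ := h₂
  obtain ⟨hi, hI⟩ := hD
  obtain ⟨V, φ, hφe, hφs⟩ := hX.atlas
  obtain ⟨K₁, fst₁, sq₁⟩ := exists_ideal_of_repWith i₁ hi₁ φ
  obtain ⟨K₂, fst₂, sq₂⟩ := exists_ideal_of_repWith i₂ hi₂ φ
  obtain ⟨K, fst, sq⟩ := exists_ideal_of_repWith i hi φ
  have hK : K = K₁ * K₂ :=
    ideal_eq_mul_of_idealOfRep i₁ i₂ i hi₁ hi₂ hi hI φ hφe K₁ K₂ K fst₁ sq₁ fst₂ sq₂ fst sq
  have hK₁ := isEffCartierIdeal_of_isEffCartierSub i₁ e₁ φ hφe K₁ fst₁ sq₁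
  have hK₂ := isEffCartierIdeal_of_isEffCartierSub i₂ e₂ φ hφe K₂ fst₂ sq₂
  exact ⟨hi, V, φ, K, fst, hφe, hφs, sq, hK ▸ isEffCartierIdeal_mul hK₁ hK₂⟩

/-- **Factors of an effective Cartier divisor.** -/
theorem isEffCartierSub_of_mul {X Z Y D : Sp S} (hX : IsAlgSpace X) (iZ : Z ⟶ X) (iY : Y ⟶ X)
    (iD : D ⟶ X) (I J : IdealEt X) (hZ : IsCutOutBy I iZ) (hY : IsCutOutBy J iY)
    (hD : IsCutOutBy (I * J) iD) (hDc : IsEffCartierSub iD) :
    IsEffCartierSub iZ ∧ IsEffCartierSub iY := by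
  obtain ⟨hi₁, rfl⟩ := hZ
  obtain ⟨hi₂, rfl⟩ := hY
  obtain ⟨hi, hI⟩ := hD
  obtain ⟨V, φ, hφe, hφs⟩ := hX.atlas
  obtain ⟨K₁, fst₁, sq₁⟩ := exists_ideal_of_repWith iZ hi₁ φ
  obtain ⟨K₂, fst₂, sq₂⟩ := exists_ideal_of_repWith iY hi₂ φ
  obtain ⟨K, fst, sq⟩ := exists_ideal_of_repWith iD hi φ
  have hK : K = K₁ * K₂ :=
    ideal_eq_mul_of_idealOfRep iZ iY iD hi₁ hi₂ hi hI φ hφe K₁ K₂ K fst₁ sq₁ fst₂ sq₂ fst sq
  have hKc := isEffCartierIdeal_of_isEffCartierSub iD hDc φ hφe K fst sq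
  rw [hK] at hKc
  exact ⟨⟨hi₁, V, φ, K₁, fst₁, hφe, hφs, sq₁, isEffCartierIdeal_of_mul_left hKc⟩,
    ⟨hi₂, V, φ, K₂, fst₂, hφe, hφs, sq₂, isEffCartierIdeal_of_mul_right hKc⟩⟩

end Groth.Agent.Lib.Helper78.EffCartierSum
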