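import Groth.Agent.Lib.Helper78.ClosedImmFamily
import Groth.Agent.Lib.Helper78.DiagCover
import Groth.Agent.Lib.Helper30.AlgSpSep

set_option autoImplicit false
set_option linter.style.haveILetI false
universe u
open CategoryTheory CategoryTheory.Limits AlgebraicGeometry Opposite
open AlgSp

namespace Groth.Agent.Lib.Helper78.ElemDistSep

variable {S : Scheme.{u}}

open Groth.Agent.Lib.Helper78.DiagCover Groth.Agent.Lib.Helper78.ClosedImmFamily
  Groth.Agent.Lib.Helper78.ElemDist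

theorem isSeparatedMor_of_isElemDistSq {U V X Y PX PY QX QY : Sp S}
    (hU' : IsAlgSpace U) (hV' : IsAlgSpace V) (hX' : IsAlgSpace X) (hY' : IsAlgSpace Y)
    (g : X ⟶ Y) (j : U ⟶ X) (f : V ⟶ X) (hsq : IsElemDistSq j f)
    (hU : IsSeparatedMor (j ≫ g)) (_hV : IsSeparatedMor (f ≫ g))
    {pX : PX ⟶ U} {qX : PX ⟶ V} (hPX : IsPullback pX qX j f)
    {pY : PY ⟶ U} {qY : PY ⟶ V} (hPY : IsPullback pY qY (j ≫ g) (f ≫ g))
    (c : PX ⟶ PY) (hc₁ : c ≫ pY = pX) (hc₂ : c ≫ qY = qX) (hcl : IsClosedMor c)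
    {rX₁ rX₂ : QX ⟶ V} (hQX : IsPullback rX₁ rX₂ f f)
    {rY₁ rY₂ : QY ⟶ V} (hQY : IsPullback rY₁ rY₂ (f ≫ g) (f ≫ g))
    (d : QX ⟶ QY) (hd₁ : d ≫ rY₁ = rX₁) (hd₂ : d ≫ rY₂ = rX₂)
    (hdcl : RepWith @IsClosedImmersion d) : IsSeparatedMor g := by
  have hsurj := surj_of_isElemDistSq j f hsq
  obtain ⟨hj, hf, -⟩ := hsq
  have hje : IsEtaleMor j := isEtaleMor_of_repWith_isOpenImmersion hj
  haveI : Mono j := Groth.Agent.Lib.Helper51.mono_of_repWith
    (P := @IsOpenImmersion) (fun g (_ : IsOpenImmersion g) => inferInstance) hj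
  have hcc : RepWith @IsClosedImmersion c :=
    repWith_isClosedImmersion_of_isClosedMor c
      (repWith_isImmersion_of_open_of_separated g j f hPX hPY c hc₁ hc₂ hj hU) hcl
  have hD : IsAlgSpace (pullback g g) :=
    Groth.Agent.Lib.Helper78.AlgSpFibre.isAlgSpace_of_isPullback
      (IsPullback.of_hasPullback g g) hY'.diag hX' hX'
  have hΔ : Representable (pullback.diagonal g) :=
    Groth.Agent.Lib.Helper30.representable_diagonal hX'.diag g
  change RepWith @IsClosedImmersion (pullback.diagonal g)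
  refine repWith_isClosedImmersion_of_etale_nhds hD _ hΔ fun z => ?_
  have hUU : IsPullback (pullback.fst (j ≫ g) (j ≫ g)) (pullback.snd (j ≫ g) (j ≫ g)) (j ≫ g)
      (j ≫ g) := IsPullback.of_hasPullback _ _
  rcases hsurj (Points.map (pullback.fst g g) z) with h1 | h1 <;>
    rcases hsurj (Points.map (pullback.snd g g) z) with h2 | h2
  · exact ⟨_, isAlgSpace_P g j j hUU hY' hU' hU', prodMap g j j hUU,
      isEtaleMor_prodMap g j j hUU hX' hY' hU' hU' hje hje, _, _, _,
      mem_range_prodMap g j j hUU z h1 h2,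
      isPullback_diagonal_prodMap g j j hUU (IsKernelPair.id_of_mono j)
        (pullback.diagonal (j ≫ g)) (pullback.diagonal_fst _) (pullback.diagonal_snd _), hU⟩
  · exact ⟨_, isAlgSpace_P g j f hPY hY' hU' hV', prodMap g j f hPY,
      isEtaleMor_prodMap g j f hPY hX' hY' hU' hV' hje hf, _, _, _,
      mem_range_prodMap g j f hPY z h1 h2,
      isPullback_diagonal_prodMap g j f hPY hPX c hc₁ hc₂, hcc⟩
  · exact ⟨_, isAlgSpace_P g f j hPY.flip hY' hV' hU', prodMap g f j hPY.flip,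
      isEtaleMor_prodMap g f j hPY.flip hX' hY' hV' hU' hf hje, _, _, _,
      mem_range_prodMap g f j hPY.flip z h1 h2,
      isPullback_diagonal_prodMap g f j hPY.flip hPX.flip c hc₂ hc₁, hcc⟩
  · exact ⟨_, isAlgSpace_P g f f hQY hY' hV' hV', prodMap g f f hQY,
      isEtaleMor_prodMap g f f hQY hX' hY' hV' hV' hf hf, _, _, _,
      mem_range_prodMap g f f hQY z h1 h2,
      isPullback_diagonal_prodMap g f f hQY hQX d hd₁ hd₂, hdcl⟩

end Groth.Agent.Lib.Helper78.ElemDistSep
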