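import Groth.Agent.Lib.Helper78.EtLift
import Groth.Agent.Lib.Helper78.AlgSpInfSq

/-!
# Local lifting of etale schemes along an affine thickening with nil ideal (helper78)

Generalisation of `EtLift`/`EtLiftOver` from square-zero ideals to nil ideals (thickenings).
-/

set_option autoImplicit false
universe u
open Polynomial TensorProduct CategoryTheory CategoryTheory.Limits AlgebraicGeometry

namespace Groth.Agent.Lib.Helper78.EtLiftNil

open Groth.Agent.Lib.Helper78.EtLift

/-- Lifting a standard etale pair along a surjection with nil kernel. -/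
theorem exists_standardEtalePair_lift {A Ā : Type u} [CommRing A] [CommRing Ā] (φ : A →+* Ā)
    (hφ : Function.Surjective φ) (hker : ∀ x ∈ RingHom.ker φ, IsNilpotent x)
    (Pb : StandardEtalePair Ā) :
    ∃ P : StandardEtalePair A, P.map φ = Pb := by
  obtain ⟨f, hf, -, hfm⟩ := lifts_and_natDegree_eq_and_monic (f := φ)
    (p := Pb.f) ((mem_lifts _).2 (map_surjective φ hφ _)) Pb.monic_f
  obtain ⟨g, hg⟩ := map_surjective φ hφ Pb.g
  obtain ⟨pb₁, pb₂, n, hc⟩ := Pb.cond
  obtain ⟨p₁, hp₁⟩ := map_surjective φ hφ pb₁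
  obtain ⟨p₂, hp₂⟩ := map_surjective φ hφ pb₂
  -- the defect
  set δ : A[X] := derivative f * p₁ + f * p₂ - g ^ n with hδ
  have hδ0 : δ.map φ = 0 := by
    simp only [hδ, Polynomial.map_sub, Polynomial.map_add, Polynomial.map_mul, Polynomial.map_pow,
      ← derivative_map, hf, hg, hp₁, hp₂, hc, sub_self]
  have hδn : IsNilpotent δ := by
    rw [Polynomial.isNilpotent_iff]
    intro k
    apply hker
    rw [RingHom.mem_ker, ← coeff_map, hδ0, coeff_zero]
  obtain ⟨N, hN⟩ := hδn
  have hdvd : (g ^ n + δ) ∣ (g ^ n) ^ N := by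
    have := sub_dvd_pow_sub_pow (g ^ n) (-δ) N
    rw [sub_neg_eq_add, neg_pow, hN, mul_zero, sub_zero] at this
    exact this
  obtain ⟨q, hq⟩ := hdvd
  refine ⟨⟨f, hfm, g, p₁ * q, p₂ * q, n * N, ?_⟩, ?_⟩
  · have : derivative f * p₁ + f * p₂ = g ^ n + δ := by rw [hδ]; ring
    rw [pow_mul, hq, ← this]
    ring
  · exact pair_ext _ _ hf hg

/-- Local lifting of etale algebras along a quotient by a nil ideal. -/
theorem exists_etale_lift {A : Type u} [CommRing A] (I : Ideal A) (hI : ∀ x ∈ I, IsNilpotent x)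
    (B : Type u) [CommRing B] [Algebra (A ⧸ I) B] [Algebra.Etale (A ⧸ I) B]
    (Q : Ideal B) [Q.IsPrime] :
    ∃ f : B, f ∉ Q ∧ ∃ (C : Type u) (_ : CommRing C) (_ : Algebra A C) (_ : Algebra.Etale A C),
      Nonempty ((A ⧸ I) ⊗[A] C ≃ₐ[A ⧸ I] Localization.Away f) := by
  obtain ⟨f, hfQ, hstd⟩ := Algebra.IsEtaleAt.exists_isStandardEtale (R := A ⧸ I) Q
  refine ⟨f, hfQ, ?_⟩
  let Pres : StandardEtalePresentation (A ⧸ I) (Localization.Away f) :=
    hstd.nonempty_standardEtalePresentation.some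
  obtain ⟨P, hP⟩ := exists_standardEtalePair_lift (Ideal.Quotient.mk I)
    Ideal.Quotient.mk_surjective (by rw [Ideal.mk_ker]; exact hI) Pres.P
  let presP : StandardEtalePresentation A P.Ring :=
    ⟨P, P.X, P.hasMap_X, by simpa [StandardEtalePair.lift_X_left] using Function.bijective_id⟩
  let e1 : (A ⧸ I) ⊗[A] P.Ring ≃ₐ[A ⧸ I] (P.map (algebraMap A (A ⧸ I))).Ring :=
    (presP.baseChange (T := A ⧸ I)).equivRing
  have hP' : P.map (algebraMap A (A ⧸ I)) = Pres.P := hP
  let e2 : (P.map (algebraMap A (A ⧸ I))).Ring ≃ₐ[A ⧸ I] Pres.P.Ring := hP' ▸ AlgEquiv.refl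
  exact ⟨P.Ring, inferInstance, inferInstance, inferInstance,
    ⟨(e1.trans e2).trans Pres.equivRing.symm⟩⟩

/-- **Local lifting of etale schemes along an affine thickening with nil ideal.** -/
theorem exists_etale_lift_scheme {A : Type u} [CommRing A] (I : Ideal A)
    (hI : ∀ x ∈ I, IsNilpotent x)
    {E : Scheme.{u}} (s : E ⟶ Spec (CommRingCat.of (A ⧸ I))) [Etale s] (e : E) :
    ∃ (W' W : Scheme.{u}) (π : W' ⟶ Spec (CommRingCat.of A)) (ι : W ⟶ E) (k : W ⟶ W'),
      IsAffine W' ∧ Etale π ∧ IsOpenImmersion ι ∧ e ∈ Set.range ι ∧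
      IsPullback k (ι ≫ s) π (Spec.map (CommRingCat.ofHom (Ideal.Quotient.mk I))) := by
  obtain ⟨_, ⟨V, hV, rfl⟩, heV, -⟩ :=
    E.isBasis_affineOpens.exists_subset_of_mem_open (Set.mem_univ e) isOpen_univ
  let m := hV.fromSpec
  let ψ : CommRingCat.of (A ⧸ I) ⟶ Γ(E, V) := Spec.preimage (m ≫ s)
  have hψ : Spec.map ψ = m ≫ s := Spec.map_preimage _
  have hψe : ψ.hom.Etale := by
    rw [← HasRingHomProperty.Spec_iff (P := @Etale), hψ]
    infer_instance
  algebraize [ψ.hom]
  have hq : e ∈ Set.range m := by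
    rw [hV.range_fromSpec]; exact heV
  obtain ⟨q, rfl⟩ := hq
  obtain ⟨f, hfQ, C, _, _, _, ⟨θ⟩⟩ := exists_etale_lift I hI Γ(E, V) q.asIdeal
  let loc : Γ(E, V) ⟶ CommRingCat.of (Localization.Away f) :=
    CommRingCat.ofHom (algebraMap Γ(E, V) (Localization.Away f))
  let inR : CommRingCat.of C ⟶ CommRingCat.of ((A ⧸ I) ⊗[A] C) :=
    CommRingCat.ofHom (Algebra.TensorProduct.includeRight.toRingHom)
  let inL : CommRingCat.of (A ⧸ I) ⟶ CommRingCat.of ((A ⧸ I) ⊗[A] C) :=
    CommRingCat.ofHom (Algebra.TensorProduct.includeLeftRingHom)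
  let θc : CommRingCat.of ((A ⧸ I) ⊗[A] C) ≅ CommRingCat.of (Localization.Away f) :=
    θ.toRingEquiv.toCommRingCatIso
  refine ⟨Spec (CommRingCat.of C), Spec (CommRingCat.of (Localization.Away f)),
    Spec.map (CommRingCat.ofHom (algebraMap A C)), Spec.map loc ≫ m,
    Spec.map θc.hom ≫ Spec.map inR, inferInstance, ?_, ?_, ?_, ?_⟩
  · rw [HasRingHomProperty.Spec_iff (P := @Etale)]
    exact RingHom.etale_algebraMap.2 inferInstance
  · infer_instance
  · have hq : q ∈ (Spec.map loc).opensRange := by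
      rw [Scheme.Hom.opensRange_localizationAway]
      exact hfQ
    obtain ⟨q', rfl⟩ := hq
    exact ⟨q', rfl⟩
  · have base := (isPullback_SpecMap_of_isPushout _ _ _ _
      (CommRingCat.isPushout_tensorProduct A (A ⧸ I) C)).flip
    refine IsPullback.of_iso base (Scheme.Spec.mapIso θc.symm.op) (Iso.refl _) (Iso.refl _) (Iso.refl _)
      ?_ ?_ ?_ ?_
    · simp only [Iso.refl_hom, Category.comp_id, Functor.mapIso_hom, Iso.op_hom, Iso.symm_hom,
        Scheme.Spec_map, Quiver.Hom.unop_op]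
      rw [← Category.assoc, ← Spec.map_comp, Iso.hom_inv_id, Spec.map_id, Category.id_comp]
    · simp only [Iso.refl_hom, Category.comp_id, Functor.mapIso_hom, Iso.op_hom, Iso.symm_hom,
        Scheme.Spec_map, Quiver.Hom.unop_op, Category.assoc]
      rw [← hψ, ← Spec.map_comp, ← Spec.map_comp]
      congr 1
      apply CommRingCat.hom_ext
      apply RingHom.ext
      intro x
      change Algebra.TensorProduct.includeLeftRingHom x =
        θ.symm (algebraMap Γ(E, V) (Localization.Away f) (algebraMap (A ⧸ I) Γ(E, V) x))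
      rw [← IsScalarTower.algebraMap_apply, θ.symm.commutes]
      rfl
    · simp
    · simp

end Groth.Agent.Lib.Helper78.EtLiftNil
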