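import Mathlib

set_option autoImplicit false
universe u
open CategoryTheory CategoryTheory.Limits AlgebraicGeometry

namespace Groth.Agent.Lib.Helper78.FinSigma

/-- A finite disjoint union of schemes finite over `Z` is finite over `Z`. -/
theorem isFinite_sigmaDesc_fin : ∀ {n : ℕ} (W : Fin n → Scheme.{u}) {Z : Scheme.{u}}
    (k : ∀ i, W i ⟶ Z) (_ : ∀ i, IsFinite (k i)), IsFinite (Sigma.desc k)
  | 0, W, Z, k, _ => by
    have : IsEmpty ↥(∐ W) := by
      refine ⟨fun v => ?_⟩
      obtain ⟨i, -, -⟩ := (sigmaOpenCover W).exists_eq v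
      exact i.elim0
    infer_instance
  | n + 1, W, Z, k, hk => by
    have ih := isFinite_sigmaDesc_fin (fun i : Fin n => W i.succ) (fun i => k i.succ)
      (fun i => hk i.succ)
    have := hk 0
    let c₁ : Cofan fun i : Fin n => W i.succ := Cofan.mk (∐ fun i : Fin n => W i.succ) (Sigma.ι _)
    have hc₁ : IsColimit c₁ := coproductIsCoproduct _
    let c₂ : BinaryCofan (W 0) c₁.pt := BinaryCofan.mk coprod.inl coprod.inr
    have hc₂ : IsColimit c₂ := coprodIsCoprod _ _
    have hE := extendCofanIsColimit W hc₁ hc₂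
    let e : ∐ W ≅ (W 0) ⨿ (∐ fun i : Fin n => W i.succ) :=
      (coproductIsCoproduct W).coconePointUniqueUpToIso hE
    have he : ∀ i, Sigma.ι W i ≫ e.hom = (extendCofan c₁ c₂).inj i := fun i =>
      (coproductIsCoproduct W).comp_coconePointUniqueUpToIso_hom hE ⟨i⟩
    have key : Sigma.desc k = e.hom ≫ coprod.desc (k 0) (Sigma.desc fun i : Fin n => k i.succ) := by
      apply Sigma.hom_ext
      intro i
      rw [Sigma.ι_desc, ← Category.assoc, he i]
      refine Fin.cases ?_ (fun j => ?_) i
      · change k 0 = (coprod.inl : W 0 ⟶ (W 0) ⨿ (∐ fun i : Fin n => W i.succ)) ≫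
          coprod.desc (k 0) (Sigma.desc fun i : Fin n => k i.succ)
        rw [coprod.inl_desc]
      · change k j.succ = (Sigma.ι (fun i : Fin n => W i.succ) j ≫
          (coprod.inr : _ ⟶ (W 0) ⨿ (∐ fun i : Fin n => W i.succ))) ≫
          coprod.desc (k 0) (Sigma.desc fun i : Fin n => k i.succ)
        rw [Category.assoc, coprod.inr_desc, Sigma.ι_desc]
    rw [key]
    infer_instance

end Groth.Agent.Lib.Helper78.FinSigma
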