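import Groth.Agent.Lib.Helper78.FinSigma

set_option autoImplicit false
universe u
open CategoryTheory CategoryTheory.Limits AlgebraicGeometry

namespace Groth.Agent.Lib.Helper78.FinSigma

/-- A finite disjoint union of schemes quasi-compact over `Y` is quasi-compact over `Y`. -/
theorem quasiCompact_sigmaDesc {ι : Type u} [Finite ι] {X : ι → Scheme.{u}} {Y : Scheme.{u}}
    (f : ∀ i, X i ⟶ Y) (hf : ∀ i, QuasiCompact (f i)) : QuasiCompact (Sigma.desc f) := by
  refine ⟨fun V hVo hVc => ?_⟩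
  have : (Sigma.desc f) ⁻¹' V = ⋃ i, (Sigma.ι X i) '' ((f i) ⁻¹' V) := by
    ext x
    constructor
    · intro hx
      obtain ⟨i, y, rfl⟩ := (sigmaOpenCover X).exists_eq x
      refine Set.mem_iUnion.2 ⟨i, y, ?_, rfl⟩
      have h1 : (Sigma.ι X i ≫ Sigma.desc f) y ∈ V := hx
      rw [Sigma.ι_desc] at h1
      exact h1
    · intro hx
      obtain ⟨i, y, hy, rfl⟩ := Set.mem_iUnion.1 hx
      have h1 : (Sigma.ι X i ≫ Sigma.desc f) y ∈ V := by
        rw [Sigma.ι_desc]
        exact hy
      exact h1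
  rw [this]
  exact isCompact_iUnion (fun i =>
    ((hf i).isCompact_preimage V hVo hVc).image (Sigma.ι X i).continuous)

/-- A finite disjoint union of schemes finite over `Z` is finite over `Z`. -/
theorem isFinite_sigmaDesc {ι : Type u} [Finite ι] {X : ι → Scheme.{u}} {Z : Scheme.{u}}
    (f : ∀ i, X i ⟶ Z) (hf : ∀ i, IsFinite (f i)) : IsFinite (Sigma.desc f) := by
  obtain ⟨n, ⟨e⟩⟩ := Finite.exists_equiv_fin ι
  have key : Sigma.desc f = (Sigma.reindex e.symm X).inv ≫
      Sigma.desc (fun k : Fin n => f (e.symm k)) := by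
    rw [Iso.eq_inv_comp]
    apply Sigma.hom_ext
    intro k
    rw [Sigma.ι_desc, ← Category.assoc, Sigma.ι_reindex_hom, Sigma.ι_desc]
  rw [key]
  have h1 : IsFinite (Sigma.desc (f := X ∘ e.symm) (fun k : Fin n => f (e.symm k))) :=
    isFinite_sigmaDesc_fin (X ∘ e.symm) (fun k => f (e.symm k)) (fun k => hf _)
  exact inferInstanceAs (IsFinite ((Sigma.reindex e.symm X).inv ≫
    Sigma.desc (f := X ∘ e.symm) (fun k : Fin n => f (e.symm k))))

end Groth.Agent.Lib.Helper78.FinSigma
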