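import Groth.Prelude.Def_AlgSpOX
import Groth.Prelude.Def_AlgSpDec
import Groth.Agent.Lib.Helper51.AlgSpGsectReduced
import Groth.Agent.Lib.Helper51.AlgSpPoints
import Groth.Agent.Lib.Helper52.Points

set_option autoImplicit false
set_option linter.style.haveILetI false
universe u
open CategoryTheory CategoryTheory.Limits AlgebraicGeometry Opposite
open AlgSp

namespace Groth.Agent.Lib.Helper78.GsectDomain

variable {S : Scheme.{u}} {X : Sp S}

open Groth.Agent.Lib.Helper51 Groth.Agent.Lib.Helper52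

/-- the value of a global function on an etale chart -/
noncomputable def val (f : ↥(gsectEt (OEt X))) (E : EtOver X) : Γ(E.obj.left.left, ⊤) :=
  ((limit.π (OEt X).obj (op E)) f).down

theorem val_mul (f g : ↥(gsectEt (OEt X))) (E : EtOver X) : val (f * g) E = val f E * val g E := by
  unfold val
  rw [map_mul]; rfl

theorem val_zero (E : EtOver X) : val (0 : ↥(gsectEt (OEt X))) E = 0 := by
  unfold val
  rw [map_zero]; rfl

theorem val_one (E : EtOver X) : val (1 : ↥(gsectEt (OEt X))) E = 1 := by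
  unfold val
  rw [map_one]; rfl

theorem val_comp (f : ↥(gsectEt (OEt X))) {E E' : EtOver X} (g : E ⟶ E') :
    g.hom.left.left.appTop (val f E') = val f E := by
  unfold val
  have h := limit.w (OEt X).obj g.op
  have h2 : (limit.π (OEt X).obj (op E)) f =
      (OEt X).obj.map g.op ((limit.π (OEt X).obj (op E')) f) := by
    rw [← h]; rfl
  rw [h2, OEt_map]

/-- the nonvanishing locus of a global function -/
def D (f : ↥(gsectEt (OEt X))) : Set (Points X) :=
  ⋃ E : EtOver X, Points.ofPt E.obj.hom '' (E.obj.left.left.basicOpen (val f E) : Set _)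

theorem isOpen_D (f : ↥(gsectEt (OEt X))) : IsOpen (D f) :=
  isOpen_iUnion fun E => isOpenMap_ofPt_of_etale E.obj.hom E.property _
    (E.obj.left.left.basicOpen (val f E)).isOpen

theorem D_inter_subset (f g : ↥(gsectEt (OEt X))) : D f ∩ D g ⊆ D (f * g) := by
  rintro x ⟨hxf, hxg⟩
  obtain ⟨E, e, he, rfl⟩ := Set.mem_iUnion.1 hxf
  obtain ⟨E', e', he', hee'⟩ := Set.mem_iUnion.1 hxg
  obtain ⟨W, φ, ψ, sq⟩ := exists_isPullback_of_representable E.property.1 E'.obj.hom
  obtain ⟨w, hw1, hw2⟩ := exists_of_ofPt_eq_ofPt sq hee'.symm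
  have hφ : Etale φ.left := E'.property.2 E.obj.hom _ φ sq.flip
  have hWe : RepWith @Etale ((yon S).map φ ≫ E.obj.hom) :=
    (RepWith (S := S) @Etale).comp_mem _ _ ((repWith_yon_map_iff _ _).2 hφ) E.property
  let EW : EtOver X := EtOver.mk ((yon S).map φ ≫ E.obj.hom) hWe
  let pφ : EW ⟶ E := EtOver.homMk φ rfl
  let pψ : EW ⟶ E' := EtOver.homMk ψ sq.w.symm
  refine Set.mem_iUnion.2 ⟨EW, w, ?_, ?_⟩
  · rw [val_mul, Scheme.basicOpen_mul]
    refine ⟨?_, ?_⟩
    · rw [← val_comp f pφ]
      change w ∈ (W.left.basicOpen (φ.left.appTop (val f E)) : Set _)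
      rw [← Scheme.preimage_basicOpen_top]
      show φ.left w ∈ (E.obj.left.left.basicOpen (val f E))
      rw [hw1]; exact he
    · rw [← val_comp g pψ]
      change w ∈ (W.left.basicOpen (ψ.left.appTop (val g E')) : Set _)
      rw [← Scheme.preimage_basicOpen_top]
      show ψ.left w ∈ (E'.obj.left.left.basicOpen (val g E'))
      rw [hw2]; exact he'
  · change Points.ofPt ((yon S).map φ ≫ E.obj.hom) w = _
    rw [ofPt_yon_map_comp, hw1]

theorem eq_zero_of_D_eq_empty (hred : IsReducedSp X) (f : ↥(gsectEt (OEt X))) (h : D f = ∅) :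
    f = 0 := by
  refine (isReduced_gsectEt_of_isReducedSp hred).2 f fun E => ?_
  ext e
  simp only [TopologicalSpace.Opens.coe_bot, Set.mem_empty_iff_false, iff_false]
  intro he
  have : Points.ofPt E.obj.hom e ∈ D f := Set.mem_iUnion.2 ⟨E, e, he, rfl⟩
  rw [h] at this
  exact this

theorem isDomain_gsectEt (hred : IsReducedSp X) [hirr : IrreducibleSpace (Points X)] :
    IsDomain ↥(gsectEt (OEt X)) := by
  haveI : Nontrivial ↥(gsectEt (OEt X)) := by
    obtain ⟨U, a, ha, has, -⟩ := hred
    obtain ⟨x⟩ := hirr.toNonempty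
    obtain ⟨u, -⟩ := surjective_ofPt_of_repWith_surjective a has x
    refine ⟨0, 1, fun h => ?_⟩
    have h1 : val (0 : ↥(gsectEt (OEt X))) (EtOver.mk a ha) = val 1 (EtOver.mk a ha) := by rw [h]
    rw [val_zero, val_one] at h1
    haveI : Nonempty (⊤ : U.left.Opens) := ⟨⟨u, trivial⟩⟩
    haveI : Nontrivial Γ(U.left, ⊤) := Scheme.component_nontrivial U.left ⊤
    exact zero_ne_one h1
  haveI : NoZeroDivisors ↥(gsectEt (OEt X)) := by
    refine ⟨fun {f g} hfg => ?_⟩
    by_contra hne
    rw [not_or] at hne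
    have hDf : (D f).Nonempty := by
      rw [Set.nonempty_iff_ne_empty]
      exact fun h => hne.1 (eq_zero_of_D_eq_empty hred f h)
    have hDg : (D g).Nonempty := by
      rw [Set.nonempty_iff_ne_empty]
      exact fun h => hne.2 (eq_zero_of_D_eq_empty hred g h)
    obtain ⟨x, hx⟩ := nonempty_preirreducible_inter (isOpen_D f) (isOpen_D g) hDf hDg
    have hx' := D_inter_subset f g hx
    rw [hfg] at hx'
    obtain ⟨E, e, he, -⟩ := Set.mem_iUnion.1 hx'
    rw [val_zero, Scheme.basicOpen_zero] at he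
    exact he
  exact NoZeroDivisors.to_isDomain _

end Groth.Agent.Lib.Helper78.GsectDomain
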