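import Groth.Prelude.Def_AlgSpOX
import Groth.Agent.Lib.Helper78.AlgSpEtDesc
import Groth.Agent.Lib.Helper30.AlgSpUnram

set_option autoImplicit false
set_option linter.style.haveILetI false
universe u
open CategoryTheory CategoryTheory.Limits AlgebraicGeometry Opposite
open AlgSp

namespace Groth.Agent.Lib.Helper78.GsectHom

variable {S : Scheme.{u}}

open Groth.Agent.Lib.Helper78.AlgSpBasic Groth.Agent.Lib.Helper78.AlgSpZar
  Groth.Agent.Lib.Helper51 Groth.Agent.Lib.Helper52 Groth.Agent.Lib.Helper78.AlgSpEtDesc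

theorem exists_hom_appTop {X Y : Scheme.{u}} [IsAffine Y] (ψ : Γ(Y, ⊤) ⟶ Γ(X, ⊤)) :
    ∃ m : X ⟶ Y, m.appTop = ψ := by
  refine ⟨X.toSpecΓ ≫ Spec.map ψ ≫ Y.isoSpec.inv, ?_⟩
  have h1 : Y.isoSpec.inv.appTop ≫ Y.toSpecΓ.appTop = 𝟙 _ := by
    rw [← Scheme.Hom.comp_appTop]
    have : Y.toSpecΓ ≫ Y.isoSpec.inv = 𝟙 _ := Y.isoSpec.hom_inv_id
    rw [this]; rfl
  rw [Scheme.Hom.comp_appTop, Scheme.Hom.comp_appTop, Scheme.toSpecΓ_appTop, Category.assoc,
    Scheme.ΓSpecIso_naturality, ← Category.assoc, ← Scheme.toSpecΓ_appTop, h1, Category.id_comp]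

variable {X : Sp S} (T : Over S)
  (φ : Γ(T.left, ⊤) →+* ↥(gsectEt (OEt X)))

/-- the ring map to the functions on an etale chart -/
noncomputable def ringHomOf (E : EtOver X) : Γ(T.left, ⊤) →+* Γ(E.obj.left.left, ⊤) :=
  (ULift.ringEquiv (R := Γ(E.obj.left.left, ⊤))).toRingHom.comp
    (((limit.π (OEt X).obj (op E)).hom).comp φ)

theorem ringHomOf_apply (E : EtOver X) (r : Γ(T.left, ⊤)) :
    ringHomOf T φ E r = ((limit.π (OEt X).obj (op E)) (φ r)).down := rfl

theorem ringHomOf_comp {E E' : EtOver X} (g : E ⟶ E') (r : Γ(T.left, ⊤)) :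
    g.hom.left.left.appTop.hom (ringHomOf T φ E' r) = ringHomOf T φ E r := by
  rw [ringHomOf_apply, ringHomOf_apply]
  have h := limit.w (OEt X).obj g.op
  have h2 : (limit.π (OEt X).obj (op E)) (φ r) =
      (OEt X).obj.map g.op ((limit.π (OEt X).obj (op E')) (φ r)) := by
    rw [← h]; rfl
  rw [h2, OEt_map]

variable [IsAffine T.left] (hS : IsTerminal S)

include hS in
theorem exists_mor (E : EtOver X) :
    ∃ m : E.obj.left ⟶ T, m.left.appTop.hom = ringHomOf T φ E := by
  obtain ⟨m, hm⟩ := exists_hom_appTop (X := E.obj.left.left) (Y := T.left)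
    (CommRingCat.ofHom (ringHomOf T φ E))
  refine ⟨Over.homMk m (hS.hom_ext _ _), ?_⟩
  change m.appTop.hom = _
  rw [hm]; rfl

/-- the morphism to `T` from an etale chart -/
noncomputable def mor (E : EtOver X) : E.obj.left ⟶ T := (exists_mor T φ hS E).choose

theorem mor_appTop (E : EtOver X) : (mor T φ hS E).left.appTop.hom = ringHomOf T φ E :=
  (exists_mor T φ hS E).choose_spec

omit hS in
theorem over_hom_ext {Z : Over S} (m m' : Z ⟶ T) (h : m.left.appTop = m'.left.appTop) : m = m' := by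
  apply Over.OverMorphism.ext
  exact ext_of_isAffine h

theorem mor_comp {E E' : EtOver X} (g : E ⟶ E') : g.hom.left ≫ mor T φ hS E' = mor T φ hS E := by
  apply over_hom_ext T
  rw [Over.comp_left, Scheme.Hom.comp_appTop]
  ext r
  rw [CommRingCat.comp_apply]
  have h1 := mor_appTop T φ hS E'
  have h2 := mor_appTop T φ hS E
  change g.hom.left.left.appTop.hom ((mor T φ hS E').left.appTop.hom r) =
    (mor T φ hS E).left.appTop.hom r
  rw [h1, h2, ringHomOf_comp]

include hS in
theorem exists_hom (hX : IsAlgSpace X) :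
    ∃ f : X ⟶ (yon S).obj T, ∀ E : EtOver X, E.obj.hom ≫ f = (yon S).map (mor T φ hS E) := by
  obtain ⟨U, a, ha, has⟩ := hX.atlas
  have sqR := ha.rep.isPullback' a
  set R := ha.rep.pullback a with hR
  set s := ha.rep.fst' a with hs
  set t := ha.rep.snd a with ht
  have hse : Etale s.left := ha.property _ _ _ sqR.flip
  have hRe : RepWith @Etale ((yon S).map s ≫ a) :=
    (RepWith (S := S) @Etale).comp_mem _ _ ((repWith_yon_map_iff _ _).2 hse) ha
  let EU : EtOver X := EtOver.mk a ha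
  let ER : EtOver X := EtOver.mk ((yon S).map s ≫ a) hRe
  let s' : ER ⟶ EU := EtOver.homMk s rfl
  let t' : ER ⟶ EU := EtOver.homMk t sqR.w.symm
  have hst : (yon S).map s ≫ (yon S).map (mor T φ hS EU) =
      (yon S).map t ≫ (yon S).map (mor T φ hS EU) := by
    rw [← (yon S).map_comp, ← (yon S).map_comp]
    have h1 := mor_comp T φ hS s'
    have h2 := mor_comp T φ hS t'
    change s ≫ mor T φ hS EU = _ at h1
    change t ≫ mor T φ hS EU = _ at h2
    rw [h1, h2]
  obtain ⟨f, hf⟩ := exists_desc_of_etale_family hX (fun _ : Unit => (yon S).obj U)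
    (fun _ => IsAlgSpace.yon_obj U) (fun _ => a)
    (fun _ => Groth.Agent.Lib.Helper30.isEtaleMor_of_repWith_etale ha)
    (fun x => ⟨(), surjective_map_of_repWith_surjective has x⟩)
    (fun _ => (yon S).map (mor T φ hS EU)) (by
      intro Z' _ _ u₁ u₂ h
      rw [← sqR.lift_fst u₁ u₂ h, Category.assoc, hst, ← Category.assoc, IsPullback.lift_snd])
  have hf := hf ()
  refine ⟨f, fun E => ?_⟩
  have sqP := ha.rep.isPullback' E.obj.hom
  set P := ha.rep.pullback E.obj.hom with hP
  set h := ha.rep.fst' E.obj.hom with hh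
  set j := ha.rep.snd E.obj.hom with hj
  have hje : Etale j.left := ha.property _ _ _ sqP
  have hjs : Surjective j.left := has.property _ _ _ sqP
  have hPe : RepWith @Etale ((yon S).map j ≫ E.obj.hom) :=
    (RepWith (S := S) @Etale).comp_mem _ _ ((repWith_yon_map_iff _ _).2 hje) E.property
  let EP : EtOver X := EtOver.mk ((yon S).map j ≫ E.obj.hom) hPe
  let j' : EP ⟶ E := EtOver.homMk j rfl
  let h' : EP ⟶ EU := EtOver.homMk h sqP.w
  haveI : Epi ((yon S).map j) :=
    Groth.Agent.Lib.Helper30.epi_of_repWith_etale_surjective _ ((repWith_yon_map_iff _ _).2 hje)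
      ((repWith_yon_map_iff _ _).2 hjs)
  rw [← cancel_epi ((yon S).map j), ← Category.assoc, ← sqP.w, Category.assoc, hf,
    ← (yon S).map_comp, ← (yon S).map_comp]
  have h1 := mor_comp T φ hS j'
  have h2 := mor_comp T φ hS h'
  change j ≫ mor T φ hS E = _ at h1
  change h ≫ mor T φ hS EU = _ at h2
  rw [h1, h2]

theorem comp_eq_of_forall (f' : X ⟶ (yon S).obj T)
    (hf' : ∀ (E : EtOver X) (r : Γ(T.left, ⊤)),
      ((limit.π (OEt X).obj (op E)) (φ r)).down =
        ((yon S).preimage (E.obj.hom ≫ f')).left.appTop r) (E : EtOver X) :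
    E.obj.hom ≫ f' = (yon S).map (mor T φ hS E) := by
  have : (yon S).preimage (E.obj.hom ≫ f') = mor T φ hS E := by
    apply over_hom_ext T
    ext r
    have h1 := mor_appTop T φ hS E
    change ((yon S).preimage (E.obj.hom ≫ f')).left.appTop r = (mor T φ hS E).left.appTop.hom r
    rw [h1, ringHomOf_apply, hf' E r]
  rw [← this, (yon S).map_preimage]

include hS in
theorem existsUnique_hom (hX : IsAlgSpace X) :
    ∃! f : X ⟶ (yon S).obj T, ∀ (E : EtOver X) (r : Γ(T.left, ⊤)),
      ((limit.π (OEt X).obj (op E)) (φ r)).down =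
        ((yon S).preimage (E.obj.hom ≫ f)).left.appTop r := by
  obtain ⟨f, hf⟩ := exists_hom T φ hS hX
  refine ⟨f, fun E r => ?_, fun f' hf' => ?_⟩
  · rw [hf E, (yon S).preimage_map, ← ringHomOf_apply, ← mor_appTop T φ hS E]
  · obtain ⟨U, a, ha, has⟩ := hX.atlas
    haveI : Epi a := Groth.Agent.Lib.Helper30.epi_of_repWith_etale_surjective a ha has
    have h1 := comp_eq_of_forall T φ hS f' hf' (EtOver.mk a ha)
    have h2 := hf (EtOver.mk a ha)
    rw [← cancel_epi a]
    exact h1.trans h2.symm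

end Groth.Agent.Lib.Helper78.GsectHom
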