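import Groth.Agent.Lib.Helper61.ThickBC
import Mathlib.AlgebraicGeometry.Morphisms.ClosedImmersion

set_option autoImplicit false
universe u
open AlgebraicGeometry CategoryTheory Limits

namespace Groth.Agent.Lib.Helper78.InfNbhdSch

open Groth.Agent.Lib.Helper61.ThickBC

theorem ker_ideal_top {X Y : Scheme.{u}} (f : X ⟶ Y) [IsAffine Y] :
    f.ker.ideal ⟨⊤, isAffineOpen_top Y⟩ = RingHom.ker f.appTop.hom := by
  rw [Scheme.ker_of_isAffine]
  simp

/-- **Factorisation through the first order neighbourhood**: a morphism from a first order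
thickening whose restriction factors through a closed subscheme factors through the closed
subscheme cut out by the square of the ideal. -/
theorem ker_le_ker_of_sqZero {V W₁ Wc T T' : Scheme.{u}} [IsAffine V] (γ₁ : W₁ ⟶ V) (γ : Wc ⟶ V)
    (hker : γ₁.ker = γ.ker ^ 2) (t : T ⟶ T') [QuasiCompact t] (ht : t.ker * t.ker = ⊥)
    (g : T' ⟶ V) (a₀ : T ⟶ Wc) (hc : a₀ ≫ γ = t ≫ g) : γ₁.ker ≤ g.ker := by
  apply Scheme.IdealSheafData.le_of_isAffine
  rw [hker, pow_two, Scheme.IdealSheafData.ideal_mul]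
  simp only [Pi.mul_apply]
  rw [Ideal.mul_le]
  intro x hx y hy
  rw [ker_ideal_top, RingHom.mem_ker] at hx hy ⊢
  have key : ∀ z : Γ(V, ⊤), γ.appTop.hom z = 0 → (t.app ⊤).hom (g.appTop.hom z) = 0 := by
    intro z hz
    have h1 : (a₀ ≫ γ).appTop = (t ≫ g).appTop := by rw [hc]
    rw [Scheme.Hom.comp_appTop, Scheme.Hom.comp_appTop] at h1
    have h2 := congrArg (fun F => F.hom z) h1
    simp only [CommRingCat.hom_comp, RingHom.comp_apply] at h2
    rw [hz, map_zero] at h2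
    exact h2.symm
  have h0 := sq_zero t ht ⊤ _ _ (key x hx) (key y hy)
  rw [map_mul]
  exact h0

/-- the inclusion of a closed subscheme into its first order neighbourhood has square-zero
kernel. -/
theorem ker_mul_ker_eq_bot_of_ker_eq_sq {V W₁ Wc : Scheme.{u}} [IsAffine V] (ρ : Wc ⟶ W₁)
    (γ₁ : W₁ ⟶ V) [IsClosedImmersion γ₁] (hker : γ₁.ker = (ρ ≫ γ₁).ker ^ 2) :
    ρ.ker * ρ.ker = ⊥ := by
  obtain ⟨hW₁, hsurj⟩ := IsClosedImmersion.isAffine_surjective_of_isAffine γ₁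
  refine le_antisymm ?_ bot_le
  apply Scheme.IdealSheafData.le_of_isAffine
  rw [Scheme.IdealSheafData.ideal_mul, Scheme.IdealSheafData.ideal_bot]
  simp only [Pi.mul_apply, Pi.bot_apply]
  rw [Ideal.mul_le]
  intro x hx y hy
  rw [ker_ideal_top, RingHom.mem_ker] at hx hy
  rw [Ideal.mem_bot]
  obtain ⟨x', rfl⟩ := hsurj x
  obtain ⟨y', rfl⟩ := hsurj y
  have hx' : x' ∈ (ρ ≫ γ₁).ker.ideal ⟨⊤, isAffineOpen_top V⟩ := by
    rw [ker_ideal_top, RingHom.mem_ker, Scheme.Hom.comp_appTop]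
    exact hx
  have hy' : y' ∈ (ρ ≫ γ₁).ker.ideal ⟨⊤, isAffineOpen_top V⟩ := by
    rw [ker_ideal_top, RingHom.mem_ker, Scheme.Hom.comp_appTop]
    exact hy
  have h1 : x' * y' ∈ γ₁.ker.ideal ⟨⊤, isAffineOpen_top V⟩ := by
    rw [hker, pow_two, Scheme.IdealSheafData.ideal_mul]
    exact Ideal.mul_mem_mul hx' hy'
  rw [ker_ideal_top, RingHom.mem_ker] at h1
  rw [← map_mul]
  exact h1

end Groth.Agent.Lib.Helper78.InfNbhdSch
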