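import Groth.Agent.Lib.Helper78.InfNbhdSch
import Groth.Agent.Lib.Helper78.AlgSpLiftGlue4
import Mathlib.AlgebraicGeometry.IdealSheaf.Subscheme

set_option autoImplicit false
universe u
open AlgebraicGeometry CategoryTheory Limits

namespace Groth.Agent.Lib.Helper78.InfNbhdSch

open Groth.Agent.Lib.Helper61.ThickBC

/-- general (non-affine target) version of `ker_le_ker_of_sqZero`. -/
theorem ker_le_ker_of_sqZero' {V W₁ Wc T T' : Scheme.{u}} (γ₁ : W₁ ⟶ V) (γ : Wc ⟶ V)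
    (hker : γ₁.ker = γ.ker ^ 2) (t : T ⟶ T') [QuasiCompact t] (ht : t.ker * t.ker = ⊥)
    (g : T' ⟶ V) (a₀ : T ⟶ Wc) (hc : a₀ ≫ γ = t ≫ g) : γ₁.ker ≤ g.ker := by
  rw [hker]
  unfold Scheme.Hom.ker
  rw [Scheme.IdealSheafData.le_ofIdeals_iff]
  intro O
  rw [pow_two, Scheme.IdealSheafData.ideal_mul]
  simp only [Pi.mul_apply]
  rw [Ideal.mul_le]
  intro x hx y hy
  have hx' := Scheme.Hom.ideal_ker_le γ O hx
  have hy' := Scheme.Hom.ideal_ker_le γ O hy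
  rw [RingHom.mem_ker] at hx' hy' ⊢
  have key : ∀ z : Γ(V, O.1), (γ.app O.1).hom z = 0 →
      (t.app (g ⁻¹ᵁ O.1)).hom ((g.app O.1).hom z) = 0 := by
    intro z hz
    have h1 : (a₀ ≫ γ).app O.1 = (t ≫ g).app O.1 ≫ T.presheaf.map (eqToHom (by rw [hc])).op :=
      Scheme.Hom.congr_app hc O.1
    rw [Scheme.Hom.comp_app, Scheme.Hom.comp_app] at h1
    have h2 := congrArg (fun F => F.hom z) h1
    change (a₀.app (γ ⁻¹ᵁ O.1)).hom ((γ.app O.1).hom z) =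
      (T.presheaf.map (eqToHom (by rw [hc] : (a₀ ≫ γ) ⁻¹ᵁ O.1 = (t ≫ g) ⁻¹ᵁ O.1)).op).hom
        ((t.app (g ⁻¹ᵁ O.1)).hom ((g.app O.1).hom z)) at h2
    rw [hz, map_zero] at h2
    have hinj : Function.Injective (T.presheaf.map (eqToHom (by rw [hc] :
        (a₀ ≫ γ) ⁻¹ᵁ O.1 = (t ≫ g) ⁻¹ᵁ O.1)).op).hom :=
      (ConcreteCategory.bijective_of_isIso (T.presheaf.map (eqToHom _).op)).1
    apply hinj
    exact h2.symm.trans (map_zero _).symm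
  have h0 := sq_zero t ht (g ⁻¹ᵁ O.1) _ _ (key x hx') (key y hy')
  rw [map_mul]
  exact h0

/-- general (non-affine target) version of `ker_mul_ker_eq_bot_of_ker_eq_sq`. -/
theorem ker_mul_ker_eq_bot_of_ker_eq_sq' {V W₁ Wc : Scheme.{u}} (ρ : Wc ⟶ W₁)
    [IsClosedImmersion ρ] (γ₁ : W₁ ⟶ V) [IsClosedImmersion γ₁]
    (hker : γ₁.ker = (ρ ≫ γ₁).ker ^ 2) : ρ.ker * ρ.ker = ⊥ := by
  refine le_antisymm ?_ bot_le
  refine Scheme.IdealSheafData.le_of_iSup_eq_top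
    (fun O : V.affineOpens => (⟨γ₁ ⁻¹ᵁ O.1, O.2.preimage γ₁⟩ : W₁.affineOpens)) ?_ ?_
  · have h1 : (⨆ O : V.affineOpens, (γ₁ ⁻¹ᵁ O.1 : W₁.Opens)) = γ₁ ⁻¹ᵁ (⨆ O : V.affineOpens, O.1) := by
      rw [Scheme.Hom.preimage_iSup]
    change (⨆ O : V.affineOpens, (γ₁ ⁻¹ᵁ O.1 : W₁.Opens)) = ⊤
    rw [h1, iSup_affineOpens_eq_top]
    rfl
  · intro O
    rw [Scheme.IdealSheafData.ideal_mul, Scheme.IdealSheafData.ideal_bot]
    simp only [Pi.mul_apply, Pi.bot_apply]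
    rw [Ideal.mul_le]
    intro x hx y hy
    have hx0 := Scheme.Hom.ideal_ker_le ρ _ hx
    have hy0 := Scheme.Hom.ideal_ker_le ρ _ hy
    rw [RingHom.mem_ker] at hx0 hy0
    rw [Ideal.mem_bot]
    obtain ⟨x', rfl⟩ := γ₁.app_surjective O.1 O.2 x
    obtain ⟨y', rfl⟩ := γ₁.app_surjective O.1 O.2 y
    have hmem : ∀ z : Γ(V, O.1), (ρ.app (γ₁ ⁻¹ᵁ O.1)).hom ((γ₁.app O.1).hom z) = 0 →
        z ∈ (ρ ≫ γ₁).ker.ideal O := by
      intro z hz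
      rw [Scheme.Hom.ker_apply, RingHom.mem_ker, Scheme.Hom.comp_app]
      exact hz
    have h1 : x' * y' ∈ γ₁.ker.ideal O := by
      rw [hker, pow_two, Scheme.IdealSheafData.ideal_mul]
      exact Ideal.mul_mem_mul (hmem x' hx0) (hmem y' hy0)
    rw [Scheme.Hom.ker_apply, RingHom.mem_ker] at h1
    rw [← map_mul]
    exact h1

end Groth.Agent.Lib.Helper78.InfNbhdSch
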