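import Groth.Prelude.Def_W4c2quivmodsheafKron
import Mathlib.LinearAlgebra.Dimension.Constructions
import Mathlib.LinearAlgebra.FiniteDimensional.Basic
import Mathlib.LinearAlgebra.FiniteDimensional.Lemmas
import Mathlib.LinearAlgebra.Dimension.RankNullity
import Mathlib.LinearAlgebra.Pi

/-!
Kronecker modules: basic lemmas (helper78).
-/

set_option autoImplicit false
universe u v w

namespace Groth.Agent.Lib.Helper78.Kron

open KronMod Module

variable {K : Type u} [Field K] {V : Type v} {W : Type w}
  [AddCommGroup V] [Module K V] [AddCommGroup W] [Module K W] {n : ℕ}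

/-- The sum map `Vⁿ → W`. -/
noncomputable def sumMap (f : Fin n → (V →ₗ[K] W)) : (Fin n → V) →ₗ[K] W :=
  ∑ j, (f j) ∘ₗ (LinearMap.proj j)

theorem sumMap_apply (f : Fin n → (V →ₗ[K] W)) (v : Fin n → V) :
    sumMap f v = ∑ j, f j (v j) := by
  simp [sumMap, LinearMap.sum_apply]

/-- The product map `V → Wⁿ`. -/
noncomputable def prodMap (f : Fin n → (V →ₗ[K] W)) : V →ₗ[K] (Fin n → W) :=
  LinearMap.pi f

theorem prodMap_apply (f : Fin n → (V →ₗ[K] W)) (v : V) (j : Fin n) :
    prodMap f v j = f j v := rfl

theorem isSubrep_top_range (f : Fin n → (V →ₗ[K] W)) :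
    IsSubrep f ⊤ (LinearMap.range (sumMap f)) := by
  intro j w hw
  obtain ⟨v, _, rfl⟩ := hw
  refine ⟨Pi.single j v, ?_⟩
  rw [sumMap_apply, Finset.sum_eq_single j]
  · simp
  · intro i _ hij
    simp [Pi.single_eq_of_ne hij]
  · intro h; exact absurd (Finset.mem_univ j) h

theorem isSubrep_ker_bot (f : Fin n → (V →ₗ[K] W)) :
    IsSubrep f (LinearMap.ker (prodMap f)) ⊥ := by
  intro j w hw
  obtain ⟨v, hv, rfl⟩ := hw
  have : prodMap f v = 0 := hv
  have h2 := congrFun this j
  simpa [prodMap_apply] using h2

theorem finrank_range_sumMap_le [FiniteDimensional K V] [FiniteDimensional K W]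
    (f : Fin n → (V →ₗ[K] W)) :
    finrank K (LinearMap.range (sumMap f)) ≤ n * finrank K V := by
  have := LinearMap.finrank_range_le (sumMap f)
  simpa [Module.finrank_pi_fintype] using this

theorem finrank_le_ker_prodMap_add [FiniteDimensional K V] [FiniteDimensional K W]
    (f : Fin n → (V →ₗ[K] W)) :
    finrank K V ≤ finrank K (LinearMap.ker (prodMap f)) + n * finrank K W := by
  have h1 := LinearMap.finrank_range_add_finrank_ker (prodMap f)
  have h2 : finrank K (LinearMap.range (prodMap f)) ≤ n * finrank K W := by
    have := Submodule.finrank_le (LinearMap.range (prodMap f))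
    simpa [Module.finrank_pi_fintype] using this
  omega

/-- For a subrepresentation `(V', W')`, if the sum map is injective then `n dim V' ≤ dim W'`. -/
theorem mul_finrank_le_of_sumMap_injective [FiniteDimensional K V] [FiniteDimensional K W]
    (f : Fin n → (V →ₗ[K] W)) (hinj : Function.Injective (sumMap f))
    (V' : Submodule K V) (W' : Submodule K W) (hsub : IsSubrep f V' W') :
    n * finrank K V' ≤ finrank K W' := by
  let ι : (Fin n → V') →ₗ[K] (Fin n → V) := LinearMap.pi (fun j => V'.subtype ∘ₗ LinearMap.proj j)
  have hι : Function.Injective ι := by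
    intro a b hab
    funext j
    have := congrFun hab j
    exact Subtype.ext this
  have hcomp : Function.Injective ((sumMap f) ∘ₗ ι) := hinj.comp hι
  have hrange : LinearMap.range ((sumMap f) ∘ₗ ι) ≤ W' := by
    rintro w ⟨a, rfl⟩
    rw [LinearMap.comp_apply, sumMap_apply]
    exact Submodule.sum_mem _ (fun j _ => hsub j (Submodule.mem_map_of_mem (a j).2))
  calc n * finrank K V' = finrank K (Fin n → V') := by simp [Module.finrank_pi_fintype]
    _ = finrank K (LinearMap.range ((sumMap f) ∘ₗ ι)) := (LinearMap.finrank_range_of_inj hcomp).symm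
    _ ≤ finrank K W' := Submodule.finrank_mono hrange

/-- For a subrepresentation `(V', W')`, if the product map is injective then `dim V' ≤ n dim W'`. -/
theorem finrank_le_mul_of_prodMap_injective [FiniteDimensional K V] [FiniteDimensional K W]
    (f : Fin n → (V →ₗ[K] W)) (hinj : Function.Injective (prodMap f))
    (V' : Submodule K V) (W' : Submodule K W) (hsub : IsSubrep f V' W') :
    finrank K V' ≤ n * finrank K W' := by
  let g : V' →ₗ[K] (Fin n → W') :=
    LinearMap.pi (fun j => ((f j).comp V'.subtype).codRestrict W'
      (fun v => hsub j (Submodule.mem_map_of_mem v.2)))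
  have hg : Function.Injective g := by
    intro a b hab
    apply Subtype.ext
    apply hinj
    funext j
    have := congrFun hab j
    exact congrArg Subtype.val this
  calc finrank K V' ≤ finrank K (Fin n → W') := LinearMap.finrank_le_finrank_of_injective hg
    _ = n * finrank K W' := by simp [Module.finrank_pi_fintype]

end Groth.Agent.Lib.Helper78.Kron
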