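import Groth.Agent.Lib.Helper78.EffCartierDesc
import Groth.Prelude.Def_W4stk3spdivLocPr
import Groth.Prelude.Def_AlgSp3
import Groth.Prelude.Def_AlgSpSub
import Groth.Prelude.Def_CInt

set_option autoImplicit false
set_option linter.style.haveILetI false
universe u
open CategoryTheory CategoryTheory.Limits AlgebraicGeometry Opposite TopologicalSpace
open AlgSp

namespace Groth.Agent.Lib.Helper78.LocPrincipalDesc

open Groth.Agent.Lib.Helper78.EffCartierDesc Groth.Agent.Lib.BlowUp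

/-- if `J B = (g)`, then near any prime `q` of `B` some element of `J` generates `J B`. -/
theorem exists_generator_near' {A B : Type*} [CommRing A] [CommRing B] (φ : A →+* B) (J : Ideal A)
    (g : B) (hJ : J.map φ = Ideal.span {g}) (q : Ideal B) [q.IsPrime] :
    ∃ a ∈ J, ∃ c : B, c ∉ q ∧ ∃ e : B, c * g = e * φ a := by
  by_contra hcon
  push Not at hcon
  have hann : ∀ c : B, c ∉ q → c * g ≠ 0 := by
    intro c hc h0
    exact hcon 0 J.zero_mem c hc 0 (by rw [h0, map_zero, mul_zero])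
  have h1 : J.map φ ≤ Ideal.span {g} * q := by
    rw [Ideal.map_le_iff_le_comap]
    intro a ha
    have h2 : φ a ∈ Ideal.span {g} := hJ ▸ Ideal.mem_map_of_mem φ ha
    obtain ⟨c, hc⟩ := Ideal.mem_span_singleton'.1 h2
    rw [Ideal.mem_comap, Ideal.mem_span_singleton_mul]
    refine ⟨c, by_contra (fun hcq => hcon a ha c hcq 1 (by rw [one_mul, hc])), by rw [mul_comm, hc]⟩
  have h3 : g ∈ Ideal.span {g} * q := h1 (hJ ▸ Ideal.mem_span_singleton_self g)
  obtain ⟨z, hzq, hz⟩ := Ideal.mem_span_singleton_mul.1 h3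
  have h4 : (1 - z) * g = 0 := by rw [sub_mul, one_mul, mul_comm z, hz, sub_self]
  refine hann (1 - z) (fun h => ?_) h4
  have : (1 : B) ∈ q := by
    have := q.add_mem h hzq
    rwa [sub_add_cancel] at this
  exact (Ideal.IsPrime.ne_top ‹_›) ((Ideal.eq_top_iff_one _).2 this)

theorem eq_span_of_faithfullyFlat' {A B : Type*} [CommRing A] [CommRing B] (ψ : A →+* B)
    (hψ : ψ.FaithfullyFlat) (J : Ideal A) (a : A)
    (h : J.map ψ = Ideal.span {ψ a}) : J = Ideal.span {a} := by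
  algebraize [ψ]
  have : Module.FaithfullyFlat A B := hψ
  apply Ideal.map_injective_of_faithfullyFlat (A := A) (B := B)
  show J.map ψ = (Ideal.span {a}).map ψ
  rw [h, Ideal.map_span, Set.image_singleton]

/-- **Local descent of locally principal ideals along flat open maps.** -/
theorem exists_affine_span_of_comap {W U : Scheme.{u}} (f : W ⟶ U) [Flat f]
    (hopen : IsOpenMap f) (I : U.IdealSheafData) (w : W)
    (hI : ∃ W₀ : W.affineOpens, w ∈ W₀.1 ∧ ∃ g : Γ(W, W₀.1), (I.comap f).ideal W₀ = Ideal.span {g}) :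
    ∃ U' : U.affineOpens, f w ∈ U'.1 ∧ ∃ a : Γ(U, U'.1), I.ideal U' = Ideal.span {a} := by
  obtain ⟨U₁, hU₁, hxU₁, -⟩ := Opens.isBasis_iff_nbhd.1 (U.isBasis_affineOpens)
    (show f w ∈ (⊤ : U.Opens) from trivial)
  have hU₁ : IsAffineOpen U₁ := hU₁
  obtain ⟨W₀, hwW₀, g₀, hIg₀⟩ := hI
  obtain ⟨W₁', hW₁0, hwW₁, hW₁le⟩ := Opens.isBasis_iff_nbhd.1 (W.isBasis_affineOpens)
    (show w ∈ W₀.1 ⊓ f ⁻¹ᵁ U₁ from ⟨hwW₀, hxU₁⟩)
  have hW₁a : IsAffineOpen W₁' := hW₁0
  let W₁ : W.affineOpens := ⟨W₁', hW₁a⟩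
  have hW₁W₀ : W₁.1 ≤ W₀.1 := hW₁le.trans inf_le_left
  have hW₁U₁ : W₁.1 ≤ f ⁻¹ᵁ U₁ := hW₁le.trans inf_le_right
  obtain ⟨g, hgdef⟩ : ∃ g : Γ(W, W₁.1), g = (W.presheaf.map (homOfLE hW₁W₀).op).hom g₀ := ⟨_, rfl⟩
  have hIg : (I.comap f).ideal W₁ = Ideal.span {g} := by
    have h1 := (I.comap f).map_ideal (U := W₁) (V := W₀) hW₁W₀
    rw [← h1, hIg₀, Ideal.map_span, Set.image_singleton, hgdef]
    rfl
  have hIφ : (I.comap f).ideal W₁ = (I.ideal ⟨U₁, hU₁⟩).map (f.appLE U₁ W₁.1 hW₁U₁).hom :=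
    Groth.Agent.Lib.Helper20.ideal_comap f I W₁ ⟨U₁, hU₁⟩ hW₁U₁
  obtain ⟨a, haJ, c, hcq, e, hace⟩ := exists_generator_near' (f.appLE U₁ W₁.1 hW₁U₁).hom
    (I.ideal ⟨U₁, hU₁⟩) g (hIφ ▸ hIg) (W₁.2.primeIdealOf ⟨w, hwW₁⟩).asIdeal
  have hwc : w ∈ W.basicOpen c := (mem_basicOpen_iff_notMem_primeIdealOf W₁.2 c w hwW₁).2 hcq
  let V : U.Opens := ⟨f '' (W.basicOpen c : Set W), hopen _ (W.basicOpen c).isOpen⟩
  have hxV : f w ∈ V := ⟨w, hwc, rfl⟩
  obtain ⟨s, hsV, hxs⟩ := hU₁.exists_basicOpen_le (V := V) ⟨f w, hxV⟩ hxU₁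
  have hU₃ : IsAffineOpen (U.basicOpen s) := hU₁.basicOpen s
  have hU₃₁ : U.basicOpen s ≤ U₁ := U.basicOpen_le s
  set φs := (f.appLE U₁ W₁.1 hW₁U₁).hom s with hφs
  have hW₃ : IsAffineOpen (W.basicOpen (c * φs)) := W₁.2.basicOpen _
  have hW₃₁ : W.basicOpen (c * φs) ≤ W₁.1 := W.basicOpen_le _
  have hW₃eq : W.basicOpen (c * φs) = W.basicOpen c ⊓ (W₁.1 ⊓ f ⁻¹ᵁ (U.basicOpen s)) := by
    rw [Scheme.basicOpen_mul, hφs, Scheme.basicOpen_appLE]
  have hW₃U₃ : W.basicOpen (c * φs) ≤ f ⁻¹ᵁ (U.basicOpen s) := by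
    rw [hW₃eq]; exact inf_le_right.trans inf_le_right
  have hW₃c : W.basicOpen (c * φs) ≤ W.basicOpen c := by
    rw [hW₃eq]; exact inf_le_left
  have hsurj : ∀ x' ∈ U.basicOpen s, ∃ w' ∈ W.basicOpen (c * φs), f w' = x' := by
    intro x' hx'
    obtain ⟨w', hw'c, rfl⟩ := hsV hx'
    refine ⟨w', ?_, rfl⟩
    rw [hW₃eq]
    exact ⟨hw'c, W.basicOpen_le c hw'c, hx'⟩
  have hflat : (f.appLE (U.basicOpen s) (W.basicOpen (c * φs)) hW₃U₃).hom.Flat :=
    Flat.flat_appLE f hU₃ hW₃ hW₃U₃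
  have hff : (f.appLE (U.basicOpen s) (W.basicOpen (c * φs)) hW₃U₃).hom.FaithfullyFlat := by
    rw [RingHom.FaithfullyFlat.iff_flat_and_comap_surjective]
    refine ⟨hflat, fun p' => ?_⟩
    have hp' : hU₃.fromSpec p' ∈ U.basicOpen s := by
      show hU₃.fromSpec p' ∈ (U.basicOpen s : Set U)
      rw [← hU₃.range_fromSpec]
      exact Set.mem_range_self p'
    obtain ⟨w', hw', hfw'⟩ := hsurj _ hp'
    refine ⟨hW₃.primeIdealOf ⟨w', hw'⟩, ?_⟩
    have h1 := IsAffineOpen.comap_primeIdealOf_appLE (f := f) (x := w') (U.basicOpen s) hU₃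
      (W.basicOpen (c * φs)) hW₃ hW₃U₃ hw'
    rw [h1]
    have h2 : (⟨f w', hW₃U₃ hw'⟩ : ↥(U.basicOpen s)) = ⟨hU₃.fromSpec p', hp'⟩ :=
      Subtype.ext hfw'
    rw [h2, primeIdealOf_fromSpec hU₃ p' hp']
  set resU := (U.presheaf.map (homOfLE hU₃₁).op).hom with hresU
  set resW := (W.presheaf.map (homOfLE hW₃₁).op).hom with hresW
  have hJ₃ : (I.ideal ⟨U₁, hU₁⟩).map resU = I.ideal ⟨U.basicOpen s, hU₃⟩ :=
    I.map_ideal (U := ⟨U.basicOpen s, hU₃⟩) (V := ⟨U₁, hU₁⟩) hU₃₁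
  have hI₃ : (I.comap f).ideal ⟨W.basicOpen (c * φs), hW₃⟩ =
      (I.ideal ⟨U.basicOpen s, hU₃⟩).map
        (f.appLE (U.basicOpen s) (W.basicOpen (c * φs)) hW₃U₃).hom :=
    Groth.Agent.Lib.Helper20.ideal_comap f I ⟨_, hW₃⟩ ⟨_, hU₃⟩ hW₃U₃
  have hI₃' : ((I.comap f).ideal W₁).map resW = (I.comap f).ideal ⟨W.basicOpen (c * φs), hW₃⟩ :=
    (I.comap f).map_ideal (U := ⟨W.basicOpen (c * φs), hW₃⟩) (V := W₁) hW₃₁
  have hcomm : (f.appLE (U.basicOpen s) (W.basicOpen (c * φs)) hW₃U₃).hom (resU a) =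
      resW ((f.appLE U₁ W₁.1 hW₁U₁).hom a) := by
    have e1 := f.map_appLE (U := U.basicOpen s) (V := W.basicOpen (c * φs)) hW₃U₃
      (homOfLE hU₃₁).op
    have e2 := f.appLE_map (U := U₁) (V := W₁.1) hW₁U₁ (homOfLE hW₃₁).op
    exact congrArg (fun k => k.hom a) (e1.trans e2.symm)
  have hunit : IsUnit (resW c) := by
    have h1 := RingedSpace.isUnit_res_basicOpen W.toRingedSpace c
    have h2 : resW c = (W.presheaf.map (homOfLE hW₃c).op).hom
        ((W.presheaf.map (homOfLE (W.basicOpen_le c)).op).hom c) := by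
      rw [hresW, ← CommRingCat.comp_apply, ← Functor.map_comp]
      rfl
    rw [h2]
    exact h1.map _
  have hmem : (f.appLE (U.basicOpen s) (W.basicOpen (c * φs)) hW₃U₃).hom (resU a) ∈
      (I.ideal ⟨U.basicOpen s, hU₃⟩).map
        (f.appLE (U.basicOpen s) (W.basicOpen (c * φs)) hW₃U₃).hom := by
    apply Ideal.mem_map_of_mem
    rw [← hJ₃]
    exact Ideal.mem_map_of_mem _ haJ
  have hrel : resW c * resW g = resW e *
      (f.appLE (U.basicOpen s) (W.basicOpen (c * φs)) hW₃U₃).hom (resU a) := by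
    rw [hcomm, ← map_mul, ← map_mul, hace]
  have hspanW : (I.ideal ⟨U.basicOpen s, hU₃⟩).map
      (f.appLE (U.basicOpen s) (W.basicOpen (c * φs)) hW₃U₃).hom = Ideal.span {resW g} := by
    rw [← hI₃, ← hI₃', hIg, Ideal.map_span, Set.image_singleton]
  have hfinal : (I.ideal ⟨U.basicOpen s, hU₃⟩).map
      (f.appLE (U.basicOpen s) (W.basicOpen (c * φs)) hW₃U₃).hom =
      Ideal.span {(f.appLE (U.basicOpen s) (W.basicOpen (c * φs)) hW₃U₃).hom (resU a)} := by
    apply le_antisymm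
    · rw [hspanW, Ideal.span_singleton_le_iff_mem, Ideal.mem_span_singleton']
      obtain ⟨d, hd⟩ := hunit.exists_left_inv
      refine ⟨d * resW e, ?_⟩
      rw [mul_assoc, ← hrel, ← mul_assoc, hd, one_mul]
    · rw [Ideal.span_singleton_le_iff_mem]
      exact hmem
  exact ⟨⟨U.basicOpen s, hU₃⟩, hxs, resU a, eq_span_of_faithfullyFlat' _ hff _ _ hfinal⟩

variable {S : Scheme.{u}}

open Groth.Agent.Lib.Helper78.EffCartierSp Groth.Agent.Lib.Helper51 Groth.Agent.Lib.Helper52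

/-- **Transfer of local principality from an etale chart to an arbitrary scheme over `X`.** -/
theorem exists_span_of_chart {X D : Sp S} (i : D ⟶ X)
    {U : Over S} (a : (yon S).obj U ⟶ X) (ha : RepWith @Etale a) (IU : U.left.IdealSheafData)
    (fstU : (yon S).obj (sub U IU) ⟶ D) (sqU : IsPullback fstU ((yon S).map (subι U IU)) i a)
    {T : Over S} (ψ : (yon S).obj T ⟶ X) (IT : T.left.IdealSheafData)
    (fstT : (yon S).obj (sub T IT) ⟶ D) (sqT : IsPullback fstT ((yon S).map (subι T IT)) i ψ)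
    (u : U.left) (t : T.left) (hut : Points.ofPt a u = Points.ofPt ψ t)
    (hIU : ∃ U' : U.left.affineOpens, u ∈ U'.1 ∧ ∃ r : Γ(U.left, U'.1),
      IU.ideal U' = Ideal.span {r}) :
    ∃ T' : T.left.affineOpens, t ∈ T'.1 ∧ ∃ r : Γ(T.left, T'.1), IT.ideal T' = Ideal.span {r} := by
  obtain ⟨W, w1, w2, sqW⟩ := exists_isPullback_of_representable ha.1 ψ
  haveI : Etale w2.left := ha.2 ψ _ w2 sqW
  obtain ⟨w, hw1, hw2⟩ := exists_of_ofPt_eq_ofPt sqW hut
  have big₁ := (isPullback_yon_subMap w1 IU).paste_horiz sqU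
  have big₂ := (isPullback_yon_subMap w2 IT).paste_horiz sqT
  rw [sqW.w] at big₁
  have heq : IU.comap w1.left = IT.comap w2.left := ideal_eq_of_isPullback i _ _ _ _ _ big₁ big₂
  obtain ⟨U', huU', r, hr⟩ := hIU
  have hwU' : w ∈ w1.left ⁻¹ᵁ U'.1 := by
    show w1.left w ∈ U'.1
    rw [hw1]; exact huU'
  obtain ⟨W₀, hW₀0, hwW₀, hW₀le⟩ := Opens.isBasis_iff_nbhd.1 (W.left.isBasis_affineOpens) hwU'
  have hW₀a : IsAffineOpen W₀ := hW₀0
  have hI : ∃ W₀ : W.left.affineOpens, w ∈ W₀.1 ∧ ∃ g : Γ(W.left, W₀.1),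
      (IT.comap w2.left).ideal W₀ = Ideal.span {g} := by
    refine ⟨⟨W₀, hW₀a⟩, hwW₀, (w1.left.appLE U'.1 W₀ hW₀le).hom r, ?_⟩
    rw [← heq, Groth.Agent.Lib.Helper20.ideal_comap w1.left IU ⟨W₀, hW₀a⟩ U' hW₀le, hr,
      Ideal.map_span, Set.image_singleton]
  have := exists_affine_span_of_comap w2.left w2.left.isOpenMap IT w hI
  rwa [hw2] at this

/-- the complement of a locally principal closed subscheme is affine over the ambient scheme -/
theorem isAffineHom_ι_of_locPrincipal {T : Scheme.{u}} (I : T.IdealSheafData) (W : T.Opens)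
    (hW : (W : Set T) = (I.support : Set T)ᶜ)
    (hI : ∀ x ∈ I.support, ∃ V : T.affineOpens, x ∈ V.1 ∧ ∃ t : Γ(T, V.1),
      I.ideal V = Ideal.span {t}) : IsAffineHom W.ι := by
  refine isAffineHom_of_forall_exists_isAffineOpen _ (fun x => ?_)
  by_cases hx : x ∈ I.support
  · obtain ⟨V, hxV, t, ht⟩ := hI x hx
    refine ⟨V.1, hxV, V.2, ?_⟩
    rw [← W.ι.isAffineOpen_iff_of_isOpenImmersion,
      Scheme.Hom.image_preimage_eq_opensRange_inf, Scheme.Opens.opensRange_ι,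
      Groth.Agent.Lib.BlowUp.CartierCompl.inf_eq_basicOpen I W hW V t ht]
    exact V.2.basicOpen t
  · have hxW : x ∈ W := by
      show x ∈ (W : Set T)
      rw [hW]; exact hx
    obtain ⟨V, hV0, hxV, hVW⟩ := Opens.isBasis_iff_nbhd.1 (T.isBasis_affineOpens) hxW
    have hVa : IsAffineOpen V := hV0
    refine ⟨V, hxV, hVa, ?_⟩
    rw [← W.ι.isAffineOpen_iff_of_isOpenImmersion,
      Scheme.Hom.image_preimage_eq_opensRange_inf, Scheme.Opens.opensRange_ι, inf_eq_right.2 hVW]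
    exact hVa

/-- **The complement of a locally principal closed subspace is affine over the space.** -/
theorem isAffineMor_compl_of_isLocPrincipalSub {X Z U : Sp S} (i : Z ⟶ X)
    (hZ : IsLocPrincipalSub i) (j : U ⟶ X) (hj : RepWith @IsOpenImmersion j)
    (hU : Set.range (Points.map j) = (Set.range (Points.map i))ᶜ) : IsAffineMor j := by
  intro T hT g
  obtain ⟨hi, V, φ, IV, fstV, hφe, hφs, sqV, hIV⟩ := hZ
  have sqO := hj.1.isPullback g
  haveI : IsOpenImmersion (hj.1.snd g).left := hj.2 g _ _ sqO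
  refine ⟨hj.1.pullback g, hj.1.snd g, hj.1.fst g, sqO, ?_⟩
  obtain ⟨IT, fstT, sqT⟩ := exists_ideal_of_repWith i hi g
  have hrange : Set.range (hj.1.snd g).left = (IT.support : Set T.left)ᶜ := by
    ext t
    rw [← ofPt_mem_range_map_iff sqO t, hU, Set.mem_compl_iff, ofPt_mem_range_map_iff sqT t,
      Set.mem_compl_iff, ← IT.range_subschemeι]
    rfl
  have hIT : ∀ t ∈ IT.support, ∃ T' : T.left.affineOpens, t ∈ T'.1 ∧ ∃ r : Γ(T.left, T'.1),
      IT.ideal T' = Ideal.span {r} := by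
    intro t ht
    obtain ⟨v, hv⟩ := surjective_ofPt_of_repWith_surjective φ hφs (Points.ofPt g t)
    have hvs : v ∈ IV.support := by
      have h1 : Points.ofPt g t ∈ Set.range (Points.map i) := by
        rw [ofPt_mem_range_map_iff sqT t]
        have : t ∈ Set.range IT.subschemeι := by rw [IT.range_subschemeι]; exact ht
        exact this
      rw [← hv, ofPt_mem_range_map_iff sqV v] at h1
      have h2 : v ∈ Set.range IV.subschemeι := h1
      rwa [IV.range_subschemeι] at h2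
    exact exists_span_of_chart i φ hφe IV fstV sqV g IT fstT sqT v t hv (hIV v hvs)
  let Wt : T.left.Opens := ⟨(IT.support : Set T.left)ᶜ, IT.support.isClosed.isOpen_compl⟩
  have haff : IsAffineHom Wt.ι := isAffineHom_ι_of_locPrincipal IT Wt rfl hIT
  haveI : IsAffine T.left := hT
  haveI : IsAffine Wt.toScheme := isAffine_of_isAffineHom Wt.ι
  let e := IsOpenImmersion.isoOfRangeEq (hj.1.snd g).left Wt.ι (by
    rw [hrange, Scheme.Opens.range_ι]; rfl)
  exact IsAffine.of_isIso e.hom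

/-- the complement of an effective Cartier divisor is schematically dense -/
theorem isSchematicallyDense_compl {T : Scheme.{u}} (I : T.IdealSheafData) (W : T.Opens)
    (hW : (W : Set T) = (I.support : Set T)ᶜ) (hI : BlowUp.IsEffCartierIdeal I) :
    CInt.IsSchematicallyDense W := by
  intro V'
  rw [injective_iff_map_eq_zero]
  intro s hs
  choose O hxO hOV t ht hIt using fun x : V' =>
    exists_le_of_isEffCartierIdeal hI x.1 V' x.2
  refine T.sheaf.eq_of_locally_eq' (fun x : V' => (O x).1) V' (fun x => homOfLE (hOV x)) ?_ s 0 ?_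
  · intro x hx
    exact Opens.mem_iSup.2 ⟨⟨x, hx⟩, hxO ⟨x, hx⟩⟩
  · intro x
    have hinf : W ⊓ (O x).1 = T.basicOpen (t x) :=
      Groth.Agent.Lib.BlowUp.CartierCompl.inf_eq_basicOpen I W hW (O x) (t x) (hIt x)
    have hle : W ⊓ (O x).1 ≤ (O x).1 := inf_le_right
    have hinj := Groth.Agent.Lib.BlowUp.CartierCompl.injective_map_of_eq_basicOpen (O x).2 (t x)
      (ht x) (W ⊓ (O x).1) hinf hle
    apply hinj
    have hle2 : W ⊓ (O x).1 ≤ V' ⊓ W := le_inf (inf_le_right.trans (hOV x)) inf_le_left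
    have e1 : (T.presheaf.map (homOfLE hle).op).hom ((T.presheaf.map (homOfLE (hOV x)).op).hom s) =
        (T.presheaf.map (homOfLE hle2).op).hom
          ((T.presheaf.map (homOfLE (inf_le_left : V' ⊓ W ≤ V')).op).hom s) := by
      rw [← CommRingCat.comp_apply, ← CommRingCat.comp_apply, ← Functor.map_comp,
        ← Functor.map_comp]
      rfl
    show (T.presheaf.map (homOfLE hle).op).hom ((T.presheaf.map (homOfLE (hOV x)).op).hom s) =
      (T.presheaf.map (homOfLE hle).op).hom ((T.presheaf.map (homOfLE (hOV x)).op).hom 0)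
    rw [e1]
    have hs' : (T.presheaf.map (homOfLE (inf_le_left : V' ⊓ W ≤ V')).op).hom s = 0 := hs
    rw [hs', map_zero, map_zero, map_zero]

/-- the pullback of a representable open immersion along a chart is the inclusion of the open
subscheme of points mapping into its image -/
theorem exists_opens_of_repWith {X U : Sp S} (j : U ⟶ X) (hj : RepWith @IsOpenImmersion j)
    {V : Over S} (φ : (yon S).obj V ⟶ X) (W : V.left.Opens)
    (hW : ∀ v, v ∈ W ↔ Points.ofPt φ v ∈ Set.range (Points.map j)) :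
    ∃ fst : (yon S).obj (Over.mk (W.ι ≫ V.hom)) ⟶ U,
      IsPullback fst ((yon S).map (Over.homMk W.ι rfl : Over.mk (W.ι ≫ V.hom) ⟶ V)) j φ := by
  have sqO := hj.1.isPullback φ
  haveI : IsOpenImmersion (hj.1.snd φ).left := hj.2 φ _ _ sqO
  have hrange : Set.range W.ι = Set.range (hj.1.snd φ).left := by
    ext v
    rw [Scheme.Opens.range_ι, ← ofPt_mem_range_map_iff sqO v, ← hW v]
    rfl
  let e0 := IsOpenImmersion.isoOfRangeEq W.ι (hj.1.snd φ).left hrange
  have he0 : e0.hom ≫ (hj.1.snd φ).left = W.ι := IsOpenImmersion.isoOfRangeEq_hom_fac _ _ _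
  let e : Over.mk (W.ι ≫ V.hom) ≅ hj.1.pullback φ := Over.isoMk e0 (by
    show e0.hom ≫ (hj.1.pullback φ).hom = W.ι ≫ V.hom
    rw [← Over.w (hj.1.snd φ), ← Category.assoc, he0])
  have he : e.hom ≫ hj.1.snd φ = (Over.homMk W.ι rfl : Over.mk (W.ι ≫ V.hom) ⟶ V) := by
    apply Over.OverMorphism.ext
    exact he0
  refine ⟨(yon S).map e.hom ≫ hj.1.fst φ, ?_⟩
  refine IsPullback.of_iso sqO ((yon S).mapIso e.symm) (Iso.refl _) (Iso.refl _) (Iso.refl _)
    ?_ ?_ (by simp) (by simp)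
  · rw [Iso.refl_hom, Category.comp_id, Functor.mapIso_hom, Iso.symm_hom, ← Category.assoc,
      ← (yon S).map_comp, e.inv_hom_id, (yon S).map_id, Category.id_comp]
  · rw [Iso.refl_hom, Category.comp_id, Functor.mapIso_hom, Iso.symm_hom, ← he, (yon S).map_comp,
      ← Category.assoc, ← (yon S).map_comp, e.inv_hom_id, (yon S).map_id, Category.id_comp]

theorem isLocPrincipalSub_of_isEffCartierSub {X D : Sp S} (i : D ⟶ X) (hD : IsEffCartierSub i) :
    IsLocPrincipalSub i := by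
  obtain ⟨hi, V, φ, IV, fstV, hφe, hφs, sqV, hIV⟩ := hD
  refine ⟨hi, V, φ, IV, fstV, hφe, hφs, sqV, fun v _ => ?_⟩
  obtain ⟨V', hv, t, -, ht⟩ := hIV v
  exact ⟨V', hv, t, ht⟩

/-- **The complement of an effective Cartier divisor is affine over the space and schematically
dense.** -/
theorem isAffineMor_and_isSchDense_compl {X D U : Sp S} (i : D ⟶ X) (hD : IsEffCartierSub i)
    (j : U ⟶ X) (hj : RepWith @IsOpenImmersion j)
    (hU : Set.range (Points.map j) = (Set.range (Points.map i))ᶜ) :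
    IsAffineMor j ∧ IsSchDense j := by
  refine ⟨isAffineMor_compl_of_isLocPrincipalSub i (isLocPrincipalSub_of_isEffCartierSub i hD) j
    hj hU, hj, ?_⟩
  obtain ⟨hi, V, φ, IV, fstV, hφe, hφs, sqV, hIV⟩ := hD
  let W : V.left.Opens := ⟨(IV.support : Set V.left)ᶜ, IV.support.isClosed.isOpen_compl⟩
  have hW : ∀ v, v ∈ W ↔ Points.ofPt φ v ∈ Set.range (Points.map j) := by
    intro v
    rw [hU, Set.mem_compl_iff, ofPt_mem_range_map_iff sqV v]
    show v ∈ (IV.support : Set V.left)ᶜ ↔ _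
    rw [Set.mem_compl_iff, ← IV.range_subschemeι]
    rfl
  obtain ⟨fst, sq⟩ := exists_opens_of_repWith j hj φ W hW
  exact ⟨V, φ, W, fst, hφe, hφs, sq, isSchematicallyDense_compl IV W rfl hIV⟩

end Groth.Agent.Lib.Helper78.LocPrincipalDesc
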