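import Groth.Agent.Lib.Helper78.EffCartierSum
import Groth.Agent.Lib.Helper78.AlgSpLocPLofp

set_option autoImplicit false
set_option linter.style.haveILetI false
set_option backward.isDefEq.respectTransparency false
universe u
open CategoryTheory CategoryTheory.Limits AlgebraicGeometry Opposite TopologicalSpace
open AlgSp

namespace Groth.Agent.Lib.Helper78.LofpClosed

open Groth.Agent.Lib.Helper78.EffCartierSp Groth.Agent.Lib.Helper78.EffCartierDesc
open Groth.Agent.Lib.Helper78.EffCartierSum
open Groth.Agent.Lib.Helper78.AlgSpLocP Groth.Agent.Lib.Helper78.AlgSpLocPLofp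

theorem lofp_subschemeι {T : Scheme.{u}} (K : T.IdealSheafData)
    (h : ∀ V' : T.affineOpens, (K.ideal V').FG) : LocallyOfFinitePresentation K.subschemeι := by
  rw [HasRingHomProperty.iff_exists_appLE (P := @LocallyOfFinitePresentation)
    (RingHom.finitePresentation_stableUnderComposition.stableUnderCompositionWithLocalizationAway
      RingHom.finitePresentation_holdsForLocalizationAway).1]
  intro x
  obtain ⟨U, hU, hxU, -⟩ := Opens.isBasis_iff_nbhd.1 T.isBasis_affineOpens
    (show K.subschemeι x ∈ (⊤ : T.Opens) from trivial)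
  have hU : IsAffineOpen U := hU
  refine ⟨⟨U, hU⟩, ⟨K.subschemeι ⁻¹ᵁ U, hU.preimage K.subschemeι⟩, hxU, le_rfl, ?_⟩
  rw [← Scheme.Hom.app_eq_appLE]
  exact RingHom.FinitePresentation.of_surjective _ (K.subschemeι_app_surjective ⟨U, hU⟩)
    (by rw [K.ker_subschemeι_app]; exact h _)

theorem ker_fg_of_finitePresentation {A B : Type u} [CommRing A] [CommRing B] (f : A →+* B)
    (hf : Function.Surjective f) (hfp : f.FinitePresentation) : (RingHom.ker f).FG := by
  algebraize [f]
  have := Algebra.FinitePresentation.ker_fG_of_surjective (Algebra.ofId A B) hf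
  exact this

variable {S : Scheme.{u}}

theorem locP_lofp_iff {Z X : Sp S} (hX : IsAlgSpace X) (i : Z ⟶ X)
    (hi : RepWith @IsClosedImmersion i) :
    LocP @LocallyOfFinitePresentation i ↔
      ∀ (E : EtOver X) (hE : IsAffine E.obj.left.left), ((idealOfRep hi.1).ideal E hE).FG := by
  constructor
  · intro h E hE
    have sqP := hi.1.isPullback E.obj.hom
    have hfe : RepWith @Etale (hi.1.fst E.obj.hom) :=
      MorphismProperty.of_isPullback sqP.flip E.property
    haveI : LocallyOfFinitePresentation (hi.1.snd E.obj.hom).left :=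
      h (hi.1.fst E.obj.hom) E.obj.hom (hi.1.snd E.obj.hom) hfe E.property sqP.w
    haveI : IsClosedImmersion (hi.1.snd E.obj.hom).left := hi.2 _ _ _ sqP
    haveI := hE
    obtain ⟨haff, hsurj⟩ :=
      IsClosedImmersion.isAffine_surjective_of_isAffine (hi.1.snd E.obj.hom).left
    haveI := haff
    have hfp : (hi.1.snd E.obj.hom).left.appTop.hom.FinitePresentation :=
      HasRingHomProperty.appTop @LocallyOfFinitePresentation _ inferInstance
    exact ker_fg_of_finitePresentation _ hsurj hfp
  · intro h
    obtain ⟨V₀, φ₀, hφ₀e, hφ₀s⟩ := hX.atlas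
    obtain ⟨fst, sq⟩ := isPullback_ker i hi φ₀
    have hfe : RepWith @Etale fst := MorphismProperty.of_isPullback sq.flip hφ₀e
    have hfs : RepWith @Surjective fst := MorphismProperty.of_isPullback sq.flip hφ₀s
    refine locP_of_chart etLocalST_lofp i fst φ₀ (subι V₀ (hi.1.snd φ₀).left.ker) hfe hfs hφ₀e
      sq.w ?_
    show LocallyOfFinitePresentation (hi.1.snd φ₀).left.ker.subschemeι
    apply lofp_subschemeι
    intro V'
    have h1 := h (chartOpen φ₀ hφ₀e V') V'.2
    rw [idealOfRep_chartOpen i hi φ₀ hφ₀e (hi.1.snd φ₀).left.ker fst sq V'] at h1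
    have hb := bijective_ι_appLE V'.1
    let e := RingEquiv.ofBijective _ hb
    have h1' : (((hi.1.snd φ₀).left.ker.ideal V').map (e : Γ(V₀.left, V'.1) →+* Γ(V'.1.toScheme, ⊤))).FG := h1
    have h2 := h1'.map (e.symm : Γ(V'.1.toScheme, ⊤) →+* Γ(V₀.left, V'.1))
    have h3 := Ideal.map_of_equiv (I := (hi.1.snd φ₀).left.ker.ideal V') e
    rw [← h3]
    exact h2

end Groth.Agent.Lib.Helper78.LofpClosed
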