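import Groth.Agent.Lib.Helper78.AlgSpNoethDesc
import Groth.Agent.Lib.Helper78.NoethFP
import Groth.Agent.Lib.Helper78.AlgSpFibre
import Groth.Agent.Lib.Helper51.AlgSpMonoField
import Groth.Agent.Lib.Helper51.AlgSpPoints
import Groth.Agent.Lib.Helper30.AlgSpDesc
import Groth.Agent.Lib.Helper78.AlgSpLocPLoft
import Groth.Agent.Lib.Helper78.AlgSpMisc

set_option autoImplicit false
set_option linter.style.haveILetI false
universe u
open CategoryTheory CategoryTheory.Limits AlgebraicGeometry Opposite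
open AlgSp

namespace Groth.Agent.Lib.Helper78.NoethFibre

open Groth.Agent.Lib.Helper78.AlgSpBasic Groth.Agent.Lib.Helper78.AlgSpNoethDesc
  Groth.Agent.Lib.Helper51 Groth.Agent.Lib.Helper52

/-- locally Noetherian descends along flat, universally open, surjective morphisms of schemes. -/
theorem isLocallyNoetherian_of_flat_univOpen_surjective {U V : Scheme.{u}} (h : U ⟶ V) [Flat h]
    [UniversallyOpen h] [Surjective h] [IsLocallyNoetherian U] : IsLocallyNoetherian V := by
  refine ⟨fun W => ?_⟩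
  have : IsAffine (W.1 : Scheme.{u}) := W.2
  have : Surjective (h ∣_ W.1) := ⟨fun y => by
    obtain ⟨x, hx⟩ := h.surjective y.1
    refine ⟨⟨x, by show h x ∈ W.1; rw [hx]; exact y.2⟩, ?_⟩
    apply Subtype.ext
    rw [morphismRestrict_base_coe]
    exact hx⟩
  have : UniversallyOpen (h ∣_ W.1) :=
    MorphismProperty.of_isPullback (P := @UniversallyOpen) (isPullback_morphismRestrict h W.1).flip
      inferInstance
  have h1 : IsNoetherianRing Γ(W.1.toScheme, ⊤) :=
    isNoetherianRing_of_flat_surjective_affine (h ∣_ W.1) (h ∣_ W.1).isOpenMap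
  exact isNoetherianRing_of_ringEquiv _ (Scheme.Opens.topIso W.1).commRingCatIsoToRingEquiv

variable {S : Scheme.{u}}

/-- every etale chart of a locally Noetherian sheaf is locally Noetherian. -/
theorem isLocallyNoetherian_of_chart {F : Sp S} (hF : IsLocNoethSp F) {W : Over S}
    (w : (yon S).obj W ⟶ F) (hw : RepWith @Etale w) : IsLocallyNoetherian W.left := by
  obtain ⟨U₀, a₀, ha₀, ha₀s, hU₀⟩ := hF
  obtain ⟨T, φ, ψ, sq⟩ := exists_isPullback_of_representable ha₀.1 w
  haveI : Etale ψ.left := ha₀.2 w _ ψ sq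
  haveI : Surjective ψ.left := ha₀s.2 w _ ψ sq
  haveI : Etale φ.left := hw.2 a₀ _ φ sq.flip
  haveI : IsLocallyNoetherian U₀.left := hU₀
  haveI : IsLocallyNoetherian T.left := LocallyOfFiniteType.isLocallyNoetherian φ.left
  exact isLocallyNoetherian_of_fppf_surjective ψ.left

/-- morphisms of spectra of fields are flat, surjective and universally open -/
theorem field_spec_props {K L : Type u} [Field K] [Field L]
    (s : Spec (CommRingCat.of L) ⟶ Spec (CommRingCat.of K)) :
    Flat s ∧ Surjective s ∧ UniversallyOpen s := by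
  refine ⟨flat_of_isAffine_to_spec_field s, ⟨fun y => ?_⟩, inferInstance⟩
  exact ⟨IsLocalRing.closedPoint L, Subsingleton.elim _ _⟩

/-- **Descent of locally Noetherian fibres along a field extension.** -/
theorem isLocNoethSp_of_field_ext {X Y : Sp S} (hX : IsAlgSpace X) (hY : IsAlgSpace Y) (f : X ⟶ Y)
    (q : FieldPt Y) {L : Type u} [Field L] (strL : Spec (CommRingCat.of L) ⟶ S)
    (sL : Over.mk strL ⟶ q.pt)
    {Q : Sp S} {qfst : Q ⟶ X} {qsnd : Q ⟶ (yon S).obj q.pt} (hQ : IsPullback qfst qsnd f q.toHom)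
    (hL : ∀ ⦃P : Sp S⦄ (fst : P ⟶ X) (snd : P ⟶ (yon S).obj (Over.mk strL)),
      IsPullback fst snd f ((yon S).map sL ≫ q.toHom) → IsLocNoethSp P) : IsLocNoethSp Q := by
  letI := q.field
  have hQalg : IsAlgSpace Q :=
    Groth.Agent.Lib.Helper78.AlgSpFibre.isAlgSpace_of_isPullback hQ hY.diag hX
      (IsAlgSpace.yon_obj q.pt)
  have sqP : IsPullback (pullback.fst qsnd ((yon S).map sL)) (pullback.snd qsnd ((yon S).map sL))
      qsnd ((yon S).map sL) := IsPullback.of_hasPullback _ _
  have hPn : IsLocNoethSp (pullback qsnd ((yon S).map sL)) := hL _ _ (sqP.paste_horiz hQ)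
  obtain ⟨V, b, hb, hbs⟩ := hQalg.atlas
  obtain ⟨vq, hvq⟩ := (yon S).map_surjective (b ≫ qsnd)
  obtain ⟨W, w1, w2, sqW, sqWl⟩ := Groth.Agent.Lib.Helper30.isPullback_over' vq sL
  have hcond : ((yon S).map w1 ≫ b) ≫ qsnd = (yon S).map w2 ≫ (yon S).map sL := by
    rw [Category.assoc, ← hvq, ← (yon S).map_comp, ← (yon S).map_comp, sqW.w]
  let ω : (yon S).obj W ⟶ pullback qsnd ((yon S).map sL) := pullback.lift _ _ hcond
  have hω1 : ω ≫ pullback.fst qsnd ((yon S).map sL) = (yon S).map w1 ≫ b := pullback.lift_fst _ _ _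
  have hω2 : ω ≫ pullback.snd qsnd ((yon S).map sL) = (yon S).map w2 := pullback.lift_snd _ _ _
  have sqω : IsPullback ω ((yon S).map w1) (pullback.fst qsnd ((yon S).map sL)) b := by
    refine IsPullback.of_right ?_ hω1 sqP.flip
    rw [hω2, ← hvq]
    exact (sqW.map (yon S)).flip
  have hωe : RepWith @Etale ω :=
    MorphismProperty.of_isPullback (P := RepWith @Etale) sqω.flip hb
  haveI : IsLocallyNoetherian W.left := isLocallyNoetherian_of_chart hPn ω hωe
  obtain ⟨h1, h2, h3⟩ := field_spec_props (K := q.K) (L := L) sL.left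
  haveI : Flat w1.left := MorphismProperty.of_isPullback (P := @Flat) sqWl.flip h1
  haveI : Surjective w1.left := MorphismProperty.of_isPullback (P := @Surjective) sqWl.flip h2
  haveI : UniversallyOpen w1.left :=
    MorphismProperty.of_isPullback (P := @UniversallyOpen) sqWl.flip h3
  exact ⟨V, b, hb, hbs, isLocallyNoetherian_of_flat_univOpen_surjective w1.left⟩

/-- a field valued point equivalent to a monomorphic one factors through it -/
theorem exists_factor_of_mono {Y : Sp S} (hY : IsAlgSpace Y) (p p₀ : FieldPt Y)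
    (hpp : Points.mk p = Points.mk p₀) (hmono : Mono p₀.toHom) :
    ∃ sL : p.pt ⟶ p₀.pt, (yon S).map sL ≫ p₀.toHom = p.toHom := by
  letI := p.field
  letI := p₀.field
  have sqZ : IsPullback (pullback.fst p.toHom p₀.toHom) (pullback.snd p.toHom p₀.toHom) p.toHom
      p₀.toHom := IsPullback.of_hasPullback _ _
  have hZ : IsAlgSpace (pullback p.toHom p₀.toHom) :=
    Groth.Agent.Lib.Helper78.AlgSpFibre.isAlgSpace_of_isPullback sqZ hY.diag
      (IsAlgSpace.yon_obj p.pt) (IsAlgSpace.yon_obj p₀.pt)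
  have hne : Nonempty (Points (pullback p.toHom p₀.toHom)) := by
    have h1 : Points.map p.toHom (Points.ofScheme p.pt (IsLocalRing.closedPoint p.K)) =
        Points.map p₀.toHom (Points.ofScheme p₀.pt (IsLocalRing.closedPoint p₀.K)) := by
      rw [← Points.ofPt_eq_map_ofScheme, ← Points.ofPt_eq_map_ofScheme, Points.ofPt_toHom,
        Points.ofPt_toHom, hpp]
    obtain ⟨z, -, -⟩ := exists_point_of_isPullback sqZ _ _ h1
    exact ⟨z⟩
  haveI : Mono (pullback.fst p.toHom p₀.toHom) := inferInstance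
  haveI : IsIso (pullback.fst p.toHom p₀.toHom) :=
    isIso_of_mono_to_yon_field p.str hZ (pullback.fst p.toHom p₀.toHom) hne
  refine ⟨(yon S).preimage (inv (pullback.fst p.toHom p₀.toHom) ≫ pullback.snd p.toHom p₀.toHom),
    ?_⟩
  rw [(yon S).map_preimage, Category.assoc, ← pullback.condition, IsIso.inv_hom_id_assoc]

theorem locallyQuasiFinite_of_etale {X Y : Scheme.{u}} (f : X ⟶ Y) [Etale f] :
    LocallyQuasiFinite f := by
  rw [HasRingHomProperty.iff_appLE (P := @LocallyQuasiFinite)]
  intro U V e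
  have h := HasRingHomProperty.appLE (P := @Etale) f inferInstance U V e
  algebraize [(f.appLE U V e).hom]
  show Algebra.QuasiFinite _ _
  infer_instance

theorem isClosed_singleton_of_etale_over_field {X Y : Scheme.{u}} (f : X ⟶ Y) [Etale f]
    [Subsingleton Y] (x : X) : IsClosed ({x} : Set X) := by
  have := locallyQuasiFinite_of_etale f
  have h1 := f.isDiscrete_preimage_singleton (f x)
  have h2 : f ⁻¹' {f x} = Set.univ := by
    ext z
    simp only [Set.mem_preimage, Set.mem_singleton_iff, Set.mem_univ, iff_true]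
    exact Subsingleton.elim _ _
  rw [h2] at h1
  have h3 : DiscreteTopology ↥(Set.univ : Set X) := h1.to_subtype
  have h4 : DiscreteTopology X := (Homeomorph.Set.univ X).discreteTopology
  exact isClosed_discrete _

/-- **(3) ⇒ (2)**: locally Noetherian fibre at one representative gives locally Noetherian fibres
at points of etale charts. -/
theorem isLocNoethSp_fibre_etale_chart {X Y : Sp S} (hX : IsAlgSpace X) (hY : IsAlgSpace Y)
    (f : X ⟶ Y) (p : FieldPt Y)
    (hNoeth : ∀ ⦃P : Sp S⦄ (fst : P ⟶ X) (snd : P ⟶ (yon S).obj p.pt),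
      IsPullback fst snd f p.toHom → IsLocNoethSp P)
    (V : Over S) (b : (yon S).obj V ⟶ Y) (hb : RepWith @Etale b) (v : ↥V.left)
    (hv : Points.ofPt b v = Points.mk p)
    {Q : Sp S} (qfst : Q ⟶ X) (qsnd : Q ⟶ (yon S).obj (FieldPt.ofPt b v).pt)
    (hQ : IsPullback qfst qsnd f (FieldPt.ofPt b v).toHom) : IsLocNoethSp Q := by
  letI := p.field
  obtain ⟨W₀, φ, ψ, sq⟩ := exists_isPullback_of_representable hb.1 p.toHom
  haveI : Etale ψ.left := hb.2 p.toHom _ ψ sq
  obtain ⟨w, hw1, -⟩ := exists_of_ofPt_eq_ofPt sq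
    (hv.trans (Points.ofPt_toHom p (IsLocalRing.closedPoint p.K)).symm)
  subst hw1
  let strL : Spec (CommRingCat.of ↥(W₀.left.residueField w)) ⟶ S :=
    W₀.left.fromSpecResidueField w ≫ W₀.hom
  let ρw : Over.mk strL ⟶ W₀ := Over.homMk (W₀.left.fromSpecResidueField w) rfl
  have hsL : Spec.map (φ.left.residueFieldMap w) ≫
      (V.left.fromSpecResidueField (φ.left w) ≫ V.hom) = strL := by
    rw [← Category.assoc, Scheme.Hom.SpecMap_residueFieldMap_fromSpecResidueField, Category.assoc,
      Over.w φ]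
  let sL : Over.mk strL ⟶ (FieldPt.ofPt b (φ.left w)).pt :=
    Over.homMk (Spec.map (φ.left.residueFieldMap w)) hsL
  have hsLφ : sL ≫ Over.homMk (V.left.fromSpecResidueField (φ.left w)) rfl = ρw ≫ φ := by
    apply Over.OverMorphism.ext
    exact Scheme.Hom.SpecMap_residueFieldMap_fromSpecResidueField φ.left w
  have key : (yon S).map sL ≫ (FieldPt.ofPt b (φ.left w)).toHom =
      (yon S).map (ρw ≫ ψ) ≫ p.toHom := by
    rw [FieldPt.toHom_ofPt, ← Category.assoc, ← (yon S).map_comp, hsLφ, (yon S).map_comp,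
      Category.assoc, sq.w, (yon S).map_comp, Category.assoc]
  refine isLocNoethSp_of_field_ext hX hY f (FieldPt.ofPt b (φ.left w)) strL sL hQ ?_
  intro P fst snd sqP
  have hP : IsAlgSpace P :=
    Groth.Agent.Lib.Helper78.AlgSpFibre.isAlgSpace_of_isPullback sqP hY.diag hX
      (IsAlgSpace.yon_obj _)
  have sqXp : IsPullback (pullback.fst f p.toHom) (pullback.snd f p.toHom) f p.toHom :=
    IsPullback.of_hasPullback _ _
  have hXp : IsLocNoethSp (pullback f p.toHom) := hNoeth _ _ sqXp
  have hXpa : IsAlgSpace (pullback f p.toHom) :=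
    Groth.Agent.Lib.Helper78.AlgSpFibre.isAlgSpace_of_isPullback sqXp hY.diag hX
      (IsAlgSpace.yon_obj _)
  have hcond : fst ≫ f = (snd ≫ (yon S).map (ρw ≫ ψ)) ≫ p.toHom := by
    rw [sqP.w, key, Category.assoc]
  let θ : P ⟶ pullback f p.toHom := pullback.lift fst (snd ≫ (yon S).map (ρw ≫ ψ)) hcond
  have hθ1 : θ ≫ pullback.fst f p.toHom = fst := pullback.lift_fst _ _ _
  have hθ2 : θ ≫ pullback.snd f p.toHom = snd ≫ (yon S).map (ρw ≫ ψ) := pullback.lift_snd _ _ _
  have sqθ : IsPullback snd θ ((yon S).map (ρw ≫ ψ)) (pullback.snd f p.toHom) := by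
    refine IsPullback.of_bot ?_ hθ2.symm sqXp.flip
    rw [hθ1, ← key]
    exact sqP.flip
  haveI : Subsingleton ↥p.pt.left := show Subsingleton (PrimeSpectrum p.K) from inferInstance
  haveI : IsClosedImmersion ρw.left :=
    isClosed_singleton_iff_isClosedImmersion.1 (isClosed_singleton_of_etale_over_field ψ.left w)
  have hlft : LocallyOfFiniteType (ρw ≫ ψ).left := by
    rw [Over.comp_left]
    infer_instance
  have hR : RepWith @LocallyOfFiniteType ((yon S).map (ρw ≫ ψ)) :=
    (repWith_yon_map_iff @LocallyOfFiniteType _).2 hlft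
  have hθR : RepWith @LocallyOfFiniteType θ :=
    MorphismProperty.of_isPullback (P := RepWith @LocallyOfFiniteType) sqθ hR
  have hθL : LocP @LocallyOfFiniteType θ :=
    Groth.Agent.Lib.Helper78.AlgSpMisc.locP_of_repWith
      Groth.Agent.Lib.Helper78.AlgSpLocPLoft.etLocalST_loft θ hXpa.atlas hθR
  exact Groth.Agent.Lib.Helper78.NoethFP.isLocNoethSp_of_locP_loft hP θ hθL hXp

end Groth.Agent.Lib.Helper78.NoethFibre
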