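import Groth.Prelude.Def_W4c2azumayainvolQEt
import Mathlib.RingTheory.Kaehler.Basic
import Mathlib.RingTheory.Unramified.Basic
import Mathlib.RingTheory.Spectrum.Prime.FreeLocus
import Mathlib.LinearAlgebra.Dimension.StrongRankCondition

/-!
Basic lemmas on rings with involution and quadratic etale algebras (helper78).
-/

set_option autoImplicit false
universe u v

namespace Groth.Agent.Lib.Helper78.RInvBasic

open RInv

variable {S : Type u} {R : Type v} [CommRing S] [CommRing R] [Algebra S R]

/-- trace and norm type elements are fixed -/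
theorem exists_of_fixed {lam : R ≃+* R} (hS : RInv.IsFixedRing S R lam) {x : R} (hx : lam x = x) :
    ∃ s : S, algebraMap S R s = x := (hS.2 x).mp hx

theorem fixed_algebraMap {lam : R ≃+* R} (hS : RInv.IsFixedRing S R lam) (s : S) :
    lam (algebraMap S R s) = algebraMap S R s := (hS.2 _).mpr ⟨s, rfl⟩

/-- If `r - lam r` is a unit then `1, r` is an `S`-basis of `R`. -/
theorem bijective_of_isUnit_sub {lam : R ≃+* R} (hlam : Function.Involutive lam)
    (hS : RInv.IsFixedRing S R lam) {r : R} (hr : IsUnit (r - lam r)) :
    Function.Bijective (fun ab : S × S => algebraMap S R ab.1 + algebraMap S R ab.2 * r) := by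
  obtain ⟨d, hd⟩ := hr
  have hlamd : lam (d : R) = -(d : R) := by rw [hd, map_sub, hlam r]; ring
  have hlamdinv : lam ((d⁻¹ : Rˣ) : R) = -((d⁻¹ : Rˣ) : R) := by
    have h1 : lam ((d⁻¹ : Rˣ) : R) * lam (d : R) = 1 := by
      rw [← map_mul, Units.inv_mul, map_one]
    rw [hlamd] at h1
    have : lam ((d⁻¹ : Rˣ) : R) = lam ((d⁻¹ : Rˣ) : R) * (-(d : R)) * (-((d⁻¹ : Rˣ) : R)) := by
      rw [mul_assoc, neg_mul_neg, Units.mul_inv, mul_one]
    rw [this, h1, one_mul]
  constructor
  · rintro ⟨a, b⟩ ⟨a', b'⟩ h
    simp only at h
    have h2 := congrArg lam h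
    simp only [map_add, map_mul, fixed_algebraMap hS] at h2
    have hb : algebraMap S R b * (d : R) = algebraMap S R b' * (d : R) := by
      rw [hd]; linear_combination h - h2
    have hb' : algebraMap S R b = algebraMap S R b' := d.isUnit.mul_left_injective hb
    have hbb : b = b' := hS.1 hb'
    subst hbb
    have ha : algebraMap S R a = algebraMap S R a' := add_right_cancel h
    rw [hS.1 ha]
  · intro x
    have hbfix : lam ((x - lam x) * ((d⁻¹ : Rˣ) : R)) = (x - lam x) * ((d⁻¹ : Rˣ) : R) := by
      rw [map_mul, map_sub, hlam x, hlamdinv]; ring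
    obtain ⟨b, hb⟩ := exists_of_fixed hS hbfix
    have hafix : lam (x - algebraMap S R b * r) = x - algebraMap S R b * r := by
      rw [map_sub, map_mul, fixed_algebraMap hS, hb]
      have : (x - lam x) * ((d⁻¹ : Rˣ) : R) * (r - lam r) = x - lam x := by
        rw [← hd, mul_assoc, Units.inv_mul, mul_one]
      linear_combination this
    obtain ⟨a, ha⟩ := exists_of_fixed hS hafix
    refine ⟨(a, b), ?_⟩
    simp only
    rw [ha]; ring

/-- The linear equivalence `S × S ≃ R` attached to `r` with `r - lam r` a unit. -/
noncomputable def equivOfIsUnitSub {lam : R ≃+* R} (hlam : Function.Involutive lam)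
    (hS : RInv.IsFixedRing S R lam) {r : R} (hr : IsUnit (r - lam r)) : (S × S) ≃ₗ[S] R :=
  LinearEquiv.ofBijective
    { toFun := fun ab => algebraMap S R ab.1 + algebraMap S R ab.2 * r
      map_add' := fun x y => by simp only [Prod.fst_add, Prod.snd_add, map_add]; ring
      map_smul' := fun c x => by
        show algebraMap S R (c • x).1 + algebraMap S R (c • x).2 * r =
          c • (algebraMap S R x.1 + algebraMap S R x.2 * r)
        rw [Prod.smul_fst, Prod.smul_snd, smul_eq_mul, smul_eq_mul, map_mul, map_mul,
          Algebra.smul_def]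
        ring }
    (bijective_of_isUnit_sub hlam hS hr)

theorem isQuadEtale_of_isUnit_sub {lam : R ≃+* R} (hlam : Function.Involutive lam)
    (hS : RInv.IsFixedRing S R lam) {r : R} (hr : IsUnit (r - lam r)) : RInv.IsQuadEtale S R := by
  let e := equivOfIsUnitSub hlam hS hr
  have hfree : Module.Free S R := Module.Free.of_equiv e
  have hfin : Module.Finite S R := Module.Finite.equiv e
  refine ⟨hfin, inferInstance, ?_, ?_⟩
  · -- formally unramified
    refine ⟨?_⟩
    have hD : ∀ x : R, KaehlerDifferential.D S R x = 0 := by
      have hDr : KaehlerDifferential.D S R r = 0 := by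
        -- r^2 = t r - n with t, n in S
        have htfix : lam (r + lam r) = r + lam r := by rw [map_add, hlam r]; ring
        have hnfix : lam (r * lam r) = r * lam r := by rw [map_mul, hlam r]; ring
        obtain ⟨t, ht⟩ := exists_of_fixed hS htfix
        obtain ⟨n, hn⟩ := exists_of_fixed hS hnfix
        have hrel : r * r = algebraMap S R t * r - algebraMap S R n := by
          rw [ht, hn]; ring
        have h1 := congrArg (KaehlerDifferential.D S R) hrel
        simp only [Derivation.leibniz, map_sub, Derivation.map_algebraMap, smul_zero, sub_zero,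
          add_zero] at h1
        have h2 : (r - lam r) • KaehlerDifferential.D S R r = 0 := by
          have : (r - lam r) = r + r - algebraMap S R t := by rw [ht]; ring
          rw [this, sub_smul, add_smul]
          rw [sub_eq_zero]
          exact h1
        obtain ⟨d, hd⟩ := hr
        rw [← hd] at h2
        have := congrArg (fun z => ((d⁻¹ : Rˣ) : R) • z) h2
        simpa [smul_smul] using this
      intro x
      obtain ⟨⟨a, b⟩, hab⟩ := (bijective_of_isUnit_sub hlam hS hr).2 x
      simp only at hab
      rw [← hab]
      simp [Derivation.leibniz, hDr]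
    have htop := KaehlerDifferential.span_range_derivation S R
    have hbot : (⊤ : Submodule R Ω[R⁄S]) = ⊥ := by
      rw [← htop, Submodule.span_eq_bot]
      rintro _ ⟨x, rfl⟩
      exact hD x
    refine subsingleton_of_forall_eq 0 (fun y => ?_)
    have hy : y ∈ (⊤ : Submodule R Ω[R⁄S]) := trivial
    rw [hbot] at hy
    exact hy
  · intro p
    have : Nontrivial S := p.nontrivial
    have h1 := congrFun (Module.rankAtStalk_eq_finrank_of_free (R := S) (M := R)) p
    rw [h1, Pi.natCast_apply, ← e.finrank_eq, Module.finrank_prod, Module.finrank_self]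
    rfl

end Groth.Agent.Lib.Helper78.RInvBasic
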