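import Mathlib

set_option autoImplicit false
universe w₀ v₁ u₁

open CategoryTheory CategoryTheory.Limits Opposite

namespace Groth.Agent.Lib.Helper78.SheafCoprod

section TypeLevel

/-- Discrete colimit cocones in `Type`: injections are injective and disjoint. -/
theorem discrete_cocone_eq {ι : Type w₀} {G : Discrete ι ⥤ Type u₁} {s : Cocone G} (hs : IsColimit s)
    {k l : Discrete ι} (y : G.obj k) (z : G.obj l) (h : s.ι.app k y = s.ι.app l z) :
    ∃ e : k = l, G.map (eqToHom e) y = z := by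
  let iso := Discrete.natIsoFunctor (F := G)
  let s' : Cofan (fun i => G.obj ⟨i⟩) := (Cocone.precompose iso.inv).obj s
  have hs' : IsColimit s' := (IsColimit.precomposeInvEquiv iso s).symm hs
  obtain ⟨k⟩ := k
  obtain ⟨l⟩ := l
  have h' : s'.inj k y = s'.inj l z := by simpa [s', iso, Cofan.inj] using h
  obtain ⟨e, he⟩ := (Cofan.inj_apply_eq_iff_of_isColimit hs' y z).1 h'
  subst e
  exact ⟨rfl, by simpa using he.symm⟩

end TypeLevel

section SheafLevel

variable {C : Type u₁} [Category.{v₁} C] {J : GrothendieckTopology C}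
variable {ι : Type w₀} [HasColimitsOfShape (Discrete ι) (Type (max u₁ v₁))]
  {F : ι → Sheaf J (Type (max u₁ v₁))} {c : Cofan F}

/-- A presheaf-level model of a coproduct of sheaves. -/
theorem exists_model (hc : IsColimit c) :
    ∃ (P : Cᵒᵖ ⥤ Type (max u₁ v₁)) (a : ∀ i, (F i).obj ⟶ P) (η : P ⟶ c.pt.obj),
      (∀ i, a i ≫ η = (c.inj i).hom) ∧ Presheaf.IsLocallyInjective J η ∧
      Presheaf.IsLocallySurjective J η ∧
      (∀ (T : Cᵒᵖ) (p : P.obj T), ∃ i y, (a i).app T y = p) ∧
      (∀ (T : Cᵒᵖ) (i j : ι) (y : (F i).obj.obj T) (z : (F j).obj.obj T),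
        (a i).app T y = (a j).app T z → ∃ e : i = j, e ▸ y = z) := by
  let K : Discrete ι ⥤ Sheaf J (Type (max u₁ v₁)) := Discrete.functor F
  let E := colimit.cocone (K ⋙ sheafToPresheaf J _)
  have hE : IsColimit E := colimit.isColimit _
  let c₀ : Cofan F := Sheaf.sheafifyCocone E
  have hc₀ : IsColimit c₀ := Sheaf.isColimitSheafifyCocone E hE
  let e : c₀.pt ≅ c.pt := hc₀.coconePointUniqueUpToIso hc
  have he : ∀ i, c₀.inj i ≫ e.hom = c.inj i := fun i =>
    hc₀.comp_coconePointUniqueUpToIso_hom hc ⟨i⟩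
  have key : ∃ η₀ : E.pt ⟶ c₀.pt.obj, (∀ i, E.ι.app ⟨i⟩ ≫ η₀ = (c₀.inj i).hom) ∧
      Presheaf.IsLocallyInjective J η₀ ∧ Presheaf.IsLocallySurjective J η₀ :=
    ⟨toSheafify J E.pt, fun i => (Sheaf.sheafifyCocone_ι_app_val E ⟨i⟩).symm,
      Presheaf.isLocallyInjective_toSheafify' J E.pt, Presheaf.isLocallySurjective_toSheafify' J E.pt⟩
  obtain ⟨η₀, h1, h2, h3⟩ := key
  have hiso : IsIso e.hom.hom := (inferInstance : IsIso ((sheafToPresheaf J _).map e.hom))
  refine ⟨E.pt, fun i => E.ι.app ⟨i⟩, η₀ ≫ e.hom.hom, ?_, ?_, ?_, ?_, ?_⟩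
  · intro i
    rw [← he i, ObjectProperty.FullSubcategory.comp_hom, ← h1 i, Category.assoc]
  · infer_instance
  · infer_instance
  · intro T p
    have hT : IsColimit (((evaluation Cᵒᵖ (Type (max u₁ v₁))).obj T).mapCocone E) :=
      isColimitOfPreserves _ hE
    obtain ⟨⟨i⟩, y, hy⟩ := Types.jointly_surjective_of_isColimit hT p
    exact ⟨i, y, hy⟩
  · intro T i j y z h
    have hT : IsColimit (((evaluation Cᵒᵖ (Type (max u₁ v₁))).obj T).mapCocone E) :=
      isColimitOfPreserves _ hE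
    obtain ⟨e', he'⟩ := discrete_cocone_eq hT (k := ⟨i⟩) (l := ⟨j⟩) y z h
    obtain rfl : i = j := congrArg Discrete.as e'
    refine ⟨rfl, ?_⟩
    simpa using he'

/-- Coproduct injections of sheaves of types are injective on sections. -/
theorem inj_injective (hc : IsColimit c) (i : ι) (T : Cᵒᵖ) :
    Function.Injective ((c.inj i).hom.app T) := by
  obtain ⟨P, a, η, h1, h2, h3, h4, h5⟩ := exists_model hc
  intro y z h
  rw [← h1 i] at h
  have hmem := Presheaf.equalizerSieve_mem J η ((a i).app T y) ((a i).app T z) h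
  have hsep := ((isSheaf_iff_isSheaf_of_type _ _).1 (F i).property).isSeparated _ hmem
  refine hsep.ext ?_
  intro T' g hg
  have hg' : P.map g.op ((a i).app T y) = P.map g.op ((a i).app T z) := hg
  rw [← NatTrans.naturality_apply, ← NatTrans.naturality_apply] at hg'
  obtain ⟨_, h⟩ := h5 _ i i _ _ hg'
  exact h

/-- Distinct coproduct injections of sheaves of types are disjoint: a common section only exists
over objects covered by the empty sieve. -/
theorem bot_mem_of_inj_eq (hc : IsColimit c) {i j : ι} (hij : i ≠ j) {T : Cᵒᵖ}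
    (y : (F i).obj.obj T) (z : (F j).obj.obj T)
    (h : (c.inj i).hom.app T y = (c.inj j).hom.app T z) : (⊥ : Sieve T.unop) ∈ J T.unop := by
  obtain ⟨P, a, η, h1, h2, h3, h4, h5⟩ := exists_model hc
  rw [← h1 i, ← h1 j] at h
  have hmem := Presheaf.equalizerSieve_mem J η ((a i).app T y) ((a j).app T z) h
  refine J.superset_covering ?_ hmem
  intro T' g hg
  have hg' : P.map g.op ((a i).app T y) = P.map g.op ((a j).app T z) := hg
  rw [← NatTrans.naturality_apply, ← NatTrans.naturality_apply] at hg'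
  obtain ⟨e, -⟩ := h5 _ i j _ _ hg'
  exact absurd e hij

/-- Sections of a coproduct of sheaves of types locally come from the summands. -/
theorem exists_local_lift (hc : IsColimit c) {T : Cᵒᵖ} (x : c.pt.obj.obj T) :
    ∃ R ∈ J T.unop, ∀ ⦃T' : C⦄ (g : T' ⟶ T.unop), R g →
      ∃ (i : ι) (y : (F i).obj.obj (op T')), (c.inj i).hom.app (op T') y = c.pt.obj.map g.op x := by
  obtain ⟨P, a, η, h1, h2, h3, h4, h5⟩ := exists_model hc
  refine ⟨Presheaf.imageSieve η x, Presheaf.imageSieve_mem J η x, ?_⟩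
  intro T' g hg
  obtain ⟨p, hp⟩ := hg
  obtain ⟨i, y, rfl⟩ := h4 _ p
  refine ⟨i, y, ?_⟩
  rw [← h1 i]
  exact hp

end SheafLevel

end Groth.Agent.Lib.Helper78.SheafCoprod
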