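import Groth.Agent.Lib.Helper78.SmNilLift
import Mathlib.AlgebraicGeometry.Morphisms.Smooth
import Mathlib.AlgebraicGeometry.Morphisms.ClosedImmersion

set_option autoImplicit false
universe u
open CategoryTheory CategoryTheory.Limits AlgebraicGeometry

namespace Groth.Agent.Lib.Helper78.SmLocalLift

/-- the morphism from an affine open of `N` to `U` given by a ring map to the sections over an
affine open of `U`. -/
noncomputable def ofRingHom {N U : Scheme.{u}} {N' : N.Opens} (hN' : IsAffineOpen N')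
    {U₁ : U.Opens} (hU₁ : IsAffineOpen U₁) (l : Γ(U, U₁) ⟶ Γ(N, N')) :
    (N' : Scheme.{u}) ⟶ U :=
  hN'.isoSpec.hom ≫ Spec.map l ≫ hU₁.fromSpec

theorem ofRingHom_comp {N U V : Scheme.{u}} {N' : N.Opens} (hN' : IsAffineOpen N')
    {U₁ : U.Opens} (hU₁ : IsAffineOpen U₁) (l : Γ(U, U₁) ⟶ Γ(N, N')) (f : U ⟶ V)
    {V₁ : V.Opens} (hV₁ : IsAffineOpen V₁) (e : U₁ ≤ f ⁻¹ᵁ V₁) :
    ofRingHom hN' hU₁ l ≫ f = ofRingHom hN' hV₁ (f.appLE V₁ U₁ e ≫ l) := by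
  unfold ofRingHom
  rw [Category.assoc, Category.assoc, ← IsAffineOpen.SpecMap_appLE_fromSpec f hV₁ hU₁ e,
    Spec.map_comp, Category.assoc]

theorem ι_comp {N V : Scheme.{u}} {N' : N.Opens} (hN' : IsAffineOpen N') (b : N ⟶ V)
    {V₁ : V.Opens} (hV₁ : IsAffineOpen V₁) (eb : N' ≤ b ⁻¹ᵁ V₁) :
    N'.ι ≫ b = ofRingHom hN' hV₁ (b.appLE V₁ N' eb) := by
  unfold ofRingHom
  rw [IsAffineOpen.SpecMap_appLE_fromSpec b hV₁ hN' eb, ← Category.assoc,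
    IsAffineOpen.isoSpec_hom_fromSpec]

theorem morphismRestrict_comp_ofRingHom {N N₀ U : Scheme.{u}} (κ : N₀ ⟶ N) {N' : N.Opens}
    (hN' : IsAffineOpen N') (hN'₀ : IsAffineOpen (κ ⁻¹ᵁ N'))
    {U₁ : U.Opens} (hU₁ : IsAffineOpen U₁) (l : Γ(U, U₁) ⟶ Γ(N, N')) :
    (κ ∣_ N') ≫ ofRingHom hN' hU₁ l = ofRingHom hN'₀ hU₁ (l ≫ κ.app N') := by
  unfold ofRingHom
  have key : (κ ∣_ N') ≫ hN'.isoSpec.hom = hN'₀.isoSpec.hom ≫ Spec.map (κ.app N') := by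
    rw [← cancel_mono hN'.isoSpec.inv, Category.assoc, Iso.hom_inv_id, Category.comp_id,
      ← cancel_mono N'.ι, Category.assoc, Category.assoc, IsAffineOpen.isoSpec_inv_ι,
      morphismRestrict_ι, Scheme.Hom.app_eq_appLE,
      IsAffineOpen.SpecMap_appLE_fromSpec κ hN' hN'₀ le_rfl, ← Category.assoc,
      IsAffineOpen.isoSpec_hom_fromSpec]
  rw [← Category.assoc, key, Category.assoc, Spec.map_comp, Category.assoc]

theorem appLE_congr {X Y : Scheme.{u}} {g g' : X ⟶ Y} (h : g = g') (U : Y.Opens) (W : X.Opens)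
    (e : W ≤ g ⁻¹ᵁ U) (e' : W ≤ g' ⁻¹ᵁ U) : g.appLE U W e = g'.appLE U W e' := by
  subst h
  rfl

/-- **Local lifting for smooth morphisms along thickenings**: a smooth morphism of schemes lifts,
Zariski locally on the thickening, along any surjective closed immersion. -/
theorem exists_local_lift {U V N N₀ : Scheme.{u}} (f : U ⟶ V) [Smooth f] (κ : N₀ ⟶ N)
    [IsClosedImmersion κ] (hκ : Function.Surjective κ) (a₁ : N₀ ⟶ U) (b : N ⟶ V)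
    (comm : a₁ ≫ f = κ ≫ b) (x : N₀) :
    ∃ (N' : N.Opens), κ x ∈ N' ∧ IsAffineOpen N' ∧ ∃ ℓ : (N' : Scheme.{u}) ⟶ U,
      ℓ ≫ f = N'.ι ≫ b ∧ (κ ∣_ N') ≫ ℓ = (κ ⁻¹ᵁ N').ι ≫ a₁ := by
  obtain ⟨_, ⟨V₁, hV₁, rfl⟩, hxV₁, -⟩ :=
    V.isBasis_affineOpens.exists_subset_of_mem_open (Set.mem_univ (b (κ x))) isOpen_univ
  have hpt : f (a₁ x) = b (κ x) := by
    have := congrArg (fun g => g x) comm
    exact this
  have hxf : a₁ x ∈ f ⁻¹ᵁ V₁ := by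
    change f (a₁ x) ∈ V₁
    rw [hpt]; exact hxV₁
  obtain ⟨_, ⟨U₁, hU₁, rfl⟩, hxU₁, hU₁V₁⟩ :=
    U.isBasis_affineOpens.exists_subset_of_mem_open hxf (f ⁻¹ᵁ V₁).2
  have e : U₁ ≤ f ⁻¹ᵁ V₁ := hU₁V₁
  -- the open subset of `N` corresponding to `a₁ ⁻¹ U₁`
  have hcl : IsClosed (κ '' ((a₁ ⁻¹ᵁ U₁ : N₀.Opens) : Set N₀)ᶜ) :=
    κ.isClosedEmbedding.isClosedMap _ (a₁ ⁻¹ᵁ U₁).2.isClosed_compl
  let O : N.Opens := ⟨(κ '' ((a₁ ⁻¹ᵁ U₁ : N₀.Opens) : Set N₀)ᶜ)ᶜ, hcl.isOpen_compl⟩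
  have hxO : κ x ∈ O := by
    rintro ⟨y, hy, hyx⟩
    have : y = x := κ.isClosedEmbedding.injective hyx
    subst this
    exact hy hxU₁
  have hOpre : ∀ z : N₀, κ z ∈ O → a₁ z ∈ U₁ := by
    intro z hz
    by_contra hcon
    exact hz ⟨z, hcon, rfl⟩
  have hxOb : κ x ∈ O ⊓ b ⁻¹ᵁ V₁ := ⟨hxO, hxV₁⟩
  obtain ⟨_, ⟨N', hN', rfl⟩, hxN', hN'O⟩ :=
    N.isBasis_affineOpens.exists_subset_of_mem_open hxOb (O ⊓ b ⁻¹ᵁ V₁).2
  have eb : N' ≤ b ⁻¹ᵁ V₁ := fun y hy => (hN'O hy).2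
  have ea : κ ⁻¹ᵁ N' ≤ a₁ ⁻¹ᵁ U₁ := fun z hz => hOpre z (hN'O hz).1
  have hN'₀ : IsAffineOpen (κ ⁻¹ᵁ N') := hN'.preimage κ
  -- ring level
  have hker : ∀ s ∈ RingHom.ker (κ.app N').hom, IsNilpotent s := by
    intro s hs
    rw [Scheme.isNilpotent_iff_basicOpen_eq_bot_of_isCompact hN'.isCompact]
    ext y
    simp only [TopologicalSpace.Opens.coe_bot, Set.mem_empty_iff_false, iff_false]
    intro hy
    obtain ⟨z, rfl⟩ := hκ y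
    have hz : z ∈ κ ⁻¹ᵁ (N.basicOpen s) := hy
    rw [Scheme.preimage_basicOpen, RingHom.mem_ker.1 hs, Scheme.basicOpen_zero] at hz
    exact hz
  have hcomp : (a₁.appLE U₁ (κ ⁻¹ᵁ N') ea).hom.comp (f.appLE V₁ U₁ e).hom =
      (κ.app N').hom.comp (b.appLE V₁ N' eb).hom := by
    rw [← CommRingCat.hom_comp, ← CommRingCat.hom_comp, Scheme.Hom.app_eq_appLE,
      Scheme.Hom.appLE_comp_appLE, Scheme.Hom.appLE_comp_appLE]
    congr 1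
    exact appLE_congr comm _ _ _ _
  obtain ⟨l, hl1, hl2⟩ := Groth.Agent.Lib.Helper78.SmNilLift.exists_ringHom_lift
    (f.appLE V₁ U₁ e).hom (f.smooth_appLE hV₁ hU₁ e) (b.appLE V₁ N' eb).hom (κ.app N').hom
    (κ.app_surjective N' hN') hker (a₁.appLE U₁ (κ ⁻¹ᵁ N') ea).hom hcomp
  refine ⟨N', hxN', hN', ofRingHom hN' hU₁ (CommRingCat.ofHom l), ?_, ?_⟩
  · rw [ofRingHom_comp hN' hU₁ _ f hV₁ e, ι_comp hN' b hV₁ eb]
    congr 1
    apply CommRingCat.hom_ext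
    exact hl1
  · rw [morphismRestrict_comp_ofRingHom κ hN' hN'₀ hU₁, ι_comp hN'₀ a₁ hU₁ ea]
    congr 1
    apply CommRingCat.hom_ext
    exact hl2

end Groth.Agent.Lib.Helper78.SmLocalLift
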