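import Mathlib.RingTheory.Smooth.Basic
import Mathlib.RingTheory.FinitePresentation
import Mathlib.RingTheory.Noetherian.Nilpotent
import Mathlib.RingTheory.RingHom.Smooth

set_option autoImplicit false
universe u

namespace Groth.Agent.Lib.Helper78.SmNilLift

/-- **Lifting along a nil ideal** for a formally smooth algebra of finite presentation. -/
theorem exists_lift_of_nil {R P C : Type u} [CommRing R] [CommRing P] [CommRing C] [Algebra R P]
    [Algebra R C] [Algebra.FormallySmooth R P] [Algebra.FinitePresentation R P] (J : Ideal C)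
    (hJ : ∀ x ∈ J, IsNilpotent x) (φ : P →ₐ[R] C ⧸ J) :
    ∃ ψ : P →ₐ[R] C, (Ideal.Quotient.mkₐ R J).comp ψ = φ := by
  obtain ⟨n, f, hf, hfg⟩ := Algebra.FinitePresentation.out (R := R) (A := P)
  have hc : ∀ i : Fin n, ∃ c : C, Ideal.Quotient.mk J c = φ (f (MvPolynomial.X i)) :=
    fun i => Ideal.Quotient.mk_surjective _
  choose c hc using hc
  let ψ₀ : MvPolynomial (Fin n) R →ₐ[R] C := MvPolynomial.aeval c
  have h0 : (Ideal.Quotient.mkₐ R J).comp ψ₀ = φ.comp f := by
    apply MvPolynomial.algHom_ext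
    intro i
    simp [ψ₀, hc]
  let J' : Ideal C := Ideal.map ψ₀ (RingHom.ker f.toRingHom)
  have hJ'J : J' ≤ J := by
    rw [Ideal.map_le_iff_le_comap]
    intro x hx
    rw [Ideal.mem_comap, ← Ideal.Quotient.eq_zero_iff_mem]
    have h1 := congrArg (fun g => g x) h0
    simp only [AlgHom.comp_apply, Ideal.Quotient.mkₐ_eq_mk] at h1
    rw [h1]
    have : f x = 0 := hx
    rw [this, map_zero]
  have hJ'fg : J'.FG := hfg.map _
  have hJ'nil : IsNilpotent J' :=
    hJ'fg.isNilpotent_iff_le_nilradical.2 (fun x hx => mem_nilradical.2 (hJ x (hJ'J hx)))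
  have hker : ∀ x : MvPolynomial (Fin n) R, x ∈ RingHom.ker f.toRingHom →
      ((Ideal.Quotient.mkₐ R J').comp ψ₀) x = 0 := by
    intro x hx
    simp only [AlgHom.comp_apply, Ideal.Quotient.mkₐ_eq_mk]
    rw [Ideal.Quotient.eq_zero_iff_mem]
    exact Ideal.mem_map_of_mem _ hx
  let φ' : P →ₐ[R] C ⧸ J' :=
    (Ideal.Quotient.liftₐ (RingHom.ker f.toRingHom) ((Ideal.Quotient.mkₐ R J').comp ψ₀) hker).comp
      (Ideal.quotientKerAlgEquivOfSurjective hf).symm.toAlgHom
  have hφ' : φ'.comp f = (Ideal.Quotient.mkₐ R J').comp ψ₀ := by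
    apply AlgHom.ext
    intro x
    have h1 : (Ideal.quotientKerAlgEquivOfSurjective hf).symm (f x) =
        Ideal.Quotient.mk (RingHom.ker f.toRingHom) x := by
      rw [AlgEquiv.symm_apply_eq]
      rfl
    change (Ideal.Quotient.liftₐ (RingHom.ker f.toRingHom) ((Ideal.Quotient.mkₐ R J').comp ψ₀) hker)
      ((Ideal.quotientKerAlgEquivOfSurjective hf).symm (f x)) = _
    rw [h1]
    rfl
  obtain ⟨ψ, hψ⟩ := Algebra.FormallySmooth.exists_lift J' hJ'nil φ'
  refine ⟨ψ, ?_⟩
  rw [← AlgHom.cancel_right hf]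
  apply AlgHom.ext
  intro x
  have h1 := congrArg (fun g => g (f x)) hψ
  have h2 := congrArg (fun g => g x) hφ'
  have h3 := congrArg (fun g => g x) h0
  simp only [AlgHom.comp_apply, Ideal.Quotient.mkₐ_eq_mk] at h1 h2 h3 ⊢
  rw [← h3]
  have h4 : Ideal.Quotient.mk J' (ψ (f x)) = Ideal.Quotient.mk J' (ψ₀ x) := h1.trans h2
  rw [Ideal.Quotient.eq] at h4 ⊢
  exact hJ'J h4

/-- Ring homomorphism form. -/
theorem exists_ringHom_lift {R P C C₀ : Type u} [CommRing R] [CommRing P] [CommRing C]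
    [CommRing C₀] (ρ : R →+* P) (hρ : ρ.Smooth) (β : R →+* C) (q : C →+* C₀)
    (hq : Function.Surjective q) (hker : ∀ x ∈ RingHom.ker q, IsNilpotent x) (α : P →+* C₀)
    (h : α.comp ρ = q.comp β) :
    ∃ l : P →+* C, l.comp ρ = β ∧ q.comp l = α := by
  algebraize [ρ, β, q.comp β]
  have hsm : Algebra.Smooth R P := hρ
  let αA : P →ₐ[R] C₀ := ⟨α, fun r => by
    have := congrArg (fun g => g r) h
    exact this⟩
  let qA : C →ₐ[R] C₀ := ⟨q, fun r => rfl⟩
  have hqA : Function.Surjective qA := hq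
  let E := Ideal.quotientKerAlgEquivOfSurjective hqA
  obtain ⟨ψ, hψ⟩ := exists_lift_of_nil (R := R) (P := P) (C := C) (RingHom.ker qA.toRingHom)
    (fun x hx => hker x hx) (E.symm.toAlgHom.comp αA)
  refine ⟨ψ.toRingHom, ?_, ?_⟩
  · ext r
    exact ψ.commutes r
  · ext p
    have h1 : E ((Ideal.Quotient.mkₐ R (RingHom.ker qA.toRingHom)) (ψ p)) =
        E (E.symm (αA p)) := congrArg (fun g => E (g p)) hψ
    rw [AlgEquiv.apply_symm_apply] at h1
    exact h1

end Groth.Agent.Lib.Helper78.SmNilLift
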