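import Groth.Agent.Lib.Helper61.ThickBC
import Mathlib.AlgebraicGeometry.Morphisms.Flat

set_option autoImplicit false
universe u
open AlgebraicGeometry CategoryTheory Limits

namespace Groth.Agent.Lib.Helper78.SqZeroDesc

open Groth.Agent.Lib.Helper61.ThickBC

/-- the stalk maps of a flat morphism are injective. -/
theorem stalkMap_injective {X Y : Scheme.{u}} (f : X ⟶ Y) [Flat f] (x : X) :
    Function.Injective (f.stalkMap x).hom := by
  algebraize [(f.stalkMap x).hom]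
  have : Module.FaithfullyFlat (Y.presheaf.stalk (f x)) (X.presheaf.stalk x) :=
    @Module.FaithfullyFlat.of_flat_of_isLocalHom _ _ _ _ _ _ _
      (Flat.stalkMap f x) (f.toLRSHom.prop x)
  exact ‹RingHom.FaithfullyFlat _›.injective

/-- sections killed by the base change of a closed immersion. -/
theorem app_eq_zero_of_isPullback {V₀ V V' V₀' : Scheme.{u}} {k : V₀ ⟶ V} {g : V' ⟶ V}
    {k' : V₀' ⟶ V'} {p : V₀' ⟶ V₀} (sq : IsPullback k' p g k) (U : V.Opens) (x : Γ(V, U))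
    (hx : (k.app U).hom x = 0) : ((k'.app (g ⁻¹ᵁ U)).hom ((g.app U).hom x)) = 0 := by
  have h1 : (k' ≫ g).app U = (p ≫ k).app U ≫ V₀'.presheaf.map (eqToHom (by rw [sq.w])).op :=
    Scheme.Hom.congr_app sq.w U
  rw [Scheme.Hom.comp_app, Scheme.Hom.comp_app] at h1
  have h2 := congrArg (fun F => F.hom x) h1
  change (k'.app (g ⁻¹ᵁ U)).hom ((g.app U).hom x) =
    (V₀'.presheaf.map _).hom ((p.app (k ⁻¹ᵁ U)).hom ((k.app U).hom x)) at h2
  rw [h2, hx, map_zero, map_zero]

/-- **Square-zero kernels descend along flat jointly surjective families.** -/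
theorem ker_mul_ker_eq_bot_of_flat_cover {V₀ V : Scheme.{u}} (k : V₀ ⟶ V) [IsClosedImmersion k]
    {ι : Type*} (V' : ι → Scheme.{u}) (g : ∀ i, V' i ⟶ V) [∀ i, Flat (g i)]
    (hs : ∀ x : V, ∃ i, x ∈ Set.range (g i))
    (V₀' : ι → Scheme.{u}) (k' : ∀ i, V₀' i ⟶ V' i) (p : ∀ i, V₀' i ⟶ V₀)
    (sq : ∀ i, IsPullback (k' i) (p i) (g i) k)
    (h : ∀ i, (k' i).ker * (k' i).ker = ⊥) : k.ker * k.ker = ⊥ := by
  have key : ∀ (U : V.affineOpens) (x y : Γ(V, U.1)), (k.app U.1).hom x = 0 →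
      (k.app U.1).hom y = 0 → x * y = 0 := by
    intro U x y hx hy
    refine TopCat.Presheaf.section_ext V.sheaf U.1 (x * y) 0 fun q hq => ?_
    obtain ⟨i, v, rfl⟩ := hs q
    haveI : IsClosedImmersion (k' i) := MorphismProperty.of_isPullback (sq i).flip inferInstance
    have h0 := sq_zero (k' i) (h i) ((g i) ⁻¹ᵁ U.1) _ _
      (app_eq_zero_of_isPullback (sq i) U.1 x hx) (app_eq_zero_of_isPullback (sq i) U.1 y hy)
    apply stalkMap_injective (g i) v
    erw [Scheme.Hom.germ_stalkMap_apply (g i) U.1 v hq (x * y),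
      Scheme.Hom.germ_stalkMap_apply (g i) U.1 v hq 0]
    rw [map_mul]
    erw [h0]
    simp
  refine le_antisymm ?_ bot_le
  refine Scheme.IdealSheafData.le_of_iSup_eq_top (ι := V.affineOpens) (fun U => U) ?_ ?_
  · rw [eq_top_iff]
    intro x _
    obtain ⟨_, ⟨U, hU, rfl⟩, hxU, -⟩ :=
      V.isBasis_affineOpens.exists_subset_of_mem_open (Set.mem_univ x) isOpen_univ
    exact TopologicalSpace.Opens.mem_iSup.mpr ⟨⟨U, hU⟩, hxU⟩
  · intro U
    rw [Scheme.IdealSheafData.ideal_mul, Scheme.IdealSheafData.ideal_bot]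
    simp only [Pi.mul_apply, Pi.bot_apply]
    rw [Ideal.mul_le]
    intro x hx y hy
    rw [Scheme.Hom.ker_apply, RingHom.mem_ker] at hx hy
    exact key U x y hx hy

end Groth.Agent.Lib.Helper78.SqZeroDesc
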