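import Mathlib

set_option autoImplicit false
set_option linter.style.haveILetI false

namespace Groth.Agent.Lib.Helper78.StrongDense

open Polynomial

/-- ring-level strong density of the open `⋃_{a ∈ S} D(a)` in `Spec A`, tested on principal
opens: a function on `D(h)` vanishing on all `D(a h)`, `a ∈ S`, vanishes. -/
def SD (A : Type*) [CommRing A] (S : Set A) : Prop :=
  ∀ h x : A, (∀ a ∈ S, ∃ m : ℕ, (a * h) ^ m * x = 0) → ∃ m : ℕ, h ^ m * x = 0

theorem SD.mono {A : Type*} [CommRing A] {S S' : Set A} (hS : SD A S) (h : S ⊆ S') : SD A S' :=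
  fun g x hx => hS g x (fun a ha => hx a (h ha))

theorem SD.of_ringEquiv {R R' : Type*} [CommRing R] [CommRing R'] (e : R ≃+* R') {S : Set R}
    (hS : SD R S) : SD R' (e '' S) := by
  intro h x hx
  have := hS (e.symm h) (e.symm x) (fun a ha => by
    obtain ⟨m, hm⟩ := hx (e a) ⟨a, ha, rfl⟩
    refine ⟨m, e.injective ?_⟩
    simpa using hm)
  obtain ⟨m, hm⟩ := this
  exact ⟨m, by simpa using congrArg e hm⟩

section free

variable {A C : Type*} [CommRing A] [CommRing C] [Algebra A C] [Module.Free A C]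
  [Module.Finite A C] {S : Set A}

theorem SD.free (hS : SD A S) (h : A) (x : C)
    (hx : ∀ a ∈ S, ∃ m : ℕ, (a * h) ^ m • x = 0) : ∃ m : ℕ, h ^ m • x = 0 := by
  classical
  let b := Module.Free.chooseBasis A C
  have key : ∀ k, ∃ m : ℕ, h ^ m * b.repr x k = 0 := by
    intro k
    apply hS
    intro a ha
    obtain ⟨m, hm⟩ := hx a ha
    refine ⟨m, ?_⟩
    have := congrArg (fun y => b.repr y k) hm
    simpa using this
  choose mk hmk using key
  refine ⟨Finset.univ.sup mk, ?_⟩
  apply b.repr.injective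
  ext k
  have hle : mk k ≤ Finset.univ.sup mk := Finset.le_sup (Finset.mem_univ k)
  obtain ⟨d, hd⟩ := Nat.exists_eq_add_of_le hle
  simp only [map_smul, Finsupp.smul_apply, smul_eq_mul, map_zero, Finsupp.zero_apply]
  rw [hd, pow_add, mul_comm (h ^ mk k), mul_assoc, hmk k, mul_zero]

theorem horner_step (hS : SD A S) (g c y y' : C) (t : A)
    (hy : y = g * y' + algebraMap A C t)
    (hSc : ∀ a ∈ S, ∃ m : ℕ, (algebraMap A C a * g) ^ m * c = 0)
    (hgy : ∃ M : ℕ, (g * y) ^ M * c = 0) :
    ∃ m : ℕ, (algebraMap A C t * g) ^ m * c = 0 := by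
  obtain ⟨M, hM⟩ := hgy
  have h1 : y ^ M * (g ^ M * c) = 0 := by rw [← hM]; ring
  obtain ⟨z, hz⟩ := sub_dvd_pow_sub_pow y (algebraMap A C t) M
  have hyt : y - algebraMap A C t = g * y' := by rw [hy]; ring
  have h2 : (algebraMap A C t) ^ M * (g ^ M * c) = g * (-(y' * z)) * (g ^ M * c) := by
    have e1 : (algebraMap A C t) ^ M = y ^ M - (y - algebraMap A C t) * z := by rw [← hz]; ring
    rw [e1, sub_mul, h1, hyt]; ring
  have h3 : ∀ m : ℕ, (algebraMap A C t) ^ (M * m) * (g ^ M * c) =
      (g * (-(y' * z))) ^ m * (g ^ M * c) := by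
    intro m
    induction m with
    | zero => simp
    | succ m ih =>
      calc (algebraMap A C t) ^ (M * (m + 1)) * (g ^ M * c)
          = (algebraMap A C t) ^ (M * m) * ((algebraMap A C t) ^ M * (g ^ M * c)) := by ring
        _ = (algebraMap A C t) ^ (M * m) * (g * (-(y' * z)) * (g ^ M * c)) := by rw [h2]
        _ = (g * (-(y' * z))) * ((algebraMap A C t) ^ (M * m) * (g ^ M * c)) := by ring
        _ = (g * (-(y' * z))) * ((g * (-(y' * z))) ^ m * (g ^ M * c)) := by rw [ih]
        _ = (g * (-(y' * z))) ^ (m + 1) * (g ^ M * c) := by ring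
  have h4 : ∀ a ∈ S, ∃ m : ℕ, (a * t ^ M) ^ m • (g ^ M * c) = 0 := by
    intro a ha
    obtain ⟨m, hm⟩ := hSc a ha
    refine ⟨m, ?_⟩
    rw [Algebra.smul_def, map_pow, map_mul, map_pow]
    calc (algebraMap A C a * (algebraMap A C t) ^ M) ^ m * (g ^ M * c)
        = (algebraMap A C a) ^ m * ((algebraMap A C t) ^ (M * m) * (g ^ M * c)) := by ring
      _ = (algebraMap A C a) ^ m * ((g * (-(y' * z))) ^ m * (g ^ M * c)) := by rw [h3]
      _ = (-(y' * z)) ^ m * g ^ M * ((algebraMap A C a * g) ^ m * c) := by ring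
      _ = 0 := by rw [hm, mul_zero]
  obtain ⟨m', hm'⟩ := SD.free hS (t ^ M) (g ^ M * c) h4
  rw [Algebra.smul_def, map_pow, map_pow] at hm'
  refine ⟨M * m' + M, ?_⟩
  calc (algebraMap A C t * g) ^ (M * m' + M) * c
      = (algebraMap A C t) ^ M * g ^ (M * m') * (((algebraMap A C t) ^ M) ^ m' * (g ^ M * c)) := by
        ring
    _ = 0 := by rw [hm', mul_zero]

theorem monic_divX {p : A[X]} (hp : p.Monic) (hd : p.natDegree ≠ 0) : p.divX.Monic := by
  nontriviality A
  have hdeg : p.divX.natDegree = p.natDegree - 1 := natDegree_divX_eq_natDegree_tsub_one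
  rw [Monic, leadingCoeff, hdeg, coeff_divX, Nat.sub_add_cancel (Nat.one_le_iff_ne_zero.2 hd)]
  exact hp

theorem exists_pow_of_monic (hS : SD A S) (g : C) (n : ℕ) :
    ∀ (p : A[X]), p.Monic → p.natDegree = n → ∀ c : C,
      (∀ a ∈ S, ∃ m : ℕ, (algebraMap A C a * g) ^ m * c = 0) →
      (∃ M : ℕ, (g * aeval g p) ^ M * c = 0) → ∃ m : ℕ, g ^ m * c = 0 := by
  induction n with
  | zero =>
    intro p hp hn c _ hM
    have : p = 1 := eq_one_of_monic_natDegree_zero hp hn
    subst this
    simpa using hM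
  | succ n ih =>
    intro p hp hn c hSc hM
    have hd : p.natDegree ≠ 0 := by omega
    have hq := monic_divX hp hd
    have hqn : p.divX.natDegree = n := by
      rw [natDegree_divX_eq_natDegree_tsub_one, hn]; rfl
    have hy : aeval g p = g * aeval g p.divX + algebraMap A C (p.coeff 0) := by
      have h0 := congrArg (aeval g) (divX_mul_X_add p)
      rw [← h0, map_add, map_mul, aeval_X, aeval_C, mul_comm]
    have hstep := horner_step hS g c _ _ _ hy hSc hM
    apply ih p.divX hq hqn c hSc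
    -- radical ideal argument
    let K : Ideal C := Submodule.annihilator (Submodule.span C {c})
    have hK : ∀ x : C, x ∈ K.radical ↔ ∃ m : ℕ, x ^ m * c = 0 := by
      intro x
      rw [Ideal.mem_radical_iff]
      simp only [K, Submodule.mem_annihilator_span_singleton, smul_eq_mul]
    rw [← hK] at hM hstep ⊢
    have h1 : g * (g * aeval g p.divX) ∈ K.radical := by
      have : g * (g * aeval g p.divX) =
          g * aeval g p - algebraMap A C (p.coeff 0) * g := by rw [hy]; ring
      rw [this]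
      exact Ideal.sub_mem _ hM hstep
    apply Ideal.mem_radical_of_pow_mem (m := 2)
    have : (g * aeval g p.divX) ^ 2 = g * (g * aeval g p.divX) * aeval g p.divX := by ring
    rw [this]
    exact Ideal.mul_mem_right _ _ h1

theorem SD.finiteFree (hS : SD A S) : SD C (algebraMap A C '' S) := by
  intro g c hc
  apply exists_pow_of_monic hS g _ (Algebra.lmul A C g).charpoly (LinearMap.charpoly_monic _) rfl c
    (fun a ha => hc _ ⟨a, ha, rfl⟩)
  refine ⟨1, ?_⟩
  have h0 : aeval g (Algebra.lmul A C g).charpoly = 0 := by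
    apply Algebra.lmul_injective (R := A)
    rw [← aeval_algHom_apply, map_zero]
    exact LinearMap.aeval_self_charpoly _
  rw [h0]; simp

end free

theorem SD.away {C B : Type*} [CommRing C] [CommRing B] [Algebra C B] (g : C)
    [IsLocalization.Away g B] {S : Set C} (hS : SD C S) : SD B (algebraMap C B '' S) := by
  intro h' x' hx
  have hu : IsUnit (algebraMap C B g) := IsLocalization.Away.algebraMap_isUnit g
  obtain ⟨n, h, hh⟩ := IsLocalization.Away.surj g h'
  obtain ⟨k, x, hxx⟩ := IsLocalization.Away.surj g x'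
  -- hh : h' * algebraMap g ^ n = algebraMap h
  have key : ∀ a ∈ S, ∃ m : ℕ, (a * (h * g)) ^ m * x = 0 := by
    intro a ha
    obtain ⟨m, hm⟩ := hx _ ⟨a, ha, rfl⟩
    have e1 : algebraMap C B ((a * h) ^ m * x) = 0 := by
      rw [map_mul, map_pow, map_mul, ← hh, ← hxx]
      calc (algebraMap C B a * (h' * algebraMap C B g ^ n)) ^ m * (x' * algebraMap C B g ^ k)
          = (algebraMap C B g) ^ (n * m + k) * ((algebraMap C B a * h') ^ m * x') := by ring
        _ = 0 := by rw [hm, mul_zero]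
    obtain ⟨⟨_, N, rfl⟩, hN⟩ := (IsLocalization.map_eq_zero_iff (Submonoid.powers g) B _).1 e1
    refine ⟨m + N, ?_⟩
    calc (a * (h * g)) ^ (m + N) * x = (a * h) ^ N * g ^ m * (g ^ N * ((a * h) ^ m * x)) := by ring
      _ = 0 := by rw [hN, mul_zero]
  obtain ⟨m, hm⟩ := hS (h * g) x key
  refine ⟨m, ?_⟩
  have e2 : algebraMap C B ((h * g) ^ m * x) = 0 := by rw [hm, map_zero]
  rw [map_mul, map_pow, map_mul, ← hh, ← hxx] at e2
  have e3 : (algebraMap C B g) ^ (n * m + m + k) * (h' ^ m * x') = 0 := by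
    rw [← e2]; ring
  exact ((hu.pow _).mul_right_eq_zero).1 e3

theorem SD.standardEtale {A B : Type*} [CommRing A] [CommRing B] [Algebra A B]
    [Algebra.IsStandardEtale A B] {S : Set A} (hS : SD A S) : SD B (algebraMap A B '' S) := by
  obtain ⟨P⟩ := Algebra.IsStandardEtale.nonempty_standardEtalePresentation (R := A) (S := B)
  let e := P.equivRing.trans P.P.equivAwayAdjoinRoot
  haveI := P.monic_f.free_adjoinRoot
  haveI := P.monic_f.finite_adjoinRoot
  have h1 : SD (AdjoinRoot P.f) (algebraMap A (AdjoinRoot P.f) '' S) := hS.finiteFree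
  have h2 := SD.away (B := Localization.Away (AdjoinRoot.mk P.f P.g)) (AdjoinRoot.mk P.f P.g) h1
  have h3 := SD.of_ringEquiv e.symm.toRingEquiv h2
  refine h3.mono ?_
  rintro _ ⟨_, ⟨_, ⟨a, ha, rfl⟩, rfl⟩, rfl⟩
  refine ⟨a, ha, ?_⟩
  rw [← IsScalarTower.algebraMap_apply]
  exact (e.symm.commutes a).symm

end Groth.Agent.Lib.Helper78.StrongDense
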