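import Groth.Agent.Lib.Helper78.StrongDense
import Groth.Prelude.Def_CInt
import Groth.Agent.Lib.Helper78.EffCartierDesc

set_option autoImplicit false
set_option linter.style.haveILetI false
universe u
open CategoryTheory CategoryTheory.Limits AlgebraicGeometry Opposite TopologicalSpace

namespace Groth.Agent.Lib.Helper78.StrongDenseGeom

open Groth.Agent.Lib.Helper78.StrongDense

theorem res_comp {T : Scheme.{u}} {O₁ O₂ O₃ : T.Opens} (h₁ : O₂ ≤ O₁) (h₂ : O₃ ≤ O₂)
    (x : Γ(T, O₁)) :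
    (T.presheaf.map (homOfLE h₂).op).hom ((T.presheaf.map (homOfLE h₁).op).hom x) =
      (T.presheaf.map (homOfLE (h₂.trans h₁)).op).hom x := by
  rw [← CommRingCat.comp_apply, ← Functor.map_comp]
  rfl

/-- a section killed by a power of `f` vanishes on `D(f)` (and on any smaller open) -/
theorem res_eq_zero_of_pow_mul {T : Scheme.{u}} {O : T.Opens} (f x : Γ(T, O)) (m : ℕ)
    (h : f ^ m * x = 0) {O' : T.Opens} (hO' : O' ≤ T.basicOpen f) :
    (T.presheaf.map (homOfLE (hO'.trans (T.basicOpen_le f))).op).hom x = 0 := by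
  have hu : IsUnit ((T.presheaf.map (homOfLE (T.basicOpen_le f)).op).hom f) :=
    RingedSpace.isUnit_res_basicOpen T.toRingedSpace f
  have h1 : ((T.presheaf.map (homOfLE (T.basicOpen_le f)).op).hom f) ^ m *
      (T.presheaf.map (homOfLE (T.basicOpen_le f)).op).hom x = 0 := by
    rw [← map_pow, ← map_mul, h, map_zero]
  have h2 : (T.presheaf.map (homOfLE (T.basicOpen_le f)).op).hom x = 0 :=
    ((hu.pow m).mul_right_eq_zero).1 h1
  rw [← res_comp (T.basicOpen_le f) hO', h2, map_zero]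

/-- a section on an affine open vanishing on `D(f)` is killed by a power of `f` -/
theorem exists_pow_mul_eq_zero {T : Scheme.{u}} {O : T.Opens} (hO : IsAffineOpen O)
    (f x : Γ(T, O)) (h : (T.presheaf.map (homOfLE (T.basicOpen_le f)).op).hom x = 0) :
    ∃ m : ℕ, f ^ m * x = 0 := by
  haveI := hO.isLocalization_basicOpen f
  obtain ⟨⟨_, m, rfl⟩, hm⟩ :=
    (IsLocalization.map_eq_zero_iff (Submonoid.powers f) Γ(T, T.basicOpen f) x).1 h
  exact ⟨m, hm⟩

theorem sd_of_dense {T : Scheme.{u}} (W : T.Opens) (hW : CInt.IsSchematicallyDense W)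
    {O : T.Opens} (hO : IsAffineOpen O) : SD Γ(T, O) {a | T.basicOpen a ≤ W} := by
  intro h x hx
  apply exists_pow_mul_eq_zero hO
  apply hW (T.basicOpen h)
  rw [map_zero]
  choose a haW hpa using fun p : ↥(T.basicOpen h ⊓ W) =>
    hO.exists_basicOpen_le (V := W) ⟨p.1, p.2.2⟩ (T.basicOpen_le h p.2.1)
  have hle : ∀ p, T.basicOpen (a p * h) ≤ T.basicOpen h ⊓ W := by
    intro p
    rw [Scheme.basicOpen_mul]; exact le_inf inf_le_right (inf_le_left.trans (haW p))
  refine T.sheaf.eq_of_locally_eq' (fun p : ↥(T.basicOpen h ⊓ W) => T.basicOpen (a p * h))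
    (T.basicOpen h ⊓ W) (fun p => homOfLE (hle p)) ?_ _ 0 ?_
  · intro p hp
    refine Opens.mem_iSup.2 ⟨⟨p, hp⟩, ?_⟩
    rw [Scheme.basicOpen_mul]; exact ⟨hpa ⟨p, hp⟩, hp.1⟩
  · intro p
    obtain ⟨m, hm⟩ := hx (a p) (haW p)
    have h0 := res_eq_zero_of_pow_mul (a p * h) x m hm (le_refl _)
    show (T.presheaf.map (homOfLE (hle p)).op).hom
      ((T.presheaf.map (homOfLE (inf_le_left : T.basicOpen h ⊓ W ≤ T.basicOpen h)).op).hom
        ((T.presheaf.map (homOfLE (T.basicOpen_le h)).op).hom x)) =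
      (T.presheaf.map (homOfLE (hle p)).op).hom 0
    rw [res_comp, res_comp, map_zero]
    exact h0

theorem dense_of_sd {T : Scheme.{u}} (W : T.Opens)
    (H : ∀ p : T, ∃ O : T.Opens, IsAffineOpen O ∧ p ∈ O ∧ ∃ S : Set Γ(T, O),
      (∀ a ∈ S, T.basicOpen a ≤ W) ∧ SD Γ(T, O) S) : CInt.IsSchematicallyDense W := by
  intro V'
  rw [injective_iff_map_eq_zero]
  intro s hs
  choose O hO hpO S hSW hSD using H
  choose h hhV hph using fun p : ↥V' =>
    (hO p.1).exists_basicOpen_le (V := V') ⟨p.1, p.2⟩ (hpO p.1)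
  refine T.sheaf.eq_of_locally_eq' (fun p : ↥V' => T.basicOpen (h p)) V'
    (fun p => homOfLE (hhV p)) ?_ s 0 ?_
  · intro p hp; exact Opens.mem_iSup.2 ⟨⟨p, hp⟩, hph ⟨p, hp⟩⟩
  · intro p
    show (T.presheaf.map (homOfLE (hhV p)).op).hom s = (T.presheaf.map (homOfLE (hhV p)).op).hom 0
    rw [map_zero]
    haveI := (hO p.1).isLocalization_basicOpen (h p)
    obtain ⟨n, σ, hσ⟩ := IsLocalization.Away.surj (h p)
      ((T.presheaf.map (homOfLE (hhV p)).op).hom s)
    have hu : IsUnit (algebraMap Γ(T, O p.1) Γ(T, T.basicOpen (h p)) (h p)) :=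
      IsLocalization.Away.algebraMap_isUnit _
    have hσ0 : algebraMap Γ(T, O p.1) Γ(T, T.basicOpen (h p)) σ = 0 := by
      obtain ⟨m, hm⟩ := hSD p.1 (h p) σ (fun a ha => by
        apply exists_pow_mul_eq_zero (hO p.1)
        have hle : T.basicOpen (a * h p) ≤ T.basicOpen (h p) := by
          rw [Scheme.basicOpen_mul]; exact inf_le_right
        have hleW : T.basicOpen (a * h p) ≤ V' ⊓ W := by
          rw [Scheme.basicOpen_mul]
          exact le_inf (inf_le_right.trans (hhV p)) (inf_le_left.trans (hSW p.1 a ha))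
        rw [← res_comp (T.basicOpen_le (h p)) hle]
        change (T.presheaf.map (homOfLE hle).op).hom (algebraMap _ _ σ) = 0
        rw [← hσ, map_mul, res_comp (hhV p) hle, ← res_comp inf_le_left hleW]
        erw [hs]
        simp)
      exact res_eq_zero_of_pow_mul (h p) σ m hm (le_refl _)
    rw [hσ0] at hσ
    exact (hu.pow n).mul_left_eq_zero.1 hσ

theorem stalkMap_injective_of_flat {X Y : Scheme.{u}} (f : X ⟶ Y) [Flat f] (x : X) :
    Function.Injective (f.stalkMap x).hom := by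
  algebraize [(f.stalkMap x).hom]
  have : Module.FaithfullyFlat (Y.presheaf.stalk (f x)) (X.presheaf.stalk x) :=
    @Module.FaithfullyFlat.of_flat_of_isLocalHom _ _ _ _ _ _ _
      (Flat.stalkMap f x) (f.toLRSHom.prop x)
  exact ‹RingHom.FaithfullyFlat _›.injective

theorem app_injective_of_flat_of_surjective {X Y : Scheme.{u}} (f : X ⟶ Y) [Flat f] [Surjective f]
    (V' : Y.Opens) : Function.Injective (f.app V').hom := by
  rw [injective_iff_map_eq_zero]
  intro s hs
  refine TopCat.Presheaf.section_ext Y.sheaf V' s 0 (fun y hy => ?_)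
  obtain ⟨x, rfl⟩ := f.surjective y
  apply stalkMap_injective_of_flat f x
  erw [Scheme.Hom.germ_stalkMap_apply f V' x hy s]
  rw [hs, map_zero, map_zero]
  exact (map_zero (f.stalkMap x).hom).symm

/-- **Descent of schematic density along flat surjective maps.** -/
theorem dense_of_preimage {X Y : Scheme.{u}} (f : X ⟶ Y) [Flat f] [Surjective f] (W : Y.Opens)
    (h : CInt.IsSchematicallyDense (f ⁻¹ᵁ W)) : CInt.IsSchematicallyDense W := by
  intro V'
  rw [injective_iff_map_eq_zero]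
  intro s hs
  apply app_injective_of_flat_of_surjective f V'
  rw [map_zero]
  apply h (f ⁻¹ᵁ V')
  rw [map_zero]
  have nat := f.naturality (homOfLE (inf_le_left : V' ⊓ W ≤ V')).op
  have := congrArg (fun k => k.hom s) nat
  simp only [CommRingCat.hom_comp, RingHom.coe_comp, Function.comp_apply] at this
  erw [hs] at this
  rw [map_zero] at this
  exact this.symm

/-- **Schematic density pulls back along étale maps.** -/
theorem dense_preimage_of_etale {X Y : Scheme.{u}} (f : X ⟶ Y) [Etale f] (W : Y.Opens)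
    (hW : CInt.IsSchematicallyDense W) : CInt.IsSchematicallyDense (f ⁻¹ᵁ W) := by
  apply dense_of_sd
  intro p
  obtain ⟨O, hO, hpO, -⟩ := Opens.isBasis_iff_nbhd.1 (Y.isBasis_affineOpens)
    (show f p ∈ (⊤ : Y.Opens) from trivial)
  have hO : IsAffineOpen O := hO
  obtain ⟨O₂, hO₂, hpO₂, hO₂le⟩ := Opens.isBasis_iff_nbhd.1 (X.isBasis_affineOpens)
    (show p ∈ f ⁻¹ᵁ O from hpO)
  have hO₂ : IsAffineOpen O₂ := hO₂
  have hφ : (f.appLE O O₂ hO₂le).hom.Etale :=
    HasRingHomProperty.appLE @Etale f ‹_› ⟨O, hO⟩ ⟨O₂, hO₂⟩ hO₂le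
  algebraize [(f.appLE O O₂ hO₂le).hom]
  obtain ⟨f₀, hf₀q, hstd⟩ := Algebra.IsEtaleAt.exists_isStandardEtale (R := Γ(Y, O))
    (hO₂.primeIdealOf ⟨p, hpO₂⟩).asIdeal
  have hSA := sd_of_dense W hW hO
  have hSL := hSA.standardEtale (B := Localization.Away f₀)
  haveI := hO₂.isLocalization_basicOpen f₀
  let e : Localization.Away f₀ ≃ₐ[Γ(X, O₂)] Γ(X, X.basicOpen f₀) :=
    IsLocalization.algEquiv (Submonoid.powers f₀) _ _
  have hS3 := SD.of_ringEquiv e.toRingEquiv hSL
  refine ⟨X.basicOpen f₀, hO₂.basicOpen f₀, ?_, _, ?_, hS3⟩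
  · exact (Groth.Agent.Lib.Helper78.EffCartierDesc.mem_basicOpen_iff_notMem_primeIdealOf
      hO₂ f₀ p hpO₂).2 hf₀q
  · rintro _ ⟨_, ⟨a, ha, rfl⟩, rfl⟩
    have h1 : e.toRingEquiv (algebraMap Γ(Y, O) (Localization.Away f₀) a) =
        (X.presheaf.map (homOfLE (X.basicOpen_le f₀)).op).hom ((f.appLE O O₂ hO₂le).hom a) := by
      rw [IsScalarTower.algebraMap_apply Γ(Y, O) Γ(X, O₂) (Localization.Away f₀)]
      exact e.commutes _
    rw [h1, Scheme.basicOpen_res, Scheme.basicOpen_appLE]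
    exact inf_le_right.trans (inf_le_right.trans (fun x hx => ha hx))

end Groth.Agent.Lib.Helper78.StrongDenseGeom
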