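import Groth.Agent.Lib.Helper78.StrongDenseSp
import Groth.Prelude.Def_AlgSpOX2

set_option autoImplicit false
set_option linter.style.haveILetI false
set_option backward.isDefEq.respectTransparency false
universe w v u
open CategoryTheory CategoryTheory.Limits AlgebraicGeometry Opposite TopologicalSpace
open AlgSp

namespace Groth.Agent.Lib.Helper78.StrongDenseMono

open Groth.Agent.Lib.Helper78.StrongDense Groth.Agent.Lib.Helper78.StrongDenseGeom
open Groth.Agent.Lib.Helper78.StrongDenseSp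
open Groth.Agent.Lib.Helper51 Groth.Agent.Lib.Helper52

theorem injective_app_of_mono {C : Type u} [Category.{v} C] (J : GrothendieckTopology C)
    {F G : Sheaf J RingCat.{w}} (f : F ⟶ G) [Mono f] (E : Cᵒᵖ) :
    Function.Injective (f.hom.app E) := by
  haveI : Mono ((sheafToPresheaf J RingCat.{w}).map f) := inferInstance
  haveI : Mono (f.hom.app E) :=
    (NatTrans.mono_iff_mono_app ((sheafToPresheaf J RingCat.{w}).map f)).1 inferInstance E
  exact (ConcreteCategory.mono_iff_injective_of_preservesPullback (f.hom.app E)).1 inferInstance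

theorem mono_of_injective_app {C : Type u} [Category.{v} C] (J : GrothendieckTopology C)
    {F G : Sheaf J RingCat.{w}} (f : F ⟶ G) (h : ∀ E : Cᵒᵖ, Function.Injective (f.hom.app E)) :
    Mono f := by
  haveI : ∀ E, Mono (f.hom.app E) := fun E => ConcreteCategory.mono_of_injective _ (h E)
  haveI : Mono f.hom := NatTrans.mono_of_mono_app f.hom
  exact Sheaf.Hom.mono_of_presheaf_mono J _ f

theorem appTop_eq {P T : Scheme.{u}} (ι : P ⟶ T) [IsOpenImmersion ι] :
    ι.appTop = T.presheaf.map (homOfLE (le_top : ι ''ᵁ ⊤ ≤ ⊤)).op ≫ (ι.appIso ⊤).hom := by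
  rw [Scheme.Hom.appIso_hom', Scheme.Hom.map_appLE, Scheme.Hom.appTop, Scheme.Hom.app_eq_appLE]
  rfl

theorem appTop_injective_iff {P T : Scheme.{u}} (ι : P ⟶ T) [IsOpenImmersion ι] :
    Function.Injective ι.appTop.hom ↔
      Function.Injective (T.presheaf.map (homOfLE (le_top : ι ''ᵁ ⊤ ≤ ⊤)).op).hom := by
  rw [appTop_eq ι]
  have hbij : Function.Bijective (ι.appIso ⊤).hom.hom :=
    ConcreteCategory.bijective_of_isIso (ι.appIso ⊤).hom
  constructor
  · intro h
    exact Function.Injective.of_comp (f := (ι.appIso ⊤).hom.hom) h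
  · intro h
    exact hbij.1.comp h

variable {S : Scheme.{u}}

theorem bcRingHom_app {X U : Sp S} (j : U ⟶ X) (hj : Representable j) (E : EtOver X)
    (s : (OEtRing X).obj.obj (op E)) :
    ((bcRingHom hj).hom.app (op E)).hom s =
      ULift.up ((hj.snd E.obj.hom).left.appTop.hom s.down) := rfl

theorem presheaf_map_eq {T : Scheme.{u}} {A B : T.Opens} (f g : op A ⟶ op B) :
    T.presheaf.map f = T.presheaf.map g := by
  rw [Subsingleton.elim f g]

theorem exists_fst_opensRange {X U : Sp S} (j : U ⟶ X) (hj : RepWith @IsOpenImmersion j)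
    {V : Over S} (φ : (yon S).obj V ⟶ X) (W : V.left.Opens)
    (hW : (W : Set V.left) = Set.range (hj.1.snd φ).left) :
    ∃ fst : (yon S).obj (Over.mk (W.ι ≫ V.hom)) ⟶ U,
      IsPullback fst ((yon S).map (Over.homMk W.ι rfl : Over.mk (W.ι ≫ V.hom) ⟶ V)) j φ := by
  apply Groth.Agent.Lib.Helper78.LocPrincipalDesc.exists_opens_of_repWith j hj φ W
  intro v
  rw [ofPt_mem_range_map_iff (hj.1.isPullback φ) v, ← hW]; rfl

theorem mono_of_isSchDense {U X : Sp S} (j : U ⟶ X) (hj : RepWith @IsOpenImmersion j)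
    (hd : IsSchDense j) : Mono (bcRingHom hj.1) := by
  apply mono_of_injective_app
  intro E'
  induction E' using Opposite.rec with
  | op E =>
  haveI : IsOpenImmersion (hj.1.snd E.obj.hom).left := hj.2 _ _ _ (hj.1.isPullback _)
  obtain ⟨fst, sq⟩ := exists_fst_opensRange j hj E.obj.hom ((hj.1.snd E.obj.hom).left ''ᵁ ⊤)
    (by simp)
  have hdense := dense_every_chart j hd E.obj.hom E.property _ fst sq
  have hinj : Function.Injective (hj.1.snd E.obj.hom).left.appTop.hom := by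
    rw [appTop_injective_iff, injective_iff_map_eq_zero]
    intro s hs
    apply hdense ⊤
    rw [map_zero, ← res_comp (le_top : (hj.1.snd E.obj.hom).left ''ᵁ ⊤ ≤ ⊤)
      (inf_le_right : ⊤ ⊓ (hj.1.snd E.obj.hom).left ''ᵁ ⊤ ≤ (hj.1.snd E.obj.hom).left ''ᵁ ⊤) s,
      hs, map_zero]
  intro s t hst
  have h1 : ULift.up.{u + 1} ((hj.1.snd E.obj.hom).left.appTop.hom s.down) =
      ULift.up ((hj.1.snd E.obj.hom).left.appTop.hom t.down) := hst
  exact ULift.ext _ _ (hinj (congrArg ULift.down h1))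

theorem isSchDense_of_mono {U X : Sp S} (hX : IsAlgSpace X) (j : U ⟶ X)
    (hj : RepWith @IsOpenImmersion j) (hm : Mono (bcRingHom hj.1)) : IsSchDense j := by
  obtain ⟨V₀, φ₀, hφ₀e, hφ₀s⟩ := hX.atlas
  haveI : IsOpenImmersion (hj.1.snd φ₀).left := hj.2 _ _ _ (hj.1.isPullback _)
  obtain ⟨fst₀, sq₀⟩ := exists_fst_opensRange j hj φ₀ ((hj.1.snd φ₀).left ''ᵁ ⊤) (by simp)
  refine ⟨hj, V₀, φ₀, (hj.1.snd φ₀).left ''ᵁ ⊤, fst₀, hφ₀e, hφ₀s, sq₀, ?_⟩
  intro V'
  let ιV : Over.mk (V'.ι ≫ V₀.hom) ⟶ V₀ := Over.homMk V'.ι rfl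
  let E : EtOver X := EtOver.mk ((yon S).map ιV ≫ φ₀)
    (repWith_etale_yon_map_comp ιV (inferInstanceAs (Etale V'.ι)) φ₀ hφ₀e)
  have hinjE := injective_app_of_mono _ (bcRingHom hj.1) (op E)
  haveI : IsOpenImmersion (hj.1.snd E.obj.hom).left := hj.2 _ _ _ (hj.1.isPullback _)
  have hinj' : Function.Injective (hj.1.snd E.obj.hom).left.appTop.hom := by
    intro s t hst
    have h1 : ULift.up.{u + 1} ((hj.1.snd E.obj.hom).left.appTop.hom s) =
        ULift.up ((hj.1.snd E.obj.hom).left.appTop.hom t) := congrArg ULift.up hst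
    have := hinjE (a₁ := ULift.up s) (a₂ := ULift.up t) h1
    exact congrArg ULift.down this
  rw [appTop_injective_iff] at hinj'
  have hrange : (hj.1.snd E.obj.hom).left ''ᵁ ⊤ ≤ V'.ι ⁻¹ᵁ ((hj.1.snd φ₀).left ''ᵁ ⊤) := by
    rintro v ⟨p, -, rfl⟩
    have h1 := (ofPt_mem_range_map_iff (hj.1.isPullback E.obj.hom)
      ((hj.1.snd E.obj.hom).left p)).2 ⟨p, rfl⟩
    have h3 : Points.ofPt E.obj.hom ((hj.1.snd E.obj.hom).left p) =
        Points.ofPt φ₀ (V'.ι ((hj.1.snd E.obj.hom).left p)) := ofPt_yon_map_comp ιV φ₀ _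
    rw [h3] at h1
    obtain ⟨q, hq⟩ := (ofPt_mem_range_map_iff (hj.1.isPullback φ₀) _).1 h1
    exact ⟨q, trivial, hq⟩
  rw [injective_iff_map_eq_zero]
  intro s hs
  have hle : V'.ι ''ᵁ ((hj.1.snd E.obj.hom).left ''ᵁ ⊤) ≤ V' ⊓ (hj.1.snd φ₀).left ''ᵁ ⊤ := by
    rintro _ ⟨v, hv, rfl⟩
    exact ⟨v.2, hrange hv⟩
  have hs' : (V'.toScheme.presheaf.map
      (homOfLE (le_top : (hj.1.snd E.obj.hom).left ''ᵁ ⊤ ≤ ⊤)).op).hom (V'.topIso.inv.hom s) = 0 := by
    show (V₀.left.presheaf.map _).hom ((V₀.left.presheaf.map _).hom s) = 0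
    rw [← CommRingCat.comp_apply, ← Functor.map_comp,
      presheaf_map_eq _ ((homOfLE (inf_le_left : V' ⊓ (hj.1.snd φ₀).left ''ᵁ ⊤ ≤ V')).op ≫
        (homOfLE hle).op), Functor.map_comp, CommRingCat.comp_apply]
    erw [hs]
    exact map_zero _
  have h0 : V'.topIso.inv.hom s = 0 := hinj' (hs'.trans (map_zero _).symm)
  have hb := (ConcreteCategory.bijective_of_isIso V'.topIso.inv).1
  exact hb (by rw [map_zero]; exact h0)

theorem isSchDense_iff_mono {U X : Sp S} (hX : IsAlgSpace X) (j : U ⟶ X)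
    (hj : RepWith @IsOpenImmersion j) : IsSchDense j ↔ Mono (bcRingHom hj.1) :=
  ⟨mono_of_isSchDense j hj, isSchDense_of_mono hX j hj⟩

end Groth.Agent.Lib.Helper78.StrongDenseMono
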