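import Groth.Agent.Lib.Helper78.StrongDenseGeom
import Groth.Agent.Lib.Helper78.LocPrincipalDesc

set_option autoImplicit false
set_option linter.style.haveILetI false
universe u
open CategoryTheory CategoryTheory.Limits AlgebraicGeometry Opposite TopologicalSpace
open AlgSp

namespace Groth.Agent.Lib.Helper78.StrongDenseSp

open Groth.Agent.Lib.Helper78.StrongDense Groth.Agent.Lib.Helper78.StrongDenseGeom
open Groth.Agent.Lib.Helper51 Groth.Agent.Lib.Helper52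

theorem dense_inf {T : Scheme.{u}} (W₁ W₂ : T.Opens) (h₁ : CInt.IsSchematicallyDense W₁)
    (h₂ : CInt.IsSchematicallyDense W₂) : CInt.IsSchematicallyDense (W₁ ⊓ W₂) := by
  intro V'
  rw [injective_iff_map_eq_zero]
  intro s hs
  apply h₁ V'
  rw [map_zero]
  apply h₂ (V' ⊓ W₁)
  rw [map_zero]
  have hle : V' ⊓ W₁ ⊓ W₂ ≤ V' ⊓ (W₁ ⊓ W₂) := le_of_eq (inf_assoc _ _ _)
  have := res_comp (inf_le_left : V' ⊓ (W₁ ⊓ W₂) ≤ V') hle s
  rw [res_comp]
  rw [← this]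
  erw [hs]
  exact map_zero _

variable {S : Scheme.{u}}

/-- **Schematic density on every étale chart** (scheme-level form of S9968). -/
theorem dense_every_chart {U X : Sp S} (j : U ⟶ X) (hj : IsSchDense j) {V : Over S}
    (φ : (yon S).obj V ⟶ X) (hφ : RepWith @Etale φ) (W : V.left.Opens)
    (fst : (yon S).obj (Over.mk (W.ι ≫ V.hom)) ⟶ U)
    (sq : IsPullback fst ((yon S).map (Over.homMk W.ι rfl : Over.mk (W.ι ≫ V.hom) ⟶ V)) j φ) :
    CInt.IsSchematicallyDense W := by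
  obtain ⟨hjr, V₀, φ₀, W₀, fst₀, hφ₀e, hφ₀s, sq₀, hW₀⟩ := hj
  obtain ⟨P, w1, w2, sqP⟩ := exists_isPullback_of_representable hφ₀e.1 φ
  haveI : Etale w2.left := hφ₀e.2 φ _ w2 sqP
  haveI : Surjective w2.left := hφ₀s.2 φ _ w2 sqP
  haveI : Etale w1.left := hφ.2 φ₀ _ w1 sqP.flip
  have hEq : w1.left ⁻¹ᵁ W₀ = w2.left ⁻¹ᵁ W := by
    ext w
    have h1 := ofPt_mem_range_map_iff sq₀ (w1.left w)
    have h2 := ofPt_mem_range_map_iff sq (w2.left w)
    have h3 : Points.ofPt φ₀ (w1.left w) = Points.ofPt φ (w2.left w) :=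
      ofPt_eq_ofPt_of_isPullback sqP w
    rw [h3] at h1
    have e1 : w1.left w ∈ Set.range (Over.homMk W₀.ι rfl : Over.mk (W₀.ι ≫ V₀.hom) ⟶ V₀).left ↔
        w1.left w ∈ W₀ := by
      show w1.left w ∈ Set.range W₀.ι ↔ _
      rw [Scheme.Opens.range_ι]; rfl
    have e2 : w2.left w ∈ Set.range (Over.homMk W.ι rfl : Over.mk (W.ι ≫ V.hom) ⟶ V).left ↔
        w2.left w ∈ W := by
      show w2.left w ∈ Set.range W.ι ↔ _
      rw [Scheme.Opens.range_ι]; rfl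
    show w1.left w ∈ W₀ ↔ w2.left w ∈ W
    rw [← e1, ← e2, ← h1, ← h2]
  apply dense_of_preimage w2.left W
  rw [← hEq]
  exact dense_preimage_of_etale w1.left W₀ hW₀

/-- the open of a chart cut out by a representable open immersion -/
theorem exists_opens_of_repWith' {X U : Sp S} (j : U ⟶ X) (hj : RepWith @IsOpenImmersion j)
    {V : Over S} (φ : (yon S).obj V ⟶ X) :
    ∃ (W : V.left.Opens) (fst : (yon S).obj (Over.mk (W.ι ≫ V.hom)) ⟶ U),
      IsPullback fst ((yon S).map (Over.homMk W.ι rfl : Over.mk (W.ι ≫ V.hom) ⟶ V)) j φ ∧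
      ∀ v, v ∈ W ↔ Points.ofPt φ v ∈ Set.range (Points.map j) := by
  have sqO := hj.1.isPullback φ
  haveI : IsOpenImmersion (hj.1.snd φ).left := hj.2 φ _ _ sqO
  have hW : ∀ v, v ∈ (hj.1.snd φ).left.opensRange ↔
      Points.ofPt φ v ∈ Set.range (Points.map j) := by
    intro v
    rw [ofPt_mem_range_map_iff sqO v]
    rfl
  obtain ⟨fst, sq⟩ := Groth.Agent.Lib.Helper78.LocPrincipalDesc.exists_opens_of_repWith j hj φ
    (hj.1.snd φ).left.opensRange hW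
  exact ⟨_, fst, sq, hW⟩

/-- **The intersection of two schematically dense open subspaces is schematically dense.** -/
theorem isSchDense_inter {U V X P : Sp S} (jU : U ⟶ X) (jV : V ⟶ X)
    (hU : IsSchDense jU) (hV : IsSchDense jV) (fst : P ⟶ U) (snd : P ⟶ V)
    (sq : IsPullback fst snd jU jV) : IsSchDense (fst ≫ jU) := by
  have hrep : RepWith @IsOpenImmersion (fst ≫ jU) :=
    MorphismProperty.comp_mem _ _ _ (MorphismProperty.of_isPullback sq.flip hV.1) hU.1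
  refine ⟨hrep, ?_⟩
  obtain ⟨hjU, V₀, φ₀, W₀, fst₀, hφ₀e, hφ₀s, sq₀, hW₀⟩ := hU
  obtain ⟨W₁, fst₁, sq₁, hW₁⟩ := exists_opens_of_repWith' jV hV.1 φ₀
  have hd₁ : CInt.IsSchematicallyDense W₁ := dense_every_chart jV hV φ₀ hφ₀e W₁ fst₁ sq₁
  have hW₀' : ∀ v, v ∈ W₀ ↔ Points.ofPt φ₀ v ∈ Set.range (Points.map jU) := by
    intro v
    rw [ofPt_mem_range_map_iff sq₀ v]
    show _ ↔ v ∈ Set.range W₀.ι
    rw [Scheme.Opens.range_ι]; rfl
  have hW : ∀ v, v ∈ W₀ ⊓ W₁ ↔ Points.ofPt φ₀ v ∈ Set.range (Points.map (fst ≫ jU)) := by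
    intro v
    constructor
    · rintro ⟨h0, h1⟩
      obtain ⟨u, hu⟩ := (hW₀' v).1 h0
      obtain ⟨v', hv'⟩ := (hW₁ v).1 h1
      obtain ⟨p, hp1, hp2⟩ := exists_point_of_isPullback sq u v' (hu.trans hv'.symm)
      exact ⟨p, by rw [Points.map_comp, hp1, hu]⟩
    · rintro ⟨p, hp⟩
      refine ⟨(hW₀' v).2 ⟨Points.map fst p, ?_⟩, (hW₁ v).2 ⟨Points.map snd p, ?_⟩⟩
      · rw [← Points.map_comp]; exact hp
      · rw [← Points.map_comp, ← sq.w]; exact hp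
  obtain ⟨fst', sq'⟩ := Groth.Agent.Lib.Helper78.LocPrincipalDesc.exists_opens_of_repWith
    (fst ≫ jU) hrep φ₀ (W₀ ⊓ W₁) hW
  exact ⟨V₀, φ₀, W₀ ⊓ W₁, fst', hφ₀e, hφ₀s, sq', dense_inf W₀ W₁ hW₀ hd₁⟩

end Groth.Agent.Lib.Helper78.StrongDenseSp
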