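import Groth.Agent.Lib.Helper78.UnivThickEt
import Groth.Agent.S10618
import Groth.Agent.S10620

set_option autoImplicit false
set_option linter.style.haveILetI false
universe u
open CategoryTheory CategoryTheory.Limits AlgebraicGeometry Opposite
open AlgSp

namespace Groth.Agent.Lib.Helper78.UnivThickCart

variable {S : Scheme.{u}}

open Groth.Agent.Lib.Helper78.AlgSpLiftGlue Groth.Agent.Lib.Helper78.AlgSpFOBaseChange
  Groth.Agent.Lib.Helper78.AlgSpInfSq in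
/-- An etale morphism of first order thickenings (etale on both levels) is cartesian. -/
theorem isPullback_of_etale {Z Z' V V' : Sp S} (hZ : IsAlgSpace Z) (hZ' : IsAlgSpace Z')
    (hV : IsAlgSpace V) (hV' : IsAlgSpace V') {iZ : Z ⟶ Z'} {iV : V ⟶ V'} (hiZ : IsFOThickMor iZ)
    (hiV : IsFOThickMor iV) {v : V ⟶ Z} {e' : V' ⟶ Z'} (hv : IsEtaleMor v) (he' : IsEtaleMor e')
    (w : iV ≫ e' = v ≫ iZ) : IsPullback v iV iZ e' := by
  have sqP := IsPullback.of_hasPullback iZ e'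
  have hP : IsAlgSpace (pullback iZ e') :=
    Groth.Agent.Lib.Helper78.AlgSpFibre.isAlgSpace_of_isPullback sqP hZ'.diag hZ hV'
  let c : V ⟶ pullback iZ e' := pullback.lift v iV w.symm
  have hc1 : c ≫ pullback.fst iZ e' = v := pullback.lift_fst _ _ _
  have hc2 : c ≫ pullback.snd iZ e' = iV := pullback.lift_snd _ _ _
  have hsndFO : IsFOThickMor (pullback.snd iZ e') := isFOThickMor_of_isPullback hZ' hiZ sqP
  haveI : Mono (pullback.snd iZ e') :=
    Groth.Agent.Lib.Helper78.AlgSpThick.mono_of_isThickMor hsndFO.1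
  have sqc : IsPullback (𝟙 V) c iV (pullback.snd iZ e') := by
    refine ⟨⟨by rw [Category.id_comp, hc2]⟩, ⟨PullbackCone.IsLimit.mk _ (fun s => s.fst)
      (fun s => Category.comp_id _) (fun s => ?_) (fun s m h1 _ => ?_)⟩⟩
    · rw [← cancel_mono (pullback.snd iZ e'), Category.assoc, hc2, s.condition]
    · rw [← h1, Category.comp_id]
  have hcFO : IsFOThickMor c := isFOThickMor_of_isPullback hV' hiV sqc
  have hFEe : IsFormallyEtaleMor e' :=
    Groth.Agent.Lib.Helper78.AlgSpFEtale.isFormallyEtaleMor_of_isEtaleMor hV' hZ' he'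
  have hFEv : IsFormallyEtaleMor v :=
    Groth.Agent.Lib.Helper78.AlgSpFEtale.isFormallyEtaleMor_of_isEtaleMor hV hZ hv
  have hFEfst : IsFormallyEtaleMor (pullback.fst iZ e') :=
    (Groth.Agent.S10620.result e' iZ (pullback.snd iZ e') (pullback.fst iZ e') sqP.flip).2.1 hFEe
  have hFEc : IsFormallyEtaleMor c := by
    refine (Groth.Agent.S10618.result c (pullback.fst iZ e')
      (isFormallyUnramifiedMor_of_isFormallyEtaleMor hFEfst)).2.1 ?_
    rw [hc1]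
    exact hFEv
  obtain ⟨L, ⟨hL1, hL2⟩, -⟩ := existsUnique_lift (f := c) (j := c) (a := 𝟙 V)
    (b := 𝟙 (pullback iZ e')) hP hcFO hFEc (by rw [Category.id_comp, Category.comp_id])
  exact IsPullback.of_iso_pullback ⟨w.symm⟩ ⟨c, L, hL1, hL2⟩ hc1 hc2


theorem hom_ext_of_isUnivFOThick {Z Z' X T T' : Sp S} {h : Z ⟶ X} {i : Z ⟶ Z'} {h' : Z' ⟶ X}
    (H : IsUnivFOThick h i h') (hT : IsAlgSpace T) (hT' : IsAlgSpace T') {j : T ⟶ T'}
    (hj : IsFOThickMor j) (f g : T' ⟶ Z') (a : T ⟶ Z) (h1 : j ≫ f = a ≫ i)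
    (h1' : j ≫ g = a ≫ i) (h2 : f ≫ h' = g ≫ h') : f = g := by
  have comm : j ≫ (f ≫ h') = a ≫ h := by
    rw [← Category.assoc, h1, Category.assoc, H.2.1]
  obtain ⟨_, _, hu⟩ := H.2.2 hT hT' j a (f ≫ h') hj comm
  exact (hu f ⟨h1, rfl⟩).trans (hu g ⟨h1', h2.symm⟩).symm

theorem exists_lift_of_isUnivFOThick {Z Z' X T T' : Sp S} {h : Z ⟶ X} {i : Z ⟶ Z'} {h' : Z' ⟶ X}
    (H : IsUnivFOThick h i h') (hT : IsAlgSpace T) (hT' : IsAlgSpace T') {j : T ⟶ T'}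
    (hj : IsFOThickMor j) (a : T ⟶ Z) (b : T' ⟶ X) (comm : j ≫ b = a ≫ h) :
    ∃ a' : T' ⟶ Z', j ≫ a' = a ≫ i ∧ a' ≫ h' = b :=
  (H.2.2 hT hT' j a b hj comm).exists

/-- The data of the construction of the universal first order thickening of an algebraic space:
a universal thickening `V ⊂ V'` of a chart, a universal thickening `R ⊂ R'` of the relation
`R = V ×_Z V`, and the induced maps `s', t' : R' ⟶ V'`. -/
structure Setup (X : Sp S) where
  V : Over S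
  V' : Over S
  R : Over S
  R' : Over S
  iV : V ⟶ V'
  iR : R ⟶ R'
  s : R ⟶ V
  t : R ⟶ V
  s' : R' ⟶ V'
  t' : R' ⟶ V'
  hV : (yon S).obj V' ⟶ X
  hR : (yon S).obj R' ⟶ X
  univV : IsUnivFOThick ((yon S).map iV ≫ hV) ((yon S).map iV) hV
  univR : IsUnivFOThick ((yon S).map iR ≫ hR) ((yon S).map iR) hR
  eqv : IsEtaleEqvRel s t
  ws : s ≫ iV = iR ≫ s'
  wt : t ≫ iV = iR ≫ t'
  hs : (yon S).map s' ≫ hV = hR
  ht : (yon S).map t' ≫ hV = hR

namespace Setup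

variable {X : Sp S} (D : Setup X)

theorem etale_s' : Etale D.s'.left :=
  Groth.Agent.Lib.Helper78.UnivThickEt.etale_of_isUnivFOThick D.iR D.iV D.hR D.hV D.univR D.univV
    D.s' D.s D.ws D.eqv.etale_left D.hs

theorem etale_t' : Etale D.t'.left :=
  Groth.Agent.Lib.Helper78.UnivThickEt.etale_of_isUnivFOThick D.iR D.iV D.hR D.hV D.univR D.univV
    D.t' D.t D.wt D.eqv.etale_right D.ht

theorem cart_s : IsPullback ((yon S).map D.s) ((yon S).map D.iR) ((yon S).map D.iV)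
    ((yon S).map D.s') :=
  isPullback_of_etale (IsAlgSpace.yon_obj _) (IsAlgSpace.yon_obj _) (IsAlgSpace.yon_obj _)
    (IsAlgSpace.yon_obj _) D.univV.1 D.univR.1 ((isEtaleMor_yon_map_iff _).2 D.eqv.etale_left)
    ((isEtaleMor_yon_map_iff _).2 D.etale_s')
    (by rw [← (yon S).map_comp, ← (yon S).map_comp, D.ws])

theorem cart_t : IsPullback ((yon S).map D.t) ((yon S).map D.iR) ((yon S).map D.iV)
    ((yon S).map D.t') :=
  isPullback_of_etale (IsAlgSpace.yon_obj _) (IsAlgSpace.yon_obj _) (IsAlgSpace.yon_obj _)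
    (IsAlgSpace.yon_obj _) D.univV.1 D.univR.1 ((isEtaleMor_yon_map_iff _).2 D.eqv.etale_right)
    ((isEtaleMor_yon_map_iff _).2 D.etale_t')
    (by rw [← (yon S).map_comp, ← (yon S).map_comp, D.wt])

instance : Mono ((yon S).map D.iV) :=
  Groth.Agent.Lib.Helper78.AlgSpThick.mono_of_isThickMor D.univV.1.1

instance : Mono ((yon S).map D.iR) :=
  Groth.Agent.Lib.Helper78.AlgSpThick.mono_of_isThickMor D.univR.1.1

open Groth.Agent.Lib.Helper78.AlgSpFOBaseChange in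
theorem injective (T : Over S) (r r' : T ⟶ D.R') (h1 : r ≫ D.t' = r' ≫ D.t')
    (h2 : r ≫ D.s' = r' ≫ D.s') : r = r' := by
  obtain ⟨T₀, fst, k, sqT⟩ : ∃ (T₀ : Over S) (fst : (yon S).obj T₀ ⟶ (yon S).obj D.V)
      (k : T₀ ⟶ T), IsPullback fst ((yon S).map k) ((yon S).map D.iV)
        ((yon S).map (r ≫ D.t')) := ⟨_, _, _, D.univV.1.1.1.isPullback _⟩
  have hk : IsFOThickMor ((yon S).map k) :=
    isFOThickMor_of_isPullback (IsAlgSpace.yon_obj _) D.univV.1 sqT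
  have c1 : fst ≫ (yon S).map D.iV = ((yon S).map k ≫ (yon S).map r) ≫ (yon S).map D.t' := by
    rw [sqT.w, Category.assoc, ← (yon S).map_comp r]
  have c2 : fst ≫ (yon S).map D.iV = ((yon S).map k ≫ (yon S).map r') ≫ (yon S).map D.t' := by
    rw [sqT.w, Category.assoc, ← (yon S).map_comp r', h1]
  obtain ⟨ρ, hρ⟩ := (yon S).map_surjective (D.cart_t.lift _ _ c1)
  obtain ⟨ρ', hρ'⟩ := (yon S).map_surjective (D.cart_t.lift _ _ c2)
  have hρ1 : (yon S).map ρ ≫ (yon S).map D.t = fst := by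
    rw [hρ, D.cart_t.lift_fst]
  have hρ2 : (yon S).map ρ ≫ (yon S).map D.iR = (yon S).map k ≫ (yon S).map r := by
    rw [hρ, D.cart_t.lift_snd]
  have hρ'1 : (yon S).map ρ' ≫ (yon S).map D.t = fst := by
    rw [hρ', D.cart_t.lift_fst]
  have hρ'2 : (yon S).map ρ' ≫ (yon S).map D.iR = (yon S).map k ≫ (yon S).map r' := by
    rw [hρ', D.cart_t.lift_snd]
  have hρρ' : ρ = ρ' := by
    refine D.eqv.injective _ ρ ρ' ?_ ?_
    · apply (yon S).map_injective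
      rw [(yon S).map_comp, (yon S).map_comp, hρ1, hρ'1]
    · apply (yon S).map_injective
      rw [← cancel_mono ((yon S).map D.iV), ← (yon S).map_comp, ← (yon S).map_comp,
        Category.assoc, Category.assoc, D.ws, (yon S).map_comp, (yon S).map_comp,
        (yon S).map_comp, (yon S).map_comp, ← Category.assoc, ← Category.assoc, hρ2, hρ'2,
        Category.assoc, Category.assoc, ← (yon S).map_comp r, ← (yon S).map_comp r', h2]
  apply (yon S).map_injective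
  refine hom_ext_of_isUnivFOThick D.univR (IsAlgSpace.yon_obj _) (IsAlgSpace.yon_obj _) hk _ _
    ((yon S).map ρ) hρ2.symm ?_ ?_
  · rw [hρρ', hρ'2]
  · rw [← D.ht, ← Category.assoc, ← Category.assoc, ← (yon S).map_comp, ← (yon S).map_comp, h1]


theorem hom_ext_V' {T₀ T : Over S} (k : T₀ ⟶ T) (hk : IsFOThickMor ((yon S).map k))
    (f g : T ⟶ D.V') (a : T₀ ⟶ D.V) (h1 : k ≫ f = a ≫ D.iV) (h1' : k ≫ g = a ≫ D.iV)
    (h2 : (yon S).map f ≫ D.hV = (yon S).map g ≫ D.hV) : f = g := by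
  apply (yon S).map_injective
  refine hom_ext_of_isUnivFOThick D.univV (IsAlgSpace.yon_obj _) (IsAlgSpace.yon_obj _) hk _ _
    ((yon S).map a) ?_ ?_ h2
  · rw [← (yon S).map_comp, ← (yon S).map_comp, h1]
  · rw [← (yon S).map_comp, ← (yon S).map_comp, h1']

theorem exists_lift_R' {T₀ T : Over S} (k : T₀ ⟶ T) (hk : IsFOThickMor ((yon S).map k))
    (a : T₀ ⟶ D.R) (b : (yon S).obj T ⟶ X)
    (comm : (yon S).map k ≫ b = (yon S).map (a ≫ D.iR) ≫ D.hR) :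
    ∃ a' : T ⟶ D.R', k ≫ a' = a ≫ D.iR ∧ (yon S).map a' ≫ D.hR = b := by
  obtain ⟨a'', h1, h2⟩ := exists_lift_of_isUnivFOThick D.univR (IsAlgSpace.yon_obj _)
    (IsAlgSpace.yon_obj _) hk ((yon S).map a) b (by rw [comm, (yon S).map_comp, Category.assoc])
  obtain ⟨a', rfl⟩ := (yon S).map_surjective a''
  refine ⟨a', ?_, h2⟩
  apply (yon S).map_injective
  rw [(yon S).map_comp, h1, (yon S).map_comp]

theorem hR_s {T : Over S} (f : T ⟶ D.R') :
    (yon S).map (f ≫ D.s') ≫ D.hV = (yon S).map f ≫ D.hR := by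
  rw [(yon S).map_comp, Category.assoc, D.hs]

theorem hR_t {T : Over S} (f : T ⟶ D.R') :
    (yon S).map (f ≫ D.t') ≫ D.hV = (yon S).map f ≫ D.hR := by
  rw [(yon S).map_comp, Category.assoc, D.ht]

theorem refl' : ∃ e' : D.V' ⟶ D.R', e' ≫ D.t' = 𝟙 _ ∧ e' ≫ D.s' = 𝟙 _ := by
  obtain ⟨e, he1, he2⟩ := (D.eqv.equivalence D.V).refl (𝟙 D.V)
  have he3 : (e ≫ D.iR) ≫ D.s' = D.iV := by
    rw [Category.assoc, ← D.ws, ← Category.assoc, he2, Category.id_comp]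
  obtain ⟨e', h1, h2⟩ := D.exists_lift_R' D.iV D.univV.1 e D.hV (by
    rw [← D.hR_s (e ≫ D.iR), he3])
  refine ⟨e', ?_, ?_⟩
  · refine D.hom_ext_V' D.iV D.univV.1 _ _ (𝟙 _) ?_ (by simp) ?_
    · rw [← Category.assoc, h1, Category.assoc, ← D.wt, ← Category.assoc, he1]
    · rw [D.hR_t, h2, (yon S).map_id, Category.id_comp]
  · refine D.hom_ext_V' D.iV D.univV.1 _ _ (𝟙 _) ?_ (by simp) ?_
    · rw [← Category.assoc, h1, Category.assoc, ← D.ws, ← Category.assoc, he2]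
    · rw [D.hR_s, h2, (yon S).map_id, Category.id_comp]

theorem symm' : ∃ σ' : D.R' ⟶ D.R', σ' ≫ D.t' = D.s' ∧ σ' ≫ D.s' = D.t' := by
  obtain ⟨σ, hσ1, hσ2⟩ := (D.eqv.equivalence D.R).symm
    (⟨𝟙 D.R, Category.id_comp _, Category.id_comp _⟩ :
      ∃ r : D.R ⟶ D.R, r ≫ D.t = D.t ∧ r ≫ D.s = D.s)
  have hσ3 : (σ ≫ D.iR) ≫ D.t' = D.iR ≫ D.s' := by
    rw [Category.assoc, ← D.wt, ← Category.assoc, hσ1, D.ws]
  obtain ⟨σ', h1, h2⟩ := D.exists_lift_R' D.iR D.univR.1 σ D.hR (by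
    rw [← D.hR_t (σ ≫ D.iR), hσ3, D.hR_s])
  refine ⟨σ', ?_, ?_⟩
  · refine D.hom_ext_V' D.iR D.univR.1 _ _ D.s ?_ D.ws.symm ?_
    · rw [← Category.assoc, h1, Category.assoc, ← D.wt, ← Category.assoc, hσ1]
    · rw [D.hR_t, h2, D.hs]
  · refine D.hom_ext_V' D.iR D.univR.1 _ _ D.t ?_ D.wt.symm ?_
    · rw [← Category.assoc, h1, Category.assoc, ← D.ws, ← Category.assoc, hσ2]
    · rw [D.hR_s, h2, D.ht]


open Groth.Agent.Lib.Helper78.UnivThickEt in
theorem trans' : ∃ (P' : Over S) (p₁' p₂' m' : P' ⟶ D.R'), IsPullback p₁' p₂' D.s' D.t' ∧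
    m' ≫ D.t' = p₁' ≫ D.t' ∧ m' ≫ D.s' = p₂' ≫ D.s' := by
  obtain ⟨P', p₁', p₂', sqP', sqP'l⟩ := Groth.Agent.Lib.Helper30.isPullback_over' D.s' D.t'
  obtain ⟨P, p₁, p₂, sqP, -⟩ := Groth.Agent.Lib.Helper30.isPullback_over' D.s D.t
  have hcomm : (p₁ ≫ D.iR) ≫ D.s' = (p₂ ≫ D.iR) ≫ D.t' := by
    rw [Category.assoc, Category.assoc, ← D.ws, ← D.wt, ← Category.assoc, ← Category.assoc,
      sqP.w]
  have hiP1 : sqP'.lift _ _ hcomm ≫ p₁' = p₁ ≫ D.iR := sqP'.lift_fst _ _ _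
  have hiP2 : sqP'.lift _ _ hcomm ≫ p₂' = p₂ ≫ D.iR := sqP'.lift_snd _ _ _
  generalize sqP'.lift _ _ hcomm = iP at hiP1 hiP2
  obtain ⟨m, hm1, hm2⟩ := (D.eqv.equivalence P).trans
    (⟨p₁, rfl, rfl⟩ : ∃ r : P ⟶ D.R, r ≫ D.t = p₁ ≫ D.t ∧ r ≫ D.s = p₁ ≫ D.s)
    (⟨p₂, sqP.w.symm, rfl⟩ : ∃ r : P ⟶ D.R, r ≫ D.t = p₁ ≫ D.s ∧ r ≫ D.s = p₂ ≫ D.s)
  -- the cartesian square
  have outer := ((sqP.map (yon S)).flip).paste_horiz D.cart_t.flip
  have e1 : (yon S).map p₂ ≫ (yon S).map D.iR = (yon S).map iP ≫ (yon S).map p₂' := by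
    rw [← (yon S).map_comp, ← (yon S).map_comp, hiP2]
  have e2 : (yon S).map D.s ≫ (yon S).map D.iV = (yon S).map D.iR ≫ (yon S).map D.s' := by
    rw [← (yon S).map_comp, ← (yon S).map_comp, D.ws]
  rw [e1, e2] at outer
  have sqL : IsPullback ((yon S).map iP) ((yon S).map p₁) ((yon S).map p₁')
      ((yon S).map D.iR) := IsPullback.of_right outer
    (by rw [← (yon S).map_comp, ← (yon S).map_comp, hiP1]) ((sqP'.map (yon S)).flip)
  have hp₁' : Etale p₁'.left := MorphismProperty.of_isPullback (P := @Etale) sqP'l.flip D.etale_t'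
  have HP := isUnivFOThick_of_etale_pullback (IsAlgSpace.yon_obj P') (IsAlgSpace.yon_obj D.R')
    ((yon S).map p₁) ((yon S).map D.iR ≫ D.hR) ((yon S).map D.iR) D.hR D.univR ((yon S).map iP)
    ((yon S).map p₁') ((isEtaleMor_yon_map_iff _).2 hp₁') sqL.flip
  have hm3 : (m ≫ D.iR) ≫ D.t' = (p₁ ≫ D.iR) ≫ D.t' := by
    rw [Category.assoc, Category.assoc, ← D.wt, ← Category.assoc, ← Category.assoc, hm1]
  obtain ⟨m', h1, h2⟩ := D.exists_lift_R' iP HP.1 m ((yon S).map p₁' ≫ D.hR) (by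
    rw [← D.hR_t (m ≫ D.iR), hm3, D.hR_t, ← Category.assoc, ← (yon S).map_comp, hiP1])
  refine ⟨P', p₁', p₂', m', sqP', ?_, ?_⟩
  · refine D.hom_ext_V' iP HP.1 _ _ (p₁ ≫ D.t) ?_ ?_ ?_
    · rw [← Category.assoc, h1, hm3, Category.assoc, Category.assoc, D.wt]
    · rw [← Category.assoc, hiP1, Category.assoc, Category.assoc, D.wt]
    · rw [D.hR_t, h2, D.hR_t]
  · refine D.hom_ext_V' iP HP.1 _ _ (p₂ ≫ D.s) ?_ ?_ ?_
    · rw [← Category.assoc, h1, Category.assoc, ← D.ws, ← Category.assoc, hm2, Category.assoc]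
    · rw [← Category.assoc, hiP2, Category.assoc, Category.assoc, D.ws]
    · rw [D.hR_s, h2, D.hR_s, ← D.hR_s p₁', sqP'.w, D.hR_t]

theorem isEtaleEqvRel : IsEtaleEqvRel D.s' D.t' where
  injective := D.injective
  equivalence T := by
    refine ⟨fun a => ?_, fun {a b} hab => ?_, fun {a b c} hab hbc => ?_⟩
    · obtain ⟨e', h1, h2⟩ := D.refl'
      exact ⟨a ≫ e', by rw [Category.assoc, h1, Category.comp_id],
        by rw [Category.assoc, h2, Category.comp_id]⟩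
    · obtain ⟨σ', h1, h2⟩ := D.symm'
      obtain ⟨r, hr1, hr2⟩ := hab
      exact ⟨r ≫ σ', by rw [Category.assoc, h1, hr2], by rw [Category.assoc, h2, hr1]⟩
    · obtain ⟨P', p₁', p₂', m', sqP', h1, h2⟩ := D.trans'
      obtain ⟨r₁, hr1, hr2⟩ := hab
      obtain ⟨r₂, hr3, hr4⟩ := hbc
      refine ⟨sqP'.lift r₁ r₂ (by rw [hr2, hr3]) ≫ m', ?_, ?_⟩
      · rw [Category.assoc, h1, ← Category.assoc, sqP'.lift_fst, hr1]
      · rw [Category.assoc, h2, ← Category.assoc, sqP'.lift_snd, hr4]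
  etale_left := D.etale_s'
  etale_right := D.etale_t'

end Setup

end Groth.Agent.Lib.Helper78.UnivThickCart
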