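import Groth.Agent.Lib.Helper78.AlgSpUnivDesc
import Groth.Agent.Lib.Helper78.AlgSpFOBaseChange
import Groth.Agent.Lib.Helper51.AlgSpEtaleMor
import Groth.Agent.S10632

set_option autoImplicit false
set_option linter.style.haveILetI false
universe u
open CategoryTheory CategoryTheory.Limits AlgebraicGeometry Opposite
open AlgSp

namespace Groth.Agent.Lib.Helper78.UnivThickEt

variable {S : Scheme.{u}}

/-- Uniqueness of universal first order thickenings (of algebraic spaces). -/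
theorem exists_iso_of_isUnivFOThick {Y Y₁ Y₂ X : Sp S} (hY : IsAlgSpace Y) (hY₁ : IsAlgSpace Y₁)
    (hY₂ : IsAlgSpace Y₂) {h : Y ⟶ X} {i₁ : Y ⟶ Y₁} {h₁ : Y₁ ⟶ X} {i₂ : Y ⟶ Y₂} {h₂ : Y₂ ⟶ X}
    (H₁ : IsUnivFOThick h i₁ h₁) (H₂ : IsUnivFOThick h i₂ h₂) :
    ∃ θ : Y₁ ≅ Y₂, i₁ ≫ θ.hom = i₂ ∧ θ.hom ≫ h₂ = h₁ := by
  obtain ⟨a, ⟨ha1, ha2⟩, _⟩ := H₂.2.2 hY hY₁ i₁ (𝟙 Y) h₁ H₁.1 (by rw [H₁.2.1, Category.id_comp])
  obtain ⟨b, ⟨hb1, hb2⟩, _⟩ := H₁.2.2 hY hY₂ i₂ (𝟙 Y) h₂ H₂.1 (by rw [H₂.2.1, Category.id_comp])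
  obtain ⟨c, _, hcu⟩ := H₁.2.2 hY hY₁ i₁ (𝟙 Y) h₁ H₁.1 (by rw [H₁.2.1, Category.id_comp])
  obtain ⟨d, _, hdu⟩ := H₂.2.2 hY hY₂ i₂ (𝟙 Y) h₂ H₂.1 (by rw [H₂.2.1, Category.id_comp])
  rw [Category.id_comp] at ha1 hb1
  refine ⟨⟨a, b, ?_, ?_⟩, ha1, ha2⟩
  · rw [hcu (a ≫ b) ⟨by rw [← Category.assoc, ha1, hb1, Category.id_comp],
      by rw [Category.assoc, hb2, ha2]⟩, hcu (𝟙 _) ⟨by simp, by simp⟩]
  · rw [hdu (b ≫ a) ⟨by rw [← Category.assoc, hb1, ha1, Category.id_comp],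
      by rw [Category.assoc, ha2, hb2]⟩, hdu (𝟙 _) ⟨by simp, by simp⟩]


open Groth.Agent.Lib.Helper78.AlgSpZar in
/-- **Local lifting of etale schemes along a square-zero closed immersion over `S`** (target not
necessarily affine). -/
theorem exists_etale_lift_over' {W₀ W : Over S} (k : W₀ ⟶ W)
    [IsClosedImmersion k.left] (hsq : k.left.ker * k.left.ker = ⊥)
    {E : Over S} (s : E ⟶ W₀) (hs : Etale s.left) (e : E.left) :
    ∃ (W' Wₑ : Over S) (π : W' ⟶ W) (ι : Wₑ ⟶ E) (κ : Wₑ ⟶ W'),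
      Etale π.left ∧ IsOpenImmersion ι.left ∧ e ∈ Set.range ι.left ∧
      IsPullback κ (ι ≫ s) π k := by
  obtain ⟨_, ⟨Wa₀, haff, rfl⟩, hx, -⟩ :=
    W.left.isBasis_affineOpens.exists_subset_of_mem_open
      (Set.mem_univ (k.left (s.left e))) isOpen_univ
  let Wa : W.left.Opens := Wa₀
  -- restrictions
  let W₀a : W₀.left.Opens := k.left ⁻¹ᵁ Wa
  let Ea : E.left.Opens := s.left ⁻¹ᵁ W₀a
  let Wo : Over S := Over.mk (Wa.ι ≫ W.hom)
  let W₀o : Over S := Over.mk (W₀a.ι ≫ W₀.hom)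
  let Eo : Over S := Over.mk (Ea.ι ≫ E.hom)
  have hk1 : (k.left ∣_ Wa) ≫ Wa.ι ≫ W.hom = W₀a.ι ≫ W₀.hom := by
    rw [← Category.assoc, morphismRestrict_ι, Category.assoc, Over.w k]
  let ka : W₀o ⟶ Wo := Over.homMk (k.left ∣_ Wa) hk1
  have hs1 : (s.left ∣_ W₀a) ≫ W₀a.ι ≫ W₀.hom = Ea.ι ≫ E.hom := by
    rw [← Category.assoc, morphismRestrict_ι, Category.assoc, Over.w s]
  let sa : Eo ⟶ W₀o := Over.homMk (s.left ∣_ W₀a) hs1
  haveI : IsAffine Wo.left := haff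
  haveI : IsClosedImmersion ka.left := inferInstanceAs (IsClosedImmersion (k.left ∣_ Wa))
  have hsqa : ka.left.ker * ka.left.ker = ⊥ :=
    Groth.Agent.Lib.Helper61.ThickBC.ker_mul_ker_eq_bot_of_isPullback
      (isPullback_morphismRestrict k.left Wa) hsq
  have hsa : Etale sa.left := by
    haveI := hs
    exact inferInstanceAs (Etale (s.left ∣_ W₀a))
  have heE : e ∈ Ea := hx
  obtain ⟨W', Wₑ, π, ι, κ, -, hπ, hι, he, sq⟩ :=
    Groth.Agent.Lib.Helper78.EtLiftOver.exists_etale_lift_over ka hsqa sa hsa (⟨e, heE⟩ : Ea)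
  have sq2 : IsPullback ka (opensι W₀ W₀a) (opensι W Wa) k :=
    IsPullback.of_map_of_faithful (Over.forget S) (isPullback_morphismRestrict k.left Wa)
  have sq3 := sq.paste_vert sq2
  have hcomm : (ι ≫ sa) ≫ opensι W₀ W₀a = (ι ≫ opensι E Ea) ≫ s := by
    rw [Category.assoc, Category.assoc]
    congr 1
    ext
    exact morphismRestrict_ι s.left W₀a
  rw [hcomm] at sq3
  refine ⟨W', Wₑ, π ≫ opensι W Wa, ι ≫ opensι E Ea, κ, ?_, ?_, ?_, sq3⟩
  · haveI := hπ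
    exact inferInstanceAs (Etale (π.left ≫ Wa.ι))
  · haveI := hι
    exact inferInstanceAs (IsOpenImmersion (ι.left ≫ Ea.ι))
  · obtain ⟨y, hy⟩ := he
    refine ⟨y, ?_⟩
    change Ea.ι (ι.left y) = e
    rw [hy]
    rfl


open Groth.Agent.Lib.Helper78.AlgSpZar in
/-- An open subscheme of `U₀` lifts along a thickening `U₀ ⟶ U` to an open subscheme of `U`. -/
theorem exists_open_lift {U₀ U : Over S} (k : U₀ ⟶ U) [IsClosedImmersion k.left]
    [Surjective k.left] {A : Over S} (ι : A ⟶ U₀) [IsOpenImmersion ι.left] :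
    ∃ (UA : Over S) (ρ : UA ⟶ U) (κ : A ⟶ UA), IsOpenImmersion ρ.left ∧ IsPullback κ ι ρ k := by
  have hopen : IsOpen (k.left '' Set.range ι.left) :=
    Groth.Agent.Lib.Helper78.AlgSpFEtale.isOpenMap_of_thick k.left _ ι.left.isOpenEmbedding.isOpen_range
  let O : U.left.Opens := ⟨k.left '' Set.range ι.left, hopen⟩
  have hpre : Set.range ι.left = Set.range (k.left ⁻¹ᵁ O).ι := by
    rw [Scheme.Opens.range_ι]
    ext x
    constructor
    · intro hx
      exact ⟨x, hx, rfl⟩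
    · rintro ⟨y, hy, hxy⟩
      have : y = x := k.left.isClosedEmbedding.injective hxy
      rwa [← this]
  let e : A.left ≅ (k.left ⁻¹ᵁ O : Scheme) := IsOpenImmersion.isoOfRangeEq ι.left (k.left ⁻¹ᵁ O).ι hpre
  have he : e.hom ≫ (k.left ⁻¹ᵁ O).ι = ι.left := IsOpenImmersion.isoOfRangeEq_hom_fac _ _ _
  have sqA : IsPullback e.hom ι.left (k.left ⁻¹ᵁ O).ι (𝟙 U₀.left) :=
    IsPullback.of_horiz_isIso ⟨by rw [he, Category.comp_id]⟩
  have sqB := sqA.paste_horiz (isPullback_morphismRestrict k.left O)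
  rw [Category.id_comp] at sqB
  have hκ : (e.hom ≫ (k.left ∣_ O)) ≫ O.ι ≫ U.hom = A.hom := by
    rw [← Category.assoc, sqB.w, Category.assoc, Over.w k, Over.w ι]
  let κ : A ⟶ Over.mk (O.ι ≫ U.hom) := Over.homMk (e.hom ≫ (k.left ∣_ O)) hκ
  refine ⟨Over.mk (O.ι ≫ U.hom), opensι U O, κ, inferInstanceAs (IsOpenImmersion O.ι), ?_⟩
  exact IsPullback.of_map_of_faithful (Over.forget S) sqB


open Groth.Agent.Lib.Helper78.AlgSpLiftGlue in
/-- Sheaf-level form of S10632: an etale pullback of a universal first order thickening is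
universal. -/
theorem isUnivFOThick_of_etale_pullback {Z Y Y' Z' X : Sp S} (hZ' : IsAlgSpace Z')
    (hY' : IsAlgSpace Y') (e : Z ⟶ Y) (hY : Y ⟶ X) (iY : Y ⟶ Y') (hY'm : Y' ⟶ X)
    (HU : IsUnivFOThick hY iY hY'm) (iZ : Z ⟶ Z') (e' : Z' ⟶ Y') (he' : IsEtaleMor e')
    (sq : IsPullback e iZ iY e') : IsUnivFOThick (e ≫ hY) iZ (e' ≫ hY'm) := by
  have hFE := Groth.Agent.Lib.Helper78.AlgSpFEtale.isFormallyEtaleMor_of_isEtaleMor hZ' hY' he'
  have hw : e ≫ iY = iZ ≫ e' := sq.w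
  refine ⟨⟨MorphismProperty.of_isPullback (P := AlgSp.IsThickMor) sq HU.1.1, ?_⟩, ?_, ?_⟩
  · intro V W b fst snd hV hb sqb
    exact HU.1.2 (b ≫ e') (fst ≫ e) snd hV (he' b hb) (sqb.paste_horiz sq)
  · rw [← Category.assoc, ← hw, Category.assoc, HU.2.1]
  · intro T T' hT hT' j a b hj comm
    have comm1 : j ≫ b = (a ≫ e) ≫ hY := by rw [comm, Category.assoc]
    obtain ⟨aY, ⟨haY1, haY2⟩, haYu⟩ := HU.2.2 hT hT' j (a ≫ e) b hj comm1
    have comm2 : (a ≫ iZ) ≫ e' = j ≫ aY := by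
      rw [haY1, Category.assoc, Category.assoc, hw]
    obtain ⟨L, ⟨hL1, hL2⟩, hLu⟩ := existsUnique_lift hT' hj hFE comm2
    refine ⟨L, ⟨hL1, ?_⟩, fun L' hL' => hLu L' ⟨hL'.1, ?_⟩⟩
    · rw [← Category.assoc, hL2, haY2]
    · refine haYu (L' ≫ e') ⟨?_, ?_⟩
      · rw [← Category.assoc, hL'.1, Category.assoc, Category.assoc, hw]
      · rw [Category.assoc]; exact hL'.2

open Groth.Agent.Lib.Helper78.AlgSpFOBaseChange in
/-- **Etale localization of universal first order thickenings, chart form.** -/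
theorem etale_of_isUnivFOThick {X : Sp S} {U₀ U W₀ W : Over S} (kU : U₀ ⟶ U) (kW : W₀ ⟶ W)
    (hU : (yon S).obj U ⟶ X) (hW : (yon S).obj W ⟶ X)
    (HU : IsUnivFOThick ((yon S).map kU ≫ hU) ((yon S).map kU) hU)
    (HW : IsUnivFOThick ((yon S).map kW ≫ hW) ((yon S).map kW) hW)
    (g : U ⟶ W) (g₀ : U₀ ⟶ W₀) (comm : g₀ ≫ kW = kU ≫ g) (hg₀ : Etale g₀.left)
    (hgX : (yon S).map g ≫ hW = hU) : Etale g.left := by
  have hkU := (isThickMor_yon_map_iff kU).1 HU.1.1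
  have hkW := (isThickMor_yon_map_iff kW).1 HW.1.1
  haveI : IsClosedImmersion kU.left := hkU.1
  haveI : Surjective kU.left := hkU.2
  haveI : IsClosedImmersion kW.left := hkW.1
  have hsqW : kW.left.ker * kW.left.ker = ⊥ :=
    ker_mul_ker_eq_bot_of_isFOThickMor (IsAlgSpace.yon_obj W) HW.1 (𝟙 _) (𝟙 _) kW
      (IsPullback.id_horiz _)
  have key : ∀ u : U.left, ∃ (UA : Over S) (ρ : UA ⟶ U), IsOpenImmersion ρ.left ∧
      u ∈ Set.range ρ.left ∧ Etale (ρ.left ≫ g.left) := by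
    intro u
    obtain ⟨u₀, rfl⟩ := kU.left.surjective u
    obtain ⟨A', A, π, ι, κ, hπ, hι, hu₀, sq1⟩ := exists_etale_lift_over' kW hsqW g₀ hg₀ u₀
    haveI := hι
    obtain ⟨UA, ρ, κ₂, hρ, sq2⟩ := exists_open_lift kU ι
    have hπe : IsEtaleMor ((yon S).map π) := (isEtaleMor_yon_map_iff π).2 hπ
    have hρe : IsEtaleMor ((yon S).map ρ) :=
      (isEtaleMor_yon_map_iff ρ).2 (haveI := hρ; inferInstance)
    have H1 := isUnivFOThick_of_etale_pullback (IsAlgSpace.yon_obj A') (IsAlgSpace.yon_obj W)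
      ((yon S).map (ι ≫ g₀)) ((yon S).map kW ≫ hW) ((yon S).map kW) hW HW ((yon S).map κ)
      ((yon S).map π) hπe (sq1.flip.map (yon S))
    have H2 := isUnivFOThick_of_etale_pullback (IsAlgSpace.yon_obj UA) (IsAlgSpace.yon_obj U)
      ((yon S).map ι) ((yon S).map kU ≫ hU) ((yon S).map kU) hU HU ((yon S).map κ₂)
      ((yon S).map ρ) hρe (sq2.flip.map (yon S))
    have hbase : (yon S).map (ι ≫ g₀) ≫ (yon S).map kW ≫ hW =
        (yon S).map ι ≫ (yon S).map kU ≫ hU := by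
      rw [← hgX, ← Category.assoc, ← (yon S).map_comp, Category.assoc, comm]
      simp only [Functor.map_comp, Category.assoc]
    rw [hbase] at H1
    obtain ⟨θ, hθ1, hθ2⟩ := exists_iso_of_isUnivFOThick (IsAlgSpace.yon_obj A)
      (IsAlgSpace.yon_obj UA) (IsAlgSpace.yon_obj A') H2 H1
    have hcomm : (yon S).map κ₂ ≫ (yon S).map ρ ≫ hU =
        (yon S).map (ι ≫ g₀) ≫ (yon S).map kW ≫ hW := by
      rw [hbase, ← Category.assoc, ← (yon S).map_comp, sq2.w, (yon S).map_comp, Category.assoc]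
    obtain ⟨_, _, huniq⟩ := HW.2.2 (IsAlgSpace.yon_obj A) (IsAlgSpace.yon_obj UA)
      ((yon S).map κ₂) ((yon S).map (ι ≫ g₀)) ((yon S).map ρ ≫ hU) H2.1 hcomm
    have e1 := huniq ((yon S).map (ρ ≫ g)) ⟨by
      rw [← (yon S).map_comp, ← (yon S).map_comp, ← Category.assoc, sq2.w, Category.assoc,
        ← comm, Category.assoc], by
      rw [(yon S).map_comp, Category.assoc, hgX]⟩
    have e2 := huniq (θ.hom ≫ (yon S).map π) ⟨by
      rw [← Category.assoc, hθ1, ← (yon S).map_comp, ← (yon S).map_comp, sq1.w], by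
      rw [Category.assoc, hθ2]⟩
    let θ₀ : UA ≅ A' := (yon S).preimageIso θ
    have hθ₀ : ρ ≫ g = θ₀.hom ≫ π := by
      apply (yon S).map_injective
      rw [e1, ← e2, (yon S).map_comp]
      congr 1
      exact ((yon S).map_preimage θ.hom).symm
    refine ⟨UA, ρ, hρ, ?_, ?_⟩
    · obtain ⟨a, rfl⟩ := hu₀
      refine ⟨κ₂.left a, ?_⟩
      have := congrArg (fun f => f.left) sq2.w
      simp only [Over.comp_left] at this
      rw [← Scheme.Hom.comp_apply, this, Scheme.Hom.comp_apply]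
    · have h1 : ρ.left ≫ g.left = θ₀.hom.left ≫ π.left := by
        rw [← Over.comp_left, hθ₀, Over.comp_left]
      rw [h1]
      haveI : IsIso θ₀.hom.left := inferInstanceAs (IsIso ((Over.forget S).map θ₀.hom))
      haveI := hπ
      infer_instance
  choose UA ρ hρ hu hE using key
  refine IsZariskiLocalAtSource.of_iSup_eq_top (P := @Etale)
    (fun u : U.left => (ρ u).left.opensRange) ?_ (fun u => ?_)
  · rw [eq_top_iff]
    intro x _
    exact TopologicalSpace.Opens.mem_iSup.2 ⟨x, hu x⟩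
  · haveI := hρ u
    rw [← IsOpenImmersion.isoOfRangeEq_inv_fac (ρ u).left (Scheme.Opens.ι _)
      (congr_arg TopologicalSpace.Opens.carrier (ρ u).left.opensRange.opensRange_ι.symm), Category.assoc]
    haveI := hE u
    infer_instance

end Groth.Agent.Lib.Helper78.UnivThickEt
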