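import Groth.Agent.Lib.Helper78.UnivThickCart
import Groth.Agent.Lib.Helper30.AlgSpQuotEff2
import Groth.Agent.Lib.Helper30.AlgSpImmDesc
import Groth.Agent.S9872

set_option autoImplicit false
set_option linter.style.haveILetI false
universe u
open CategoryTheory CategoryTheory.Limits AlgebraicGeometry Opposite
open AlgSp

namespace Groth.Agent.Lib.Helper78.UnivThickQuot

variable {S : Scheme.{u}}

/-- A morphism of sheaves through which every section of the target lifts locally is an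
epimorphism. -/
theorem epi_of_forall_exists_cover {A G : Sp S} (p : A ⟶ G)
    (H : ∀ ⦃T : Over S⦄ (x : (yon S).obj T ⟶ G), ∃ R ∈ J S T, ∀ ⦃T' : Over S⦄ (f : T' ⟶ T),
      R f → ∃ b : (yon S).obj T' ⟶ A, b ≫ p = (yon S).map f ≫ x) : Epi p := by
  refine (Sheaf.isLocallySurjective_iff_epi p).1 ⟨fun {U} s => ?_⟩
  obtain ⟨R, hR, hl⟩ := H ((J S).uliftYonedaEquiv.symm s)
  refine (J S).superset_covering ?_ hR
  intro T' f hf
  obtain ⟨b, hb⟩ := hl f hf
  refine ⟨(J S).uliftYonedaEquiv b, ?_⟩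
  rw [GrothendieckTopology.uliftYonedaEquiv_symm_naturality_left] at hb
  have := congrArg (J S).uliftYonedaEquiv hb
  rw [Equiv.apply_symm_apply] at this
  exact this


/-- The square of quotients of a cartesian morphism of equivalence relations is cartesian. -/
theorem isPullback_quot {Z Z' : Sp S} {V V' R R' : Over S} {iV : V ⟶ V'} {iR : R ⟶ R'}
    {s t : R ⟶ V} {s' t' : R' ⟶ V'} (q : (yon S).obj V ⟶ Z) [Epi q]
    (p' : (yon S).obj V' ⟶ Z') (i : Z ⟶ Z') (w : q ≫ i = (yon S).map iV ≫ p')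
    (wq : (yon S).map t ≫ q = (yon S).map s ≫ q)
    (sqZ' : IsPullback ((yon S).map t') ((yon S).map s') p' p')
    (cart_t : IsPullback ((yon S).map t) ((yon S).map iR) ((yon S).map iV) ((yon S).map t'))
    (ws : s ≫ iV = iR ≫ s') [Mono ((yon S).map iV)] :
    IsPullback q ((yon S).map iV) i p' := by
  let c : (yon S).obj V ⟶ pullback i p' := pullback.lift q ((yon S).map iV) w
  have hc1 : c ≫ pullback.fst i p' = q := pullback.lift_fst _ _ _
  have hc2 : c ≫ pullback.snd i p' = (yon S).map iV := pullback.lift_snd _ _ _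
  haveI : Mono c := mono_of_mono_fac hc2
  haveI : Epi c := by
    refine epi_of_forall_exists_cover c ?_
    intro T x
    obtain ⟨R₁, hR₁, hl⟩ :=
      Groth.Agent.Lib.Helper30.QuotEff.exists_cover_lift_of_epi q (x ≫ pullback.fst i p')
    refine ⟨R₁, hR₁, fun T' f hf => ?_⟩
    obtain ⟨b, hb⟩ := hl f hf
    have e1 : (b ≫ (yon S).map iV) ≫ p' = ((yon S).map f ≫ x ≫ pullback.snd i p') ≫ p' := by
      rw [Category.assoc, ← w, ← Category.assoc, hb, Category.assoc, Category.assoc,
        Category.assoc, Category.assoc, pullback.condition]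
    have hr'1 := sqZ'.lift_fst _ _ e1
    have hr'2 := sqZ'.lift_snd _ _ e1
    generalize sqZ'.lift _ _ e1 = r' at hr'1 hr'2
    have hr1 := cart_t.lift_fst b r' hr'1.symm
    have hr2 := cart_t.lift_snd b r' hr'1.symm
    generalize cart_t.lift b r' hr'1.symm = r at hr1 hr2
    refine ⟨r ≫ (yon S).map s, ?_⟩
    apply pullback.hom_ext
    · rw [Category.assoc, Category.assoc, hc1, ← wq, ← Category.assoc, hr1, hb, Category.assoc]
    · rw [Category.assoc, Category.assoc, hc2, ← (yon S).map_comp, ws, (yon S).map_comp,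
        ← Category.assoc, hr2, hr'2, Category.assoc]
  haveI : IsIso c := isIso_of_mono_of_epi c
  exact IsPullback.of_iso_pullback ⟨w⟩ (asIso c) hc1 hc2


open Groth.Agent.Lib.Helper51 Groth.Agent.Lib.Helper78.AlgSpFOBaseChange in
/-- First order thickenings descend along a representable etale surjective chart of the
target. -/
theorem isFOThickMor_of_etale_cover {Z Z' : Sp S} {V V' : Over S} (iV : V ⟶ V')
    (hiV : IsFOThickMor ((yon S).map iV)) (q : (yon S).obj V ⟶ Z) (p' : (yon S).obj V' ⟶ Z')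
    (hp' : RepWith @Etale p') (hp's : RepWith @Surjective p') (i : Z ⟶ Z')
    (sq : IsPullback q ((yon S).map iV) i p') : IsFOThickMor i := by
  have hkc := (isThickMor_yon_map_iff iV).1 hiV.1
  haveI : IsClosedImmersion iV.left := hkc.1
  have hci : RepWith @IsClosedImmersion i :=
    Groth.Agent.Lib.Helper30.AffDesc.repWith_isClosedImmersion_of_etale_cover i V' p' hp' hp's q
      ((yon S).map iV) sq ((repWith_yon_map_iff _ _).2 hkc.1)
  have hsi : RepWith @Surjective i := by
    refine repWith_surjective_of_surjective_map hci.1 ?_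
    intro x
    obtain ⟨y', rfl⟩ := surjective_map_of_repWith_surjective hp's x
    obtain ⟨y, rfl⟩ := surjective_map_of_repWith_surjective
      ((repWith_yon_map_iff @Surjective iV).2 hkc.2) y'
    refine ⟨Points.map q y, ?_⟩
    rw [← Points.map_comp, ← Points.map_comp, sq.w]
  refine ⟨⟨hci.1, fun U W g fst snd sqg => ⟨hci.2 g fst snd sqg, hsi.2 g fst snd sqg⟩⟩, ?_⟩
  intro V₁ W₁ b fst snd hV₁ hb sqb
  haveI : IsClosedImmersion snd.left := hci.2 b fst snd sqb
  -- the etale cover of `V₁`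
  obtain ⟨V₁', c₀, g, sq1, hge, hgs⟩ : ∃ (V₁' : Over S) (c₀ : V₁' ⟶ V') (g : V₁' ⟶ V₁),
      IsPullback ((yon S).map c₀) ((yon S).map g) p' b ∧ Etale g.left ∧ Surjective g.left := by
    have sq1 := hp'.1.isPullback b
    obtain ⟨c₀, hc₀⟩ := (yon S).map_surjective (hp'.1.fst b)
    rw [← hc₀] at sq1
    exact ⟨_, c₀, _, sq1, hp'.2 _ _ _ sq1, hp's.2 _ _ _ sq1⟩
  obtain ⟨W, w1, w2, sqW, sqWl⟩ := Groth.Agent.Lib.Helper30.isPullback_over' iV c₀
  have hsqV : iV.left.ker * iV.left.ker = ⊥ :=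
    ker_mul_ker_eq_bot_of_isFOThickMor (IsAlgSpace.yon_obj V') hiV (𝟙 _) (𝟙 _) iV
      (IsPullback.id_horiz _)
  have hk' : w2.left.ker * w2.left.ker = ⊥ :=
    Groth.Agent.Lib.Helper61.ThickBC.ker_mul_ker_eq_bot_of_isPullback sqWl.flip hsqV
  -- the comparison `W ⟶ W₁`
  have hcomm : ((yon S).map w1 ≫ q) ≫ i = (yon S).map (w2 ≫ g) ≫ b := by
    rw [Category.assoc, sq.w, ← Category.assoc, ← (yon S).map_comp, sqW.w, (yon S).map_comp,
      Category.assoc, sq1.w, (yon S).map_comp, Category.assoc]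
  obtain ⟨π, hπ⟩ := (yon S).map_surjective (sqb.lift _ _ hcomm)
  have hπ1 : (yon S).map π ≫ fst = (yon S).map w1 ≫ q := by rw [hπ, sqb.lift_fst]
  have hπ2 : (yon S).map π ≫ (yon S).map snd = (yon S).map w2 ≫ (yon S).map g := by
    rw [hπ, sqb.lift_snd, (yon S).map_comp]
  have outer := ((sqW.map (yon S))).paste_horiz sq
  rw [sq1.w, ← hπ1] at outer
  have sqL := IsPullback.of_right outer hπ2 sqb
  have sqLl := isPullback_left_of_yon sqL
  haveI : Flat g.left := by haveI := hge; infer_instance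
  exact Groth.Agent.Lib.Helper78.SqZeroDesc.ker_mul_ker_eq_bot_of_flat_cover snd.left
    (fun _ : Unit => V₁'.left) (fun _ => g.left) (fun x => ⟨(), hgs.surj x⟩)
    (fun _ => W.left) (fun _ => w2.left) (fun _ => π.left) (fun _ => sqLl.flip) (fun _ => hk')


open Groth.Agent.Lib.Helper30.QuotEff Groth.Agent.Lib.Helper78.UnivThickCart
  Groth.Agent.Lib.Helper51 in
/-- **The universal first order thickening of an algebraic space, from the chart data.** -/
theorem exists_isUnivFOThick_of_setup {X Z : Sp S} (hZ : IsAlgSpace Z) (D : Setup X)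
    (q : (yon S).obj D.V ⟶ Z) (hq : RepWith @Etale q) (hqs : RepWith @Surjective q)
    (sqZ : IsPullback ((yon S).map D.t) ((yon S).map D.s) q q) (h : Z ⟶ X)
    (hqh : q ≫ h = (yon S).map D.iV ≫ D.hV) :
    ∃ (Z' : Sp S) (_ : IsAlgSpace Z') (i : Z ⟶ Z') (h' : Z' ⟶ X), IsUnivFOThick h i h' := by
  have E := D.isEtaleEqvRel
  have hZ' : IsAlgSpace (QuotSh.quot Scheme.fppfPrecoverage D.s' D.t') := isAlgSpace_quot E
  have pres := isPresentation_qπ E
  obtain ⟨-, ⟨cZ⟩⟩ := Groth.Agent.S9872.result S Z hZ q hq hqs D.s D.t sqZ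
  obtain ⟨-, ⟨cZ'⟩⟩ := Groth.Agent.S9872.result S _ hZ' (qπ D.s' D.t') pres.etale
    pres.surjective D.s' D.t' pres.isPullback
  have wi : (yon S).map D.t ≫ (yon S).map D.iV ≫ qπ D.s' D.t' =
      (yon S).map D.s ≫ (yon S).map D.iV ≫ qπ D.s' D.t' := by
    rw [← Category.assoc, ← (yon S).map_comp, D.wt, (yon S).map_comp, Category.assoc,
      pres.isPullback.w, ← Category.assoc, ← (yon S).map_comp, ← D.ws, (yon S).map_comp,
      Category.assoc]
  obtain ⟨i, hi, -⟩ := Cofork.IsColimit.existsUnique cZ _ wi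
  obtain ⟨h', hh', -⟩ := Cofork.IsColimit.existsUnique cZ' D.hV (by rw [D.ht, D.hs])
  change q ≫ i = _ at hi
  change qπ D.s' D.t' ≫ h' = _ at hh'
  haveI : Epi q := Cofork.IsColimit.epi cZ
  have hih' : i ≫ h' = h := by
    rw [← cancel_epi q, ← Category.assoc, hi, Category.assoc, hh', hqh]
  have sqD := isPullback_quot q (qπ D.s' D.t') i hi sqZ.w pres.isPullback D.cart_t D.ws
  have hiFO := isFOThickMor_of_etale_cover D.iV D.univV.1 q _ pres.etale pres.surjective i sqD
  refine ⟨_, hZ', i, h', ?_⟩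
  have HU : IsUnivFOThick (q ≫ h) ((yon S).map D.iV) (qπ D.s' D.t' ≫ h') := by
    rw [hqh, hh']
    exact D.univV
  exact Groth.Agent.Lib.Helper78.AlgSpUnivDesc.isUnivFOThick_of_etale_cover
    (IsAlgSpace.yon_obj _) (IsAlgSpace.yon_obj _) q
    (Groth.Agent.Lib.Helper30.isEtaleMor_of_repWith_etale hq)
    (surjective_map_of_repWith_surjective hqs) h ((yon S).map D.iV) i hiFO (qπ D.s' D.t')
    (Groth.Agent.Lib.Helper30.isEtaleMor_of_repWith_etale pres.etale) hi.symm h' hih' HU

end Groth.Agent.Lib.Helper78.UnivThickQuot
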