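import Groth.Agent.Lib.Helper78.UnivThickQuot
import Groth.Agent.Lib.Helper61.UnivThickGlue
import Groth.Agent.S10630
import Groth.Agent.S10631
import Groth.Agent.S10621

set_option autoImplicit false
set_option linter.style.haveILetI false
universe u
open CategoryTheory CategoryTheory.Limits AlgebraicGeometry Opposite
open AlgSp

namespace Groth.Agent.Lib.Helper78.UnivThickSch

variable {S : Scheme.{u}}

open Groth.Agent.Lib.Helper78.AlgSpLiftGlue in
/-- The universal first order thickening of a formally unramified morphism of schemes over `S`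
is universal among first order thickenings of algebraic spaces. -/
theorem exists_isUnivFOThick_yon {V U : Over S} (ψ : V ⟶ U) [FormallyUnramified ψ.left] :
    ∃ (V' : Over S) (iV : V ⟶ V') (hV' : V' ⟶ U), iV ≫ hV' = ψ ∧
      IsUnivFOThick ((yon S).map ψ) ((yon S).map iV) ((yon S).map hV') := by
  obtain ⟨V'₀, i₀, h'₀, hfo, hw, huniv⟩ :=
    Groth.Agent.Lib.Helper61.UnivThick.exists_isUnivThickening ψ.left
  let V' : Over S := Over.mk (h'₀ ≫ U.hom)
  have hi₀ : i₀ ≫ h'₀ ≫ U.hom = V.hom := by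
    rw [← Category.assoc, hw, Over.w ψ]
  let iV : V ⟶ V' := Over.homMk i₀ hi₀
  let hV' : V' ⟶ U := Over.homMk h'₀ rfl
  have hcomp : iV ≫ hV' = ψ := by
    ext
    exact hw
  haveI : IsClosedImmersion iV.left := hfo.1.1
  have hFO : IsFOThickMor ((yon S).map iV) := isFOThickMor_yon_map iV hfo.2
  refine ⟨V', iV, hV', hcomp, ?_⟩
  refine (Groth.Agent.S10630.result (Z := (ofScheme S).obj V) (Z' := (ofScheme S).obj V')
    (X := (ofScheme S).obj U) ((ofScheme S).map ψ) ((ofScheme S).map iV) ((ofScheme S).map hV')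
    hFO (by rw [← Functor.map_comp, hcomp])).2 ?_
  intro T T' j hT' hj a b comm
  obtain ⟨a₀, rfl⟩ := (yon S).map_surjective a
  obtain ⟨b₀, rfl⟩ := (yon S).map_surjective b
  have comm' : j ≫ b₀ = a₀ ≫ ψ := by
    apply (yon S).map_injective
    rw [(yon S).map_comp, (yon S).map_comp]
    exact comm
  have hjfo : MoreMor.IsFirstOrderThickening j.left :=
    isFirstOrderThickening_of_isFOThickMor_yon_map hT' hj
  obtain ⟨a', ⟨ha'1, ha'2⟩, ha'u⟩ := huniv T.left T'.left j.left b₀.left a₀.left hjfo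
    (by rw [← Over.comp_left, comm', Over.comp_left])
  have ha'w : a' ≫ h'₀ ≫ U.hom = T'.hom := by
    rw [← Category.assoc, ha'2, Over.w b₀]
  refine ⟨(yon S).map (Over.homMk a' ha'w : T' ⟶ V'), ⟨?_, ?_⟩, ?_⟩
  · change (yon S).map j ≫ (yon S).map _ = (yon S).map a₀ ≫ (yon S).map iV
    rw [← (yon S).map_comp, ← (yon S).map_comp]
    congr 1
    ext
    exact ha'1
  · change (yon S).map _ ≫ (yon S).map hV' = (yon S).map b₀
    rw [← (yon S).map_comp]
    congr 1
    ext
    exact ha'2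
  · rintro a'' ⟨h1, h2⟩
    obtain ⟨a''₀, rfl⟩ := (yon S).map_surjective a''
    congr 1
    ext
    refine ha'u a''₀.left ⟨?_, ?_⟩
    · have h1' : j ≫ a''₀ = a₀ ≫ iV := by
        apply (yon S).map_injective
        rw [(yon S).map_comp, (yon S).map_comp]
        exact h1
      exact congrArg (fun f => f.left) h1'
    · have h2' : a''₀ ≫ hV' = b₀ := by
        apply (yon S).map_injective
        rw [(yon S).map_comp]
        exact h2
      exact congrArg (fun f => f.left) h2'


/-- The universal first order thickening of a chart `V ⟶ U` of schemes, over an algebraic space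
`X` with an etale chart `U`. -/
theorem exists_isUnivFOThick_over {X : Space S} {V U : Over S} (ψ : V ⟶ U)
    [FormallyUnramified ψ.left] (pX : (yon S).obj U ⟶ X.obj) (hpX : RepWith @Etale pX) :
    ∃ (V' : Over S) (iV : V ⟶ V') (hV : (yon S).obj V' ⟶ X.obj),
      (yon S).map iV ≫ hV = (yon S).map ψ ≫ pX ∧
      IsUnivFOThick ((yon S).map iV ≫ hV) ((yon S).map iV) hV := by
  obtain ⟨V', iV, hV', hcomp, H⟩ := exists_isUnivFOThick_yon ψ
  have H2 := Groth.Agent.S10631.result (Z := (ofScheme S).obj V) (Z' := (ofScheme S).obj V')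
    (Y := (ofScheme S).obj U) (X := X) ((ofScheme S).map ψ) (ObjectProperty.homMk pX)
    ((ofScheme S).map iV) ((ofScheme S).map hV') H
    (Groth.Agent.Lib.Helper78.AlgSpInfBridge.isFormallyEtaleMor_of_repWith_etale hpX)
  have hc : (yon S).map iV ≫ (yon S).map hV' ≫ pX = (yon S).map ψ ≫ pX := by
    rw [← Category.assoc, ← (yon S).map_comp, hcomp]
  refine ⟨V', iV, (yon S).map hV' ≫ pX, hc, ?_⟩
  rw [hc]
  exact H2

open Groth.Agent.Lib.Helper78.UnivThickCart Groth.Agent.Lib.Helper78.AlgSpBasic in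
/-- The chart data for a formally unramified morphism of algebraic spaces. -/
theorem exists_setup {X Z : Space S} (h : Z ⟶ X) (hh : IsFormallyUnramifiedMor h.hom) :
    ∃ (D : Setup X.obj) (q : (yon S).obj D.V ⟶ Z.obj), RepWith @Etale q ∧
      RepWith @Surjective q ∧ IsPullback ((yon S).map D.t) ((yon S).map D.s) q q ∧
      q ≫ h.hom = (yon S).map D.iV ≫ D.hV := by
  obtain ⟨U, pX, hpXe, hpXs⟩ := X.property.atlas
  obtain ⟨Z₀, a₀, ha₀e, ha₀s⟩ := Z.property.atlas
  obtain ⟨V, j, ψ, sq₀, hqe, hqs⟩ := exists_chart_diagram h.hom a₀ ha₀e pX hpXe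
  have hqs' := hqs ha₀s hpXs
  have hqψ : ((yon S).map j ≫ a₀) ≫ h.hom = (yon S).map ψ ≫ pX := by
    rw [Category.assoc]
    exact sq₀.w.symm
  generalize (yon S).map j ≫ a₀ = q at hqe hqs' hqψ
  have hψ : FormallyUnramified ψ.left :=
    ((Groth.Agent.S10621.result h).1.1 hh) q pX ψ hqe hpXe hqψ
  obtain ⟨V', iV, hV, hVcomp, HV⟩ := exists_isUnivFOThick_over ψ pX hpXe
  -- the relation
  obtain ⟨R, s, t, sqZ⟩ : ∃ (R : Over S) (s t : R ⟶ V),
      IsPullback ((yon S).map t) ((yon S).map s) q q := by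
    have sqR := hqe.1.isPullback q
    obtain ⟨t, ht⟩ := (yon S).map_surjective (hqe.1.fst q)
    rw [← ht] at sqR
    exact ⟨_, _, t, sqR⟩
  obtain ⟨E, -⟩ := Groth.Agent.S9872.result S Z.obj Z.property q hqe hqs' s t sqZ
  haveI : FormallyUnramified (s ≫ ψ).left := by
    rw [Over.comp_left]
    haveI := E.etale_left
    haveI : FormallyUnramified s.left := inferInstance
    exact MorphismProperty.comp_mem _ _ _ ‹FormallyUnramified s.left› hψ
  obtain ⟨R', iR, hR, hRcomp, HR⟩ := exists_isUnivFOThick_over (s ≫ ψ) pX hpXe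
  have cs : (yon S).map iR ≫ hR = (yon S).map s ≫ (yon S).map iV ≫ hV := by
    rw [hRcomp, hVcomp, (yon S).map_comp, Category.assoc]
  have ct : (yon S).map iR ≫ hR = (yon S).map t ≫ (yon S).map iV ≫ hV := by
    rw [hRcomp, hVcomp, ← hqψ, ← Category.assoc ((yon S).map t), sqZ.w, (yon S).map_comp,
      Category.assoc, Category.assoc, hqψ]
  obtain ⟨s'', hs1, hs2⟩ := exists_lift_of_isUnivFOThick HV (IsAlgSpace.yon_obj _)
    (IsAlgSpace.yon_obj _) HR.1 ((yon S).map s) hR cs
  obtain ⟨t'', ht1, ht2⟩ := exists_lift_of_isUnivFOThick HV (IsAlgSpace.yon_obj _)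
    (IsAlgSpace.yon_obj _) HR.1 ((yon S).map t) hR ct
  obtain ⟨s', rfl⟩ := (yon S).map_surjective s''
  obtain ⟨t', rfl⟩ := (yon S).map_surjective t''
  refine ⟨Setup.mk V V' R R' iV iR s t s' t' hV hR HV HR E ?_ ?_ hs2 ht2, q, hqe, hqs', sqZ, ?_⟩
  · apply (yon S).map_injective
    rw [(yon S).map_comp, (yon S).map_comp, hs1]
  · apply (yon S).map_injective
    rw [(yon S).map_comp, (yon S).map_comp, ht1]
  · rw [hqψ, hVcomp]

end Groth.Agent.Lib.Helper78.UnivThickSch
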