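import Groth.Agent.Lib.Helper78.EffCartierSum
import Groth.Agent.Lib.Helper78.LocPrincipalDesc
import Groth.Prelude.Def_AlgSpModX

set_option autoImplicit false
set_option linter.style.haveILetI false
set_option backward.isDefEq.respectTransparency false
universe u
open CategoryTheory CategoryTheory.Limits AlgebraicGeometry Opposite TopologicalSpace
open AlgSp

namespace Groth.Agent.Lib.Helper78.WeakAssCartier

open Groth.Agent.Lib.Helper78.EffCartierDesc Groth.Agent.Lib.BlowUp
open Groth.Agent.Lib.Helper78.EffCartierSp Groth.Agent.Lib.Helper51 Groth.Agent.Lib.Helper52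

/-- a zero divisor lies in a minimal prime over the annihilator of some element -/
theorem exists_minimalPrimes_of_not_mem_nonZeroDivisors {R : Type*} [CommRing R] (a : R)
    (ha : a ∉ nonZeroDivisors R) :
    ∃ (s : R) (p : Ideal R), p ∈ (Ideal.span {s}).annihilator.minimalPrimes ∧ a ∈ p := by
  rw [mem_nonZeroDivisors_iff_right] at ha
  push Not at ha
  obtain ⟨s, hs, hs0⟩ := ha
  have hne : (Ideal.span {s}).annihilator ≠ ⊤ := by
    intro h
    have h1 : (1 : R) ∈ (Ideal.span {s}).annihilator := h ▸ Submodule.mem_top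
    rw [Submodule.mem_annihilator_span_singleton] at h1
    exact hs0 (by simpa using h1)
  obtain ⟨m, hm, hle⟩ := Ideal.exists_le_maximal _ hne
  obtain ⟨p, hp, -⟩ := Ideal.exists_minimalPrimes_le (J := m) hle
  refine ⟨s, p, hp, hp.1.2 ?_⟩
  rw [Submodule.mem_annihilator_span_singleton]
  rw [smul_eq_mul, mul_comm]
  exact hs

variable {S : Scheme.{u}} {X : Sp S}

/-- the annihilator of a section of the structure sheaf -/
theorem annSect_unit (E : EtOver X) (s : Γ(E.obj.left.left, ⊤)) :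
    annSect (M := unitModEt X) (E := E) (upΓ E s : (OEtRing X).obj.obj (op E)) =
      (Ideal.span {s}).annihilator := by
  ext a
  rw [mem_annSect_iff, Submodule.mem_annihilator_span_singleton]
  constructor
  · intro h
    have h1 : (upΓ E a) * (upΓ E s) = 0 := h
    rw [← map_mul] at h1
    have h2 : a * s = 0 := by
      have := congrArg ULift.down h1
      exact this
    exact h2
  · intro h
    have h1 : a * s = 0 := h
    show (upΓ E a) * (upΓ E s) = 0
    rw [← map_mul, h1, map_zero]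

theorem primeAtPt_eq (U : Scheme.{u}) [IsAffine U] (u : U) :
    primeAtPt U u = ((isAffineOpen_top U).primeIdealOf ⟨u, trivial⟩).asIdeal := by
  rw [IsAffineOpen.primeIdealOf_eq_map_closedPoint]
  rfl

theorem exists_point_primeAtPt (U : Scheme.{u}) [IsAffine U] (p : Ideal Γ(U, ⊤)) [p.IsPrime] :
    ∃ u : U, primeAtPt U u = p := by
  let y : PrimeSpectrum Γ(U, ⊤) := ⟨p, inferInstance⟩
  refine ⟨(isAffineOpen_top U).fromSpec y, ?_⟩
  rw [primeAtPt_eq, primeIdealOf_fromSpec (isAffineOpen_top U) y trivial]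

/-- a zero divisor on an affine etale chart vanishes at a weakly associated point -/
theorem exists_weakAss_of_zero_divisor (E : EtOver X) [IsAffine E.obj.left.left]
    (a : Γ(E.obj.left.left, ⊤)) (ha : a ∉ nonZeroDivisors Γ(E.obj.left.left, ⊤)) :
    ∃ u : E.obj.left.left, a ∈ primeAtPt E.obj.left.left u ∧
      Points.ofPt E.obj.hom u ∈ WeakAssEt (unitModEt X) := by
  obtain ⟨s, p, hp, hap⟩ := exists_minimalPrimes_of_not_mem_nonZeroDivisors a ha
  haveI := hp.1.1
  obtain ⟨u, hu⟩ := exists_point_primeAtPt _ p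
  refine ⟨u, hu ▸ hap, E, inferInstance, u, rfl, (upΓ E s : (OEtRing X).obj.obj (op E)), ?_⟩
  rw [annSect_unit, hu]
  exact hp

/-- a point whose prime contains the generator lies on the closed subscheme -/
theorem mem_support_of_mem_primeAtPt {U : Scheme.{u}} [IsAffine U] (I : U.IdealSheafData)
    (a : Γ(U, ⊤)) (hI : I.ideal ⟨⊤, isAffineOpen_top U⟩ = Ideal.span {a}) (u : U)
    (hu : a ∈ primeAtPt U u) : u ∈ I.support := by
  rw [Scheme.IdealSheafData.mem_support_iff_of_mem (U := ⟨⊤, isAffineOpen_top U⟩) trivial, hI,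
    Scheme.zeroLocus_span, Scheme.zeroLocus_singleton]
  intro hmem
  rw [primeAtPt_eq] at hu
  exact (mem_basicOpen_iff_notMem_primeIdealOf (isAffineOpen_top U) a u trivial).1 hmem hu

/-- **Pullback of an effective Cartier divisor along a morphism mapping no weakly associated point
into it.** -/
theorem isEffCartierSub_pullback_of_weakAss_avoid {Y D P : Sp S} (hX : IsAlgSpace X) (f : X ⟶ Y)
    (i : D ⟶ Y) (hD : IsEffCartierSub i)
    (h : ∀ x ∈ WeakAssEt (unitModEt X), Points.map f x ∉ Set.range (Points.map i))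
    (fst : P ⟶ D) (snd : P ⟶ X) (hP : IsPullback fst snd i f) : IsEffCartierSub snd := by
  obtain ⟨hi, V, φ, IV, fstV, hφe, hφs, sqV, hIV⟩ := hD
  have hsnd : RepWith @IsClosedImmersion snd := MorphismProperty.of_isPullback hP hi
  refine isEffCartierSub_of_forall_exists_affine_chart hX snd hsnd (fun x => ?_)
  obtain ⟨v, hv⟩ := surjective_ofPt_of_repWith_surjective φ hφs
    (Points.map f (Points.map snd x))
  obtain ⟨V', hvV', t, ht, hIt⟩ := hIV v
  obtain ⟨U₀, a₀, ha₀, ha₀s⟩ := hX.atlas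
  obtain ⟨u₀, hu₀⟩ := surjective_ofPt_of_repWith_surjective a₀ ha₀s (Points.map snd x)
  obtain ⟨W, w1, w2, sqW⟩ := exists_isPullback_of_representable hφe.1 (a₀ ≫ f)
  have hw2e : RepWith @Etale ((yon S).map w2) := MorphismProperty.of_isPullback sqW hφe
  have huv : Points.ofPt φ v = Points.ofPt (a₀ ≫ f) u₀ := by
    rw [hv, ← hu₀]; rfl
  obtain ⟨w, hw1, hw2⟩ := exists_of_ofPt_eq_ofPt sqW huv
  have hwV' : w ∈ w1.left ⁻¹ᵁ V'.1 := by
    show w1.left w ∈ V'.1
    rw [hw1]; exact hvV'
  obtain ⟨U', hU'0, hwU', hU'le⟩ : ∃ U' : W.left.Opens, U' ∈ W.left.affineOpens ∧ w ∈ U' ∧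
      U' ≤ w1.left ⁻¹ᵁ V'.1 := Opens.isBasis_iff_nbhd.1 (W.left.isBasis_affineOpens) hwV'
  have hU'a : IsAffineOpen U' := hU'0
  let U : Over S := Over.mk (U'.ι ≫ W.hom)
  let j : U ⟶ W := Over.homMk U'.ι rfl
  haveI : IsAffine U.left := hU'a
  haveI : IsOpenImmersion j.left := inferInstanceAs (IsOpenImmersion U'.ι)
  have ha : RepWith @Etale ((yon S).map (j ≫ w2) ≫ a₀) := by
    rw [(yon S).map_comp, Category.assoc]
    exact (RepWith @Etale).comp_mem _ _ ((repWith_yon_map_iff @Etale j).2 inferInstance)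
      ((RepWith @Etale).comp_mem _ _ hw2e ha₀)
  have comm : ((yon S).map (j ≫ w2) ≫ a₀) ≫ f = (yon S).map (j ≫ w1) ≫ φ := by
    rw [(yon S).map_comp, (yon S).map_comp, Category.assoc, Category.assoc, Category.assoc,
      sqW.w]
  have e : (⊤ : U.left.Opens) ≤ (j ≫ w1).left ⁻¹ᵁ V'.1 := by
    intro z _
    show w1.left (j.left z) ∈ V'.1
    exact hU'le z.2
  have big := (isPullback_yon_subMap (j ≫ w1) IV).paste_horiz sqV
  rw [← comm] at big
  have hcond : ((yon S).map (subMap (j ≫ w1) IV) ≫ fstV) ≫ i =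
      ((yon S).map (subι U (IV.comap (j ≫ w1).left)) ≫ ((yon S).map (j ≫ w2) ≫ a₀)) ≫ f := by
    rw [Category.assoc _ _ f]; exact big.w
  have sqU : IsPullback (hP.lift _ _ hcond) ((yon S).map (subι U (IV.comap (j ≫ w1).left))) snd
      ((yon S).map (j ≫ w2) ≫ a₀) := by
    refine IsPullback.of_right ?_ (hP.lift_snd _ _ hcond) hP
    rw [hP.lift_fst]
    exact big
  have hideal : (IV.comap (j ≫ w1).left).ideal ⟨⊤, isAffineOpen_top U.left⟩ =
      Ideal.span {((j ≫ w1).left.appLE V'.1 ⊤ e).hom t} := by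
    rw [Groth.Agent.Lib.Helper20.ideal_comap (j ≫ w1).left IV ⟨⊤, isAffineOpen_top U.left⟩ V' e,
      hIt, Ideal.map_span, Set.image_singleton]
  refine ⟨U, hU'a, (yon S).map (j ≫ w2) ≫ a₀, ⟨w, hwU'⟩, ((j ≫ w1).left.appLE V'.1 ⊤ e).hom t,
    IV.comap (j ≫ w1).left, hP.lift _ _ hcond, ha, ?_, ?_, hideal, sqU⟩
  · rw [ofPt_yon_map_comp, ← hu₀]
    congr 1
  · by_contra hnz
    haveI : IsAffine (EtOver.mk ((yon S).map (j ≫ w2) ≫ a₀) ha).obj.left.left := hU'a
    obtain ⟨up, hup, hwa⟩ := exists_weakAss_of_zero_divisor (X := X)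
      (EtOver.mk ((yon S).map (j ≫ w2) ≫ a₀) ha) _ hnz
    have hsupp : up ∈ (IV.comap (j ≫ w1).left).support :=
      mem_support_of_mem_primeAtPt _ _ hideal up hup
    have hr : up ∈ Set.range (subι U (IV.comap (j ≫ w1).left)).left := by
      show up ∈ Set.range (IV.comap (j ≫ w1).left).subschemeι
      rw [Scheme.IdealSheafData.range_subschemeι]
      exact hsupp
    obtain ⟨x', hx'⟩ := (ofPt_mem_range_map_iff sqU up).2 hr
    refine h _ hwa ⟨Points.map fst x', ?_⟩
    show Points.map i (Points.map fst x') =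
      Points.map f (Points.ofPt ((yon S).map (j ≫ w2) ≫ a₀) up)
    rw [← hx', ← Points.map_comp, ← Points.map_comp, hP.w]

end Groth.Agent.Lib.Helper78.WeakAssCartier
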