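import Groth.Agent.Lib.Helper78.WeakAssZero
import Groth.Prelude.Def_AlgSpOX2

set_option autoImplicit false
set_option linter.style.haveILetI false
set_option backward.isDefEq.respectTransparency false
universe u
open CategoryTheory CategoryTheory.Limits AlgebraicGeometry Opposite TopologicalSpace
open AlgSp

namespace Groth.Agent.Lib.Helper78.WeakAssPush

open Groth.Agent.Lib.Helper78.WeakAssCartier Groth.Agent.Lib.Helper78.EffCartierDesc
open Groth.Agent.Lib.Helper52 Groth.Agent.Lib.Helper78.EffCartierSum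

variable {S : Scheme.{u}} {X Y : Sp S} {f : X ⟶ Y}

theorem annSect_push (hf : Representable f) (M : ModEt X) (E : EtOver Y)
    (s' : sectModEt ((pushModEt hf).obj M) E) (s : sectModEt M (EtOver.bcObj hf E))
    (hs : (s' : M.val.obj (op (EtOver.bcObj hf E))) = s) :
    annSect s' = (annSect s).comap (EtOver.bcπ hf E).left.appTop.hom := by
  subst hs
  ext a
  rw [mem_annSect_iff, Ideal.mem_comap, mem_annSect_iff]
  rfl

/-- the prime of the image point is the contraction of the prime -/
theorem primeAtPt_map {U' U : Scheme.{u}} [IsAffine U'] [IsAffine U] (g : U' ⟶ U) (u' : U') :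
    (primeAtPt U' u').comap g.appTop.hom = primeAtPt U (g u') := by
  rw [primeAtPt_eq, primeAtPt_eq]
  have h := IsAffineOpen.comap_primeIdealOf_appLE (f := g) (x := u') ⊤ (isAffineOpen_top U) ⊤
    (isAffineOpen_top U') le_top trivial
  have h2 : g.appLE ⊤ ⊤ le_top = g.appTop := by simp [Scheme.Hom.appLE]
  rw [h2] at h
  exact congrArg PrimeSpectrum.asIdeal h

theorem primeAtPt_injective (U : Scheme.{u}) [IsAffine U] {u₁ u₂ : U}
    (h : primeAtPt U u₁ = primeAtPt U u₂) : u₁ = u₂ := by
  rw [primeAtPt_eq, primeAtPt_eq] at h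
  have h1 : (isAffineOpen_top U).primeIdealOf ⟨u₁, trivial⟩ =
      (isAffineOpen_top U).primeIdealOf ⟨u₂, trivial⟩ := PrimeSpectrum.ext h
  have h2 := congrArg (isAffineOpen_top U).fromSpec h1
  rwa [IsAffineOpen.fromSpec_primeIdealOf, IsAffineOpen.fromSpec_primeIdealOf] at h2

/-- the chosen base change of an affine object along an affine morphism is affine -/
theorem isAffine_bcObj (hf : Representable f) (haff : IsAffineMor f) (E : EtOver Y)
    (hE : IsAffine E.obj.left.left) : IsAffine (EtOver.bcObj hf E).obj.left.left := by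
  obtain ⟨W, iW, fstW, sqW, hW⟩ := haff hE E.obj.hom
  have sq := hf.isPullback E.obj.hom
  let e : hf.pullback E.obj.hom ≅ W := (yon S).preimageIso (sq.isoIsPullback _ _ sqW)
  haveI : IsAffine W.left := hW
  haveI : IsIso e.hom.left := (Over.forget S).map_isIso e.hom
  exact IsAffine.of_isIso e.hom.left

/-- **Weakly associated points of a direct image along an affine morphism.** -/
theorem weakAssEt_pushModEt_subset (hf : Representable f) (haff : IsAffineMor f) (M : ModEt X) :
    WeakAssEt ((pushModEt hf).obj M) ⊆ Points.map f '' WeakAssEt M := by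
  rintro x ⟨E, hE, u, hu, s', hmin⟩
  haveI := hE
  haveI haffbc : IsAffine (EtOver.bcObj hf E).obj.left.left := isAffine_bcObj hf haff E hE
  obtain ⟨s, hs⟩ : ∃ s : sectModEt M (EtOver.bcObj hf E),
    (s' : M.val.obj (op (EtOver.bcObj hf E))) = s := ⟨_, rfl⟩
  rw [annSect_push hf M E s' s hs] at hmin
  obtain ⟨q, hq, hqp⟩ := Ideal.exists_minimalPrimes_comap_eq _ _ hmin
  haveI : q.IsPrime := hq.1.1
  obtain ⟨u', hu'⟩ := exists_point_primeAtPt (EtOver.bcObj hf E).obj.left.left q
  refine ⟨Points.ofPt (EtOver.bcObj hf E).obj.hom u',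
    ⟨EtOver.bcObj hf E, haffbc, u', rfl, s, hu' ▸ hq⟩, ?_⟩
  rw [Points.map_ofPt, (EtOver.isPullback_bcObj hf E).w, ofPt_yon_map_comp, ← hu]
  congr 1
  apply primeAtPt_injective
  rw [← primeAtPt_map (EtOver.bcπ hf E).left u', hu', hqp]

end Groth.Agent.Lib.Helper78.WeakAssPush
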