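import Groth.Agent.Lib.Helper78.WeakAssCartier
import Groth.Agent.Lib.Helper51.AlgSpGsectReduced
import Groth.Agent.Lib.Helper78.EffCartierSum

set_option autoImplicit false
set_option linter.style.haveILetI false
set_option backward.isDefEq.respectTransparency false
universe u
open CategoryTheory CategoryTheory.Limits AlgebraicGeometry Opposite TopologicalSpace
open AlgSp

namespace Groth.Agent.Lib.Helper78.WeakAssReduced

open Groth.Agent.Lib.Helper78.WeakAssCartier Groth.Agent.Lib.Helper78.EffCartierDesc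

/-- in a reduced ring, a prime minimal over the annihilator of an element is a minimal prime -/
theorem mem_minimalPrimes_of_mem_minimalPrimes_annihilator {R : Type*} [CommRing R] [IsReduced R]
    (s : R) (p : Ideal R) (hp : p ∈ (Ideal.span {s}).annihilator.minimalPrimes) :
    p ∈ minimalPrimes R := by
  haveI : p.IsPrime := hp.1.1
  have hann : ∀ c : R, c ∈ (Ideal.span {s}).annihilator ↔ c * s = 0 := fun c => by
    rw [Submodule.mem_annihilator_span_singleton, smul_eq_mul]
  -- (i)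
  have h1 : ∀ a ∈ p, ∃ b ∉ p, a * b * s = 0 := by
    intro a ha
    have hrad := IsLocalization.AtPrime.radical_map_of_mem_minimalPrimes
      (A := Localization.AtPrime p) p _ hp
    have hmem : algebraMap R (Localization.AtPrime p) a ∈
        ((Ideal.span {s}).annihilator.map (algebraMap R (Localization.AtPrime p))).radical := by
      rw [hrad]; exact Ideal.mem_map_of_mem _ ha
    obtain ⟨n, hn⟩ := hmem
    rw [← map_pow, IsLocalization.mem_map_algebraMap_iff p.primeCompl] at hn
    obtain ⟨⟨i, m⟩, him⟩ := hn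
    rw [← map_mul, IsLocalization.eq_iff_exists p.primeCompl] at him
    obtain ⟨c, hc⟩ := him
    -- c * (a^n * m) = c * i
    have hi : (i : R) * s = 0 := (hann _).1 i.2
    have h2 : (c : R) * (m : R) * a ^ n * s = 0 := by
      have : (c : R) * (a ^ n * m) * s = (c : R) * (i : R) * s := by rw [hc]
      calc (c : R) * (m : R) * a ^ n * s = (c : R) * (a ^ n * m) * s := by ring
        _ = (c : R) * (i : R) * s := this
        _ = (c : R) * ((i : R) * s) := by ring
        _ = 0 := by rw [hi, mul_zero]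
    have hb : (c : R) * (m : R) ∉ p := fun h =>
      (‹p.IsPrime›.mem_or_mem h).elim c.2 m.2
    refine ⟨(c : R) * (m : R), hb, ?_⟩
    have h3 : (a * ((c : R) * (m : R)) * s) ^ (n + 1) = 0 := by
      have : (a * ((c : R) * (m : R)) * s) ^ (n + 1) =
          (a * ((c : R) * (m : R)) ^ n * s ^ n) * ((c : R) * (m : R) * a ^ n * s) := by ring
      rw [this, h2, mul_zero]
    exact IsReduced.eq_zero _ ⟨n + 1, h3⟩
  -- (ii)
  have h2 : s ∉ p := by
    intro hs
    obtain ⟨b, hb, hbs⟩ := h1 s hs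
    have h3 : (b * s) ^ 2 = 0 := by
      have : (b * s) ^ 2 = b * (s * b * s) := by ring
      rw [this, hbs, mul_zero]
    have h4 : b * s = 0 := IsReduced.eq_zero _ ⟨2, h3⟩
    exact hb (hp.1.2 ((hann b).2 h4))
  -- (iii)
  show Minimal (fun q : Ideal R => q.IsPrime ∧ ⊥ ≤ q) p
  refine ⟨⟨inferInstance, bot_le⟩, ?_⟩
  rintro q ⟨hq, -⟩ hqp a ha
  obtain ⟨b, hb, hbs⟩ := h1 a ha
  have h5 : a * (b * s) ∈ q := by
    have : a * (b * s) = a * b * s := by ring
    rw [this, hbs]; exact q.zero_mem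
  rcases hq.mem_or_mem h5 with h | h
  · exact h
  · exfalso
    rcases hq.mem_or_mem h with h' | h'
    · exact hb (hqp h')
    · exact h2 (hqp h')

variable {S : Scheme.{u}} {X : Sp S}

open Groth.Agent.Lib.Helper52 Groth.Agent.Lib.Helper78.EffCartierSum

theorem ringKrullDim_stalk_eq_height (U : Scheme.{u}) [IsAffine U] (u : U) :
    ringKrullDim (U.presheaf.stalk u) = ((primeAtPt U u).height : WithBot ℕ∞) := by
  rw [primeAtPt_eq]
  letI := U.presheaf.algebra_section_stalk (U := ⊤) ⟨u, trivial⟩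
  haveI := (isAffineOpen_top U).isLocalization_stalk ⟨u, trivial⟩
  exact IsLocalization.AtPrime.ringKrullDim_eq_height
    ((isAffineOpen_top U).primeIdealOf ⟨u, trivial⟩).asIdeal (U.presheaf.stalk u)

theorem hasAt_of_mem_weakAssEt (hX : IsReducedSp X) (x : Points X)
    (hx : x ∈ WeakAssEt (unitModEt X)) :
    HasAt (fun U u => ringKrullDim ↥(U.presheaf.stalk u) = 0) X x := by
  obtain ⟨E, hE, u, hu, s', hmin⟩ := hx
  haveI := hE
  haveI : IsReduced E.obj.left.left := Groth.Agent.Lib.Helper51.isReduced_etOver hX E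
  obtain ⟨s, rfl⟩ : ∃ s : Γ(E.obj.left.left, ⊤), (upΓ E s : (OEtRing X).obj.obj (op E)) = s' :=
    ⟨(s' : ULift _).down, rfl⟩
  rw [annSect_unit] at hmin
  have hp := mem_minimalPrimes_of_mem_minimalPrimes_annihilator s _ hmin
  refine ⟨E.obj.left, E.obj.hom, u, E.property, hu, ?_⟩
  show ringKrullDim ↥(E.obj.left.left.presheaf.stalk u) = 0
  rw [ringKrullDim_stalk_eq_height, Ideal.height_eq_zero_iff.2 hp]
  rfl

theorem mem_weakAssEt_of_hasAt (x : Points X)
    (h : HasAt (fun U u => ringKrullDim ↥(U.presheaf.stalk u) = 0) X x) :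
    x ∈ WeakAssEt (unitModEt X) := by
  obtain ⟨U, a, u, ha, hu, hdim⟩ := h
  obtain ⟨U', hU'0, huU', -⟩ : ∃ U' : U.left.Opens, U' ∈ U.left.affineOpens ∧ u ∈ U' ∧ U' ≤ ⊤ :=
    Opens.isBasis_iff_nbhd.1 (U.left.isBasis_affineOpens) (show u ∈ (⊤ : U.left.Opens) from trivial)
  have hU'a : IsAffineOpen U' := hU'0
  haveI : IsAffine (chartOpen a ha ⟨U', hU'a⟩).obj.left.left := hU'a
  refine ⟨chartOpen a ha ⟨U', hU'a⟩, hU'a, ⟨u, huU'⟩, ?_,
    (upΓ (chartOpen a ha ⟨U', hU'a⟩) 1 : (OEtRing X).obj.obj (op (chartOpen a ha ⟨U', hU'a⟩))), ?_⟩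
  · show Points.ofPt ((yon S).map _ ≫ a) _ = x
    rw [ofPt_yon_map_comp]
    exact hu
  · rw [annSect_unit]
    have hbot : (Ideal.span {(1 : Γ((chartOpen a ha ⟨U', hU'a⟩).obj.left.left, ⊤))}).annihilator =
        ⊥ := by
      ext c
      rw [Submodule.mem_annihilator_span_singleton, smul_eq_mul, mul_one, Ideal.mem_bot]
    rw [hbot]
    show primeAtPt _ _ ∈ minimalPrimes _
    rw [← Ideal.height_eq_zero_iff]
    have h1 := ringKrullDim_stalk_eq_height (chartOpen a ha ⟨U', hU'a⟩).obj.left.left ⟨u, huU'⟩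
    have h2 : ringKrullDim ((chartOpen a ha ⟨U', hU'a⟩).obj.left.left.presheaf.stalk ⟨u, huU'⟩) =
        ringKrullDim (U.left.presheaf.stalk u) :=
      ringKrullDim_eq_of_ringEquiv (U'.stalkIso ⟨u, huU'⟩).commRingCatIsoToRingEquiv
    rw [h2, hdim] at h1
    exact_mod_cast h1.symm

theorem mem_weakAssEt_unit_iff (hX : IsReducedSp X) (x : Points X) :
    x ∈ WeakAssEt (unitModEt X) ↔
      HasAt (fun U u => ringKrullDim ↥(U.presheaf.stalk u) = 0) X x :=
  ⟨hasAt_of_mem_weakAssEt hX x, mem_weakAssEt_of_hasAt x⟩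

end Groth.Agent.Lib.Helper78.WeakAssReduced
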