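import Groth.Agent.Lib.Helper78.WeakAssReduced

set_option autoImplicit false
set_option linter.style.haveILetI false
set_option backward.isDefEq.respectTransparency false
universe u
open CategoryTheory CategoryTheory.Limits AlgebraicGeometry Opposite TopologicalSpace
open AlgSp

namespace Groth.Agent.Lib.Helper78.WeakAssZero

open Groth.Agent.Lib.Helper78.WeakAssCartier Groth.Agent.Lib.Helper78.EffCartierDesc
open Groth.Agent.Lib.Helper52 Groth.Agent.Lib.Helper78.EffCartierSum

variable {S : Scheme.{u}} {X : Sp S}

/-- the inclusion of an affine open of an object of the small etale site, as a morphism of the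
site -/
noncomputable def chartOpenHom (E : EtOver X) (k : E.obj.left.left.affineOpens) :
    chartOpen E.obj.hom E.property k ⟶ E :=
  EtOver.homMk (Over.homMk k.1.ι rfl) rfl

theorem cover_chartOpen (E : EtOver X) :
    Sieve.ofArrows (fun k : E.obj.left.left.affineOpens => chartOpen E.obj.hom E.property k)
      (chartOpenHom E) ∈ etTop X E := by
  apply ofArrows_mem_etTop
  intro x
  obtain ⟨U', hU'0, hxU', -⟩ := Opens.isBasis_iff_nbhd.1 (E.obj.left.left.isBasis_affineOpens)
    (show x ∈ (⊤ : E.obj.left.left.Opens) from trivial)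
  exact ⟨⟨U', hU'0⟩, ⟨⟨x, hxU'⟩, rfl⟩⟩

/-- a module on the small etale site vanishing on affine objects vanishes -/
theorem eq_zero_of_forall_affine (M : ModEt X)
    (h : ∀ (E : EtOver X), IsAffine E.obj.left.left → ∀ s : M.val.presheaf.obj (op E), s = 0)
    (E : EtOver X) (s : M.val.presheaf.obj (op E)) : s = 0 := by
  have hsh := (isSheaf_iff_isSheaf_of_type _ _).1
    ((Presheaf.isSheaf_iff_isSheaf_forget (etTop X) M.val.presheaf
      (forget AddCommGrpCat)).1 M.isSheaf)
  have hsep := (hsh.isSheafFor _ (cover_chartOpen E)).isSeparatedFor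
  refine hsep.ext (t₁ := s) (t₂ := 0) ?_
  intro Z f hf
  obtain ⟨k, hk, rfl⟩ := Presieve.ofArrows_surj _ _ hf
  subst hk
  rw [eqToHom_refl, Category.id_comp]
  have h0 : M.val.presheaf.map (chartOpenHom E k).op s = 0 :=
    h (chartOpen E.obj.hom E.property k) k.2 _
  show M.val.presheaf.map (chartOpenHom E k).op s = M.val.presheaf.map (chartOpenHom E k).op 0
  rw [h0, map_zero]

theorem eq_zero_of_weakAssEt_eq_empty (M : ModEt X) (h : WeakAssEt M = ∅) (E : EtOver X)
    (hE : IsAffine E.obj.left.left) (s : sectModEt M E) : s = 0 := by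
  haveI := hE
  have htop : annSect s = ⊤ := by
    by_contra hne
    obtain ⟨⟨p, hp⟩⟩ := Ideal.nonempty_minimalPrimes hne
    haveI : p.IsPrime := hp.1.1
    obtain ⟨u, hu⟩ := exists_point_primeAtPt E.obj.left.left p
    have hmem : Points.ofPt E.obj.hom u ∈ WeakAssEt M := ⟨E, hE, u, rfl, s, hu ▸ hp⟩
    rw [h] at hmem
    exact hmem
  have h1 : (1 : Γ(E.obj.left.left, ⊤)) ∈ annSect s := htop ▸ Submodule.mem_top
  rw [mem_annSect_iff, map_one, one_smul] at h1
  exact h1

/-- **A module on the small etale site vanishes iff it has no weakly associated points.** -/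
theorem isZero_iff_weakAssEt_eq_empty (M : ModEt X) : IsZero M ↔ WeakAssEt M = ∅ := by
  constructor
  · intro hM
    have h1 : (𝟙 M : M ⟶ M) = 0 := hM.eq_of_src _ _
    have hsec : ∀ (E : EtOver X) (s : sectModEt M E), s = 0 := by
      intro E s
      have h2 := congrArg (fun f : M ⟶ M => f.val.app (op E) s) h1
      exact h2
    rw [Set.eq_empty_iff_forall_notMem]
    rintro x ⟨E, hE, u, -, s, hs⟩
    rw [hsec E s] at hs
    have htop : annSect (0 : sectModEt M E) = ⊤ := by
      rw [Ideal.eq_top_iff_one, mem_annSect_iff, smul_zero]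
    rw [htop, Ideal.minimalPrimes_top] at hs
    exact hs
  · intro h
    have hsec : ∀ (E : EtOver X) (s : M.val.presheaf.obj (op E)), s = 0 :=
      eq_zero_of_forall_affine M (fun E hE s => eq_zero_of_weakAssEt_eq_empty M h E hE s)
    rw [IsZero.iff_id_eq_zero]
    apply SheafOfModules.hom_ext
    apply PresheafOfModules.hom_ext
    intro E
    apply ModuleCat.hom_ext
    apply LinearMap.ext
    intro s
    exact (hsec E.unop s).trans (hsec E.unop _).symm

end Groth.Agent.Lib.Helper78.WeakAssZero
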