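import Groth.Prelude.Def_WeilCoh

/-!
Helper lemmas on the push-forward of a Weil cohomology theory (helper78).
-/

set_option autoImplicit false
universe u v w

namespace Groth.Agent.Lib.Helper78

open WeilCoh CategoryTheory AlgebraicGeometry

variable {k : Type u} [Field k] {P : ObjectProperty (Over (Spec (CommRingCat.of k)))}
variable {K : Type v} [Field K] (T : WeilCoh.TheoryOn.{u, v, w} k P K)

theorem pairing_apply {A : Type w} [Ring A] [Algebra K A] (S S' : Submodule K A) (t : A →ₗ[K] K)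
    (s : S) (s' : S') : WeilCoh.pairing K S S' t s s' = t ((s : A) * (s' : A)) := rfl

/-- The defining property of the push-forward. -/
theorem tr_push_mul {X Y : P.FullSubcategory} (f : X ⟶ Y) (i : ℤ) (a : ↥(T.gr X i)) (b : T.H Y)
    (hb : b ∈ T.gr Y (2 * (WeilCoh.dim X.obj.left : ℤ) - i)) :
    T.tr Y ((T.push f i a : T.H Y) * b) = T.tr X ((a : T.H X) * T.pull f b) := by
  have := T.duality Y (i + 2 * (dim Y.obj.left : ℤ) - 2 * (dim X.obj.left : ℤ))
    (2 * (dim X.obj.left : ℤ) - i) (by omega)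
  have h := LinearMap.apply_symm_toPerfPair_self
    (WeilCoh.pairing K (T.gr Y (i + 2 * (dim Y.obj.left : ℤ) - 2 * (dim X.obj.left : ℤ)))
      (T.gr Y (2 * (dim X.obj.left : ℤ) - i)) (T.tr Y)) (T.pushFunctional f i a)
  have h2 := congrArg (fun φ => φ ⟨b, hb⟩) h
  exact h2

/-- Nondegeneracy of the Poincare pairing, on the left. -/
theorem eq_of_forall_tr_mul_eq (X : P.FullSubcategory) (m m' : ℤ)
    (h : m + m' = 2 * (WeilCoh.dim X.obj.left : ℤ)) (c c' : T.H X)
    (hc : c ∈ T.gr X m) (hc' : c' ∈ T.gr X m)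
    (H : ∀ b ∈ T.gr X m', T.tr X (c * b) = T.tr X (c' * b)) : c = c' := by
  have := T.duality X m m' h
  have hinj := (LinearMap.IsPerfPair.bijective_left
    (WeilCoh.pairing K (T.gr X m) (T.gr X m') (T.tr X))).1
  have : (⟨c, hc⟩ : ↥(T.gr X m)) = ⟨c', hc'⟩ := by
    apply hinj
    ext b
    exact H b.1 b.2
  exact congrArg Subtype.val this

/-- Nondegeneracy of the Poincare pairing, on the right. -/
theorem eq_of_forall_tr_mul_eq' (X : P.FullSubcategory) (m m' : ℤ)
    (h : m + m' = 2 * (WeilCoh.dim X.obj.left : ℤ)) (c c' : T.H X)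
    (hc : c ∈ T.gr X m') (hc' : c' ∈ T.gr X m')
    (H : ∀ b ∈ T.gr X m, T.tr X (b * c) = T.tr X (b * c')) : c = c' := by
  have := T.duality X m m' h
  have hinj := (LinearMap.IsPerfPair.bijective_right
    (WeilCoh.pairing K (T.gr X m) (T.gr X m') (T.tr X))).1
  have : (⟨c, hc⟩ : ↥(T.gr X m')) = ⟨c', hc'⟩ := by
    apply hinj
    ext b
    exact H b.1 b.2
  exact congrArg Subtype.val this

theorem mem_gr_of_eq (X : P.FullSubcategory) {m m' : ℤ} (h : m = m') {a : T.H X}
    (ha : a ∈ T.gr X m) : a ∈ T.gr X m' := h ▸ ha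

end Groth.Agent.Lib.Helper78
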